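import Groth.Statements.S8913
import Groth.Agent.S8873
import Groth.Agent.S8875
import Groth.Agent.Lib.Helper2.FittPullback
import Groth.Agent.Lib.Helper2.FinLocFreeAff
import Groth.Agent.Lib.Helper2.KerSec
import Groth.Agent.Lib.Helper12.SuppZ
import Groth.Agent.Lib.Helper40.FPKer
import Groth.Agent.Lib.Helper75.Fitting22
import Groth.Agent.Lib.Helper21.StrictTransQCoh
import Groth.Agent.Lib.Helper21.FittStrict2
import Groth.Agent.Lib.Helper21.FPKerProj

set_option autoImplicit false
universe u
open CategoryTheory CategoryTheory.Limits AlgebraicGeometry TopologicalSpace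
open SDiv

namespace Groth.Agent.S8913

/-- Let X be a scheme, F a finitely presented O_X-module and U ⊆ X an open subscheme which is
scheme-theoretically dense and over which F is locally free of constant finite rank r. Then: (1)
Fit_r(F) is of finite type with support disjoint from U, so a blowing up b : X' ⟶ X of X in Fit_r(F)
is U-admissible; (2) the strict transform G of F along such b is locally free of rank r; (3) the
kernel of the surjection b^*F ⟶ G is finitely presented and restricts to zero over b⁻¹U. This row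
does not assert that b^*F and the kernel are perfect of tor dimension at most one. -/
theorem result (X : Scheme.{u}) (F : X.Modules) (hF : CohB1.IsFP F)
    (U : X.Opens) (hU : CInt.IsSchematicallyDense U) (r : ℕ) (hfree : FlatMod.IsFinLocFreeOfRank r (F.restrict U.ι)) :
    BlowUp.IsAdmissibleFor U (Fitt.sheafIdeal F r) ∧
      ∀ (X' : Scheme.{u}) (b : X' ⟶ X), BlowUp.IsBlowUp b (Fitt.sheafIdeal F r) →
        ∀ (G : X'.Modules) (π : (Scheme.Modules.pullback b).obj F ⟶ G), BlowUp.IsStrictTransform b (Fitt.sheafIdeal F r) F G π →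
          FlatMod.IsFinLocFreeOfRank r G ∧ CohB1.IsFP (kernel π) ∧ IsZero ((kernel π).restrict (b ⁻¹ᵁ U).ι) := by
  have hFP : SheafOfModules.IsFinitePresentation (R := X.ringCatSheaf) F := hF
  have hFq : F.IsQuasicoherent :=
    SheafOfModules.QuasicoherentData.isQuasicoherent (R := X.ringCatSheaf) (M := F)
      (SheafOfModules.IsFinitePresentation.exists_quasicoherentData
        (R := X.ringCatSheaf) F).choose
  have hfp : ∀ V : X.affineOpens, Module.FinitePresentation Γ(X, V.1) Γ(F, V.1) :=
    fun V => Groth.Agent.Lib.Helper2.FinTypeAff.finitePresentation_sections F V.2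
  have hfinF : ∀ V : X.affineOpens, Module.Finite Γ(X, V.1) Γ(F, V.1) := fun V => by
    have := hfp V
    infer_instance
  have hdisj := Groth.Agent.Lib.Helper21.FittStrict2.support_disjoint F hfinF r U hfree
  refine ⟨⟨Groth.Agent.S8873.result X F hF r, hdisj⟩, ?_⟩
  intro X' b hb G π hG
  have hfinP := Groth.Agent.Lib.Helper2.FittSheaf.finite_sections_pullback b F hfinF
  have hE := hb.1
  have hGq : G.IsQuasicoherent :=
    Groth.Agent.Lib.Helper21.StrictTransQCoh.isQuasicoherent b _ F G π hE hG
  have hfinG : ∀ V : X'.affineOpens, Module.Finite Γ(X', V.1) Γ(G, V.1) := fun V => by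
    haveI := hfinP V
    exact Groth.Agent.Lib.Helper21.StrictTransQCoh.finite_sections b _ F G π hE hG V.2
  have hGft : CohB1.IsFT G := by
    apply Groth.Agent.Lib.Lead.CohAff.isFiniteType_of_finite_sections
    intro x
    obtain ⟨_, ⟨V, hV, rfl⟩, hxV, -⟩ :=
      X'.isBasis_affineOpens.exists_subset_of_mem_open (Set.mem_univ x) isOpen_univ
    exact ⟨V, hV, hxV, hfinG ⟨V, hV⟩⟩
  have hGfree : FlatMod.IsFinLocFreeOfRank r G := by
    apply (Groth.Agent.S8875.result X' G hGq hGft r).2
    choose W hxW t htnzd hWt using hE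
    have hcov : ⨆ x, (W x).1 = ⊤ := by
      rw [eq_top_iff]
      intro x _
      rw [TopologicalSpace.Opens.mem_iSup]
      exact ⟨x, hxW x⟩
    have hFit : ∀ x, Fitt.ideal Γ(X', (W x).1) Γ((Scheme.Modules.pullback b).obj F, (W x).1) r =
        Ideal.span {t x} := fun x => by
      rw [← Groth.Agent.Lib.Helper2.FittSheaf.sheafIdeal_ideal' _ hfinP r (W x),
        ← Groth.Agent.Lib.Helper2.FittSheaf.sheafIdeal_comap b F hfinF r]
      exact hWt x
    constructor
    · intro j hj
      refine Scheme.IdealSheafData.ext_of_iSup_eq_top W hcov (fun x => ?_)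
      haveI := hfinP (W x)
      rw [Groth.Agent.Lib.Helper2.FittSheaf.sheafIdeal_ideal' G hfinG j (W x),
        ← Groth.Agent.Lib.Helper75.Fitting.fitt_congr
          (Groth.Agent.Lib.Helper21.StrictTransQCoh.sectionsEquiv b _ F G π hb.1 hG (W x) (t x)
            (hWt x)) j]
      change _ = ⊥
      rw [eq_bot_iff]
      intro d hd
      rw [Ideal.mem_bot]
      obtain ⟨N, hN⟩ :=
        Groth.Agent.Lib.Helper75.Fitting.exists_pow_mul_mem_fitt_of_mem_fitt_quot (t x) j d hd
      rw [← Groth.Agent.Lib.Helper2.FittSheaf.sheafIdeal_ideal' _ hfinP j (W x),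
        ← Groth.Agent.Lib.Helper2.FittSheaf.sheafIdeal_comap b F hfinF j,
        Groth.Agent.Lib.Helper21.FittStrict2.sheafIdeal_eq_bot F hfinF r U hU hfree j hj,
        Scheme.IdealSheafData.comap_bot, Scheme.IdealSheafData.ideal_bot, Pi.bot_apply,
        Ideal.mem_bot] at hN
      exact (mul_left_mem_nonZeroDivisors_eq_zero_iff (pow_mem (htnzd x) N)).1 hN
    · intro j hj
      refine Scheme.IdealSheafData.ext_of_iSup_eq_top W hcov (fun x => ?_)
      haveI := hfinP (W x)
      haveI := hfinG (W x)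
      have hQ := Groth.Agent.Lib.Helper75.Fitting.fitt_quot_powTorsion_eq_top (t x) r (hFit x)
      rw [Groth.Agent.Lib.Helper75.Fitting.fitt_congr
        (Groth.Agent.Lib.Helper21.StrictTransQCoh.sectionsEquiv b _ F G π hb.1 hG (W x) (t x)
          (hWt x)) r] at hQ
      rw [Groth.Agent.Lib.Helper2.FittSheaf.sheafIdeal_ideal' G hfinG j (W x)]
      change _ = ⊤
      exact top_le_iff.1 (hQ ▸ Groth.Agent.Lib.Helper75.Fitting.fitt_mono hj)
  have hKq : (kernel π).IsQuasicoherent :=
    Groth.Agent.Lib.Helper21.StrictTransQCoh.isQuasicoherent_kernel b _ F G π hE hG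
  haveI : Epi π := hG.1
  refine ⟨hGfree, ?_, ?_⟩
  · -- the kernel is finitely presented
    have hPfp : SheafOfModules.IsFinitePresentation (R := X'.ringCatSheaf)
        ((Scheme.Modules.pullback b).obj F) :=
      Groth.Agent.Lib.Helper40.FPKer.isFinitePresentation_pullback b F hFP
    have hGlf : FlatMod.IsFinLocFree G := fun x => by
      obtain ⟨V, hxV, hV⟩ := hGfree x
      exact ⟨V, r, hxV, hV⟩
    refine @Groth.Agent.Lib.Helper2.FinLocFreeAff.isFinitePresentation_of_sections X' (kernel π)
      hKq ?_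
    intro x
    obtain ⟨_, ⟨V, hV, rfl⟩, hxV, -⟩ :=
      X'.isBasis_affineOpens.exists_subset_of_mem_open (Set.mem_univ x) isOpen_univ
    refine ⟨V, hV, hxV, ?_⟩
    haveI : Module.FinitePresentation Γ(X', V) Γ((Scheme.Modules.pullback b).obj F, V) :=
      Groth.Agent.Lib.Helper2.FinTypeAff.finitePresentation_sections _ hV
    obtain ⟨h1, h2⟩ :=
      (Groth.Agent.Lib.Helper2.FinLocFreeAff.isFinLocFree_iff_sections G).1 hGlf V hV
    have hsurj : Function.Surjective (Groth.Agent.Lib.Helper21.QCohSections.appL π V) :=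
      Groth.Agent.Lib.Helper21.QCohSections.app_surjective_of_epi π hV
    haveI : Module.FinitePresentation Γ(X', V)
        ↥(LinearMap.ker (Groth.Agent.Lib.Helper21.QCohSections.appL π V)) :=
      Groth.Agent.Lib.Helper21.FPKerProj.fp_ker_of_projective _ hsurj
    let ψ : Γ(kernel π, V) →ₗ[Γ(X', V)]
        ↥(LinearMap.ker (Groth.Agent.Lib.Helper21.QCohSections.appL π V)) :=
      LinearMap.codRestrict _ (Groth.Agent.Lib.Helper21.QCohSections.appL (kernel.ι π) V)
        (fun t => by
          rw [LinearMap.mem_ker, Groth.Agent.Lib.Helper21.QCohSections.appL_apply,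
            Groth.Agent.Lib.Helper21.QCohSections.appL_apply]
          exact Groth.Agent.Lib.Helper2.KerSec.app_kernelι_comp π V t)
    have hψi : Function.Injective ψ := by
      intro s t hst
      apply Groth.Agent.Lib.Helper2.KerSec.app_kernelι_injective π V
      exact congrArg Subtype.val hst
    have hψs : Function.Surjective ψ := by
      rintro ⟨s, hs⟩
      obtain ⟨t, ht⟩ := Groth.Agent.Lib.Helper2.KerSec.exists_of_app_eq_zero π V s
        (by simpa using hs)
      exact ⟨t, Subtype.ext ht⟩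
    exact Module.FinitePresentation.of_equiv (LinearEquiv.ofBijective ψ ⟨hψi, hψs⟩).symm
  · -- the kernel vanishes over `b⁻¹ U`
    apply Groth.Agent.Lib.Helper12.SuppZ.isZero_of_stalks
    intro x
    change Subsingleton (((Scheme.Modules.restrictFunctor (b ⁻¹ᵁ U).ι).obj
      (kernel π)).presheaf.stalk x)
    rw [Groth.Agent.Lib.Helper12.SuppZ.subsingleton_stalk_restrict]
    obtain ⟨V, hbV, hVU, -, hV⟩ :=
      Groth.Agent.Lib.Helper21.FittStrict2.exists_affine_fitt F r U hfree (b x.1) x.2
    refine ⟨fun a a' => ?_⟩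
    suffices h0 : ∀ a : (kernel π).presheaf.stalk ((b ⁻¹ᵁ U).ι x), a = 0 by rw [h0 a, h0 a']
    intro a
    obtain ⟨O, hxO, s, rfl⟩ := (kernel π).presheaf.exists_germ_eq (x := (b ⁻¹ᵁ U).ι x) a
    obtain ⟨_, ⟨W', hW', rfl⟩, hxW', hW'le⟩ :=
      X'.isBasis_affineOpens.exists_subset_of_mem_open
        (show (b ⁻¹ᵁ U).ι x ∈ ((O ⊓ b ⁻¹ᵁ V.1 : X'.Opens) : Set X') from ⟨hxO, hbV⟩)
        (O ⊓ b ⁻¹ᵁ V.1).isOpen
    have hW'O : W' ≤ O := fun z hz => (hW'le hz).1
    have hW'V : W' ≤ b ⁻¹ᵁ V.1 := fun z hz => (hW'le hz).2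
    have h1 := TopCat.Presheaf.germ_res_apply (kernel π).presheaf (homOfLE hW'O)
      ((b ⁻¹ᵁ U).ι x) hxW' s
    rw [← h1]
    have hideal : ((Fitt.sheafIdeal F r).comap b).ideal ⟨W', hW'⟩ =
        Ideal.span {(1 : Γ(X', W'))} := by
      rw [Groth.Agent.Lib.Helper82.ideal_comap_of_le b _ W' hW' V.1 V.2 hW'V,
        Groth.Agent.Lib.Helper2.FittSheaf.sheafIdeal_ideal' F hfinF r V, hV r le_rfl,
        Ideal.map_top, Ideal.span_singleton_one]
    have h2 : (kernel π).presheaf.map (homOfLE hW'O).op s = 0 := by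
      apply Groth.Agent.Lib.Helper2.KerSec.app_kernelι_injective π W'
      rw [map_zero]
      have h3 := Groth.Agent.Lib.Helper2.KerSec.app_kernelι_comp π W'
        ((kernel π).presheaf.map (homOfLE hW'O).op s)
      rw [hG.2 ⟨W', hW'⟩, Groth.Agent.Lib.Helper21.StrictTransQCoh.killedByPowerNear_iff
        (BlowUp.exceptional b (Fitt.sheafIdeal F r)) _ ⟨W', hW'⟩ 1 hideal] at h3
      obtain ⟨n, hn⟩ := h3
      rwa [one_pow, one_smul] at hn
    rw [h2, map_zero]

end Groth.Agent.S8913
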