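import Groth.Statements.S8917
import Groth.Agent.Lib.Helper48.OmegaAff20
import Groth.Agent.Lib.Helper48.OmegaAff16
import Groth.Agent.Lib.Helper2.FittPullback

set_option autoImplicit false
universe u
open CategoryTheory CategoryTheory.Limits AlgebraicGeometry TopologicalSpace
open SDiv

namespace Groth.Agent.S8917

/-- Let f : X ⟶ S be locally of finite type and quasi-separated and let g : S' ⟶ S be a morphism, X' = X
×_S S' with projections g' : X' ⟶ X and f' : X' ⟶ S'. Then for every i the inverse image ideal sheaf
under g' of the i-th Fitting ideal of Ω_{X/S} is the i-th Fitting ideal of Ω_{X'/S'}: the Fitting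
subschemes of Ω are compatible with base change. The published statement does not assume f
quasi-separated; this row does, because the module Ω_{X/S} used here is defined for quasi-separated
f. -/
theorem result {X S S' : Scheme.{u}} (f : X ⟶ S) [LocallyOfFiniteType f] [QuasiSeparated f] (g : S' ⟶ S)
    (i : ℕ) :
    (Fitt.sheafIdeal (Omega.sheaf f) i).comap (pullback.fst f g) = Fitt.sheafIdeal (Omega.sheaf (pullback.snd f g)) i := by
  open Groth.Agent.Lib.Helper48.OmegaAff in
  have hft := isFiniteType_of_universal f (OmegaSh.dOmega f) (isUniversal_dOmega f)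
  have hfin : ∀ V : X.affineOpens, Module.Finite Γ(X, V.1) Γ(Omega.sheaf f, V.1) := fun V =>
    Groth.Agent.Lib.Lead.CohAff.finite_sections_of_isFiniteType (Omega.sheaf f) hft V.2
  rw [Groth.Agent.Lib.Helper2.FittSheaf.sheafIdeal_comap (pullback.fst f g) (Omega.sheaf f) hfin i]
  obtain ⟨c, hc, -⟩ := existsUnique_diffCompat (f := f) (f' := pullback.snd f g)
    (pullback.fst f g) g pullback.condition.symm (OmegaSh.dOmega f)
    (OmegaSh.dOmega (pullback.snd f g)) (isUniversal_dOmega f)
  have : IsIso c := isIso_of_isPullback (IsPullback.of_hasPullback f g) (OmegaSh.dOmega f)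
    (isUniversal_dOmega f) (OmegaSh.dOmega (pullback.snd f g))
    (isUniversal_dOmega (pullback.snd f g)) c hc
  unfold Fitt.sheafIdeal
  congr 1
  funext U
  exact Groth.Agent.Lib.Helper75.Fitting.fitt_congr (sectionsEquiv (asIso c) U.1) i

end Groth.Agent.S8917
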