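import Groth.Statements.S8922
import Groth.Agent.Lib.Helper21.StrictTransPush

set_option autoImplicit false
universe u
open CategoryTheory CategoryTheory.Limits AlgebraicGeometry TopologicalSpace
open SDiv

namespace Groth.Agent.S8922

/-- Let S be a scheme, 𝓘 a quasi-coherent ideal sheaf on S with closed subscheme Z, b : S' ⟶ S a blowing
up of S in Z, g : X ⟶ Y an affine morphism of schemes over S, F a quasi-coherent O_X-module, and π :
pr_X^*F ⟶ F' a strict transform of F along b (on X ×_S S'). Write g' : X ×_S S' ⟶ Y ×_S S' for the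
base change of g. Then g'_*F' is a strict transform of g_*F along b: there is an epimorphism
pr_Y^*(g_*F) ⟶ g'_*F' whose kernel consists, affine-locally, exactly of the sections annihilated by
a power of the inverse image of 𝓘. The published statement identifies g'_*F' with the strict
transform through the canonical base-change isomorphism; this row asserts only that some epimorphism
from pr_Y^*(g_*F) onto g'_*F' has the strict-transform property. -/
theorem result {X Y S S' : Scheme.{u}} (hX : X ⟶ S) (hY : Y ⟶ S) (g : X ⟶ Y) [IsAffineHom g]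
    (h : g ≫ hY = hX) (𝓘 : S.IdealSheafData) (b : S' ⟶ S) (hb : BlowUp.IsBlowUp b 𝓘) (F : X.Modules) (hF : Coh.IsQCoh F)
    (F' : (pullback hX b).Modules) (π : (Scheme.Modules.pullback (pullback.fst hX b)).obj F ⟶ F')
    (hπ : BlowUp.IsStrictTransform (pullback.fst hX b) (𝓘.comap hX) F F' π) :
    ∃ π' : (Scheme.Modules.pullback (pullback.fst hY b)).obj ((Scheme.Modules.pushforward g).obj F) ⟶
        (Scheme.Modules.pushforward (pullback.map hX b hY b g (𝟙 S') (𝟙 S)
          ((Category.comp_id hX).trans h.symm) ((Category.comp_id b).trans (Category.id_comp b).symm))).obj F',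
      BlowUp.IsStrictTransform (pullback.fst hY b) (𝓘.comap hY) ((Scheme.Modules.pushforward g).obj F)
        ((Scheme.Modules.pushforward (pullback.map hX b hY b g (𝟙 S') (𝟙 S)
          ((Category.comp_id hX).trans h.symm) ((Category.comp_id b).trans (Category.id_comp b).symm))).obj F') π' := by
  subst h
  haveI hFq : F.IsQuasicoherent := hF
  have hw1 : pullback.map (g ≫ hY) b hY b g (𝟙 S') (𝟙 S)
      ((Category.comp_id (g ≫ hY)).trans rfl) ((Category.comp_id b).trans (Category.id_comp b).symm) ≫
      pullback.fst hY b = pullback.fst (g ≫ hY) b ≫ g := pullback.lift_fst _ _ _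
  have hw2 : pullback.map (g ≫ hY) b hY b g (𝟙 S') (𝟙 S)
      ((Category.comp_id (g ≫ hY)).trans rfl) ((Category.comp_id b).trans (Category.id_comp b).symm) ≫
      pullback.snd hY b = pullback.snd (g ≫ hY) b := by
    unfold pullback.map
    rw [pullback.lift_snd, Category.comp_id]
  -- the pullback square
  have hsq : IsPullback (pullback.fst (g ≫ hY) b) (pullback.map (g ≫ hY) b hY b g (𝟙 S') (𝟙 S)
      ((Category.comp_id (g ≫ hY)).trans rfl) ((Category.comp_id b).trans (Category.id_comp b).symm))
      g (pullback.fst hY b) := by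
    have t : IsPullback (pullback.snd hY b) (pullback.fst hY b) b hY :=
      (IsPullback.of_hasPullback hY b).flip
    have s : IsPullback (pullback.map (g ≫ hY) b hY b g (𝟙 S') (𝟙 S)
        ((Category.comp_id (g ≫ hY)).trans rfl)
        ((Category.comp_id b).trans (Category.id_comp b).symm) ≫ pullback.snd hY b)
        (pullback.fst (g ≫ hY) b) b (g ≫ hY) := by
      rw [hw2]
      exact (IsPullback.of_hasPullback (g ≫ hY) b).flip
    exact (IsPullback.of_right s hw1 t).flip
  have hLP : Groth.Agent.Lib.Helper21.StrictTransQCoh2.IsLocPrincipal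
      (((𝓘.comap hY).comap g).comap (pullback.fst (g ≫ hY) b)) := by
    have e1 : ((𝓘.comap hY).comap g).comap (pullback.fst (g ≫ hY) b) =
        (𝓘.comap b).comap (pullback.snd (g ≫ hY) b) := by
      rw [← Scheme.IdealSheafData.comap_comp, ← Scheme.IdealSheafData.comap_comp,
        ← Scheme.IdealSheafData.comap_comp, Category.assoc, pullback.condition]
    rw [e1]
    exact Groth.Agent.Lib.Helper21.StrictTransQCoh2.isLocPrincipal_comap _
      (Groth.Agent.Lib.Helper21.StrictTransQCoh2.isLocPrincipal_of_isEffCartier hb.1)
  rw [Scheme.IdealSheafData.comap_comp] at hπ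
  exact Groth.Agent.Lib.Helper21.StrictTransPush.exists_strictTransform_pushforward g
    (pullback.fst hY b) (pullback.fst (g ≫ hY) b) _ hsq (𝓘.comap hY) hLP F F' π hπ

end Groth.Agent.S8922
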