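import Groth.Statements.S8923
import Mathlib
import Groth.Agent.Lib.Helper64.SecOrd2

set_option autoImplicit false
universe u
open CategoryTheory CategoryTheory.Limits AlgebraicGeometry TopologicalSpace
open SDiv

namespace Groth.Agent.S8923


/-- Let X be an integral scheme that is locally Noetherian, L an invertible O_X-module and s a nonzero
rational (regular meromorphic) section of L, viewed as a nonzero element of the stalk of L at the
generic point. Then the collection of prime divisors Z ⊆ X with ord_{Z,L}(s) ≠ 0, i.e. the closures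
of the codimension-1 points x (dim O_{X,x} = 1) along which s has nonzero order, is locally finite
in X. -/
theorem result (X : Scheme.{u}) [IsIntegral X] [IsLocallyNoetherian X] (L : X.Modules)
    (hL : PicF.IsInvertible L) (s : Cyc.secFibre L (genericPoint ↥X)) (hs : s ≠ 0) :
    LocallyFinite (fun x : {x : ↥X // ringKrullDim ↑(X.presheaf.stalk x) = 1 ∧
        Cyc.secOrdAt L (genericPoint ↥X) x ((genericPoint_spec ↥X).specializes (Set.mem_univ x)) s ≠ 0} => closure ({x.1} : Set ↥X)) := by
    classical
    intro y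
    obtain ⟨U, hyU, e, he⟩ := (Groth.Agent.Lib.Lead.Inv.isInvertible_iff_exists_isGen.1 hL) y
    obtain ⟨_, ⟨V, hV, rfl⟩, hyV, hVU⟩ :=
      X.isBasis_affineOpens.exists_subset_of_mem_open hyU U.isOpen
    have hVU' : V ≤ U := hVU
    have he' := he.res hVU'
    have hη : genericPoint X ∈ V := Groth.Agent.Lib.Helper64.RefExt.genericPoint_mem hyV
    obtain ⟨v, rfl⟩ := Submodule.Quotient.mk_surjective _ s
    obtain ⟨φ, hφ⟩ := (Groth.Agent.Lib.Helper64.RefS2.bijective_stalk_of_isGen he'
      (genericPoint X) hη).2 v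
    have hφ0 : φ ≠ 0 := by
      rintro rfl
      apply hs
      rw [← hφ]
      simp
    refine ⟨V, V.isOpen.mem_nhds hyV, ?_⟩
    have hfin := Groth.Agent.Lib.Helper64.SecOrd.finite_ord_ne_zero φ hφ0 hV
    refine Set.Finite.subset (hfin.preimage Subtype.val_injective.injOn) ?_
    rintro ⟨x, hx1, hx2⟩ ⟨z, hz1, hz2⟩
    have hxV : x ∈ V := (specializes_iff_mem_closure.2 hz1).mem_open V.isOpen hz2
    refine ⟨hxV, (Groth.Agent.Lib.Helper64.SecOrd.coheight_eq_one_iff x).2 hx1, ?_⟩
    have key := Groth.Agent.Lib.Helper64.SecOrd.secOrdAt_of_isGen L he' x hxV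
      ((Groth.Agent.Lib.Helper64.SecOrd.coheight_eq_one_iff x).2 hx1)
      ((genericPoint_spec ↥X).specializes (Set.mem_univ x)) φ
    have hv : (Submodule.Quotient.mk v : Cyc.secFibre L (genericPoint ↥X)) =
        φ • (Submodule.Quotient.mk (L.presheaf.germ V (genericPoint X) hη
          (L.presheaf.map (homOfLE hVU').op e)) : Cyc.secFibre L (genericPoint X)) := by
      rw [← hφ]
      rfl
    show Scheme.ord φ x ≠ 0
    rw [← key, ← hv]
    exact hx2

end Groth.Agent.S8923
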