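import Groth.Statements.S8925
-- import your own Groth.Agent.* helpers here

set_option autoImplicit false
universe u
open InjHull

namespace Groth.Agent.S8925

/-- If S is a flat R-algebra and E is an injective S-module, then E, viewed as an R-module by
restriction of scalars, is an injective R-module. -/
theorem result (R S : Type u) [CommRing R] [CommRing S] [Algebra R S] [Module.Flat R S] (E : Type u) [AddCommGroup E] [Module S E] [Module R E] [IsScalarTower R S E] [Module.Injective S E] : Module.Injective R E := by
  apply Module.Baer.injective
  intro I g
  let ι : TensorProduct R S I →ₗ[S] S :=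
    LinearMap.liftBaseChange S ((Algebra.linearMap R S) ∘ₗ I.subtype)
  let G : TensorProduct R S I →ₗ[S] E := LinearMap.liftBaseChange S g
  have hι : ∀ z, ι z = TensorProduct.rid R S (I.subtype.lTensor S z) := by
    intro z
    induction z using TensorProduct.induction_on with
    | zero => simp
    | tmul s x =>
      simp [ι, LinearMap.liftBaseChange_tmul, Algebra.smul_def, mul_comm]
    | add a b ha hb => rw [map_add, ha, hb, map_add, map_add]
  have hinj : Function.Injective ι := by
    intro a b hab
    rw [hι, hι] at hab
    exact Module.Flat.lTensor_preserves_injective_linearMap (M := S) I.subtype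
      Subtype.val_injective ((TensorProduct.rid R S).injective hab)
  obtain ⟨H, hH⟩ := Module.Injective.out (R := S) (Q := E) ι hinj G
  refine ⟨(H.restrictScalars R) ∘ₗ (Algebra.linearMap R S), ?_⟩
  intro x mem
  have h1 : ι (TensorProduct.tmul R (1 : S) (⟨x, mem⟩ : I)) = algebraMap R S x := by
    simp [ι, LinearMap.liftBaseChange_tmul]
  have h2 := hH (TensorProduct.tmul R (1 : S) (⟨x, mem⟩ : I))
  rw [h1] at h2
  simp only [LinearMap.coe_comp, Function.comp_apply, LinearMap.coe_restrictScalars,
    Algebra.linearMap_apply]
  rw [h2]
  simp [G, LinearMap.liftBaseChange_tmul]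

end Groth.Agent.S8925
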