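import Groth.Statements.S8926
-- import your own Groth.Agent.* helpers here

set_option autoImplicit false
universe u
open InjHull

namespace Groth.Agent.S8926


open TensorProduct in
theorem map_smul_of_isEpi (R S : Type u) [CommRing R] [CommRing S] [Algebra R S]
    [Algebra.IsEpi R S]
    {M E : Type u} [AddCommGroup M] [Module S M] [Module R M] [IsScalarTower R S M]
    [AddCommGroup E] [Module S E] [Module R E] [IsScalarTower R S E]
    (h : M →ₗ[R] E) (s : S) (m : M) : h (s • m) = s • h m := by
  let φ : S ⊗[R] M →ₗ[R] E := TensorProduct.lift (LinearMap.mk₂ R (fun s m => s • h m)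
    (fun s₁ s₂ m => add_smul _ _ _) (fun c s m => smul_assoc _ _ _)
    (fun s m₁ m₂ => by rw [map_add, smul_add])
    (fun c s m => by rw [map_smul, smul_comm]))
  have e : s ⊗ₜ[R] m = 1 ⊗ₜ[R] (s • m) := by
    apply (TensorProduct.lid' R S M).injective
    simp
  have := congrArg φ e
  simpa [φ] using this.symm

/-- Suppose R → S is an epimorphism of rings and E is an S-module whose underlying R-module (via
restriction of scalars) is injective; then E is injective as an S-module as well. -/
theorem result (R S : Type u) [CommRing R] [CommRing S] [Algebra R S] [Algebra.IsEpi R S] (E : Type u) [AddCommGroup E] [Module S E] [Module R E] [IsScalarTower R S E] [Module.Injective R E] : Module.Injective S E := by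
  apply Module.Baer.injective
  intro I g
  obtain ⟨h, hh⟩ := Module.Injective.out (R := R) (Q := E) ((I.subtype).restrictScalars R)
    Subtype.val_injective (g.restrictScalars R)
  refine ⟨{ toFun := h, map_add' := h.map_add,
            map_smul' := fun s x => map_smul_of_isEpi R S h s x }, fun x mem => hh ⟨x, mem⟩⟩

end Groth.Agent.S8926
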