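import Groth.Statements.S8928
import Mathlib.RingTheory.Flat.Localization
import Mathlib.RingTheory.Localization.LocalizationLocalization
import Mathlib.RingTheory.Localization.BaseChange
import Mathlib.RingTheory.Ideal.AssociatedPrime.Basic
-- import your own Groth.Agent.* helpers here

set_option autoImplicit false
universe u
open scoped TensorProduct
open Disc

namespace Groth.Agent.S8928

attribute [local instance] Algebra.TensorProduct.rightAlgebra in
theorem key (A B : Type u) [CommRing A] [CommRing B] [Algebra A B]
    (h2 : Module.Flat (FractionRing A) (FractionRing A ⊗[A] B))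
    (q : Ideal B) [q.IsPrime]
    (hq : ∀ a ∈ nonZeroDivisors A, algebraMap A B a ∉ q) :
    Module.Flat A (Localization.AtPrime q) := by
  let K := FractionRing A
  let T := K ⊗[A] B
  let S' : Submonoid B := Algebra.algebraMapSubmonoid B (nonZeroDivisors A)
  have hle : S' ≤ q.primeCompl := by
    rintro _ ⟨a, ha, rfl⟩
    exact hq a ha
  have : IsLocalization S' T :=
    (Algebra.isLocalization_iff_isPushout (nonZeroDivisors A) K).mpr inferInstance
  let alg : Algebra T (Localization.AtPrime q) :=
    IsLocalization.localizationAlgebraOfSubmonoidLe T (Localization.AtPrime q) S' q.primeCompl hle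
  have : IsScalarTower B T (Localization.AtPrime q) :=
    IsLocalization.localization_isScalarTower_of_submonoid_le T _ S' q.primeCompl hle
  have : IsLocalization (q.primeCompl.map (algebraMap B T)) (Localization.AtPrime q) :=
    IsLocalization.isLocalization_of_submonoid_le T _ S' q.primeCompl hle
  have hflatT : Module.Flat T (Localization.AtPrime q) :=
    IsLocalization.flat _ (q.primeCompl.map (algebraMap B T))
  let : Algebra K (Localization.AtPrime q) :=
    ((algebraMap T (Localization.AtPrime q)).comp (algebraMap K T)).toAlgebra
  have : IsScalarTower K T (Localization.AtPrime q) :=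
    IsScalarTower.of_algebraMap_eq (R := K) (S := T) (A := Localization.AtPrime q) (fun _ => rfl)
  have hflatK : Module.Flat K (Localization.AtPrime q) := Module.Flat.trans K T _
  have : IsScalarTower A K (Localization.AtPrime q) := by
    apply IsScalarTower.of_algebraMap_eq
    intro a
    show algebraMap A (Localization.AtPrime q) a =
      algebraMap T (Localization.AtPrime q) (algebraMap K T (algebraMap A K a))
    rw [IsScalarTower.algebraMap_apply A B (Localization.AtPrime q),
      IsScalarTower.algebraMap_apply B T (Localization.AtPrime q)]
    congr 1
    rw [← IsScalarTower.algebraMap_apply A K T, ← IsScalarTower.algebraMap_apply A B T]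
  have : Module.Flat A K := IsLocalization.flat K (nonZeroDivisors A)
  exact Module.Flat.trans A K _


/-- Let A → B be a map of Noetherian rings such that nonzerodivisors of A map to nonzerodivisors of B
and Q(A) ⊗_A B is flat over the total ring of fractions Q(A). Then B_q is flat over A for every
associated prime q of B and for every prime q of B lying over an associated prime of A. -/
theorem result (A B : Type u) [CommRing A] [CommRing B] [IsNoetherianRing A] [IsNoetherianRing B] [Algebra A B] (h1 : nonZeroDivisors A ≤ (nonZeroDivisors B).comap (algebraMap A B)) (h2 : Module.Flat (FractionRing A) (FractionRing A ⊗[A] B)) : (∀ (q : Ideal B) [q.IsPrime], IsAssociatedPrime q B → Module.Flat A (Localization.AtPrime q)) ∧ (∀ (q : Ideal B) [q.IsPrime], IsAssociatedPrime (q.comap (algebraMap A B)) A → Module.Flat A (Localization.AtPrime q)) := by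
  constructor
  · intro q _ hq
    apply key A B h2 q
    intro a ha haq
    have h := h1 ha
    rw [Submonoid.mem_comap] at h
    have hmem : algebraMap A B a ∈ ⋃ p ∈ associatedPrimes B B, (p : Set B) := by
      simp only [Set.mem_iUnion]
      exact ⟨q, hq, haq⟩
    rw [biUnion_associatedPrimes_eq_compl_nonZeroDivisors B] at hmem
    exact hmem h
  · intro q _ hq
    apply key A B h2 q
    intro a ha haq
    have hmem : a ∈ ⋃ p ∈ associatedPrimes A A, (p : Set A) := by
      simp only [Set.mem_iUnion]
      exact ⟨q.comap (algebraMap A B), hq, haq⟩
    rw [biUnion_associatedPrimes_eq_compl_nonZeroDivisors A] at hmem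
    exact hmem ha

end Groth.Agent.S8928
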