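import Groth.Statements.S8929
import Mathlib

set_option autoImplicit false
universe u
open scoped TensorProduct
open Disc

namespace Groth.Agent.S8929

section

theorem flat_of_le (A B : Type u) [CommRing A] [CommRing B] [Algebra A B]
    (q q' : Ideal B) [q.IsPrime] [q'.IsPrime] (hle : q ≤ q')
    (h : Module.Flat A (Localization.AtPrime q')) : Module.Flat A (Localization.AtPrime q) := by
  have hle' : q'.primeCompl ≤ q.primeCompl := fun x hx hxq => hx (hle hxq)
  let alg : Algebra (Localization.AtPrime q') (Localization.AtPrime q) :=
    IsLocalization.localizationAlgebraOfSubmonoidLe (Localization.AtPrime q')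
      (Localization.AtPrime q) q'.primeCompl q.primeCompl hle'
  have : IsScalarTower B (Localization.AtPrime q') (Localization.AtPrime q) :=
    IsLocalization.localization_isScalarTower_of_submonoid_le (Localization.AtPrime q') _
      q'.primeCompl q.primeCompl hle'
  have : IsLocalization (q.primeCompl.map (algebraMap B (Localization.AtPrime q')))
      (Localization.AtPrime q) :=
    IsLocalization.isLocalization_of_submonoid_le (Localization.AtPrime q') _
      q'.primeCompl q.primeCompl hle'
  have hflat : Module.Flat (Localization.AtPrime q') (Localization.AtPrime q) :=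
    IsLocalization.flat _ (q.primeCompl.map (algebraMap B (Localization.AtPrime q')))
  have : IsScalarTower A (Localization.AtPrime q') (Localization.AtPrime q) := by
    apply IsScalarTower.of_algebraMap_eq
    intro a
    rw [IsScalarTower.algebraMap_apply A B (Localization.AtPrime q),
      IsScalarTower.algebraMap_apply B (Localization.AtPrime q') (Localization.AtPrime q),
      ← IsScalarTower.algebraMap_apply A B (Localization.AtPrime q')]
  exact Module.Flat.trans A (Localization.AtPrime q') _

theorem core (A B : Type u) [CommRing A] [CommRing B] [IsNoetherianRing A]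
    [Algebra A B] [Algebra.HasGoingUp A B]
    (h4 : ∀ (q : Ideal B) [q.IsPrime], IsAssociatedPrime (q.comap (algebraMap A B)) A →
      Module.Flat A (Localization.AtPrime q))
    (q : Ideal B) [hq : q.IsPrime] (hdisj : ∀ a ∈ nonZeroDivisors A, algebraMap A B a ∉ q) :
    Module.Flat A (Localization.AtPrime q) := by
  have hp : (q.comap (algebraMap A B)).IsPrime := Ideal.comap_isPrime _ _
  have hsub : ((q.comap (algebraMap A B) : Ideal A) : Set A) ⊆
      ⋃ p' ∈ (((associatedPrimes.finite A A).toFinset : Finset (Ideal A)) : Set (Ideal A)),
        ((id p' : Ideal A) : Set A) := by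
    intro a ha
    have hmem : a ∈ ((nonZeroDivisors A : Set A))ᶜ := fun h => hdisj a h ha
    rw [← biUnion_associatedPrimes_eq_compl_nonZeroDivisors A] at hmem
    simpa using hmem
  obtain ⟨p', hp'mem, hpp'⟩ := (Ideal.subset_union_prime (R := A)
    (s := (associatedPrimes.finite A A).toFinset) (f := id) ⊥ ⊥ (fun i hi _ _ => by
      rw [Set.Finite.mem_toFinset] at hi
      exact hi.isPrime)).1 hsub
  rw [Set.Finite.mem_toFinset] at hp'mem
  have hp'prime : p'.IsPrime := hp'mem.isPrime
  have hlies : q.LiesOver (q.comap (algebraMap A B)) := ⟨rfl⟩
  obtain ⟨Q, hqQ, hQprime, hQlies⟩ :=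
    Ideal.exists_ideal_ge_liesOver_of_le (p := q.comap (algebraMap A B)) (q := p') q hpp'
  have hQass : IsAssociatedPrime (Q.comap (algebraMap A B)) A := by
    have := hQlies.over
    rw [Ideal.under_def] at this
    rw [← this]
    exact hp'mem
  exact flat_of_le A B q Q hqQ (h4 Q hQass)

attribute [local instance] Algebra.TensorProduct.rightAlgebra in
theorem main (A B : Type u) [CommRing A] [CommRing B] [IsNoetherianRing A]
    [Algebra A B] [Algebra.HasGoingUp A B]
    (h4 : ∀ (q : Ideal B) [q.IsPrime], IsAssociatedPrime (q.comap (algebraMap A B)) A →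
      Module.Flat A (Localization.AtPrime q)) :
    Module.Flat (FractionRing A) (FractionRing A ⊗[A] B) := by
  rw [Module.flat_iff_of_isLocalization (FractionRing A) (nonZeroDivisors A)]
  have hloc : IsLocalization (Algebra.algebraMapSubmonoid B (nonZeroDivisors A))
      (FractionRing A ⊗[A] B) :=
    (Algebra.isLocalization_iff_isPushout (nonZeroDivisors A) (FractionRing A)).mpr inferInstance
  refine Module.flat_of_isLocalized_maximal (FractionRing A ⊗[A] B) (FractionRing A ⊗[A] B)
    (fun P _ => Localization.AtPrime P)
    (fun P _ => Algebra.linearMap (FractionRing A ⊗[A] B) (Localization.AtPrime P)) ?_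
  intro P hP
  have hPprime : P.IsPrime := hP.isPrime
  have hq : (P.comap (algebraMap B (FractionRing A ⊗[A] B))).IsPrime := Ideal.comap_isPrime _ _
  have hlocq : IsLocalization.AtPrime (Localization.AtPrime P)
      (P.comap (algebraMap B (FractionRing A ⊗[A] B))) :=
    IsLocalization.isLocalization_isLocalization_atPrime_isLocalization
      (Algebra.algebraMapSubmonoid B (nonZeroDivisors A)) (Localization.AtPrime P) P
  have hdisj : ∀ a ∈ nonZeroDivisors A,
      algebraMap A B a ∉ P.comap (algebraMap B (FractionRing A ⊗[A] B)) := by
    intro a ha haq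
    rw [Ideal.mem_comap] at haq
    have hu : IsUnit (algebraMap B (FractionRing A ⊗[A] B) (algebraMap A B a)) :=
      IsLocalization.map_units (FractionRing A ⊗[A] B)
        (⟨algebraMap A B a, ⟨a, ha, rfl⟩⟩ : Algebra.algebraMapSubmonoid B (nonZeroDivisors A))
    exact hPprime.ne_top (Ideal.eq_top_of_isUnit_mem _ haq hu)
  have hflatq := core A B h4 (P.comap (algebraMap B (FractionRing A ⊗[A] B))) hdisj
  have htower : IsScalarTower A B (Localization.AtPrime P) := by
    apply IsScalarTower.of_algebraMap_eq
    intro a
    rw [IsScalarTower.algebraMap_apply A (FractionRing A ⊗[A] B) (Localization.AtPrime P),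
      IsScalarTower.algebraMap_apply B (FractionRing A ⊗[A] B) (Localization.AtPrime P),
      ← IsScalarTower.algebraMap_apply A B (FractionRing A ⊗[A] B)]
  let e := IsLocalization.algEquiv (P.comap (algebraMap B (FractionRing A ⊗[A] B))).primeCompl
    (Localization.AtPrime (P.comap (algebraMap B (FractionRing A ⊗[A] B))))
    (Localization.AtPrime P)
  exact Module.Flat.of_linearEquiv (e.toLinearEquiv.restrictScalars A).symm

end

/-- Let A → B be a map of Noetherian rings with the going-up property. If B_q is flat over A for every
associated prime q of B and for every prime q of B lying over an associated prime of A, then Q(A)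
⊗_A B is flat over the total ring of fractions Q(A). -/
theorem result (A B : Type u) [CommRing A] [CommRing B] [IsNoetherianRing A] [IsNoetherianRing B] [Algebra A B] [Algebra.HasGoingUp A B] (h3 : ∀ (q : Ideal B) [q.IsPrime], IsAssociatedPrime q B → Module.Flat A (Localization.AtPrime q)) (h4 : ∀ (q : Ideal B) [q.IsPrime], IsAssociatedPrime (q.comap (algebraMap A B)) A → Module.Flat A (Localization.AtPrime q)) : Module.Flat (FractionRing A) (FractionRing A ⊗[A] B) := by
  exact main A B h4

end Groth.Agent.S8929
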