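import Groth.Statements.S8930
import Mathlib

set_option autoImplicit false
universe u
open AlgebraicGeometry
open Disc

namespace Groth.Agent.S8930

open CategoryTheory in
theorem isOpenImmersion_of_comp_of_injective {B C B' : Type u} [CommRing B] [CommRing C] [CommRing B']
    (φ : C →+* B) (ψ : B' →+* C) (hinj : Function.Injective φ)
    (h : IsOpenImmersion (Spec.map (CommRingCat.ofHom (φ.comp ψ)))) :
    IsOpenImmersion (Spec.map (CommRingCat.ofHom φ)) := by
  set f := Spec.map (CommRingCat.ofHom φ) with hf
  set g := Spec.map (CommRingCat.ofHom ψ) with hg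
  have hfg : f ≫ g = Spec.map (CommRingCat.ofHom (φ.comp ψ)) := by
    rw [hf, hg, ← Spec.map_comp]; rfl
  haveI : IsOpenImmersion (f ≫ g) := hfg ▸ h
  haveI : IsImmersion f := IsImmersion.of_comp f g
  have happ : Function.Injective f.appTop := by
    have e : f.appTop = (Scheme.ΓSpecIso _).hom ≫ CommRingCat.ofHom φ ≫ (Scheme.ΓSpecIso _).inv := by
      rw [hf]
      simp [Scheme.Hom.appTop]
    rw [e]
    intro a b hab
    simp only [CommRingCat.comp_apply] at hab
    have h1 := (ConcreteCategory.bijective_of_isIso (Scheme.ΓSpecIso (CommRingCat.of B)).inv).1 hab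
    have h3 := hinj h1
    exact (ConcreteCategory.bijective_of_isIso (Scheme.ΓSpecIso _).hom).1 h3
  have hker : f.ker = ⊥ := Scheme.IdealSheafData.ext_of_isAffine
    (by simpa [f.ker_apply ⟨⊤, isAffineOpen_top _⟩, ← RingHom.injective_iff_ker_eq_bot] using! happ)
  haveI : IsIso f.imageι := (Scheme.isIso_subschemeι_iff_eq_bot _).mpr hker
  rw [← f.toImage_imageι]
  infer_instance


/-- Given two factorizations A → B' → B and A → B'' → B of a ring map with A → B' and A → B'' finite and
Spec(B) → Spec(B'), Spec(B) → Spec(B'') open immersions, there is an A-subalgebra C of B which is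
finite over A, contains the images of B' and B'', and is such that Spec(B) → Spec(C) is an open
immersion. (Such an A → B is quasi-finite; that hypothesis of the published statement is implied by
the factorizations and is not repeated.) -/
theorem result (A B B' B'' : Type u) [CommRing A] [CommRing B] [CommRing B'] [CommRing B''] [Algebra A B] [Algebra A B'] [Algebra A B''] [Algebra B' B] [Algebra B'' B] [IsScalarTower A B' B] [IsScalarTower A B'' B] [Module.Finite A B'] [Module.Finite A B''] (h' : IsOpenImmersion (Spec.map (CommRingCat.ofHom (algebraMap B' B)))) (h'' : IsOpenImmersion (Spec.map (CommRingCat.ofHom (algebraMap B'' B)))) : ∃ C : Subalgebra A B, Module.Finite A C ∧ Set.range (algebraMap B' B) ⊆ (C : Set B) ∧ Set.range (algebraMap B'' B) ⊆ (C : Set B) ∧ IsOpenImmersion (Spec.map (CommRingCat.ofHom C.val.toRingHom)) := by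
  classical
  let φ' : B' →ₐ[A] B := IsScalarTower.toAlgHom A B' B
  let φ'' : B'' →ₐ[A] B := IsScalarTower.toAlgHom A B'' B
  haveI : Module.Finite A φ'.range := Module.Finite.range φ'.toLinearMap
  haveI : Module.Finite A φ''.range := Module.Finite.range φ''.toLinearMap
  refine ⟨φ'.range ⊔ φ''.range, Subalgebra.finite_sup _ _, ?_, ?_, ?_⟩
  · rintro _ ⟨b, rfl⟩
    exact (le_sup_left : φ'.range ≤ φ'.range ⊔ φ''.range) ⟨b, rfl⟩
  · rintro _ ⟨b, rfl⟩
    exact (le_sup_right : φ''.range ≤ φ'.range ⊔ φ''.range) ⟨b, rfl⟩
  · let C : Subalgebra A B := φ'.range ⊔ φ''.range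
    let ψ : B' →+* C := (φ'.codRestrict C (fun b => (le_sup_left : φ'.range ≤ C) ⟨b, rfl⟩)).toRingHom
    refine isOpenImmersion_of_comp_of_injective C.val.toRingHom ψ Subtype.val_injective ?_
    have : C.val.toRingHom.comp ψ = algebraMap B' B := by
      ext b; rfl
    rw [this]; exact h'

end Groth.Agent.S8930
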