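import Groth.Statements.S8936

set_option autoImplicit false
universe u v
open InjHull

namespace Groth.Agent.S8936

theorem result (R : Type u) [CommRing R] (ι : Type v) [Preorder ι] [IsDirectedOrder ι] [DecidableEq ι] (i₀ : ι) (E : ι → Type v) [∀ i, AddCommGroup (E i)] [∀ i, Module R (E i)] (f : ∀ i j, i ≤ j → E i →ₗ[R] E j) [DirectedSystem E fun i j h => f i j h] (M : Type v) [AddCommGroup M] [Module R M] (g : ∀ i, M →ₗ[R] E i) (hg : ∀ i j (h : i ≤ j), f i j h ∘ₗ g i = g j) (he : ∀ i, InjHull.IsEssentialInj (g i)) : InjHull.IsEssentialInj (Module.DirectLimit.of R ι E f i₀ ∘ₗ g i₀) := by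
  have hg' : ∀ i j (h : i ≤ j) (m : M), f i j h (g i m) = g j m := fun i j h m =>
    LinearMap.congr_fun (hg i j h) m
  have hof : ∀ i (m : M), Module.DirectLimit.of R ι E f i (g i m) =
      Module.DirectLimit.of R ι E f i₀ (g i₀ m) := by
    intro i m
    obtain ⟨k, hik, hi₀k⟩ := exists_ge_ge i i₀
    rw [← Module.DirectLimit.of_f (hij := hik), ← Module.DirectLimit.of_f (hij := hi₀k) (i := i₀),
      hg', hg']
  have hinj : ∀ m : M, Module.DirectLimit.of R ι E f i₀ (g i₀ m) = 0 → m = 0 := by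
    intro m hm
    obtain ⟨j, hij, hj⟩ := Module.DirectLimit.of.zero_exact hm
    rw [hg'] at hj
    exact (he j).injective (by rw [hj, map_zero])
  refine ⟨?_, ?_⟩
  · rw [← LinearMap.ker_eq_bot, Submodule.eq_bot_iff]
    intro m hm
    exact hinj m hm
  · intro N hN
    rw [Submodule.ne_bot_iff] at hN ⊢
    obtain ⟨y, hyN, hy0⟩ := hN
    have : Nonempty ι := ⟨i₀⟩
    obtain ⟨k, x, rfl⟩ := Module.DirectLimit.exists_of y
    have hx0 : x ≠ 0 := by
      rintro rfl
      exact hy0 (map_zero _)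
    have hne : Submodule.span R {x} ≠ ⊥ := by
      rw [Ne, Submodule.span_singleton_eq_bot]
      exact hx0
    have := (he k).essential _ hne
    rw [Submodule.ne_bot_iff] at this
    obtain ⟨z, ⟨hz1, ⟨m, hm⟩⟩, hz0⟩ := this
    obtain ⟨r, rfl⟩ := Submodule.mem_span_singleton.mp hz1
    refine ⟨r • Module.DirectLimit.of R ι E f k x, ⟨N.smul_mem r hyN, ⟨m, ?_⟩⟩, ?_⟩
    · rw [LinearMap.comp_apply, ← hof k m, hm, map_smul]
    · rw [← map_smul, ← hm, hof k m]
      intro h0
      apply hz0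
      rw [← hm, hinj m h0, map_zero]

end Groth.Agent.S8936
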