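import Groth.Statements.S8955
import Groth.Agent.Lib.Helper98.DerivEtale
import Mathlib.AlgebraicGeometry.Morphisms.Etale
import Mathlib.Topology.Sheaves.SheafCondition.Sites

set_option autoImplicit false
universe u
open CategoryTheory AlgebraicGeometry
open LocCoh

namespace Groth.Agent.S8955

section Helpers

open TopologicalSpace Opposite Groth.Agent.Lib.Helper98.DerivEtale

variable (A : Type u) [CommRing A] (V : Scheme.{u}) [V.Over (Spec (CommRingCat.of A))]

/-- the structure map to the sections over `W` -/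
noncomputable def ρ (W : V.Opens) : A →+* Γ(V, W) :=
  (V.presheaf.map (homOfLE (le_top : W ≤ ⊤)).op).hom.comp
    ((V ↘ Spec (CommRingCat.of A)).appTop.hom.comp (Scheme.ΓSpecIso (CommRingCat.of A)).inv.hom)

lemma ρ_eq (W : V.Opens) (a : A) :
    Coh.resTop V (op W) (Coh.toGlobal (V ↘ Spec (CommRingCat.of A)) a) = ρ A V W a := rfl

lemma res_ρ {W W' : V.Opens} (i : W' ⟶ W) (a : A) :
    (V.presheaf.map i.op).hom (ρ A V W a) = ρ A V W' a := by
  unfold ρ
  change (V.presheaf.map (homOfLE (le_top : W ≤ ⊤)).op ≫ V.presheaf.map i.op).hom _ = _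
  rw [← V.presheaf.map_comp]
  rfl

variable [Etale (V ↘ Spec (CommRingCat.of A))]

lemma etale_ρ (W : V.Opens) (hW : IsAffineOpen W) : (ρ A V W).Etale := by
  have h1 := Etale.etale_appLE (V ↘ Spec (CommRingCat.of A))
    (isAffineOpen_top (Spec (CommRingCat.of A))) hW (by simp : W ≤ (V ↘ Spec (CommRingCat.of A)) ⁻¹ᵁ ⊤)
  have h2 : ((Scheme.ΓSpecIso (CommRingCat.of A)).inv.hom : A →+* _).Etale :=
    RingHom.Etale.of_bijective
      (ConcreteCategory.bijective_of_isIso (Scheme.ΓSpecIso (CommRingCat.of A)).inv)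
  have h3 := RingHom.Etale.stableUnderComposition _ _ h2 h1
  convert h3 using 1
  ext a
  rfl

variable (θ : Derivation ℤ A A)

lemma formallyEtale_ρ (W : V.affineOpens) :
    @Algebra.FormallyEtale A Γ(V, W.1) _ _ (ρ A V W.1).toAlgebra := by
  have h := etale_ρ A V W.1 W.2
  let _ := (ρ A V W.1).toAlgebra
  have h' : Algebra.Etale A Γ(V, W.1) := h
  exact h'.formallyEtale

/-- the extension of `θ` to the sections over an affine open -/
noncomputable def DW (W : V.affineOpens) : Γ(V, W.1) →+ Γ(V, W.1) :=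
  let _ := (ρ A V W.1).toAlgebra
  have := formallyEtale_ρ A V W
  ((extDer (A := A) (B := Γ(V, W.1)) θ : Derivation ℤ Γ(V, W.1) Γ(V, W.1)) : Γ(V, W.1) →+ Γ(V, W.1))

lemma DW_ρ (W : V.affineOpens) (a : A) : DW A V θ W (ρ A V W.1 a) = ρ A V W.1 (θ a) := by
  let _ := (ρ A V W.1).toAlgebra
  have := formallyEtale_ρ A V W
  exact extDer_algebraMap (A := A) (B := Γ(V, W.1)) θ a

lemma DW_mul (W : V.affineOpens) (x y : Γ(V, W.1)) :
    DW A V θ W (x * y) = x * DW A V θ W y + y * DW A V θ W x := by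
  let _ := (ρ A V W.1).toAlgebra
  have := formallyEtale_ρ A V W
  exact (extDer (A := A) (B := Γ(V, W.1)) θ).leibniz x y

lemma DW_res {W W' : V.affineOpens} (i : W'.1 ⟶ W.1) (x : Γ(V, W.1)) :
    (V.presheaf.map i.op).hom (DW A V θ W x) = DW A V θ W' ((V.presheaf.map i.op).hom x) := by
  let _ := (ρ A V W.1).toAlgebra
  have := formallyEtale_ρ A V W
  let φ : Γ(V, W.1) →+* Γ(V, W'.1) := (V.presheaf.map i.op).hom
  let δ : Γ(V, W.1) →+ Γ(V, W'.1) :=
    (φ : Γ(V, W.1) →+ Γ(V, W'.1)).comp (DW A V θ W) - (DW A V θ W').comp (φ : Γ(V, W.1) →+ Γ(V, W'.1))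
  have h := twisted_eq_zero (A := A) φ δ ?_ ?_ x
  · have h' : φ (DW A V θ W x) - DW A V θ W' (φ x) = 0 := h
    exact sub_eq_zero.mp h'
  · intro x y
    change φ (DW A V θ W (x * y)) - DW A V θ W' (φ (x * y)) =
      φ x * (φ (DW A V θ W y) - DW A V θ W' (φ y)) + φ y * (φ (DW A V θ W x) - DW A V θ W' (φ x))
    rw [DW_mul, map_mul, DW_mul, map_add, map_mul, map_mul]
    ring
  · intro a
    change φ (DW A V θ W (ρ A V W.1 a)) - DW A V θ W' (φ (ρ A V W.1 a)) = 0
    rw [DW_ρ]
    have e1 : ∀ b : A, φ (ρ A V W.1 b) = ρ A V W'.1 b := fun b => res_ρ A V i b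
    rw [e1, e1, DW_ρ, sub_self]

/-- the abelian presheaf underlying the structure sheaf -/
noncomputable abbrev OAb : TopCat.Presheaf AddCommGrpCat.{u} V.toTopCat :=
  (Coh.toAb (Coh.structureModule V)).obj

/-- the affine opens as an indexed family -/
def Baff : V.affineOpens → Opens V.toTopCat := fun W => W.1

lemma isBasis_Baff : Opens.IsBasis (Set.range (Baff V)) := by
  have h : Set.range (Baff V) = V.affineOpens := Subtype.range_coe
  rw [h]
  exact V.isBasis_affineOpens

/-- the family `DW` as a natural transformation on the affine opens -/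
noncomputable def αD :
    (inducedFunctor (Baff V)).op ⋙ OAb V ⟶ (inducedFunctor (Baff V)).op ⋙ OAb V where
  app W := AddCommGrpCat.ofHom (DW A V θ W.unop)
  naturality W W' f := by
    ext x
    exact (DW_res A V θ (W := W.unop) (W' := W'.unop) f.unop.hom x).symm

/-- the extension of `θ` to the structure sheaf, as an endomorphism of abelian sheaves -/
noncomputable def Dsh : Coh.toAb (Coh.structureModule V) ⟶ Coh.toAb (Coh.structureModule V) :=
  ⟨TopCat.Sheaf.restrictHomEquivHom (OAb V) (Coh.toAb (Coh.structureModule V))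
    (isBasis_Baff V) (αD A V θ)⟩

lemma Dsh_app (W : V.affineOpens) (x : Γ(V, W.1)) :
    (Dsh A V θ).hom.app (op W.1) x = DW A V θ W x := by
  have h := TopCat.Sheaf.extend_hom_app (OAb V) (Coh.toAb (Coh.structureModule V))
    (isBasis_Baff V) (αD A V θ) W
  exact congrArg (fun φ => φ.hom x) h

lemma leibniz_sh (a : A) :
    Coh.smulAb (Coh.structureModule V) (Coh.toGlobal (V ↘ Spec (CommRingCat.of A)) a) ≫ Dsh A V θ =
      Coh.smulAb (Coh.structureModule V) (Coh.toGlobal (V ↘ Spec (CommRingCat.of A)) (θ a)) +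
        Dsh A V θ ≫ Coh.smulAb (Coh.structureModule V)
          (Coh.toGlobal (V ↘ Spec (CommRingCat.of A)) a) := by
  apply Sheaf.hom_ext
  refine TopCat.Sheaf.hom_ext (OAb V) (Coh.toAb (Coh.structureModule V)) (isBasis_Baff V)
    (fun W => ?_)
  ext x
  change (Dsh A V θ).hom.app (op W.1) ((Coh.smulAb (Coh.structureModule V)
      (Coh.toGlobal (V ↘ Spec (CommRingCat.of A)) a)).hom.app (op W.1) x) =
    (Coh.smulAb (Coh.structureModule V)
      (Coh.toGlobal (V ↘ Spec (CommRingCat.of A)) (θ a))).hom.app (op W.1) x +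
    (Coh.smulAb (Coh.structureModule V)
      (Coh.toGlobal (V ↘ Spec (CommRingCat.of A)) a)).hom.app (op W.1)
        ((Dsh A V θ).hom.app (op W.1) x)
  rw [Coh.smulAb_app, Coh.smulAb_app, Coh.smulAb_app, ρ_eq, ρ_eq]
  have h1 : (Dsh A V θ).hom.app (op W.1) x = DW A V θ W x := Dsh_app A V θ W x
  have h2 := Dsh_app A V θ W (ρ A V W.1 a * (show Γ(V, W.1) from x))
  have h3 := DW_mul A V θ W (ρ A V W.1 a) (show Γ(V, W.1) from x)
  rw [DW_ρ] at h3
  rw [h1]
  refine (h2.trans h3).trans ?_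
  change _ = ρ A V W.1 (θ a) * (show Γ(V, W.1) from x) + ρ A V W.1 a * DW A V θ W x
  ring

end Helpers


/-- For a ring A, a scheme V quasi-compact, separated and étale over Spec A, and a derivation θ of A,
each cohomology module H^i(V, O_V) carries an additive operator D with D(a • ξ) = θ(a) • ξ + a •
D(ξ) (existence only). (The published statement allows V quasi-separated; this row takes V
separated.) -/
theorem result (A : Type u) [CommRing A] (V : Scheme.{u}) [V.Over (Spec (CommRingCat.of A))] [QuasiCompact (V ↘ Spec (CommRingCat.of A))] [IsSeparated (V ↘ Spec (CommRingCat.of A))] [Etale (V ↘ Spec (CommRingCat.of A))] (θ : Derivation ℤ A A) (i : ℕ) : ∃ D : Coh.HH V (Coh.structureModule V) i →+ Coh.HH V (Coh.structureModule V) i, ∀ (a : A) (ξ : Coh.HH V (Coh.structureModule V) i), D (a • ξ) = θ a • ξ + a • D ξ := by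
  refine ⟨Sheaf.H.map (Dsh A V θ) i, fun a ξ => ?_⟩
  change Sheaf.H.map (Dsh A V θ) i (Sheaf.H.map (Coh.smulAb (Coh.structureModule V)
      (Coh.toGlobal (V ↘ Spec (CommRingCat.of A)) a)) i ξ) =
    Sheaf.H.map (Coh.smulAb (Coh.structureModule V)
      (Coh.toGlobal (V ↘ Spec (CommRingCat.of A)) (θ a))) i ξ +
    Sheaf.H.map (Coh.smulAb (Coh.structureModule V)
      (Coh.toGlobal (V ↘ Spec (CommRingCat.of A)) a)) i (Sheaf.H.map (Dsh A V θ) i ξ)
  rw [← Sheaf.H.map_comp_apply, ← Sheaf.H.map_comp_apply, ← Sheaf.H.map_add_apply, leibniz_sh]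

end Groth.Agent.S8955
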