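import Groth.Statements.S8961
import Groth.Agent.Lib.Helper10.TraceIntegral
import Mathlib.RingTheory.TensorProduct.Free
import Mathlib.RingTheory.Localization.FractionRing
import Mathlib.RingTheory.Localization.AtPrime.Basic
import Mathlib.RingTheory.IntegralClosure.IntegrallyClosed

set_option autoImplicit false
universe u
open QFDual

namespace Groth.Agent.S8961

open TensorProduct Groth.Agent.Lib.Helper10.TraceIntegral in
theorem trace_mem_range_of_normal {A K L : Type*} [CommRing A] [CommRing K] [CommRing L]
    [Algebra A K] [Algebra K L] [Algebra A L] [IsScalarTower A K L] [IsFractionRing A K]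
    [Module.Free K L] [Module.Finite K L]
    (hA : ∀ (p : Ideal A) [p.IsPrime],
      IsDomain (Localization.AtPrime p) ∧ IsIntegrallyClosed (Localization.AtPrime p))
    (x : L) (hx : IsIntegral A x) : Algebra.trace K L x ∈ (algebraMap A K).range := by
  set t := Algebra.trace K L x with ht
  -- the denominator ideal
  let D : Ideal A :=
    { carrier := {d | algebraMap A K d * t ∈ (algebraMap A K).range}
      add_mem' := fun {d e} hd he => by
        show algebraMap A K (d + e) * t ∈ (algebraMap A K).range
        rw [map_add, add_mul]; exact Subring.add_mem _ hd he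
      zero_mem' := by
        show algebraMap A K 0 * t ∈ (algebraMap A K).range
        rw [map_zero, zero_mul]; exact Subring.zero_mem _
      smul_mem' := fun c d hd => by
        show algebraMap A K (c • d) * t ∈ (algebraMap A K).range
        rw [smul_eq_mul, map_mul, mul_assoc]
        exact Subring.mul_mem _ ⟨c, rfl⟩ hd }
  suffices hD : D = ⊤ by
    have h1 : (1 : A) ∈ D := hD ▸ Submodule.mem_top
    have h2 : algebraMap A K 1 * t ∈ (algebraMap A K).range := h1
    rwa [map_one, one_mul] at h2
  by_contra hne
  obtain ⟨p, hpmax, hDp⟩ := Ideal.exists_le_maximal D hne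
  haveI : p.IsPrime := hpmax.isPrime
  obtain ⟨hdom, hic⟩ := hA p
  -- notation
  let Ap := Localization.AtPrime p
  let K' := FractionRing Ap
  obtain ⟨a, s, hts⟩ := IsLocalization.exists_mk'_eq (nonZeroDivisors A) t
  have hts' : t * algebraMap A K s = algebraMap A K a := by
    rw [← hts, IsLocalization.mk'_spec]
  -- the map K → K'
  have hunit : ∀ y : nonZeroDivisors A, IsUnit (((algebraMap Ap K').comp (algebraMap A Ap)) y) := by
    intro y
    have h1 : algebraMap A Ap y ∈ nonZeroDivisors Ap :=
      IsLocalization.map_nonZeroDivisors_le p.primeCompl Ap ⟨y, y.2, rfl⟩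
    have h2 : algebraMap A Ap y ≠ 0 := nonZeroDivisors.ne_zero h1
    apply IsUnit.mk0
    change algebraMap Ap K' (algebraMap A Ap y) ≠ 0
    rw [Ne, map_eq_zero_iff _ (IsFractionRing.injective Ap K')]
    exact h2
  let ψ : K →+* K' := IsLocalization.lift hunit
  have hψ : ∀ c : A, ψ (algebraMap A K c) = algebraMap Ap K' (algebraMap A Ap c) := fun c =>
    IsLocalization.lift_eq hunit c
  letI : Algebra K K' := ψ.toAlgebra
  let L' := K' ⊗[K] L
  -- x' integral
  have hx' : ((algebraMap K' L').comp (algebraMap Ap K')).IsIntegralElem ((1 : K') ⊗ₜ[K] x : L') := by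
    obtain ⟨q, hq, hqx⟩ := hx
    refine ⟨q.map (algebraMap A Ap), hq.map _, ?_⟩
    rw [Polynomial.eval₂_map]
    let ι : L →+* L' := (Algebra.TensorProduct.includeRight : L →ₐ[K] K' ⊗[K] L).toRingHom
    have hι : ((algebraMap K' L').comp (algebraMap Ap K')).comp (algebraMap A Ap)
        = ι.comp (algebraMap A L) := by
      ext c
      change algebraMap K' L' (algebraMap Ap K' (algebraMap A Ap c)) = (1 : K') ⊗ₜ[K] (algebraMap A L c)
      rw [← hψ, IsScalarTower.algebraMap_apply A K L, Algebra.TensorProduct.algebraMap_apply,
        Algebra.algebraMap_eq_smul_one (algebraMap A K c), ← TensorProduct.smul_tmul,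
        Algebra.smul_def, mul_one]
      rfl
    rw [hι]
    have : ι x = (1 : K') ⊗ₜ[K] x := rfl
    rw [← this, ← Polynomial.hom_eval₂, hqx, map_zero]
  have htr : (algebraMap Ap K').IsIntegralElem (Algebra.trace K' L' ((1 : K') ⊗ₜ[K] x)) :=
    isIntegralElem_algebra_trace (algebraMap Ap K') hx'
  rw [trace_baseChange_algebra] at htr
  obtain ⟨c', hc'⟩ := IsIntegrallyClosed.isIntegral_iff.1 htr
  change algebraMap Ap K' c' = ψ t at hc'
  obtain ⟨c, u, hcu⟩ := IsLocalization.exists_mk'_eq p.primeCompl c'
  have hcu' : c' * algebraMap A Ap u = algebraMap A Ap c := by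
    rw [← hcu, IsLocalization.mk'_spec]
  -- c' * s = a in Ap
  have h1 : c' * algebraMap A Ap s = algebraMap A Ap a := by
    apply IsFractionRing.injective Ap K'
    rw [map_mul, hc', ← hψ, ← hψ, ← map_mul, hts']
  have h2 : algebraMap A Ap (c * s) = algebraMap A Ap (a * u) := by
    rw [map_mul, map_mul, ← hcu', ← h1]; ring
  obtain ⟨v, hv⟩ := (IsLocalization.eq_iff_exists p.primeCompl Ap).1 h2
  have hmem : (v : A) * u ∈ D := by
    show algebraMap A K ((v : A) * u) * t ∈ (algebraMap A K).range
    refine ⟨(v : A) * c, ?_⟩
    have hsu : IsUnit (algebraMap A K s) := IsLocalization.map_units K s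
    apply hsu.mul_right_cancel
    rw [mul_assoc, hts', ← map_mul, ← map_mul]
    congr 1
    calc (v : A) * c * s = v * (c * s) := by ring
      _ = v * (a * u) := hv
      _ = v * u * a := by ring
  have : (v : A) * u ∈ p := hDp hmem
  rcases (Ideal.IsPrime.mem_or_mem inferInstance this) with h | h
  · exact v.2 h
  · exact u.2 h


/-- Suppose the Dedekind different of A → B is defined: A is Noetherian, B is a finite A-algebra,
nonzerodivisors of A are nonzerodivisors on B, and with K = Q(A) and L = B ⊗_A K the map K → L is
étale (here with L finite free over K). If A is a normal ring, i.e. every localization A_p at a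
prime is an integrally closed domain, then Trace_{L/K}(b) lies in A for every b ∈ B; equivalently 1
∈ 𝓛_{B/A}. -/
theorem result (A K B L : Type u) [CommRing A] [CommRing K] [CommRing B] [CommRing L] [Algebra A K] [Algebra A B] [Algebra B L] [Algebra K L] [Algebra A L] [IsScalarTower A K L] [IsScalarTower A B L] (h : QFDual.IsDedekindDefined A K B L) (hA : EGA4.IsNormalRing A) : (1 : L) ∈ QFDual.complementary A K B L := by
  intro b
  rw [one_mul]
  haveI := h.isFractionRing
  haveI := h.free
  haveI := h.finiteKL
  haveI := h.finite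
  refine trace_mem_range_of_normal (A := A) (K := K) (L := L) (fun p _ => hA p) _ ?_
  have hb : IsIntegral A b := Algebra.IsIntegral.isIntegral b
  exact hb.map (IsScalarTower.toAlgHom A B L)

end Groth.Agent.S8961
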