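import Groth.Statements.S8972
import Mathlib.RingTheory.RegularLocalRing.Polynomial

set_option autoImplicit false
open Synt

namespace Groth.Agent.S8972

open MvPolynomial

section
variable (n d : ℕ)

/-- the zero exponent index -/
def E0 : UnivIdx n d := ⟨fun _ => 0, by simp⟩

lemma exponent_E0 : (E0 n d).exponent = 0 := by
  ext i
  simp [UnivIdx.exponent, E0]

abbrev J := Fin n × {E : UnivIdx n d // E ≠ E0 n d}

abbrev T := MvPolynomial (J n d ⊕ Fin n) ℤ

/-- the monomial `x^E` in `T` -/
noncomputable def xpow (E : UnivIdx n d) : T n d :=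
  ∏ j : Fin n, (X (Sum.inr j) : T n d) ^ (E.exponent j)

open Classical in
/-- images of the variables `a_{i,E}` -/
noncomputable def g (p : Fin n × UnivIdx n d) : T n d :=
  if h : p.2 = E0 n d then
    - ∑ E' : {E : UnivIdx n d // E ≠ E0 n d}, X (Sum.inl (p.1, E')) * xpow n d E'.1
  else X (Sum.inl (p.1, ⟨p.2, h⟩))

/-- `A → T` -/
noncomputable def φ0 : UnivBase n d →+* T n d := (aeval (g n d) : UnivBase n d →ₐ[ℤ] T n d).toRingHom

/-- `A[x] → T` -/
noncomputable def φ : MvPolynomial (Fin n) (UnivBase n d) →+* T n d :=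
  eval₂Hom (φ0 n d) (fun j => X (Sum.inr j))

lemma φ_monomial (E : UnivIdx n d) (a : UnivBase n d) :
    φ n d (monomial E.exponent a) = φ0 n d a * xpow n d E := by
  unfold φ
  rw [coe_eval₂Hom, eval₂_monomial]
  congr 1
  rw [Finsupp.prod_fintype]
  · rfl
  · intro i; simp

lemma φ_univPoly (i : Fin n) : φ n d (univPoly n d i) = 0 := by
  classical
  unfold univPoly
  rw [map_sum]
  simp_rw [φ_monomial]
  rw [Fintype.sum_eq_add_sum_subtype_ne _ (E0 n d)]
  have h0 : φ0 n d (X (i, E0 n d)) =
      - ∑ E' : {E : UnivIdx n d // E ≠ E0 n d}, X (Sum.inl (i, E')) * xpow n d E'.1 := by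
    unfold φ0
    simp only [AlgHom.toRingHom_eq_coe, RingHom.coe_coe, aeval_X]
    unfold g
    rw [dif_pos rfl]
  have h1 : xpow n d (E0 n d) = 1 := by
    unfold xpow
    rw [exponent_E0]
    simp
  have h2 : ∀ E' : {E : UnivIdx n d // E ≠ E0 n d},
      φ0 n d (X (i, E'.1)) = X (Sum.inl (i, E')) := by
    intro E'
    unfold φ0
    simp only [AlgHom.toRingHom_eq_coe, RingHom.coe_coe, aeval_X]
    unfold g
    rw [dif_neg E'.2]
  rw [h0, h1, mul_one]
  simp_rw [h2]
  exact neg_add_cancel _

/-- `B → T` -/
noncomputable def φbar : UnivAlg n d →+* T n d :=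
  Ideal.Quotient.lift (univIdeal n d) (φ n d) (by
    intro a ha
    have hle : univIdeal n d ≤ RingHom.ker (φ n d) := by
      unfold univIdeal
      rw [Ideal.span_le]
      rintro _ ⟨i, rfl⟩
      exact φ_univPoly n d i
    exact hle ha)

/-- the quotient map as a ring hom -/
noncomputable def mkB : MvPolynomial (Fin n) (UnivBase n d) →+* UnivAlg n d :=
  Ideal.Quotient.mk (univIdeal n d)

lemma φbar_mk (a : MvPolynomial (Fin n) (UnivBase n d)) : φbar n d (mkB n d a) = φ n d a := by
  unfold φbar mkB
  exact Ideal.Quotient.lift_mk _ _ _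

lemma mkB_surjective : Function.Surjective (mkB n d) := Ideal.Quotient.mk_surjective

lemma mkB_univPoly (i : Fin n) : mkB n d (univPoly n d i) = 0 := by
  unfold mkB
  exact (Ideal.Quotient.eq_zero_iff_mem (I := univIdeal n d)).mpr (Ideal.subset_span ⟨i, rfl⟩)

/-- `T → B` -/
noncomputable def ψ : T n d →+* UnivAlg n d :=
  (aeval (fun s : J n d ⊕ Fin n => Sum.elim (fun p : J n d => mkB n d (C (X (p.1, p.2.1))))
    (fun j => mkB n d (X j)) s) : T n d →ₐ[ℤ] UnivAlg n d).toRingHom

lemma ψ_inl (p : J n d) : ψ n d (X (Sum.inl p)) = mkB n d (C (X (p.1, p.2.1))) := by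
  unfold ψ
  simp

lemma ψ_inr (j : Fin n) : ψ n d (X (Sum.inr j)) = mkB n d (X j) := by
  unfold ψ
  simp

lemma φψ : (φbar n d).comp (ψ n d) = RingHom.id _ := by
  apply MvPolynomial.ringHom_ext
  · intro r
    simp
  · intro s
    rcases s with p | j
    · rw [RingHom.comp_apply, ψ_inl, φbar_mk]
      unfold φ
      rw [coe_eval₂Hom, eval₂_C]
      unfold φ0
      simp only [AlgHom.toRingHom_eq_coe, RingHom.coe_coe, aeval_X, RingHom.id_apply]
      unfold g
      rw [dif_neg p.2.2]
    · rw [RingHom.comp_apply, ψ_inr, φbar_mk]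
      unfold φ
      rw [coe_eval₂Hom, eval₂_X]
      rfl

lemma ψ_xpow (E : UnivIdx n d) :
    ψ n d (xpow n d E) = mkB n d (monomial E.exponent 1) := by
  unfold xpow
  rw [map_prod]
  simp_rw [map_pow, ψ_inr, ← map_pow, ← map_prod]
  congr 1
  rw [monomial_eq, Finsupp.prod_fintype]
  · simp
  · intro i; simp

lemma univPoly_eq (i : Fin n) :
    univPoly n d i = ∑ E : UnivIdx n d, C (X (i, E)) * monomial E.exponent 1 := by
  unfold univPoly
  apply Finset.sum_congr rfl
  intro E _
  rw [C_mul_monomial, mul_one]

lemma ψφ : (ψ n d).comp (φ n d) = mkB n d := by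
  classical
  apply MvPolynomial.ringHom_ext
  · intro a
    rw [RingHom.comp_apply]
    unfold φ
    rw [coe_eval₂Hom, eval₂_C]
    have : (ψ n d).comp (φ0 n d) = (mkB n d).comp (C : UnivBase n d →+* _) := by
      apply MvPolynomial.ringHom_ext
      · intro r
        rw [RingHom.comp_apply, RingHom.comp_apply]
        (simp only [eq_intCast, map_intCast]) <;> try rw [map_intCast, map_intCast]
      · rintro ⟨i, E⟩
        rw [RingHom.comp_apply, RingHom.comp_apply]
        unfold φ0
        simp only [AlgHom.toRingHom_eq_coe, RingHom.coe_coe, aeval_X]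
        unfold g
        by_cases h : E = E0 n d
        · subst h
          rw [dif_pos rfl, map_neg, map_sum]
          simp_rw [map_mul, ψ_inl, ψ_xpow]
          have hf := mkB_univPoly n d i
          rw [univPoly_eq, map_sum, Fintype.sum_eq_add_sum_subtype_ne _ (E0 n d)] at hf
          simp_rw [map_mul] at hf
          rw [exponent_E0] at hf
          have h1 : (monomial (0 : Fin n →₀ ℕ) (1 : UnivBase n d)) = 1 := rfl
          rw [h1, map_one, mul_one] at hf
          rw [eq_neg_of_add_eq_zero_right hf, neg_neg]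
        · rw [dif_neg h, ψ_inl]
    exact RingHom.congr_fun this a
  · intro j
    rw [RingHom.comp_apply]
    unfold φ
    rw [coe_eval₂Hom, eval₂_X, ψ_inr]

lemma ψφbar : (ψ n d).comp (φbar n d) = RingHom.id _ := by
  apply RingHom.ext
  intro b
  obtain ⟨a, rfl⟩ := mkB_surjective n d b
  rw [RingHom.comp_apply, φbar_mk, ← RingHom.comp_apply, ψφ]
  rfl

/-- the ring isomorphism -/
noncomputable def equivT : UnivAlg n d ≃+* T n d :=
  RingEquiv.ofRingHom (φbar n d) (ψ n d) (φψ n d) (ψφbar n d)

end

/-- Let n, d ≥ 1 and let B = A[x_1, …, x_n]/(f_1, …, f_n) be the universal algebra over A = ℤ[a_{i,E}],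
f_i = Σ_E a_{i,E} x^E summed over exponent vectors E with |E| ≤ d. Then B is an integral domain and
every localization of B at a prime ideal is a regular local ring. (The published statement says that
X_{n,d} = Spec A and the quasi-finite locus Y_{n,d} ⊆ Spec B are regular and irreducible; for A, a
polynomial ring over ℤ, this is standard, and for the open Y_{n,d} it follows from the assertion
about all of Spec B made here, which is what the printed argument shows. The published statement
also asserts that Y_{n,d} → X_{n,d} is locally quasi-finite and syntomic, an instance of the general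
characterisation of quasi-finite syntomic maps; that clause is not part of this row.) -/
theorem result (n d : ℕ) (hn : 1 ≤ n) (hd : 1 ≤ d) : IsDomain (Synt.UnivAlg n d) ∧ ∀ q : PrimeSpectrum (Synt.UnivAlg n d), IsRegularLocalRing (Localization.AtPrime q.asIdeal) := by
  have hT : IsRegularRing (T n d) := inferInstance
  have hB : IsRegularRing (Synt.UnivAlg n d) := IsRegularRing.of_ringEquiv (equivT n d).symm
  refine ⟨(equivT n d).toMulEquiv.isDomain (T n d), fun q => ?_⟩
  exact IsRegularRing.isRegularLocalRing_localization q.asIdeal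

end Groth.Agent.S8972
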