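import Groth.Statements.S8974
-- import your own Groth.Agent.* helpers here
import Mathlib.Algebra.MvPolynomial.Degrees
import Mathlib.Tactic

set_option autoImplicit false
universe u
open Synt

namespace Groth.Agent.S8974

theorem exponent_apply {n d : ℕ} (E : Synt.UnivIdx n d) (i : Fin n) : E.exponent i = (E.1 i : ℕ) := by
  simp [Synt.UnivIdx.exponent]

theorem exponent_injective {n d : ℕ} : Function.Injective (Synt.UnivIdx.exponent (n := n) (d := d)) := by
  intro E E' h
  apply Subtype.ext
  funext i
  apply Fin.ext
  have := DFunLike.congr_fun h i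
  rwa [exponent_apply, exponent_apply] at this

theorem exists_exponent_eq {n d : ℕ} (m : Fin n →₀ ℕ) (hm : ∑ i, m i ≤ d) :
    ∃ E : Synt.UnivIdx n d, E.exponent = m := by
  have hle : ∀ i, m i < d + 1 := by
    intro i
    have : m i ≤ ∑ j, m j := Finset.single_le_sum (f := fun j => m j) (fun _ _ => Nat.zero_le _) (Finset.mem_univ i)
    omega
  refine ⟨⟨fun i => ⟨m i, hle i⟩, by simpa using hm⟩, ?_⟩
  ext i
  rw [exponent_apply]

/-- Let R be a ring, n, d ≥ 1 and g_1, …, g_n ∈ R[y_1, …, y_n] of total degree at most d. Then there is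
a ring map φ : A = ℤ[a_{i,E}] → R (E running over exponent vectors with |E| ≤ d) such that applying
φ to the coefficients of the universal polynomial f_i = Σ_E a_{i,E} x^E gives g_i for each i. (The
published statement is for a locally quasi-finite syntomic morphism of schemes and asserts, locally,
a cartesian square with the universal family; this row is its affine core: the coefficient map.) -/
theorem result (R : Type u) [CommRing R] (n d : ℕ) (hn : 1 ≤ n) (hd : 1 ≤ d) (g : Fin n → MvPolynomial (Fin n) R) (hg : ∀ i, (g i).totalDegree ≤ d) : ∃ φ : Synt.UnivBase n d →+* R, ∀ i, MvPolynomial.map φ (Synt.univPoly n d i) = g i := by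
  classical
  let φ : Synt.UnivBase n d →+* R := MvPolynomial.eval₂Hom (Int.castRingHom R)
    (fun p => MvPolynomial.coeff p.2.exponent (g p.1))
  refine ⟨φ, fun i => ?_⟩
  have hφX : ∀ E : Synt.UnivIdx n d, φ (MvPolynomial.X (i, E)) = MvPolynomial.coeff E.exponent (g i) := by
    intro E
    simp [φ]
  rw [Synt.univPoly, map_sum]
  simp only [MvPolynomial.map_monomial, hφX]
  ext m
  rw [MvPolynomial.coeff_sum]
  simp only [MvPolynomial.coeff_monomial]
  by_cases hex : ∃ E₀ : Synt.UnivIdx n d, E₀.exponent = m
  · obtain ⟨E₀, hE₀⟩ := hex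
    rw [Finset.sum_eq_single E₀]
    · rw [if_pos hE₀, hE₀]
    · intro E _ hne
      rw [if_neg]
      intro h
      exact hne (exponent_injective (h.trans hE₀.symm))
    · intro h
      exact absurd (Finset.mem_univ _) h
  · have hall : ∀ E : Synt.UnivIdx n d, E.exponent ≠ m := fun E hE => hex ⟨E, hE⟩
    rw [Finset.sum_eq_zero (fun E _ => if_neg (hall E))]
    symm
    apply MvPolynomial.coeff_eq_zero_of_totalDegree_lt
    have hdeg : d < ∑ j, m j := by
      by_contra hle
      exact hex (exists_exponent_eq m (not_lt.mp hle))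
    have : ∑ j ∈ m.support, m j = ∑ j, m j := by
      apply Finset.sum_subset (Finset.subset_univ _)
      intro j _ hj
      simpa using hj
    rw [this]
    exact lt_of_le_of_lt (hg i) hdeg

end Groth.Agent.S8974
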