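import Groth.Statements.S8975
import Mathlib

set_option autoImplicit false
universe u
open TensorProduct
open QFDual

namespace Groth.Agent.S8975

section
variable {A B' C' : Type u} [CommRing A] [CommRing B'] [CommRing C'] [Algebra A B'] [Algebra A C']

noncomputable def resB : Disc.Omega A (B' × C') →+ Disc.Omega A B' where
  toFun φ := Disc.Omega.mk (φ.toLinearMap ∘ₗ LinearMap.inl A B' C')
  map_zero' := by apply Disc.Omega.ext; rfl
  map_add' φ ψ := by apply Disc.Omega.ext; rfl

noncomputable def resC : Disc.Omega A (B' × C') →+ Disc.Omega A C' where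
  toFun φ := Disc.Omega.mk (φ.toLinearMap ∘ₗ LinearMap.inr A B' C')
  map_zero' := by apply Disc.Omega.ext; rfl
  map_add' φ ψ := by apply Disc.Omega.ext; rfl

noncomputable def extB : Disc.Omega A B' →+ Disc.Omega A (B' × C') where
  toFun φ := Disc.Omega.mk (φ.toLinearMap ∘ₗ LinearMap.fst A B' C')
  map_zero' := by apply Disc.Omega.ext; rfl
  map_add' φ ψ := by apply Disc.Omega.ext; rfl

noncomputable def extC : Disc.Omega A C' →+ Disc.Omega A (B' × C') where
  toFun φ := Disc.Omega.mk (φ.toLinearMap ∘ₗ LinearMap.snd A B' C')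
  map_zero' := by apply Disc.Omega.ext; rfl
  map_add' φ ψ := by apply Disc.Omega.ext; rfl

theorem resB_smul (b' : B') (c' : C') (φ : Disc.Omega A (B' × C')) :
    resB ((b', c') • φ) = b' • resB φ := by
  apply Disc.Omega.ext
  apply LinearMap.ext
  intro x
  change φ.toLinearMap ((b', c') * (x, 0)) = φ.toLinearMap (b' * x, 0)
  simp

theorem resC_smul (b' : B') (c' : C') (φ : Disc.Omega A (B' × C')) :
    resC ((b', c') • φ) = c' • resC φ := by
  apply Disc.Omega.ext
  apply LinearMap.ext
  intro x
  change φ.toLinearMap ((b', c') * (0, x)) = φ.toLinearMap (0, c' * x)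
  simp

theorem extB_smul (b' : B') (c' : C') (ψ : Disc.Omega A B') :
    (b', c') • (extB ψ : Disc.Omega A (B' × C')) = extB (b' • ψ) := by
  apply Disc.Omega.ext
  apply LinearMap.ext
  intro x
  rfl

theorem extC_smul (b' : B') (c' : C') (ψ : Disc.Omega A C') :
    (b', c') • (extC ψ : Disc.Omega A (B' × C')) = extC (c' • ψ) := by
  apply Disc.Omega.ext
  apply LinearMap.ext
  intro x
  rfl

theorem resB_extB (ψ : Disc.Omega A B') : resB (extB (C' := C') ψ) = ψ := by
  apply Disc.Omega.ext
  apply LinearMap.ext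
  intro x
  rfl

theorem resC_extC (ψ : Disc.Omega A C') : resC (extC (B' := B') ψ) = ψ := by
  apply Disc.Omega.ext
  apply LinearMap.ext
  intro x
  rfl

theorem resC_extB (ψ : Disc.Omega A B') : resC (extB (C' := C') ψ) = 0 := by
  apply Disc.Omega.ext
  apply LinearMap.ext
  intro x
  change ψ.toLinearMap 0 = 0
  simp

theorem resB_extC (ψ : Disc.Omega A C') : resB (extC (B' := B') ψ) = 0 := by
  apply Disc.Omega.ext
  apply LinearMap.ext
  intro x
  change ψ.toLinearMap 0 = 0
  simp

theorem extB_resB (φ : Disc.Omega A (B' × C')) : extB (resB φ) = ((1 : B'), (0 : C')) • φ := by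
  apply Disc.Omega.ext
  apply LinearMap.ext
  intro x
  change φ.toLinearMap (x.1, 0) = φ.toLinearMap ((1, 0) * x)
  congr 1
  ext <;> simp

theorem extC_resC (φ : Disc.Omega A (B' × C')) : extC (resC φ) = ((0 : B'), (1 : C')) • φ := by
  apply Disc.Omega.ext
  apply LinearMap.ext
  intro x
  change φ.toLinearMap (0, x.2) = φ.toLinearMap ((0, 1) * x)
  congr 1
  ext <;> simp

end

/-- The relative dualizing module of a product. Suppose A, B, C are Noetherian rings and the ring maps A
→ B, A → C are quasi-finite, presented by factorizations A → B' → B and A → C' → C with A → B', A →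
C' finite and Spec B → Spec B', Spec C → Spec C' open immersions, and let B × C carry the product
algebra structure over B' × C' (so that A → B' × C' → B × C is a factorization of the same kind).
Then ω_{(B × C)/A} = (B × C) ⊗_{B' × C'} Hom_A(B' × C', A) is identified with ω_{B/A} × ω_{C/A}:
there is an A-linear isomorphism sending (b, c) ⊗ φ to (b ⊗ φ∘ι_{B'}, c ⊗ φ∘ι_{C'}), where ι_{B'},
ι_{C'} are the inclusions of the factors; this formula determines the isomorphism and makes it (B ×
C)-linear. -/
theorem result (A B' B C' C : Type u) [CommRing A] [CommRing B'] [CommRing B] [CommRing C'] [CommRing C] [IsNoetherianRing A] [IsNoetherianRing B] [IsNoetherianRing C] [Algebra A B'] [Algebra B' B] [Algebra A B] [IsScalarTower A B' B] [Algebra A C'] [Algebra C' C] [Algebra A C] [IsScalarTower A C' C] (hB : QFDual.IsQFFactor A B' B) (hC : QFDual.IsQFFactor A C' C) [Algebra (B' × C') (B × C)] [IsScalarTower A (B' × C') (B × C)] (halg : algebraMap (B' × C') (B × C) = (algebraMap B' B).prodMap (algebraMap C' C))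 : ∃ e : QFDual.omega A (B' × C') (B × C) ≃ₗ[A] QFDual.omega A B' B × QFDual.omega A C' C, ∀ (b : B) (c : C) (φ : Disc.Omega A (B' × C')), e ((b, c) ⊗ₜ[B' × C'] φ) = (b ⊗ₜ[B'] Disc.Omega.mk (φ.toLinearMap ∘ₗ LinearMap.inl A B' C'), c ⊗ₜ[C'] Disc.Omega.mk (φ.toLinearMap ∘ₗ LinearMap.inr A B' C')) := by
  have hsm : ∀ (b' : B') (c' : C') (b : B) (c : C),
      ((b', c') : B' × C') • ((b, c) : B × C) = (b' • b, c' • c) := by
    intro b' c' b c
    rw [Algebra.smul_def, halg]
    ext
    · simp [Algebra.smul_def]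
    · simp [Algebra.smul_def]
  -- forward map
  let f : (B × C) →+ Disc.Omega A (B' × C') →+
      (QFDual.omega A B' B × QFDual.omega A C' C) :=
    { toFun := fun bc =>
        { toFun := fun φ => (bc.1 ⊗ₜ[B'] resB φ, bc.2 ⊗ₜ[C'] resC φ)
          map_zero' := by simp
          map_add' := fun φ ψ => by simp [tmul_add] }
      map_zero' := by
        ext φ <;> simp
      map_add' := fun x y => by
        ext φ <;> simp [add_tmul] }
  have hf : ∀ (r : B' × C') (m : B × C) (n : Disc.Omega A (B' × C')),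
      f (r • m) n = f m (r • n) := by
    rintro ⟨b', c'⟩ ⟨b, c⟩ φ
    rw [hsm]
    change ((b' • b) ⊗ₜ[B'] resB φ, (c' • c) ⊗ₜ[C'] resC φ) =
      (b ⊗ₜ[B'] resB (((b', c') : B' × C') • φ), c ⊗ₜ[C'] resC (((b', c') : B' × C') • φ))
    rw [resB_smul, resC_smul, smul_tmul, smul_tmul]
  let F := TensorProduct.liftAddHom f hf
  have hF : ∀ (b : B) (c : C) (φ : Disc.Omega A (B' × C')),
      F ((b, c) ⊗ₜ[B' × C'] φ) = (b ⊗ₜ[B'] resB φ, c ⊗ₜ[C'] resC φ) := fun b c φ => rfl
  -- backward maps
  let gB : B →+ Disc.Omega A B' →+ QFDual.omega A (B' × C') (B × C) :=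
    { toFun := fun b =>
        { toFun := fun ψ => ((b, 0) : B × C) ⊗ₜ[B' × C'] extB ψ
          map_zero' := by simp
          map_add' := fun φ ψ => by simp [tmul_add] }
      map_zero' := by
        ext φ
        change ((0, 0) : B × C) ⊗ₜ[B' × C'] extB φ = 0
        rw [← Prod.zero_eq_mk, zero_tmul]
      map_add' := fun x y => by
        ext φ
        change ((x + y, 0) : B × C) ⊗ₜ[B' × C'] extB φ =
          ((x, 0) : B × C) ⊗ₜ[B' × C'] extB φ + ((y, 0) : B × C) ⊗ₜ[B' × C'] extB φ
        rw [← add_tmul]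
        simp }
  have hgB : ∀ (r : B') (m : B) (n : Disc.Omega A B'), gB (r • m) n = gB m (r • n) := by
    intro b' b ψ
    change ((b' • b, 0) : B × C) ⊗ₜ[B' × C'] extB ψ = ((b, 0) : B × C) ⊗ₜ[B' × C'] extB (b' • ψ)
    rw [← extB_smul b' (1 : C'), ← smul_tmul, hsm, smul_zero]
  let gC : C →+ Disc.Omega A C' →+ QFDual.omega A (B' × C') (B × C) :=
    { toFun := fun c =>
        { toFun := fun ψ => ((0, c) : B × C) ⊗ₜ[B' × C'] extC ψ
          map_zero' := by simp
          map_add' := fun φ ψ => by simp [tmul_add] }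
      map_zero' := by
        ext φ
        change ((0, 0) : B × C) ⊗ₜ[B' × C'] extC φ = 0
        rw [← Prod.zero_eq_mk, zero_tmul]
      map_add' := fun x y => by
        ext φ
        change ((0, x + y) : B × C) ⊗ₜ[B' × C'] extC φ =
          ((0, x) : B × C) ⊗ₜ[B' × C'] extC φ + ((0, y) : B × C) ⊗ₜ[B' × C'] extC φ
        rw [← add_tmul]
        simp }
  have hgC : ∀ (r : C') (m : C) (n : Disc.Omega A C'), gC (r • m) n = gC m (r • n) := by
    intro c' c ψ
    change ((0, c' • c) : B × C) ⊗ₜ[B' × C'] extC ψ = ((0, c) : B × C) ⊗ₜ[B' × C'] extC (c' • ψ)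
    rw [← extC_smul (1 : B') c', ← smul_tmul, hsm, smul_zero]
  let GB := TensorProduct.liftAddHom gB hgB
  let GC := TensorProduct.liftAddHom gC hgC
  have hGB : ∀ (b : B) (ψ : Disc.Omega A B'),
      GB (b ⊗ₜ[B'] ψ) = ((b, 0) : B × C) ⊗ₜ[B' × C'] extB ψ := fun b ψ => rfl
  have hGC : ∀ (c : C) (ψ : Disc.Omega A C'),
      GC (c ⊗ₜ[C'] ψ) = ((0, c) : B × C) ⊗ₜ[B' × C'] extC ψ := fun c ψ => rfl
  have hFGB : ∀ x : QFDual.omega A B' B, F (GB x) = (x, 0) := by
    intro x
    induction x using TensorProduct.induction_on with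
    | zero => simp; rfl
    | tmul b ψ => rw [hGB, hF, resB_extB, resC_extB, tmul_zero]
    | add x y hx hy => rw [map_add, map_add, hx, hy]; simp
  have hFGC : ∀ x : QFDual.omega A C' C, F (GC x) = (0, x) := by
    intro x
    induction x using TensorProduct.induction_on with
    | zero => simp; rfl
    | tmul c ψ => rw [hGC, hF, resC_extC, resB_extC, tmul_zero]
    | add x y hx hy => rw [map_add, map_add, hx, hy]; simp
  have hGF : ∀ z : QFDual.omega A (B' × C') (B × C), GB (F z).1 + GC (F z).2 = z := by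
    intro z
    induction z using TensorProduct.induction_on with
    | zero => simp
    | tmul bc φ =>
      obtain ⟨b, c⟩ := bc
      rw [hF]
      change GB (b ⊗ₜ[B'] resB φ) + GC (c ⊗ₜ[C'] resC φ) = _
      rw [hGB, hGC, extB_resB, extC_resC, ← smul_tmul, ← smul_tmul, hsm, hsm, ← add_tmul]
      simp
    | add x y hx hy =>
      rw [map_add, Prod.fst_add, Prod.snd_add, map_add, map_add]
      rw [← hx, ← hy] at *
      conv_rhs => rw [← hx, ← hy]
      abel
  let eAdd : QFDual.omega A (B' × C') (B × C) ≃+ (QFDual.omega A B' B × QFDual.omega A C' C) :=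
    { toFun := F
      invFun := fun p => GB p.1 + GC p.2
      left_inv := hGF
      right_inv := fun p => by
        rw [map_add, hFGB, hFGC]
        ext <;> simp
      map_add' := F.map_add }
  have hsmul : ∀ (a : A) (z : QFDual.omega A (B' × C') (B × C)), F (a • z) = a • F z := by
    intro a z
    induction z using TensorProduct.induction_on with
    | zero => simp
    | tmul bc φ =>
      obtain ⟨b, c⟩ := bc
      rw [smul_tmul', Prod.smul_mk, hF, hF, Prod.smul_mk, smul_tmul', smul_tmul']
    | add x y hx hy => rw [smul_add, map_add, hx, hy, map_add, smul_add]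
  refine ⟨{ eAdd with map_smul' := hsmul }, fun b c φ => hF b c φ⟩


end Groth.Agent.S8975
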