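import Groth.Statements.S8977
import Mathlib
import Groth.Agent.S14771
import Groth.Agent.S14769
import Groth.Agent.S7476
import Groth.Agent.S7472
import Groth.Agent.S7473
import Groth.Agent.S7477

set_option autoImplicit false
universe u
open HTop

namespace Groth.Agent.S8977


open CategoryTheory CategoryTheory.Limits AlgebraicGeometry

/-- Over a locally Noetherian base, locally of finite type implies locally of finite
presentation. -/
lemma lfp_of_lft {X Y : Scheme.{u}} [IsLocallyNoetherian Y] (f : X ⟶ Y) [LocallyOfFiniteType f] :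
    LocallyOfFinitePresentation f := by
  rw [HasRingHomProperty.iff_appLE (P := @LocallyOfFinitePresentation)]
  intro U V e
  haveI : IsNoetherianRing Γ(Y, U.1) := IsLocallyNoetherian.component_noetherian U
  have h := (HasRingHomProperty.iff_appLE (P := @LocallyOfFiniteType)).mp
    (inferInstance : LocallyOfFiniteType f) U V e
  exact RingHom.FinitePresentation.of_finiteType.mp h

/-- A finite coproduct of quasi-compact morphisms is quasi-compact. -/
lemma quasiCompact_sigmaDesc {X : Scheme.{u}} {ι : Type u} [Finite ι] (Y : ι → Scheme.{u})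
    (f : ∀ i, Y i ⟶ X) [∀ i, QuasiCompact (f i)] : QuasiCompact (Sigma.desc f) := by
  constructor
  intro U hU hUc
  have h1 : (Sigma.desc f) ⁻¹' U = ⋃ i, (Sigma.ι Y i) '' ((f i) ⁻¹' U) := by
    ext x
    simp only [Set.mem_preimage, Set.mem_iUnion, Set.mem_image]
    constructor
    · intro hx
      obtain ⟨i, y, rfl⟩ := (sigmaOpenCover Y).exists_eq x
      refine ⟨i, y, ?_, rfl⟩
      have : (Sigma.desc f) ((Sigma.ι Y i) y) = f i y := by
        rw [← Scheme.Hom.comp_apply, Sigma.ι_desc]
      rw [← this]; exact hx
    · rintro ⟨i, y, hy, rfl⟩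
      have : (Sigma.desc f) ((Sigma.ι Y i) y) = f i y := by
        rw [← Scheme.Hom.comp_apply, Sigma.ι_desc]
      rw [this]; exact hy
  rw [h1]
  exact isCompact_iUnion fun i =>
    (QuasiCompact.isCompact_preimage (f := f i) U hU hUc).image (Sigma.ι Y i).continuous

/-- A morphism of spectra of valuation rings that is surjective comes from an extension of
valuation rings. -/
lemma isExtVal_of_surjective {V W : CommRingCat.{u}} [IsDomain V] [ValuationRing V] [IsDomain W]
    [ValuationRing W] (φ : V ⟶ W) (h : Function.Surjective (Spec.map φ)) : IsExtVal V W φ := by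
  constructor
  · rw [RingHom.injective_iff_ker_eq_bot, eq_bot_iff]
    obtain ⟨w', hw'⟩ := h (⟨⊥, Ideal.isPrime_bot⟩ : PrimeSpectrum V)
    have h1 : Ideal.comap φ.hom (w' : PrimeSpectrum W).asIdeal = ⊥ :=
      congrArg PrimeSpectrum.asIdeal hw'
    rw [← h1]
    exact Ideal.comap_mono bot_le
  · rw [IsLocalRing.isLocalHom_iff_comap_closedPoint]
    obtain ⟨w, hw⟩ := h (IsLocalRing.closedPoint V)
    have h1 : (w : PrimeSpectrum W) ⤳ IsLocalRing.closedPoint W :=
      IsLocalRing.specializes_closedPoint _
    have h2 : (Spec.map φ) w ⤳ (Spec.map φ) (IsLocalRing.closedPoint W) :=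
      h1.map (Spec.map φ).continuous
    rw [hw] at h2
    have h3 := h2.mem_closed (IsLocalRing.isClosed_singleton_closedPoint V) rfl
    exact h3

open CategoryTheory CategoryTheory.Limits AlgebraicGeometry in
/-- For a Noetherian scheme X and a finite family of finite type morphisms X_i → X, the induced morphism
from the coproduct of the X_i to X is universally submersive if and only if the family is an h
covering. -/
theorem result {X : Scheme.{u}} [IsNoetherian X] (E : PreZeroHypercover.{u} X) [Finite E.I₀] [∀ i, LocallyOfFiniteType (E.f i)] [∀ i, QuasiCompact (E.f i)] : SGA1.UnivSubmersive (Sigma.desc E.f) ↔ HTop.IsHCover E := by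
  constructor
  · intro hf
    refine ⟨fun i => lfp_of_lft (E.f i), ?_⟩
    let F : (∐ E.X) ⟶ X := Sigma.desc E.f
    haveI : QuasiCompact F := quasiCompact_sigmaDesc E.X E.f
    haveI : LocallyOfFiniteType F := IsZariskiLocalAtSource.sigmaDesc (fun i => inferInstance)
    have hsub : Subtr.UnivSSubtrusive F := ((Groth.Agent.S14771.result F).out 0 1).mp hf
    rw [Groth.Agent.S14769.result] at hsub
    -- the one-member family is a V covering
    have hlift : HTop.HasValLift (PreZeroHypercover.singleton.{u} F) := by
      intro V _ _ g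
      obtain ⟨V', hV'r, hV'd, hV'v, a, b, hb, hab⟩ := hsub V g
      let W : CommRingCat.{u} := CommRingCat.of V'
      let φ : V ⟶ W := Spec.preimage b
      have hφ : Spec.map φ = b := Spec.map_preimage _
      refine ⟨W, hV'd, hV'v, φ, isExtVal_of_surjective φ (by rw [hφ]; exact hb.surj),
        PUnit.unit, a, ?_⟩
      rw [hφ]
      exact hab
    have h1 : HTop.IsVCover (PreZeroHypercover.singleton.{u} F) :=
      (Groth.Agent.S7476.result.{u, u, u, u} F).1.mpr hlift
    let G' : Scheme.Cover Scheme.fpqcPrecoverage (∐ E.X) :=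
      (sigmaOpenCover E.X).weaken Scheme.zariskiPrecoverage_le_fpqcPrecoverage
    have h2 : HTop.IsVCover G'.toPreZeroHypercover := Groth.Agent.S7473.result G'
    have h3 := Groth.Agent.S7472.result (PreZeroHypercover.singleton.{u} F) h1
      (fun _ => G'.toPreZeroHypercover) (fun _ => h2)
    let ψ : ((PreZeroHypercover.singleton.{u} F).bind (fun _ => G'.toPreZeroHypercover)).Hom E :=
      { s₀ := fun ij => ij.2
        h₀ := fun ij => 𝟙 _
        w₀ := fun ij => by
          change 𝟙 _ ≫ E.f ij.2 = Sigma.ι E.X ij.2 ≫ Sigma.desc E.f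
          rw [Category.id_comp, Sigma.ι_desc] }
    intro U
    obtain ⟨F₀, hF₀, href⟩ := h3 U
    exact ⟨F₀, hF₀, href.of_hom ψ⟩
  · intro hE
    exact Groth.Agent.S7477.result E hE.2

end Groth.Agent.S8977
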