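import Groth.Statements.S8979
import Mathlib
import Groth.Agent.S7476

set_option autoImplicit false
universe u
open HTop

namespace Groth.Agent.S8979

open CategoryTheory CategoryTheory.Limits AlgebraicGeometry in
/-- A surjective proper morphism of finite presentation, as a one-member family, is an h covering of its
target. -/
theorem result {X Y : Scheme.{u}} (f : Y ⟶ X) [IsProper f] [Surjective f] [LocallyOfFinitePresentation f] : HTop.IsHCover (PreZeroHypercover.singleton.{0} f) := by
  refine ⟨fun _ => inferInstanceAs (LocallyOfFinitePresentation f), ?_⟩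
  refine (Groth.Agent.S7476.result.{u, 0, 0, 0} f).1.2 ?_
  intro V _ _ gV
  let η : PrimeSpectrum V := ⟨⊥, Ideal.isPrime_bot⟩
  obtain ⟨z', hz'η⟩ := (pullback.fst gV f).surjective η
  have hspec : SpecializingMap (pullback.fst gV f).base :=
    (pullback.fst gV f).isClosedMap.specializingMap
  have hη : (pullback.fst gV f).base z' ⤳ IsLocalRing.closedPoint V := by
    rw [hz'η]
    exact IsLocalRing.specializes_closedPoint η
  obtain ⟨z, hz'z, hz1⟩ := hspec hη
  obtain ⟨A, hA1, hA2, hA3, g, hgc, hgg⟩ :=
    Groth.Agent.Lib.Helper12.exists_valuationRing_of_specializes hz'z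
  obtain ⟨β, hβ⟩ := Spec.map_surjective (g ≫ pullback.fst gV f)
  have hc : (Spec.map β).base (IsLocalRing.closedPoint A) = IsLocalRing.closedPoint V := by
    rw [hβ]
    change (pullback.fst gV f).base (g.base (IsLocalRing.closedPoint A)) = _
    rw [hgc, hz1]
  have hg : (Spec.map β).base (⟨⊥, Ideal.isPrime_bot⟩ : PrimeSpectrum A) = η := by
    rw [hβ]
    change (pullback.fst gV f).base (g.base _) = _
    rw [hgg, hz'η]
  have hloc : IsLocalHom β.hom := (IsLocalRing.isLocalHom_iff_comap_closedPoint β.hom).mpr hc
  have hinj : Function.Injective β.hom := by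
    rw [RingHom.injective_iff_ker_eq_bot]
    have := congr_arg PrimeSpectrum.asIdeal hg
    exact this
  refine ⟨CommRingCat.of A, hA2, hA3, β, ⟨hinj, hloc⟩, PUnit.unit, g ≫ pullback.snd gV f, ?_⟩
  change (g ≫ pullback.snd gV f) ≫ f = _
  rw [Category.assoc, ← pullback.condition, ← Category.assoc, ← hβ]

end Groth.Agent.S8979
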