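import Groth.Statements.S8982
import Groth.Agent.Lib.Helper16.AlmostBlowUp

set_option autoImplicit false
universe u
open HTop

namespace Groth.Agent.S8982

open CategoryTheory CategoryTheory.Limits AlgebraicGeometry in
/-- The base change of an almost blow up square along an arbitrary morphism Y → X is an almost blow up
square over Y. The base-changed corners are introduced through fibre-product squares; the morphism
from the new exceptional corner to the new centre is the one compatible with them. -/
theorem result {E Z X' X Y E₁ Z₁ X₁ : Scheme.{u}} {e : E ⟶ X'} {π : E ⟶ Z} {b : X' ⟶ X} {i : Z ⟶ X} (h : HTop.IsAlmostBlowUpSquare e π b i) (g : Y ⟶ X) {b₁ : X₁ ⟶ Y} {gX : X₁ ⟶ X'} (hX : IsPullback gX b₁ b g) {i₁ : Z₁ ⟶ Y} {gZ : Z₁ ⟶ Z} (hZ : IsPullback gZ i₁ i g) {e₁ : E₁ ⟶ X₁} {gE : E₁ ⟶ E} (hE : IsPullback gE e₁ e gX) {π₁ : E₁ ⟶ Z₁} (hπ : π₁ ≫ i₁ = e₁ ≫ b₁) : HTop.IsAlmostBlowUpSquare e₁ π₁ b₁ i₁ := by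
  haveI hci : IsClosedImmersion i := h.isClosedImmersion
  haveI hci₁ : IsClosedImmersion i₁ :=
    MorphismProperty.of_isPullback (P := @IsClosedImmersion) hZ h.isClosedImmersion
  have hker : i₁.ker = i.ker.comap g := by
    have e := hZ.flip.isoPullback_hom_fst
    rw [← e, Scheme.Hom.ker_comp_of_isIso,
      Scheme.IdealSheafData.ker_fst_of_isClosedImmersion]
  have hcomm : (gE ≫ π) ≫ i = (e₁ ≫ b₁) ≫ g := by
    rw [Category.assoc, ← h.isPullback.w, ← Category.assoc, hE.w, Category.assoc, hX.w,
      ← Category.assoc]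
  have h1 : π₁ ≫ gZ = gE ≫ π := by
    rw [← cancel_mono i, Category.assoc, hZ.w, ← Category.assoc, hπ, hcomm]
  refine
    { isClosedImmersion := hci₁
      finitePresentation_base :=
        MorphismProperty.of_isPullback (P := @LocallyOfFinitePresentation) hZ
          h.finitePresentation_base
      isPullback := ?_
      locPrincipal := ?_
      isProper := MorphismProperty.of_isPullback (P := @IsProper) hX h.isProper
      finitePresentation :=
        MorphismProperty.of_isPullback (P := @LocallyOfFinitePresentation) hX h.finitePresentation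
      isBlowUp := ?_ }
  · have hbig : IsPullback (gE ≫ π) e₁ i (gX ≫ b) := hE.paste_horiz h.isPullback.flip
    rw [hX.w, ← h1] at hbig
    exact (IsPullback.of_right hbig hπ hZ).flip
  · rw [hker, ← Scheme.IdealSheafData.comap_comp, ← hX.w, Scheme.IdealSheafData.comap_comp]
    exact Groth.Agent.Lib.Helper16.AlmostBlowUp.isLocPrincipal_comap _ h.locPrincipal gX
  · rw [hker]
    exact Groth.Agent.Lib.Helper16.AlmostBlowUp.isBlowUp_core i.ker b g gX b₁ hX _ rfl _ rfl
      h.locPrincipal h.isBlowUp

end Groth.Agent.S8982
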