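import Groth.Statements.S8991
import Mathlib
import Groth.Agent.Lib.Helper51.PhCover

set_option autoImplicit false
universe u
open HTop

namespace Groth.Agent.S8991

open CategoryTheory CategoryTheory.Limits AlgebraicGeometry Opposite in
/-- A ph sheaf on schemes over S takes the same sections on an S-scheme and on any thickening of it. -/
theorem result (S : Scheme.{u}) (F : HTop.ShPh S) {X X' : Over S} (f : X ⟶ X') (hf : MoreMor.IsThickening f.left) : Function.Bijective (F.obj.map f.op) := by
  haveI : IsClosedImmersion f.left := hf.1
  haveI : Surjective f.left := hf.2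
  haveI : Mono f := (Over.forget S).mono_of_mono_map (inferInstanceAs (Mono f.left))
  apply Groth.Agent.Lib.Helper51.PhCover.bijective_map_of_mono f
  rw [Presieve.isSheafFor_iff_generate]
  have hF : Presieve.IsSheaf (HTop.Jph S) F.obj := (isSheaf_iff_isSheaf_of_type _ _).1 F.property
  apply hF
  apply Groth.Agent.Lib.Helper51.PhCover.generate_singleton_mem_over
  apply Precoverage.generate_mem_toGrothendieck
  have := Groth.Agent.Lib.Helper51.PhCover.isPhCover_singleton_of_proper_surjective.{0} f.left
  have h2 := (HTop.presieve₀_mem_phPrecoverage_iff _).2 this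
  rwa [PreZeroHypercover.presieve₀_singleton] at h2

end Groth.Agent.S8991
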