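import Groth.Statements.S8992
import Mathlib.Tactic
import Mathlib.FieldTheory.Perfect
import Mathlib.Algebra.CharP.Algebra

set_option autoImplicit false
universe u
open HTop

namespace Groth.Agent.S8992

/-- An algebra over the prime field with p elements is absolutely weakly normal if and only if its p-th
power map is bijective (the algebra is perfect). -/
theorem result (p : ℕ) [Fact p.Prime] (A : Type u) [CommRing A] [Algebra (ZMod p) A] : HTop.IsAWNRing A ↔ PerfectRing A p := by
  have hp : p.Prime := Fact.out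
  have hp0 : (p : A) = 0 := by
    have h1 : (p : A) = algebraMap (ZMod p) A (p : ZMod p) := by rw [map_natCast]
    rw [h1, ZMod.natCast_self, map_zero]
  constructor
  · rintro ⟨_, h2⟩
    refine ⟨⟨?_, ?_⟩⟩
    · intro a b hab
      change a ^ p = b ^ p at hab
      have h3 := h2 p hp (a ^ p) 0 (by rw [hp0, zero_pow hp.ne_zero, zero_mul])
      obtain ⟨c, _, hc⟩ := h3
      have ha := hc a ⟨rfl, by rw [hp0, zero_mul]⟩
      have hb := hc b ⟨hab, by rw [hp0, zero_mul]⟩
      rw [ha, hb]
    · intro x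
      have h3 := h2 p hp x 0 (by rw [hp0, zero_pow hp.ne_zero, zero_mul])
      obtain ⟨c, ⟨hc, _⟩, _⟩ := h3
      exact ⟨c, hc.symm⟩
  · rintro ⟨hbij⟩
    have hinj : ∀ a b : A, a ^ p = b ^ p → a = b := fun a b h => hbij.1 h
    have hsurj : ∀ x : A, ∃ a : A, a ^ p = x := fun x => hbij.2 x
    refine ⟨?_, ?_⟩
    · intro x y hxy
      obtain ⟨α, β, hαβ⟩ : ∃ α β : ℕ, 3 * α + 2 * β = p := by
        rcases Nat.even_or_odd p with he | ho
        · have : p = 2 := (Nat.Prime.even_iff hp).mp he
          exact ⟨0, 1, by omega⟩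
        · obtain ⟨k, hk⟩ := ho
          have : 2 ≤ p := hp.two_le
          exact ⟨1, k - 1, by omega⟩
      obtain ⟨a, ha⟩ := hsurj (y ^ α * x ^ β)
      have h1 : a ^ 2 = x := by
        apply hinj
        calc (a ^ 2) ^ p = (a ^ p) ^ 2 := by ring
          _ = (y ^ 2) ^ α * x ^ (2 * β) := by rw [ha]; ring
          _ = (x ^ 3) ^ α * x ^ (2 * β) := by rw [hxy]
          _ = x ^ (3 * α + 2 * β) := by ring
          _ = x ^ p := by rw [hαβ]
      have h2 : a ^ 3 = y := by
        apply hinj
        calc (a ^ 3) ^ p = (a ^ p) ^ 3 := by ring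
          _ = y ^ (3 * α) * (x ^ 3) ^ β := by rw [ha]; ring
          _ = y ^ (3 * α) * (y ^ 2) ^ β := by rw [hxy]
          _ = y ^ (3 * α + 2 * β) := by ring
          _ = y ^ p := by rw [hαβ]
      refine ⟨a, ⟨h1.symm, h2.symm⟩, ?_⟩
      rintro b ⟨hb1, hb2⟩
      apply hinj
      calc b ^ p = b ^ (3 * α + 2 * β) := by rw [hαβ]
        _ = (b ^ 3) ^ α * (b ^ 2) ^ β := by ring
        _ = (a ^ 3) ^ α * (a ^ 2) ^ β := by rw [← hb1, ← hb2, h1, h2]
        _ = a ^ (3 * α + 2 * β) := by ring
        _ = a ^ p := by rw [hαβ]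
    · intro l hl x y hxy
      by_cases hlp : l = p
      · subst hlp
        rw [hp0, zero_pow hp.ne_zero, zero_mul] at hxy
        have hy : y = 0 := by
          apply hinj
          rw [← hxy, zero_pow hp.ne_zero]
        obtain ⟨a, ha⟩ := hsurj x
        refine ⟨a, ⟨ha.symm, by rw [hy, hp0, zero_mul]⟩, ?_⟩
        rintro b ⟨hb, _⟩
        apply hinj
        rw [← hb, ha]
      · have hunit : IsUnit (l : A) := by
          have hcop : Nat.Coprime l p := (Nat.coprime_primes hl hp).mpr hlp
          have h1 : IsUnit ((l : ZMod p)) := (ZMod.isUnit_iff_coprime l p).mpr hcop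
          have h2 := h1.map (algebraMap (ZMod p) A)
          rwa [map_natCast] at h2
        obtain ⟨u, hu⟩ := hunit
        refine ⟨↑u⁻¹ * y, ⟨?_, ?_⟩, ?_⟩
        · have h3 : (l : A) ^ l * x = (l : A) ^ l * (↑u⁻¹ * y) ^ l := by
            rw [hxy, mul_pow, ← mul_assoc, ← mul_pow, ← hu, Units.mul_inv, one_pow, one_mul]
          have hunit2 : IsUnit ((l : A) ^ l) := by
            rw [← hu]
            exact (u ^ l).isUnit
          exact hunit2.mul_left_cancel h3
        · rw [← hu, ← mul_assoc, Units.mul_inv, one_mul]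
        · rintro b ⟨_, hb⟩
          rw [hb, ← hu, ← mul_assoc, Units.inv_mul, one_mul]

end Groth.Agent.S8992
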