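import Groth.Statements.S8999
import Mathlib

set_option autoImplicit false
universe u
open FlatMor

set_option linter.unusedSectionVars false

namespace Groth.Agent.S8999Aux

open TensorProduct FlatCA

section ModOfSurj

variable {R R' : Type*} [CommRing R] [CommRing R'] (ψ : R →+* R') (hψ : Function.Surjective ψ)
  (M : Type*) [AddCommGroup M] [Module R M] (hM : ∀ r, ψ r = 0 → ∀ m : M, r • m = 0)

/-- module structure over the target of a surjection whose kernel kills the module -/
@[reducible] noncomputable def modOfSurj : Module R' M :=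
  letI : Module (R ⧸ RingHom.ker ψ) M :=
    Module.IsTorsionBySet.module (I := RingHom.ker ψ) (fun m ⟨r, hr⟩ => hM r hr m)
  Module.compHom M ((RingHom.quotientKerEquivOfSurjective hψ).symm : R' →+* R ⧸ RingHom.ker ψ)

theorem modOfSurj_smul (r : R) (m : M) :
    letI := modOfSurj ψ hψ M hM
    ψ r • m = r • m := by
  letI : Module (R ⧸ RingHom.ker ψ) M :=
    Module.IsTorsionBySet.module (I := RingHom.ker ψ) (fun m ⟨r, hr⟩ => hM r hr m)
  show ((RingHom.quotientKerEquivOfSurjective hψ).symm (ψ r)) • m = r • m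
  have : (RingHom.quotientKerEquivOfSurjective hψ).symm (ψ r) = Ideal.Quotient.mk _ r := by
    rw [RingEquiv.symm_apply_eq]
    rfl
  rw [this]
  rfl

end ModOfSurj

section AssTransfer

variable {R R' : Type*} [CommRing R] [CommRing R'] (ψ : R →+* R') (hψ : Function.Surjective ψ)
  {M M' : Type*} [AddCommGroup M] [Module R M] [AddCommGroup M'] [Module R' M']
  (e : M ≃+ M') (he : ∀ r m, e (r • m) = ψ r • e m)

include hψ he in
theorem ass_transfer (I' : Ideal R') :
    I' ∈ associatedPrimes R' M' ↔ I'.comap ψ ∈ associatedPrimes R M := by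
  have hcolon : ∀ x : M, (Submodule.colon (⊥ : Submodule R M) {x}) =
      (Submodule.colon (⊥ : Submodule R' M') {e x}).comap ψ := by
    intro x
    ext r
    simp only [Submodule.mem_colon_singleton, Submodule.mem_bot, Ideal.mem_comap]
    rw [← he, EmbeddingLike.map_eq_zero_iff]
  constructor
  · rintro ⟨hp, x', hx'⟩
    refine ⟨Ideal.comap_isPrime ψ I', e.symm x', ?_⟩
    rw [hcolon, e.apply_symm_apply, ← Ideal.comap_radical, ← hx']
  · rintro ⟨hp, x, hx⟩
    have hI' : I' = (I'.comap ψ).map ψ := (Ideal.map_comap_of_surjective ψ hψ I').symm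
    refine ⟨?_, e x, ?_⟩
    · rw [hI']
      exact Ideal.map_isPrime_of_surjective hψ (by
        intro r hr
        show ψ r ∈ I'
        rw [RingHom.mem_ker.mp hr]; exact I'.zero_mem)
    · apply Ideal.comap_injective_of_surjective ψ hψ
      rw [hx, hcolon, Ideal.comap_radical]

end AssTransfer

section Concrete

variable {B C : Type*} [CommRing B] [CommRing C] [Algebra B C]
  (hBC : Function.Surjective (algebraMap B C))
  (N : Type*) [AddCommGroup N] [Module C N] [Module B N] [IsScalarTower B C N]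
  {R R' : Type*} [CommRing R] [CommRing R'] [Algebra B R] [Algebra C R']
  (ψ : R →+* R') (hψ : Function.Surjective ψ)
  (hcomm : ∀ b, ψ (algebraMap B R b) = algebraMap C R' (algebraMap B C b))
  (hker : RingHom.ker ψ ≤ (RingHom.ker (algebraMap B C)).map (algebraMap B R))

include hker in
theorem ker_kills (r : R) (hr : ψ r = 0) (x : R ⊗[B] N) : r • x = 0 := by
  have h1 : (RingHom.ker (algebraMap B C)).map (algebraMap B R) ≤
      Module.annihilator R (R ⊗[B] N) := by
    rw [Ideal.map_le_iff_le_comap]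
    intro j hj
    rw [Ideal.mem_comap, Module.mem_annihilator]
    intro t
    induction t using TensorProduct.induction_on with
    | zero => simp
    | tmul r n =>
      rw [algebraMap_smul, ← TensorProduct.tmul_smul]
      have : j • n = 0 := by
        rw [← algebraMap_smul C j n, RingHom.mem_ker.mp hj, zero_smul]
      rw [this, tmul_zero]
    | add a b ha hb => rw [smul_add, ha, hb, add_zero]
  exact Module.mem_annihilator.mp (h1 (hker (RingHom.mem_ker.mpr hr))) x

include hBC hψ hcomm hker in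
theorem concrete_equiv :
    ∃ e : R ⊗[B] N ≃+ R' ⊗[C] N, (∀ r x, e (r • x) = ψ r • e x) ∧ ∀ n, e (1 ⊗ₜ n) = 1 ⊗ₜ n := by
  have hT := ker_kills N ψ hker
  letI : Module R' (R ⊗[B] N) := modOfSurj ψ hψ (R ⊗[B] N) hT
  have hsm : ∀ (r : R) (x : R ⊗[B] N), ψ r • x = r • x := modOfSurj_smul ψ hψ (R ⊗[B] N) hT
  letI : Module C (R ⊗[B] N) := Module.compHom (R ⊗[B] N) (algebraMap C R')
  haveI : IsScalarTower C R' (R ⊗[B] N) := ⟨fun c r' x => by
    show (c • r') • x = algebraMap C R' c • (r' • x)
    rw [Algebra.smul_def, mul_smul]⟩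
  have hcsm : ∀ (b : B) (x : R ⊗[B] N), algebraMap B C b • x = b • x := by
    intro b x
    show algebraMap C R' (algebraMap B C b) • x = b • x
    rw [← hcomm, hsm, algebraMap_smul]
  let g : N →ₗ[C] R ⊗[B] N :=
    { toFun := fun n => 1 ⊗ₜ n
      map_add' := fun a b => tmul_add _ _ _
      map_smul' := fun c n => by
        obtain ⟨b, rfl⟩ := hBC c
        simp only [RingHom.id_apply]
        rw [hcsm, algebraMap_smul, TensorProduct.tmul_smul] }
  let bwd : R' ⊗[C] N →ₗ[R'] R ⊗[B] N := LinearMap.liftBaseChange R' g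
  have hbwd : ∀ (y : R') (n : N), bwd (y ⊗ₜ n) = y • ((1 : R) ⊗ₜ[B] n) := fun y n =>
    LinearMap.liftBaseChange_tmul _ _ _ _
  let f : R →+ N →+ R' ⊗[C] N :=
    AddMonoidHom.mk' (fun r => AddMonoidHom.mk' (fun n => ψ r ⊗ₜ[C] n) (fun a b => tmul_add _ _ _))
      (fun a b => by ext n; simp [add_tmul])
  let fwd : R ⊗[B] N →+ R' ⊗[C] N := TensorProduct.liftAddHom f (fun b r n => by
    show ψ (b • r) ⊗ₜ[C] n = ψ r ⊗ₜ[C] (b • n)
    rw [Algebra.smul_def, map_mul, hcomm, ← Algebra.smul_def, TensorProduct.smul_tmul,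
      algebraMap_smul])
  have hfwd : ∀ (r : R) (n : N), fwd (r ⊗ₜ n) = ψ r ⊗ₜ[C] n := fun r n => rfl
  have hlin : ∀ (r : R) (x : R ⊗[B] N), fwd (r • x) = ψ r • fwd x := by
    intro r x
    induction x using TensorProduct.induction_on with
    | zero => simp
    | tmul r0 n =>
      rw [TensorProduct.smul_tmul', hfwd, hfwd, smul_eq_mul, map_mul, TensorProduct.smul_tmul',
        smul_eq_mul]
    | add a b ha hb => rw [smul_add, map_add, ha, hb, map_add, smul_add]
  refine ⟨{ toFun := fwd, invFun := bwd, left_inv := ?_, right_inv := ?_,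
            map_add' := fwd.map_add }, hlin, fun n => ?_⟩
  · intro x
    induction x using TensorProduct.induction_on with
    | zero => simp
    | tmul r n =>
      show bwd (fwd (r ⊗ₜ n)) = _
      rw [hfwd, hbwd, hsm, TensorProduct.smul_tmul', smul_eq_mul, mul_one]
    | add a b ha hb =>
      show bwd (fwd (a + b)) = a + b
      rw [map_add, map_add]
      exact congrArg₂ (· + ·) ha hb
  · intro y
    induction y using TensorProduct.induction_on with
    | zero => simp
    | tmul y n =>
      obtain ⟨r, rfl⟩ := hψ y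
      show fwd (bwd (ψ r ⊗ₜ n)) = _
      rw [hbwd, hsm, TensorProduct.smul_tmul', smul_eq_mul, mul_one, hfwd]
    | add a b ha hb =>
      show fwd (bwd (a + b)) = a + b
      rw [map_add, map_add]
      exact congrArg₂ (· + ·) ha hb
  · show fwd (1 ⊗ₜ n) = _
    rw [hfwd, map_one]

end Concrete


attribute [local instance] Algebra.TensorProduct.rightAlgebra



section L1

variable {A' B' : Type u} [CommRing A'] [CommRing B'] [Algebra A' B'] (t' : Ideal A') [t'.IsPrime]
  (P : Ideal B') [P.IsPrime] [hP : P.LiesOver t']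

theorem comap_fiberIdeal : (fiberIdeal t' P).comap
    (Algebra.TensorProduct.includeRight (R := A') (A := t'.ResidueField) (B := B')).toRingHom = P := by
  apply le_antisymm
  · have hmem : (⟨P, inferInstance⟩ : PrimeSpectrum B') ∈
        PrimeSpectrum.comap (algebraMap A' B') ⁻¹' {(⟨t', inferInstance⟩ : PrimeSpectrum A')} := by
      simp only [Set.mem_preimage, Set.mem_singleton_iff]
      apply PrimeSpectrum.ext
      exact hP.over.symm
    set q := PrimeSpectrum.preimageEquivFiber A' B' ⟨t', inferInstance⟩ ⟨⟨P, inferInstance⟩, hmem⟩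
      with hq
    have h1 : q.asIdeal.comap
        (Algebra.TensorProduct.includeRight (R := A') (A := t'.ResidueField) (B := B')).toRingHom
          = P := by
      have := (PrimeSpectrum.preimageEquivFiber A' B' ⟨t', inferInstance⟩).left_inv
        ⟨⟨P, inferInstance⟩, hmem⟩
      have h2 := congrArg (fun z => z.1.asIdeal) this
      exact h2
    have h3 : fiberIdeal t' P ≤ q.asIdeal := by
      unfold fiberIdeal
      rw [Ideal.map_le_iff_le_comap, h1]
    calc (fiberIdeal t' P).comap _ ≤ q.asIdeal.comap _ := Ideal.comap_mono h3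
      _ = P := h1
  · exact Ideal.le_comap_map

end L1




section Z

variable {A' : Type u} [CommRing A'] (t' : Ideal A') [t'.IsPrime]
  {B C : Type u} [CommRing B] [CommRing C] [Algebra B C]
  (hBC : Function.Surjective (algebraMap B C))
  (N : Type u) [AddCommGroup N] [Module C N] [Module B N] [IsScalarTower B C N]
  (B' C' : Type u) [CommRing B'] [CommRing C'] [Algebra A' B'] [Algebra A' C'] [Algebra B' C']
  [IsScalarTower A' B' C']
  [Algebra B B'] [Algebra C C'] [Algebra B C'] [IsScalarTower B C C'] [IsScalarTower B B' C']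
  (hρ : Function.Surjective (algebraMap B' C'))
  (hker : RingHom.ker (algebraMap B' C') ≤ (RingHom.ker (algebraMap B C)).map (algebraMap B B'))
  (NB : Type u) [AddCommGroup NB] [Module B' NB] [Module B NB] [IsScalarTower B B' NB]
  [Module A' NB] [IsScalarTower A' B' NB]
  (fB : N →ₗ[B] NB) (hfB : IsBaseChange B' fB)
  (NC : Type u) [AddCommGroup NC] [Module C' NC] [Module C NC] [IsScalarTower C C' NC]
  [Module A' NC] [IsScalarTower A' C' NC]
  (fC : N →ₗ[C] NC) (hfC : IsBaseChange C' fC)
  (Q : Ideal C') [Q.IsPrime]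

/-- the map on fibre rings -/
noncomputable abbrev ψmap : t'.Fiber B' →ₐ[A'] t'.Fiber C' :=
  Algebra.TensorProduct.map (AlgHom.id A' t'.ResidueField) (IsScalarTower.toAlgHom A' B' C')

include hρ in
theorem ψmap_surj : Function.Surjective (ψmap t' B' C') :=
  Algebra.TensorProduct.map_surjective (AlgHom.id A' t'.ResidueField)
    (IsScalarTower.toAlgHom A' B' C') Function.surjective_id hρ

include hρ in
theorem ψmap_ker : RingHom.ker (ψmap t' B' C') = (RingHom.ker (algebraMap B' C')).map
    (Algebra.TensorProduct.includeRight (R := A') (A := t'.ResidueField) (B := B')).toRingHom := by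
  have := Algebra.TensorProduct.lTensor_ker (A := t'.ResidueField)
    (IsScalarTower.toAlgHom A' B' C') hρ
  exact this

include hρ in
theorem fiberIdeal_comap :
    (fiberIdeal t' Q).comap (ψmap t' B' C').toRingHom = fiberIdeal t' (Q.comap (algebraMap B' C')) := by
  set P := Q.comap (algebraMap B' C') with hP
  have hQ : Q = P.map (algebraMap B' C') := (Ideal.map_comap_of_surjective _ hρ Q).symm
  have h1 : fiberIdeal t' Q = (fiberIdeal t' P).map (ψmap t' B' C').toRingHom := by
    unfold fiberIdeal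
    rw [Ideal.map_map]
    conv_lhs => rw [hQ]
    rw [Ideal.map_map]
    congr 1
  rw [h1, Ideal.comap_map_of_surjective (ψmap t' B' C').toRingHom (ψmap_surj t' B' C' hρ)]
  apply le_antisymm
  · apply sup_le le_rfl
    rw [← RingHom.ker_eq_comap_bot]
    have := ψmap_ker t' B' C' hρ
    have h2 : RingHom.ker (ψmap t' B' C').toRingHom = RingHom.ker (ψmap t' B' C') := rfl
    rw [h2, this]
    unfold fiberIdeal
    apply Ideal.map_mono
    intro x hx
    rw [hP, Ideal.mem_comap, RingHom.mem_ker.mp hx]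
    exact Q.zero_mem
  · exact le_sup_left

include hBC hρ hker hfB hfC in
theorem ass_iff :
    fiberIdeal t' (Q.comap (algebraMap B' C')) ∈
      associatedPrimes (t'.Fiber B') (fiberMod t' B' NB) ↔
    fiberIdeal t' Q ∈ associatedPrimes (t'.Fiber C') (fiberMod t' C' NC) := by
  letI algBF : Algebra B (t'.Fiber B') :=
    ((algebraMap B' (t'.Fiber B')).comp (algebraMap B B')).toAlgebra
  haveI : IsScalarTower B B' (t'.Fiber B') := IsScalarTower.of_algebraMap_eq (fun x => rfl)
  letI algCF : Algebra C (t'.Fiber C') :=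
    ((algebraMap C' (t'.Fiber C')).comp (algebraMap C C')).toAlgebra
  haveI : IsScalarTower C C' (t'.Fiber C') := IsScalarTower.of_algebraMap_eq (fun x => rfl)
  have hcomm : ∀ b, (ψmap t' B' C').toRingHom (algebraMap B (t'.Fiber B') b) =
      algebraMap C (t'.Fiber C') (algebraMap B C b) := by
    intro b
    show (ψmap t' B' C') ((1 : t'.ResidueField) ⊗ₜ[A'] (algebraMap B B' b)) =
      (1 : t'.ResidueField) ⊗ₜ[A'] (algebraMap C C' (algebraMap B C b))
    rw [Algebra.TensorProduct.map_tmul, map_one, IsScalarTower.coe_toAlgHom',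
      ← IsScalarTower.algebraMap_apply B B' C', ← IsScalarTower.algebraMap_apply B C C']
  have hker' : RingHom.ker (ψmap t' B' C').toRingHom ≤
      (RingHom.ker (algebraMap B C)).map (algebraMap B (t'.Fiber B')) := by
    have h2 : RingHom.ker (ψmap t' B' C').toRingHom = RingHom.ker (ψmap t' B' C') := rfl
    rw [h2, ψmap_ker t' B' C' hρ]
    have h3 : algebraMap B (t'.Fiber B') =
      (Algebra.TensorProduct.includeRight (R := A') (A := t'.ResidueField) (B := B')).toRingHom.comp
        (algebraMap B B') := rfl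
    rw [h3, ← Ideal.map_map]
    exact Ideal.map_mono hker
  obtain ⟨e0, he0, -⟩ := concrete_equiv hBC N (ψmap t' B' C').toRingHom (ψmap_surj t' B' C' hρ)
    hcomm hker'
  -- the two identifications
  let eB : (t'.Fiber B') ⊗[B'] NB ≃ₗ[t'.Fiber B'] (t'.Fiber B') ⊗[B] N :=
    (TensorProduct.AlgebraTensorModule.congr (LinearEquiv.refl (t'.Fiber B') (t'.Fiber B'))
      hfB.equiv.symm) ≪≫ₗ
      TensorProduct.AlgebraTensorModule.cancelBaseChange B B' (t'.Fiber B') (t'.Fiber B') N
  let eC : (t'.Fiber C') ⊗[C'] NC ≃ₗ[t'.Fiber C'] (t'.Fiber C') ⊗[C] N :=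
    (TensorProduct.AlgebraTensorModule.congr (LinearEquiv.refl (t'.Fiber C') (t'.Fiber C'))
      hfC.equiv.symm) ≪≫ₗ
      TensorProduct.AlgebraTensorModule.cancelBaseChange C C' (t'.Fiber C') (t'.Fiber C') N
  let e : fiberMod t' B' NB ≃+ fiberMod t' C' NC :=
    eB.toAddEquiv.trans (e0.trans eC.symm.toAddEquiv)
  have he : ∀ (r : t'.Fiber B') (m : fiberMod t' B' NB),
      e (r • m) = (ψmap t' B' C').toRingHom r • e m := by
    intro r m
    show eC.symm (e0 (eB (r • m))) = (ψmap t' B' C').toRingHom r • eC.symm (e0 (eB m))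
    rw [← map_smul eC.symm, ← he0]
    congr 2
    exact map_smul eB r m
  rw [ass_transfer (ψmap t' B' C').toRingHom (ψmap_surj t' B' C' hρ) e he (fiberIdeal t' Q),
    fiberIdeal_comap t' B' C' hρ Q]

end Z


section W

variable {A : Type u} [CommRing A] (p : Ideal A) [p.IsPrime]
  {A' : Type u} [CommRing A'] [Algebra A A'] (t' t : Ideal A') [t'.IsPrime] [t.IsPrime]
  {B C : Type u} [CommRing B] [CommRing C] [Algebra A B] [Algebra A C] [Algebra B C]
  [IsScalarTower A B C]
  (hBC : Function.Surjective (algebraMap B C))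
  (N : Type u) [AddCommGroup N] [Module C N] [Module B N] [IsScalarTower B C N]
  (B' C' : Type u) [CommRing B'] [CommRing C'] [Algebra A' B'] [Algebra A' C'] [Algebra B' C']
  [IsScalarTower A' B' C']
  [Algebra B B'] [Algebra C C'] [Algebra B C'] [IsScalarTower B C C'] [IsScalarTower B B' C']
  [Algebra A B'] [Algebra A C'] [IsScalarTower A B B'] [IsScalarTower A A' B']
  [IsScalarTower A C C'] [IsScalarTower A A' C']
  (hρ : Function.Surjective (algebraMap B' C'))
  (hker : RingHom.ker (algebraMap B' C') ≤ (RingHom.ker (algebraMap B C)).map (algebraMap B B'))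
  (NB : Type u) [AddCommGroup NB] [Module B' NB] [Module B NB] [IsScalarTower B B' NB]
  [Module A' NB] [IsScalarTower A' B' NB]
  (fB : N →ₗ[B] NB) (hfB : IsBaseChange B' fB)
  (NC : Type u) [AddCommGroup NC] [Module C' NC] [Module C NC] [IsScalarTower C C' NC]
  [Module A' NC] [IsScalarTower A' C' NC]
  (fC : N →ₗ[C] NC) (hfC : IsBaseChange C' fC)
  (Q : Ideal C') [Q.IsPrime] (P : Ideal B') [P.IsPrime] (hPQ : Q.comap (algebraMap B' C') = P)

omit [Q.IsPrime] [P.IsPrime] in
include hPQ in
theorem liesOver_iff (s : Ideal A') : P.LiesOver s ↔ Q.LiesOver s := by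
  have h : P.under A' = Q.under A' := by
    rw [← hPQ]
    show (Q.comap (algebraMap B' C')).comap (algebraMap A' B') = Q.comap (algebraMap A' C')
    rw [Ideal.comap_comap, ← IsScalarTower.algebraMap_eq]
  constructor
  · intro h1; exact ⟨h1.over.trans h⟩
  · intro h1; exact ⟨h1.over.trans h.symm⟩

include hBC hρ hker hfB hfC hPQ in
theorem impurity_iff (hPB : Algebra.IsPushout A B A' B') (hPC : Algebra.IsPushout A C A' C') :
    IsImpurity A B N p A' B' NB fB t' t P ↔ IsImpurity A C N p A' C' NC fC t' t Q := by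
  have hass := ass_iff t' hBC N B' C' hρ hker NB fB hfB NC fC hfC Q
  have hass' : fiberIdeal t' P ∈ associatedPrimes (t'.Fiber B') (fiberMod t' B' NB) ↔
      fiberIdeal t' Q ∈ associatedPrimes (t'.Fiber C') (fiberMod t' C' NC) := by
    rw [← hass]
    subst hPQ
    rfl
  have hcl : (∀ (P' : Ideal B') [P'.IsPrime], P ≤ P' → ¬ P'.LiesOver t) ↔
      (∀ (Q' : Ideal C') [Q'.IsPrime], Q ≤ Q' → ¬ Q'.LiesOver t) := by
    constructor
    · intro h Q' _ hQQ' hQ't
      refine h (Q'.comap (algebraMap B' C')) ?_ ?_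
      · rw [← hPQ]; exact Ideal.comap_mono hQQ'
      · exact (liesOver_iff B' C' Q' _ rfl t).mpr hQ't
    · intro h P' _ hPP' hP't
      have hkP' : RingHom.ker (algebraMap B' C') ≤ P' := by
        refine le_trans ?_ hPP'
        rw [← hPQ]
        intro x hx
        rw [Ideal.mem_comap, RingHom.mem_ker.mp hx]
        exact Q.zero_mem
      haveI : (P'.map (algebraMap B' C')).IsPrime := Ideal.map_isPrime_of_surjective hρ hkP'
      have hcm : (P'.map (algebraMap B' C')).comap (algebraMap B' C') = P' := by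
        rw [Ideal.comap_map_of_surjective _ hρ, ← RingHom.ker_eq_comap_bot]
        exact sup_eq_left.mpr hkP'
      refine h (P'.map (algebraMap B' C')) ?_ ?_
      · rw [← Ideal.map_comap_of_surjective _ hρ Q, hPQ]
        exact Ideal.map_mono hPP'
      · exact (liesOver_iff B' C' _ P' hcm t).mp hP't
  unfold IsImpurity
  constructor
  · rintro ⟨-, -, h3, h4, h5, h6, h7⟩
    exact ⟨hPC, hfC, h3, h4, (liesOver_iff B' C' Q P hPQ t').mp h5, hass'.mp h6, hcl.mp h7⟩
  · rintro ⟨-, -, h3, h4, h5, h6, h7⟩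
    exact ⟨hPB, hfB, h3, h4, (liesOver_iff B' C' Q P hPQ t').mpr h5, hass'.mpr h6, hcl.mpr h7⟩

end W

section Dir1

variable {A B C : Type u} [CommRing A] [CommRing B] [CommRing C] [Algebra A B] [Algebra B C]
  [Algebra A C] [IsScalarTower A B C]
  (hBC : Function.Surjective (algebraMap B C))
  (N : Type u) [AddCommGroup N] [Module C N] [Module B N] [IsScalarTower B C N]
  (p : Ideal A) [p.IsPrime]
  (A' B' NB : Type u) [CommRing A'] [CommRing B'] [Algebra A A'] [Algebra B B'] [Algebra A' B']
  [Algebra A B'] [IsScalarTower A B B'] [IsScalarTower A A' B'] [AddCommGroup NB] [Module B' NB]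
  [Module B NB] [IsScalarTower B B' NB] [Module A' NB] [IsScalarTower A' B' NB]
  (fB : N →ₗ[B] NB) (t' t : Ideal A') [t'.IsPrime] [t.IsPrime] (P : Ideal B') [P.IsPrime]

include hBC in
theorem ker_includeLeft_le : RingHom.ker (algebraMap B' (B' ⊗[B] C)) ≤
    (RingHom.ker (algebraMap B C)).map (algebraMap B B') := by
  set K := (RingHom.ker (algebraMap B C)).map (algebraMap B B') with hK
  let g1 : B' →ₐ[B] B' ⧸ K := Ideal.Quotient.mkₐ B K
  let g0 : B →ₐ[B] B' ⧸ K := g1.comp (Algebra.ofId B B')
  have H : RingHom.ker (Algebra.ofId B C).toRingHom ≤ RingHom.ker g0.toRingHom := by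
    intro j hj
    have hj' : j ∈ RingHom.ker (algebraMap B C) := hj
    rw [RingHom.mem_ker]
    show Ideal.Quotient.mk K (algebraMap B B' j) = 0
    rw [Ideal.Quotient.eq_zero_iff_mem]
    exact Ideal.mem_map_of_mem _ hj'
  let g2 : C →ₐ[B] B' ⧸ K := AlgHom.liftOfSurjective (Algebra.ofId B C) hBC g0 H
  let π : B' ⊗[B] C →ₐ[B] B' ⧸ K := Algebra.TensorProduct.productMap g1 g2
  intro x hx
  have h1 : π (x ⊗ₜ 1) = Ideal.Quotient.mk K x := by
    rw [Algebra.TensorProduct.productMap_apply_tmul, map_one, mul_one]; rfl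
  have h2 : (x ⊗ₜ[B] (1 : C)) = 0 := by
    have h3 := RingHom.mem_ker.mp hx
    rw [Algebra.TensorProduct.algebraMap_apply] at h3
    exact h3
  rw [h2, map_zero] at h1
  exact Ideal.Quotient.eq_zero_iff_mem.mp h1.symm

theorem K_kills (hfB : IsBaseChange B' fB) (x : B')
    (hx : x ∈ (RingHom.ker (algebraMap B C)).map (algebraMap B B')) (n : NB) : x • n = 0 := by
  have h1 : (RingHom.ker (algebraMap B C)).map (algebraMap B B') ≤ Module.annihilator B' NB := by
    rw [Ideal.map_le_iff_le_comap]
    intro j hj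
    rw [Ideal.mem_comap, Module.mem_annihilator]
    intro n
    rw [algebraMap_smul]
    refine hfB.inductionOn n _ ?_ ?_ ?_ ?_
    · exact smul_zero _
    · intro m
      have : j • m = 0 := by
        rw [← algebraMap_smul C j m, RingHom.mem_ker.mp hj, zero_smul]
      rw [← map_smul, this, map_zero]
    · intro b' n h
      rw [smul_comm, h, smul_zero]
    · intro n1 n2 h1 h2
      rw [smul_add, h1, h2, add_zero]
  exact Module.mem_annihilator.mp (h1 hx) n

theorem K_le_P (hfB : IsBaseChange B' fB) [P.LiesOver t']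
    (h6 : fiberIdeal t' P ∈ associatedPrimes (t'.Fiber B') (fiberMod t' B' NB)) :
    (RingHom.ker (algebraMap B C)).map (algebraMap B B') ≤ P := by
  intro x hx
  rw [← comap_fiberIdeal t' P, Ideal.mem_comap]
  obtain ⟨hp, m, hm⟩ := h6
  rw [hm]
  apply Ideal.le_radical
  rw [Submodule.mem_colon_singleton, Submodule.mem_bot]
  have key : ∀ m : (t'.Fiber B') ⊗[B'] NB,
      ((Algebra.TensorProduct.includeRight (R := A') (A := t'.ResidueField) (B := B')).toRingHom x)
        • m = 0 := by
    intro m
    induction m using TensorProduct.induction_on with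
    | zero => simp
    | tmul y n =>
      rw [TensorProduct.smul_tmul', smul_eq_mul]
      have : (Algebra.TensorProduct.includeRight (R := A') (A := t'.ResidueField)
          (B := B')).toRingHom x * y = x • y := by
        rw [Algebra.smul_def]; rfl
      rw [this, TensorProduct.smul_tmul, K_kills N B' NB fB hfB x hx n, tmul_zero]
    | add a b ha hb => rw [smul_add, ha, hb, add_zero]
  exact key m

end Dir1

section Dir1Main

variable {A B C : Type u} [CommRing A] [CommRing B] [CommRing C] [Algebra A B] [Algebra B C]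
  [Algebra A C] [IsScalarTower A B C]
  (hBC : Function.Surjective (algebraMap B C))
  (N : Type u) [AddCommGroup N] [Module C N] [Module B N] [IsScalarTower B C N]
  (p : Ideal A) [p.IsPrime]
  (A' B' NB : Type u) [CommRing A'] [CommRing B'] [Algebra A A'] [Algebra B B'] [Algebra A' B']
  [Algebra A B'] [IsScalarTower A B B'] [IsScalarTower A A' B'] [AddCommGroup NB] [Module B' NB]
  [Module B NB] [IsScalarTower B B' NB] [Module A' NB] [IsScalarTower A' B' NB]
  (fB : N →ₗ[B] NB) (t' t : Ideal A') [t'.IsPrime] [t.IsPrime] (P : Ideal B') [P.IsPrime]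

include hBC in
theorem dir1 (hImp : IsImpurity A B N p A' B' NB fB t' t P)
    (hC : ∀ (C' NC : Type u) [CommRing C'] [Algebra C C'] [Algebra A' C'] [Algebra A C']
      [IsScalarTower A C C'] [IsScalarTower A A' C'] [AddCommGroup NC] [Module C' NC]
      [Module C NC] [IsScalarTower C C' NC] [Module A' NC] [IsScalarTower A' C' NC]
      (fC : N →ₗ[C] NC) (Q : Ideal C') [Q.IsPrime], ¬ IsImpurity A C N p A' C' NC fC t' t Q) :
    False := by
  obtain ⟨hPB, hfB, h3, h4, h5, h6, h7⟩ := id hImp
  haveI := hPB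
  haveI := h5
  haveI : SMulCommClass B A' B' := ⟨fun b a x => by
    simp only [Algebra.smul_def]; ring⟩
  haveI : SMulCommClass C A' (B' ⊗[B] C) := ⟨fun c a x => by
    simp only [Algebra.smul_def]; ring⟩
  haveI : IsScalarTower A C (B' ⊗[B] C) := IsScalarTower.of_algebraMap_eq (fun a => by
    show algebraMap A (B' ⊗[B] C) a = (1 : B') ⊗ₜ[B] (algebraMap A C a)
    rw [Algebra.TensorProduct.algebraMap_apply, IsScalarTower.algebraMap_apply A B B',
      IsScalarTower.algebraMap_apply A B C, Algebra.algebraMap_eq_smul_one (algebraMap A B a),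
      Algebra.algebraMap_eq_smul_one (A := C) (algebraMap A B a), TensorProduct.smul_tmul])
  have hρ : Function.Surjective (algebraMap B' (B' ⊗[B] C)) := by
    intro y
    obtain ⟨b', hb'⟩ := Algebra.TensorProduct.includeLeft_surjective (R := B) (T := C) B' B' hBC y
    exact ⟨b', hb'⟩
  have hker := ker_includeLeft_le hBC B'
  have hKP := K_le_P (C := C) (N := N) (fB := fB) (t' := t') (P := P) (hfB := hfB) (h6 := h6)
  have hkP : RingHom.ker (algebraMap B' (B' ⊗[B] C)) ≤ P := hker.trans hKP
  haveI : (P.map (algebraMap B' (B' ⊗[B] C))).IsPrime := Ideal.map_isPrime_of_surjective hρ hkP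
  have hcm : (P.map (algebraMap B' (B' ⊗[B] C))).comap (algebraMap B' (B' ⊗[B] C)) = P := by
    rw [Ideal.comap_map_of_surjective _ hρ, ← RingHom.ker_eq_comap_bot]
    exact sup_eq_left.mpr hkP
  have hPC : Algebra.IsPushout A C A' (B' ⊗[B] C) :=
    (Algebra.IsPushout.comp_iff A B A' (S' := B') (T := C) (T' := B' ⊗[B] C)).2 inferInstance
  have hfC : IsBaseChange (B' ⊗[B] C) (TensorProduct.mk C (B' ⊗[B] C) N 1) :=
    TensorProduct.isBaseChange C N (B' ⊗[B] C)
  have := (impurity_iff p t' t hBC N B' (B' ⊗[B] C) hρ hker NB fB hfB ((B' ⊗[B] C) ⊗[C] N)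
    (TensorProduct.mk C (B' ⊗[B] C) N 1) hfC (P.map (algebraMap B' (B' ⊗[B] C))) P hcm hPB hPC).mp hImp
  exact hC (B' ⊗[B] C) ((B' ⊗[B] C) ⊗[C] N) (TensorProduct.mk C (B' ⊗[B] C) N 1)
    (P.map (algebraMap B' (B' ⊗[B] C))) this

end Dir1Main

section Dir2Main

variable {A B C : Type u} [CommRing A] [CommRing B] [CommRing C] [Algebra A B] [Algebra B C]
  [Algebra A C] [IsScalarTower A B C]
  (hBC : Function.Surjective (algebraMap B C))
  (N : Type u) [AddCommGroup N] [Module C N] [Module B N] [IsScalarTower B C N]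
  (p : Ideal A) [p.IsPrime]
  (A' C' NC : Type u) [CommRing A'] [CommRing C'] [Algebra A A'] [Algebra C C'] [Algebra A' C']
  [Algebra A C'] [IsScalarTower A C C'] [IsScalarTower A A' C'] [AddCommGroup NC] [Module C' NC]
  [Module C NC] [IsScalarTower C C' NC] [Module A' NC] [IsScalarTower A' C' NC]
  (fC : N →ₗ[C] NC) (t' t : Ideal A') [t'.IsPrime] [t.IsPrime] (Q : Ideal C') [Q.IsPrime]

include hBC in
theorem dir2 (hImp : IsImpurity A C N p A' C' NC fC t' t Q)
    (hB : ∀ (B' NB : Type u) [CommRing B'] [Algebra B B'] [Algebra A' B'] [Algebra A B']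
      [IsScalarTower A B B'] [IsScalarTower A A' B'] [AddCommGroup NB] [Module B' NB]
      [Module B NB] [IsScalarTower B B' NB] [Module A' NB] [IsScalarTower A' B' NB]
      (fB : N →ₗ[B] NB) (P : Ideal B') [P.IsPrime], ¬ IsImpurity A B N p A' B' NB fB t' t P) :
    False := by
  obtain ⟨hPC, hfC, h3, h4, h5, h6, h7⟩ := id hImp
  haveI := hPC
  letI : Algebra B C' := ((algebraMap C C').comp (algebraMap B C)).toAlgebra
  haveI : IsScalarTower B C C' := IsScalarTower.of_algebraMap_eq (fun x => rfl)
  haveI : IsScalarTower A B C' := IsScalarTower.of_algebraMap_eq (fun a => by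
    show algebraMap A C' a = algebraMap C C' (algebraMap B C (algebraMap A B a))
    rw [← IsScalarTower.algebraMap_apply A B C, ← IsScalarTower.algebraMap_apply A C C'])
  let ρ : B ⊗[A] A' →ₐ[A] C' := Algebra.TensorProduct.productMap
    (IsScalarTower.toAlgHom A B C') (IsScalarTower.toAlgHom A A' C')
  have hρt : ∀ (b : B) (a' : A'), ρ (b ⊗ₜ a') = algebraMap B C' b * algebraMap A' C' a' :=
    fun b a' => by
      rw [Algebra.TensorProduct.productMap_apply_tmul]; rfl
  letI : Algebra (B ⊗[A] A') C' := ρ.toRingHom.toAlgebra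
  haveI : IsScalarTower A' (B ⊗[A] A') C' := IsScalarTower.of_algebraMap_eq (fun a' => by
    show algebraMap A' C' a' = ρ ((1 : B) ⊗ₜ a')
    rw [hρt, map_one, one_mul])
  haveI : IsScalarTower B (B ⊗[A] A') C' := IsScalarTower.of_algebraMap_eq (fun b => by
    show algebraMap B C' b = ρ (algebraMap B (B ⊗[A] A') b)
    rw [Algebra.TensorProduct.algebraMap_apply, hρt, map_one, mul_one]; rfl)
  -- comparison with the pushout
  let e := Algebra.IsPushout.equiv A C A' C'
  let m : B ⊗[A] A' →ₐ[A] C ⊗[A] A' :=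
    Algebra.TensorProduct.map (IsScalarTower.toAlgHom A B C) (AlgHom.id A A')
  have hρm : ∀ x, ρ x = e (m x) := by
    intro x
    induction x using TensorProduct.induction_on with
    | zero => simp
    | tmul b a' =>
      rw [hρt, Algebra.TensorProduct.map_tmul, Algebra.IsPushout.equiv_tmul]; rfl
    | add a b ha hb => rw [map_add, map_add, map_add, ha, hb]
  have hmsurj : Function.Surjective m :=
    Algebra.TensorProduct.map_surjective (IsScalarTower.toAlgHom A B C) (AlgHom.id A A') hBC
      Function.surjective_id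
  have hρ : Function.Surjective (algebraMap (B ⊗[A] A') C') := by
    intro y
    obtain ⟨x, hx⟩ := hmsurj (e.symm y)
    refine ⟨x, ?_⟩
    show ρ x = y
    rw [hρm, hx, AlgEquiv.apply_symm_apply]
  have hker : RingHom.ker (algebraMap (B ⊗[A] A') C') ≤
      (RingHom.ker (algebraMap B C)).map (algebraMap B (B ⊗[A] A')) := by
    intro x hx
    have h1 : ρ x = 0 := hx
    rw [hρm, EmbeddingLike.map_eq_zero_iff] at h1
    have h2 : x ∈ RingHom.ker m := h1
    rw [Algebra.TensorProduct.rTensor_ker (IsScalarTower.toAlgHom A B C) (C := A') hBC] at h2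
    have h3 : (RingHom.ker (IsScalarTower.toAlgHom A B C)).map
        (Algebra.TensorProduct.includeLeft : B →ₐ[A] B ⊗[A] A') ≤
        (RingHom.ker (algebraMap B C)).map (algebraMap B (B ⊗[A] A')) := by
      rw [Ideal.map_le_iff_le_comap]
      intro j hj
      have hj' : j ∈ RingHom.ker (algebraMap B C) := hj
      have := Ideal.mem_map_of_mem (algebraMap B (B ⊗[A] A')) hj'
      rw [Algebra.TensorProduct.algebraMap_apply] at this
      exact this
    exact h3 h2
  haveI : SMulCommClass B A' (B ⊗[A] A') := ⟨fun b a x => by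
    simp only [Algebra.smul_def]; ring⟩
  have hPB : Algebra.IsPushout A B A' (B ⊗[A] A') := inferInstance
  have hfB : IsBaseChange (B ⊗[A] A') (TensorProduct.mk B (B ⊗[A] A') N 1) :=
    TensorProduct.isBaseChange B N (B ⊗[A] A')
  have := (impurity_iff p t' t hBC N (B ⊗[A] A') C' hρ hker ((B ⊗[A] A') ⊗[B] N)
    (TensorProduct.mk B (B ⊗[A] A') N 1) hfB NC fC hfC Q
    (Q.comap (algebraMap (B ⊗[A] A') C')) rfl hPB hPC).mpr hImp
  exact hB (B ⊗[A] A') ((B ⊗[A] A') ⊗[B] N) (TensorProduct.mk B (B ⊗[A] A') N 1)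
    (Q.comap (algebraMap (B ⊗[A] A') C')) this

end Dir2Main

section Final

variable {A B C : Type u} [CommRing A] [CommRing B] [CommRing C] [Algebra A B] [Algebra B C]
  [Algebra A C] [IsScalarTower A B C]
  (hBC : Function.Surjective (algebraMap B C))
  (N : Type u) [AddCommGroup N] [Module C N] [Module B N] [IsScalarTower B C N]
  (p : Ideal A) [p.IsPrime]

include hBC in
theorem main : (FlatCA.IsPureAlong A C N p ↔ FlatCA.IsPureAlong A B N p) ∧
    (FlatCA.IsUnivPureAlong A C N p ↔ FlatCA.IsUnivPureAlong A B N p) := by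
  refine ⟨⟨?_, ?_⟩, ⟨?_, ?_⟩⟩
  · intro hC A' B' NB _ _ _ _ _ _ _ _ _ _ _ _ _ _ fB t' t _ _ P _ hEt hImp
    exact dir1 hBC N p A' B' NB fB t' t P hImp
      (fun C' NC _ _ _ _ _ _ _ _ _ _ _ _ fC Q _ => hC A' C' NC fC t' t Q hEt)
  · intro hB A' C' NC _ _ _ _ _ _ _ _ _ _ _ _ _ _ fC t' t _ _ Q _ hEt hImp
    exact dir2 hBC N p A' C' NC fC t' t Q hImp
      (fun B' NB _ _ _ _ _ _ _ _ _ _ _ _ fB P _ => hB A' B' NB fB t' t P hEt)
  · intro hC A' B' NB _ _ _ _ _ _ _ _ _ _ _ _ _ _ fB t' t _ _ P _ hImp
    exact dir1 hBC N p A' B' NB fB t' t P hImp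
      (fun C' NC _ _ _ _ _ _ _ _ _ _ _ _ fC Q _ => hC A' C' NC fC t' t Q)
  · intro hB A' C' NC _ _ _ _ _ _ _ _ _ _ _ _ _ _ fC t' t _ _ Q _ hImp
    exact dir2 hBC N p A' C' NC fC t' t Q hImp
      (fun B' NB _ _ _ _ _ _ _ _ _ _ _ _ fB P _ => hB A' B' NB fB t' t P)

end Final

end Groth.Agent.S8999Aux

namespace Groth.Agent.S8999

/-- For affine finite type schemes over Spec A: purity and universal purity along a fibre of a finite
module are unchanged when the module is pushed forward along a closed immersion Spec C → Spec B (a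
surjective algebra map B → C). -/
theorem result {A B C : Type u} [CommRing A] [CommRing B] [CommRing C] [Algebra A B] [Algebra B C] [Algebra A C] [IsScalarTower A B C] [Algebra.FiniteType A B] (hBC : Function.Surjective (algebraMap B C)) (N : Type u) [AddCommGroup N] [Module C N] [Module B N] [IsScalarTower B C N] [Module.Finite C N] (p : Ideal A) [p.IsPrime] : (FlatCA.IsPureAlong A C N p ↔ FlatCA.IsPureAlong A B N p) ∧ (FlatCA.IsUnivPureAlong A C N p ↔ FlatCA.IsUnivPureAlong A B N p) := by
  exact Groth.Agent.S8999Aux.main hBC N p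

end Groth.Agent.S8999
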