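import Groth.Statements.S9007
-- no extra imports

set_option autoImplicit false
universe u
open FlatMor

namespace Groth.Agent.S9007

open CategoryTheory CategoryTheory.Limits AlgebraicGeometry in
/-- For a morphism f of compactifications of X over a quasi-compact quasi-separated S whose source
contains X as a dense open, the preimage under f of the image of X in the target is the image of X
in the source. -/
theorem result {X S : Scheme.{u}} [CompactSpace S] [QuasiSeparatedSpace S] (p : X ⟶ S) [IsSeparated p] [QuasiCompact p] [LocallyOfFiniteType p] {Y Y' : Scheme.{u}} (j : X ⟶ Y) (q : Y ⟶ S) [IsOpenImmersion j] [IsProper q] (h : j ≫ q = p) (j' : X ⟶ Y') (q' : Y' ⟶ S) [IsOpenImmersion j'] [IsProper q'] (h' : j' ≫ q' = p) (f : Y' ⟶ Y) (hf : f ≫ q = q') (hfj : j' ≫ f = j) (hd : Dense (Set.range j'.base)) : f ⁻¹ᵁ j.opensRange = j'.opensRange := by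
  classical
  -- f is separated
  haveI : IsSeparated (f ≫ q) := by rw [hf]; infer_instance
  haveI : IsSeparated f := IsSeparated.of_comp f q
  set U : Y'.Opens := f ⁻¹ᵁ j.opensRange with hU
  -- one inclusion
  have hle : j'.opensRange ≤ U := by
    rintro _ ⟨x, rfl⟩
    show f (j' x) ∈ j.opensRange
    rw [← Scheme.Hom.comp_apply, hfj]
    exact ⟨x, rfl⟩
  refine le_antisymm ?_ hle
  -- the retraction r : U ⟶ X and the section s : X ⟶ U
  let r : U.toScheme ⟶ X := (f ∣_ j.opensRange) ≫ j.isoOpensRange.inv
  have hrange : Set.range j' ⊆ Set.range U.ι := by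
    rw [Scheme.Opens.range_ι]
    rintro _ ⟨x, rfl⟩
    exact hle ⟨x, rfl⟩
  let s : X ⟶ U.toScheme := IsOpenImmersion.lift U.ι j' hrange
  have hs : s ≫ U.ι = j' := IsOpenImmersion.lift_fac _ _ _
  have hsr : s ≫ r = 𝟙 X := by
    rw [← cancel_mono j]
    simp only [r, Category.assoc, Category.id_comp]
    rw [Scheme.Hom.isoOpensRange_inv_comp, morphismRestrict_ι, ← Category.assoc, hs, hfj]
  haveI : IsSeparated r := inferInstance
  haveI : IsClosedImmersion (s ≫ r) := by rw [hsr]; infer_instance
  haveI : IsClosedImmersion s := IsClosedImmersion.of_comp s r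
  have hclosed : IsClosed (Set.range s) := s.isClosedEmbedding.isClosed_range
  have hpre : Set.range s = U.ι ⁻¹' (Set.range j') := by
    ext u
    constructor
    · rintro ⟨x, rfl⟩
      exact ⟨x, by rw [← hs, Scheme.Hom.comp_apply]⟩
    · rintro ⟨x, hx⟩
      refine ⟨x, U.ι.isOpenEmbedding.injective ?_⟩
      rw [← Scheme.Hom.comp_apply, hs, hx]
  have hdense : Dense (Set.range s) := by
    rw [hpre]
    exact hd.preimage U.ι.isOpenEmbedding.isOpenMap
  have huniv : Set.range s = Set.univ := by
    rw [← hclosed.closure_eq, hdense.closure_eq]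
  intro y hy
  obtain ⟨x, hx⟩ : (⟨y, hy⟩ : U.toScheme) ∈ Set.range s := by rw [huniv]; trivial
  refine ⟨x, ?_⟩
  have := congrArg U.ι hx
  rw [← Scheme.Hom.comp_apply, hs] at this
  exact this

end Groth.Agent.S9007
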