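import Groth.Statements.S9008
import Mathlib

set_option autoImplicit false
universe u
open FlatMor

namespace Groth.Agent.S9008
set_option maxHeartbeats 400000

open FlatCA

section Comp

variable {A B : Type u} [CommRing A] [CommRing B] [Algebra A B] (N : Type u) [AddCommGroup N]
  [Module B N] (p : Ideal A) [p.IsPrime]
  (A' B' N' : Type u) [CommRing A'] [CommRing B'] [Algebra A A'] [Algebra B B'] [Algebra A' B']
  [Algebra A B'] [IsScalarTower A B B'] [IsScalarTower A A' B'] [AddCommGroup N'] [Module B' N']
  [Module B N'] [IsScalarTower B B' N']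
  (g : N →ₗ[B] N') (p' : Ideal A') [p'.IsPrime]
  (A'' B'' N'' : Type u) [CommRing A''] [CommRing B''] [Algebra A' A''] [Algebra B' B'']
  [Algebra A'' B''] [Algebra A' B''] [IsScalarTower A' B' B''] [IsScalarTower A' A'' B'']
  [AddCommGroup N''] [Module B'' N''] [Module B' N''] [IsScalarTower B' B'' N'']
  [Module A'' N''] [IsScalarTower A'' B'' N'']
  [Algebra A A''] [IsScalarTower A A' A''] [Algebra B B''] [IsScalarTower B B' B'']
  [Algebra A B''] [IsScalarTower A B B''] [IsScalarTower A A'' B''] [IsScalarTower A B' B'']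
  [Module B N''] [IsScalarTower B B' N''] [IsScalarTower B B'' N'']
  (f : N' →ₗ[B'] N'') (t' t : Ideal A'') [t'.IsPrime] [t.IsPrime] (P : Ideal B'') [P.IsPrime]

theorem impurity_comp [Algebra.IsPushout A B A' B'] (hg : IsBaseChange B' g) (hp : p'.LiesOver p)
    (h : IsImpurity A' B' N' p' A'' B'' N'' f t' t P) :
    IsImpurity A B N p A'' B'' N'' ((f.restrictScalars B).comp g) t' t P := by
  obtain ⟨h1, h2, h3, h4, h5, h6, h7⟩ := h
  refine ⟨?_, hg.comp h2, h3, ?_, h5, h6, h7⟩
  · have hL : Algebra.IsPushout A A' B B' := Algebra.IsPushout.symm inferInstance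
    have hR : Algebra.IsPushout A' A'' B' B'' := Algebra.IsPushout.symm h1
    have := (Algebra.IsPushout.comp_iff A A' B (S' := B') (T := A'') (T' := B'')).2 hR
    exact Algebra.IsPushout.symm this
  · exact Ideal.LiesOver.trans t p' p

end Comp


section Self

variable {A B : Type u} [CommRing A] [CommRing B] [Algebra A B] (N : Type u) [AddCommGroup N]
  [Module B N] (p : Ideal A) [p.IsPrime]

theorem etaleNhd_self : IsEtaleNhd A A p p := by
  refine ⟨inferInstance, ⟨rfl⟩, ?_⟩
  have e : Algebra.ofId A A = AlgHom.id A A := AlgHom.ext fun x => rfl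
  have key : ∀ (φ : A →ₐ[A] A) (hφ : p = p.comap φ.toRingHom), φ = AlgHom.id A A →
      Function.Bijective (Ideal.ResidueField.mapₐ p p φ hφ) := by
    rintro φ hφ rfl
    rw [Ideal.ResidueField.mapₐ_id]
    exact Function.bijective_id
  exact key _ _ e

end Self

theorem main {A B : Type u} [CommRing A] [CommRing B] [Algebra A B] (N : Type u) [AddCommGroup N] [Module B N] (p : Ideal A) [p.IsPrime] : FlatCA.IsUnivPureAlong A B N p ↔ ∀ (A' B' N' : Type u) [CommRing A'] [CommRing B'] [Algebra A A'] [Algebra B B'] [Algebra A' B'] [Algebra A B'] [IsScalarTower A B B'] [IsScalarTower A A' B'] [Algebra.IsPushout A B A' B'] [AddCommGroup N'] [Module B' N'] [Module B N'] [IsScalarTower B B' N'] (g : N →ₗ[B] N'), IsBaseChange B' g → ∀ (p' : Ideal A') [p'.IsPrime], p'.LiesOver p → FlatCA.IsPureAlong A' B' N' p' := by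
  constructor
  · intro hU A' B' N' _ _ _ _ _ _ _ _ _ _ _ _ _ g hg p' _ hp
    intro A'' B'' N'' _ _ _ _ _ _ _ _ _ _ _ _ _ _ f t' t _ _ P _ _ hImp
    letI : Algebra A A'' := ((algebraMap A' A'').comp (algebraMap A A')).toAlgebra
    haveI : IsScalarTower A A' A'' := IsScalarTower.of_algebraMap_eq (fun x => rfl)
    letI : Algebra B B'' := ((algebraMap B' B'').comp (algebraMap B B')).toAlgebra
    haveI : IsScalarTower B B' B'' := IsScalarTower.of_algebraMap_eq (fun x => rfl)
    letI : Algebra A B'' := ((algebraMap B' B'').comp (algebraMap A B')).toAlgebra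
    haveI : IsScalarTower A B' B'' := IsScalarTower.of_algebraMap_eq (fun x => rfl)
    haveI : IsScalarTower A B B'' := IsScalarTower.of_algebraMap_eq (fun x => by
      show algebraMap B' B'' (algebraMap A B' x) =
        algebraMap B' B'' (algebraMap B B' (algebraMap A B x))
      rw [← IsScalarTower.algebraMap_apply A B B'])
    haveI : IsScalarTower A A'' B'' := IsScalarTower.of_algebraMap_eq (fun x => by
      show algebraMap B' B'' (algebraMap A B' x) =
        algebraMap A'' B'' (algebraMap A' A'' (algebraMap A A' x))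
      rw [← IsScalarTower.algebraMap_apply A' A'' B'', IsScalarTower.algebraMap_apply A' B' B'',
        ← IsScalarTower.algebraMap_apply A A' B'])
    letI : Module B N'' := Module.compHom N'' (algebraMap B B')
    haveI : IsScalarTower B B' N'' := ⟨fun b b' n => by
      show (b • b') • n = algebraMap B B' b • (b' • n)
      rw [Algebra.smul_def, mul_smul]⟩
    haveI : IsScalarTower B B'' N'' := ⟨fun b b'' n => by
      show (b • b'') • n = algebraMap B B' b • (b'' • n)
      rw [Algebra.smul_def, mul_smul]
      show algebraMap B' B'' (algebraMap B B' b) • (b'' • n) = _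
      rw [algebraMap_smul]⟩
    exact hU A'' B'' N'' _ t' t P
      (impurity_comp N p A' B' N' g p' A'' B'' N'' f t' t P hg hp hImp)
  · intro h A' B' N' _ _ _ _ _ _ _ _ _ _ _ _ _ _ f t' t _ _ P _ hImp
    obtain ⟨h1, h2, h3, h4, h5, h6, h7⟩ := hImp
    haveI := h1
    have hpure := h A' B' N' f h2 t h4
    refine hpure A' B' N' LinearMap.id t' t P (etaleNhd_self t) ?_
    exact ⟨inferInstance, IsBaseChange.ofEquiv (LinearEquiv.refl B' N'), h3, ⟨rfl⟩, h5, h6, h7⟩

end Groth.Agent.S9008

namespace Groth.Agent.S9008

/-- For Spec B → Spec A affine of finite type: a finite B-module is universally pure along the fibre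
over a prime p of A exactly when every base change of it along a ring map A → A' is pure along the
fibre over every prime of A' above p. -/
theorem result {A B : Type u} [CommRing A] [CommRing B] [Algebra A B] [Algebra.FiniteType A B] (N : Type u) [AddCommGroup N] [Module B N] [Module.Finite B N] (p : Ideal A) [p.IsPrime] : FlatCA.IsUnivPureAlong A B N p ↔ ∀ (A' B' N' : Type u) [CommRing A'] [CommRing B'] [Algebra A A'] [Algebra B B'] [Algebra A' B'] [Algebra A B'] [IsScalarTower A B B'] [IsScalarTower A A' B'] [Algebra.IsPushout A B A' B'] [AddCommGroup N'] [Module B' N'] [Module B N'] [IsScalarTower B B' N'] (g : N →ₗ[B] N'), IsBaseChange B' g → ∀ (p' : Ideal A') [p'.IsPrime], p'.LiesOver p → FlatCA.IsPureAlong A' B' N' p' := by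
  exact main N p

end Groth.Agent.S9008
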