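import Groth.Statements.S9018
import Groth.Agent.Lib.Helper40.LimPres

set_option autoImplicit false
universe u
open FlatMor

namespace Groth.Agent.S9018

open CategoryTheory CategoryTheory.Limits AlgebraicGeometry Opposite
open Groth.Agent.Lib.Helper40.FFDescent Groth.Agent.Lib.Helper40.FFDescent2
  Groth.Agent.Lib.Helper40.LimPres

open CategoryTheory CategoryTheory.Limits AlgebraicGeometry Opposite in
/-- For f : X → S quasi-compact and a homomorphism u : F → G of quasi-coherent O_X-modules with G of
finite type, the functor F_surj (one point on T when the base change u_T on X ×_S T is an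
epimorphism of O-modules, empty otherwise; the subfunctor of the final functor generated by that
condition) is limit preserving. -/
theorem result {X S : Scheme.{u}} (f : X ⟶ S) [QuasiCompact f] {F G : X.Modules} [Coh.IsQCoh F] [Coh.IsQCoh G]
    (hG : CohB1.IsFT G) (u : F ⟶ G) :
    AlgSp.IsLimitPreserving (FlatFun.genPSp S (fun T => Epi ((Scheme.Modules.pullback (pullback.fst f T.hom)).map u))) := by
  haveI : F.IsQuasicoherent := ‹Coh.IsQCoh F›
  haveI : G.IsQuasicoherent := ‹Coh.IsQCoh G›
  haveI : (cokernel u).IsQuasicoherent :=
    Groth.Agent.Lib.Helper21.QCohKernel.isQuasicoherent_cokernel u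
  have hC : CohB1.IsFT (cokernel u) :=
    Groth.Agent.Lib.Helper21.CohNoeth.isFiniteType_of_epi (cokernel.π u) hG
  apply isLimitPreserving_genPSp
  · intro T T₀ k h
    exact epi_bc f T₀.hom u T.hom k.left (Over.w k) h
  · intro I _ _ D c hc hD hT hP
    rw [epi_pullback_iff, isZero_pullback_iff _ _ hC] at hP
    obtain ⟨i, hi⟩ := exists_stage_preimage_eq_top f D c hc hD _ hP
    refine ⟨i, ?_⟩
    rw [epi_pullback_iff, isZero_pullback_iff _ _ hC]
    exact hi

end Groth.Agent.S9018
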