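import Groth.Statements.S9036
import Groth.Agent.S9035
import Groth.Agent.S9103
import Groth.Agent.Lib.Helper45.QcSum4
import Groth.Agent.Lib.Helper53.ModGroth

set_option autoImplicit false
universe u
open CategoryTheory CategoryTheory.Limits Opposite
open ModSite

namespace Groth.Agent.S9036

/-- Let (C, O) be a ringed site in which every object has a covering by quasi-compact objects (an object
U is called quasi-compact here when the sheaf h_U^# is a quasi-compact object of the topos, which is
equivalent to the site-level definition). Then every compact object of D(O) is a retract in D(O) of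
the image of a bounded complex whose terms are finite direct sums of modules of the form j_{U!} O_U
with U quasi-compact. The derived category of O-modules, direct sums in it and finite biproducts of
O-modules (automatic) are instance hypotheses. -/
theorem result
    {C : Type u} [SmallCategory C] {J : GrothendieckTopology C} (O : Sheaf J CommRingCat.{u})
    [HasFiniteBiproducts (ModSite.Mod O)]
    [HasDerivedCategory.{u} (ModSite.Mod O)] [HasCoproducts.{u} (DerivedCategory (ModSite.Mod O))]
    (hC : ∀ V : C, ∃ R ∈ J V, ∀ ⦃W : C⦄ (g : W ⟶ V), R g →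
      ∃ (U : C) (a : W ⟶ U) (b : U ⟶ V), CohCx.IsQcObject ((presheafToSheaf J (Type u)).obj (yoneda.obj U)) ∧ a ≫ b = g)
    (K : DerivedCategory (ModSite.Mod O)) (hK : CohDer.IsCompactObject K) :
    ∃ (L : CochainComplex (ModSite.Mod O) ℤ) (a b : ℤ),
      (∀ i : ℤ, i < a ∨ b < i → IsZero (L.X i)) ∧
      (∀ i : ℤ, ∃ (n : ℕ) (U : Fin n → C),
        (∀ j, CohCx.IsQcObject ((presheafToSheaf J (Type u)).obj (yoneda.obj (U j)))) ∧
        Nonempty (L.X i ≅ ⨁ fun j => ModSite.freeOn O (U j))) ∧
      Nonempty (Retract K (DerivedCategory.Q.obj L)) := by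
  classical
  have hG : IsGrothendieckAbelian.{u} (ModSite.Mod O) :=
    Groth.Agent.Lib.Helper53.ModGroth.isGrothendieckAbelian J (ModSite.ringSh O)
  let S : Set (ModSite.Mod O) := {E | ∃ U : C,
    CohCx.IsQcObject ((presheafToSheaf J (Type u)).obj (yoneda.obj U)) ∧ E = ModSite.freeOn O U}
  have h1 : ∀ X : ModSite.Mod O, ∃ (ι : Type u) (E : ι → ModSite.Mod O) (π : ∐ E ⟶ X),
      (∀ i, E i ∈ S) ∧ Epi π := by
    intro X
    let ι : Type u := Σ (U : {U : C //
      CohCx.IsQcObject ((presheafToSheaf J (Type u)).obj (yoneda.obj U))}), X.val.obj (op U.1)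
    let E : ι → ModSite.Mod O := fun i => ModSite.freeOn O i.1.1
    let π : ∐ E ⟶ X := Sigma.desc (fun i => Groth.Agent.Lib.Helper45.QcSum.ofSec O i.2)
    refine ⟨ι, E, π, fun i => ⟨i.1.1, i.1.2, rfl⟩, ?_⟩
    apply Preadditive.epi_of_cancel_zero
    intro T h hh
    have key : ∀ (U : C) (hU : CohCx.IsQcObject ((presheafToSheaf J (Type u)).obj (yoneda.obj U)))
        (s : X.val.obj (op U)), h.val.app (op U) s = 0 := by
      intro U hU s
      have h3 : Sigma.ι E ⟨⟨U, hU⟩, s⟩ ≫ π ≫ h = 0 := by rw [hh, comp_zero]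
      rw [Sigma.ι_desc_assoc] at h3
      have h4 : Groth.Agent.Lib.Helper45.QcSum.ofSec O s ≫ h = 0 := h3
      rw [Groth.Agent.Lib.Helper45.QcSum.ofSec_comp,
        ← Groth.Agent.Lib.Helper45.QcSum.ofSec_zero] at h4
      exact Groth.Agent.Lib.Helper45.QcSum.ofSec_injective O h4
    apply SheafOfModules.hom_ext
    apply PresheafOfModules.hom_ext
    intro V
    obtain ⟨V⟩ := V
    ext x
    obtain ⟨R, hR, hfac⟩ := hC V
    refine Groth.Agent.Lib.Helper45.QcSum.sec_ext O T R hR _ _ ?_
    intro W g hg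
    obtain ⟨U, a, b, hU, hab⟩ := hfac g hg
    subst hab
    have h5 : Groth.Agent.Lib.Helper45.QcSum.res O T (a ≫ b) (h.val.app (op V) x) = 0 := by
      rw [Groth.Agent.Lib.Helper45.QcSum.res_comp, ← Groth.Agent.Lib.Helper45.QcSum.app_res,
        key U hU, Groth.Agent.Lib.Helper45.QcSum.res_zero]
    rw [h5]
    exact (Groth.Agent.Lib.Helper45.QcSum.res_zero O T (a ≫ b)).symm
  have h2 : ∀ E ∈ S, ∀ ι : Type u,
      PreservesColimitsOfShape (Discrete ι) (preadditiveCoyoneda.obj (op E)) := by
    rintro E ⟨U, hU, rfl⟩ ι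
    exact Groth.Agent.S9103.result O U hU ι
  obtain ⟨L, a, b, hL0, hL1, hL2⟩ := Groth.Agent.S9035.result S h1 h2 K hK
  refine ⟨L, a, b, hL0, fun i => ?_, hL2⟩
  obtain ⟨n, E, hE, ⟨e⟩⟩ := hL1 i
  choose U hU hEU using hE
  refine ⟨n, U, hU, ⟨e ≪≫ biproduct.mapIso (fun j => eqToIso (hEU j))⟩⟩

end Groth.Agent.S9036
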