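import Groth.Statements.S9038
-- import your own Groth.Agent.* helpers here

set_option autoImplicit false
universe u
open Topology
open CohTop

namespace Groth.Agent.S9038

theorem cover_compact {X : Type u} [TopologicalSpace X] {κ : Type u} {Y : κ → Type u}
    [∀ j, TopologicalSpace (Y j)] (g : ∀ j, Y j → X)
    (hcov' : ∀ x : X, ∃ (t : Finset κ) (E : ∀ j, Set (Y j)),
      (∀ j ∈ t, IsCompact (E j)) ∧ (⋃ j ∈ t, g j '' E j) ∈ 𝓝 x)
    (K : Set X) (hK : IsCompact K) :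
    ∃ (s : Finset κ) (F : ∀ j, Set (Y j)), (∀ j ∈ s, IsCompact (F j)) ∧
      K ⊆ ⋃ j ∈ s, g j '' F j := by
  classical
  choose t E hE hN using hcov'
  obtain ⟨T, -, hT⟩ := hK.elim_nhds_subcover (fun x => ⋃ j ∈ t x, g j '' E x j)
    (fun x _ => hN x)
  refine ⟨T.biUnion t, fun j => ⋃ x ∈ T.filter (fun x => j ∈ t x), E x j, ?_, ?_⟩
  · intro j _
    apply Finset.isCompact_biUnion
    intro x hx
    exact hE x j (Finset.mem_filter.mp hx).2
  · intro y hy
    have := hT hy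
    simp only [Set.mem_iUnion, Set.mem_image] at this
    obtain ⟨x, hxT, j, hj, e, he, rfl⟩ := this
    simp only [Set.mem_iUnion, Set.mem_image, Finset.mem_biUnion, Finset.mem_filter]
    exact ⟨j, ⟨x, hxT, hj⟩, e, ⟨x, ⟨hxT, hj⟩, he⟩, rfl⟩


/-- In the category of Hausdorff locally quasi-compact spaces, call a family of continuous maps f_i :
X_i → X a qc covering when every point of X has a neighbourhood of the form ⋃_{i ∈ t} f_i(E_i) with
t a finite set of indices and E_i ⊆ X_i quasi-compact. If (f_i : X_i → X) is a qc covering and for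
each i the family (g_{ij} : X_{ij} → X_i)_j is a qc covering, then the family of composites X_{ij} →
X, indexed by the pairs (i, j), is a qc covering. -/
theorem result
    {B : Type u} [TopologicalSpace B] [T2Space B] [LocallyCompactSpace B]
    {ι : Type u} {X : ι → Type u} [∀ i, TopologicalSpace (X i)] [∀ i, T2Space (X i)]
    [∀ i, LocallyCompactSpace (X i)]
    (f : ∀ i, X i → B) (hf : ∀ i, Continuous (f i))
    (hcov : ∀ x : B, ∃ (t : Finset ι) (E : ∀ i, Set (X i)),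
      (∀ i ∈ t, IsCompact (E i)) ∧ (⋃ i ∈ t, f i '' E i) ∈ 𝓝 x)
    {κ : ι → Type u} {Y : ∀ i, κ i → Type u} [∀ i j, TopologicalSpace (Y i j)] [∀ i j, T2Space (Y i j)]
    [∀ i j, LocallyCompactSpace (Y i j)]
    (g : ∀ i j, Y i j → X i) (hg : ∀ i j, Continuous (g i j))
    (hcov' : ∀ (i : ι) (x : X i), ∃ (t : Finset (κ i)) (E : ∀ j, Set (Y i j)),
      (∀ j ∈ t, IsCompact (E j)) ∧ (⋃ j ∈ t, g i j '' E j) ∈ 𝓝 x) :
    ∀ x : B, ∃ (t : Finset (Σ i, κ i)) (E : ∀ p : (Σ i, κ i), Set (Y p.1 p.2)),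
      (∀ p ∈ t, IsCompact (E p)) ∧ (⋃ p ∈ t, f p.1 '' (g p.1 p.2 '' E p)) ∈ 𝓝 x := by
  classical
  intro x
  obtain ⟨t, E, hE, hN⟩ := hcov x
  have key : ∀ i, ∃ (s : Finset (κ i)) (F : ∀ j, Set (Y i j)), (∀ j ∈ s, IsCompact (F j)) ∧
      (i ∈ t → E i ⊆ ⋃ j ∈ s, g i j '' F j) := by
    intro i
    by_cases hi : i ∈ t
    · obtain ⟨s, F, hF, hsub⟩ := cover_compact (g i) (hcov' i) (E i) (hE i hi)
      exact ⟨s, F, hF, fun _ => hsub⟩
    · exact ⟨∅, fun _ => ∅, by simp, fun h => absurd h hi⟩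
  choose s F hF hsub using key
  refine ⟨t.sigma s, fun p => F p.1 p.2, ?_, ?_⟩
  · intro p hp
    rw [Finset.mem_sigma] at hp
    exact hF p.1 p.2 hp.2
  · refine Filter.mem_of_superset hN ?_
    intro b hb
    simp only [Set.mem_iUnion, Set.mem_image] at hb
    obtain ⟨i, hi, e, he, rfl⟩ := hb
    have := hsub i hi he
    simp only [Set.mem_iUnion, Set.mem_image] at this
    obtain ⟨j, hj, y, hy, rfl⟩ := this
    simp only [Set.mem_iUnion, Set.mem_image, Finset.mem_sigma]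
    exact ⟨⟨i, j⟩, ⟨hi, hj⟩, g i j y, ⟨y, hy, rfl⟩, rfl⟩

end Groth.Agent.S9038
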