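import Groth.Statements.S9046
import Groth.Agent.Lib.Helper2.StrictPerfLift

set_option autoImplicit false
universe u
open CategoryTheory CategoryTheory.Limits Opposite
open ModSite

namespace Groth.Agent.S9046

open Groth.Agent.Lib.Helper2.StrictPerfLift Groth.Agent.Lib.Helper2.ConeLift CochainComplex in

/-- On a ringed site (C, O), let α : E → F and f : G → F be maps of complexes of O-modules where E is
strictly perfect and vanishes in degrees below a, and f induces isomorphisms on H^j for all j > a
and a surjection on H^a. Then locally α lifts through f up to homotopy: every object V has a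
covering sieve such that over each of its arrows W → V there is a map of complexes β : E|_W → G|_W
with β ≫ f|_W homotopic to α|_W. (The published statement is phrased over the localisation (C/U,
O_U) at an object U with a covering of U; this row states it at every object of an arbitrary ringed
site, which covers that case.) -/
theorem result
    {C : Type u} [SmallCategory C] {J : GrothendieckTopology C} (O : Sheaf J CommRingCat.{u})
    (E F G : CochainComplex (ModSite.Mod O) ℤ) (α : E ⟶ F) (f : G ⟶ F)
    (hE : DCoh.IsStrictlyPerfectMod (ModSite.ringSh O) E) (a : ℤ)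
    (hEa : ∀ j : ℤ, j < a → IsZero (E.X j))
    (hiso : ∀ j : ℤ, a < j → IsIso (HomologicalComplex.homologyMap f j))
    (hepi : Epi (HomologicalComplex.homologyMap f a)) (V : C) :
    ∃ R ∈ J V, ∀ ⦃W : C⦄ (g : W ⟶ V), R g →
      ∃ β : ((ModSite.restr O W).mapHomologicalComplex (ComplexShape.up ℤ)).obj E ⟶
          ((ModSite.restr O W).mapHomologicalComplex (ComplexShape.up ℤ)).obj G,
        Nonempty (Homotopy (β ≫ ((ModSite.restr O W).mapHomologicalComplex (ComplexShape.up ℤ)).map f)
          (((ModSite.restr O W).mapHomologicalComplex (ComplexShape.up ℤ)).map α)) := by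
  obtain ⟨⟨a', b, hab⟩, hsum⟩ := hE
  let γ : E ⟶ mappingCone f := α ≫ mappingCone.inr f
  have hb : ∀ i, b < i → γ.f i = 0 := fun i hi => (hab i (Or.inr hi)).eq_of_src _ _
  have hF : ∀ j, a ≤ j → IsZero ((mappingCone f).homology j) := by
    intro j hj
    apply isZero_homology_mappingCone f j
    · rcases eq_or_lt_of_le hj with h | h
      · subst h
        exact hepi
      · haveI := hiso j h
        infer_instance
    · haveI := hiso (j + 1) (by lia)
      infer_instance
  obtain ⟨R, hR, hH⟩ := null_locally (b - a + 1).toNat O E (mappingCone f) γ a b
    (by have := Int.self_le_toNat (b - a + 1); lia) hsum hEa hb hF V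
  refine ⟨R, hR, fun W g hg => ?_⟩
  obtain ⟨H⟩ := hH g hg
  have e1 : ((restr O W).mapHomologicalComplex (ComplexShape.up ℤ)).map γ ≫
      (mappingCone.mapHomologicalComplexIso f (restr O W)).hom =
      ((restr O W).mapHomologicalComplex (ComplexShape.up ℤ)).map α ≫
        mappingCone.inr (((restr O W).mapHomologicalComplex (ComplexShape.up ℤ)).map f) := by
    rw [← mappingCone.map_inr, ← Category.assoc, ← Functor.map_comp]
  have H' : Homotopy (((restr O W).mapHomologicalComplex (ComplexShape.up ℤ)).map α ≫
      mappingCone.inr (((restr O W).mapHomologicalComplex (ComplexShape.up ℤ)).map f)) 0 :=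
    (Homotopy.ofEq e1.symm).trans
      ((H.compRight (mappingCone.mapHomologicalComplexIso f (restr O W)).hom).trans
        (Homotopy.ofEq zero_comp))
  exact exists_lift_of_homotopy_inr _ _ H'

end Groth.Agent.S9046
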