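import Groth.Statements.S9049
import Mathlib.CategoryTheory.Idempotents.Basic
import Mathlib.RingTheory.Finiteness.Projective
import Mathlib.Algebra.Category.ModuleCat.Colimits
import Mathlib.Algebra.Category.ModuleCat.Sheaf.Free
import Mathlib.Tactic

set_option autoImplicit false
universe u
open CategoryTheory CategoryTheory.Limits Opposite
open ModSite

namespace Groth.Agent.S9049

section Abstract

universe v₁ v₂ u₁ u₂ w

variable {A : Type u₁} [Category.{v₁} A] {B : Type u₂} [Category.{v₂} B] (Γ : A ⥤ B)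

theorem bij_of_coproduct {I : Type w} (f : I → A) (c : Cofan f) (hc : IsColimit c)
    [PreservesColimit (Discrete.functor f) Γ] (M : A)
    (h : ∀ i, Function.Bijective (fun φ : f i ⟶ M => Γ.map φ)) :
    Function.Bijective (fun φ : c.pt ⟶ M => Γ.map φ) := by
  have hc' : IsColimit (Γ.mapCocone c) := isColimitOfPreserves Γ hc
  constructor
  · intro φ φ' hφ
    apply Cofan.IsColimit.hom_ext hc
    intro i
    apply (h i).1
    change Γ.map (c.inj i ≫ φ) = Γ.map (c.inj i ≫ φ')
    rw [Γ.map_comp, Γ.map_comp]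
    exact congrArg (fun t => Γ.map (c.inj i) ≫ t) hφ
  · intro ψ
    choose θ hθ using fun i => (h i).2 (Γ.map (c.inj i) ≫ ψ)
    refine ⟨Cofan.IsColimit.desc hc θ, ?_⟩
    apply hc'.hom_ext
    rintro ⟨i⟩
    change Γ.map (c.inj i) ≫ Γ.map (Cofan.IsColimit.desc hc θ) = Γ.map (c.inj i) ≫ ψ
    rw [← Γ.map_comp, Cofan.IsColimit.fac]
    exact hθ i

theorem bij_of_retract {E P M : A} (i : E ⟶ P) (p : P ⟶ E) (hip : i ≫ p = 𝟙 E)
    (h : Function.Bijective (fun φ : P ⟶ M => Γ.map φ)) :
    Function.Bijective (fun φ : E ⟶ M => Γ.map φ) := by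
  constructor
  · intro φ φ' hφ
    have h1 : p ≫ φ = p ≫ φ' := by
      apply h.1
      change Γ.map (p ≫ φ) = Γ.map (p ≫ φ')
      rw [Γ.map_comp, Γ.map_comp]
      exact congrArg (fun t => Γ.map p ≫ t) hφ
    calc φ = (i ≫ p) ≫ φ := by rw [hip, Category.id_comp]
      _ = i ≫ (p ≫ φ') := by rw [Category.assoc, h1]
      _ = φ' := by rw [← Category.assoc, hip, Category.id_comp]
  · intro ψ
    obtain ⟨θ, hθ⟩ := h.2 (Γ.map p ≫ ψ)
    refine ⟨i ≫ θ, ?_⟩
    change Γ.map (i ≫ θ) = ψ
    have hθ' : Γ.map θ = Γ.map p ≫ ψ := hθ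
    rw [Γ.map_comp, hθ', ← Category.assoc, ← Γ.map_comp, hip, Γ.map_id, Category.id_comp]

end Abstract


section Site

variable {C : Type u} [SmallCategory C] {J : GrothendieckTopology C} (O : Sheaf J CommRingCat.{u})
  (X : C)

noncomputable abbrev Gam : ModSite.Mod O ⥤ ModuleCat.{u} ((ModSite.ringSh O).obj.obj (op X)) :=
  SheafOfModules.evaluation (ModSite.ringSh O) (op X)

instance : (Gam O X).Additive :=
  inferInstanceAs (SheafOfModules.forget _ ⋙ PresheafOfModules.evaluation _ (op X)).Additive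

variable {O X}

theorem sections_ext_terminal (hX : IsTerminal X) (M : ModSite.Mod O) (s t : M.sections)
    (h : s.val (op X) = t.val (op X)) : s = t := by
  apply PresheafOfModules.sections_ext
  intro Y
  have hs := PresheafOfModules.sections_property s (hX.from Y.unop).op
  have ht := PresheafOfModules.sections_property t (hX.from Y.unop).op
  rw [← hs, ← ht, h]

noncomputable def sectionOf (hX : IsTerminal X) (M : ModSite.Mod O) (m : M.val.obj (op X)) : M.sections :=
  PresheafOfModules.sectionsMk (fun Y => M.val.map (hX.from Y.unop).op m) (by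
    intro Y Z f
    rw [← PresheafOfModules.map_comp_apply]
    apply PresheafOfModules.congr_map_apply
    apply Quiver.Hom.unop_inj
    exact hX.hom_ext _ _)

theorem sectionOf_val (hX : IsTerminal X) (M : ModSite.Mod O) (m : M.val.obj (op X)) :
    (sectionOf hX M m).val (op X) = m := by
  change M.val.map (hX.from X).op m = m
  have : hX.from X = 𝟙 X := hX.hom_ext _ _
  rw [this]
  change M.val.map (𝟙 (op X)) m = m
  rw [M.val.map_id]
  rfl

theorem bij_unit (hX : IsTerminal X) (M : ModSite.Mod O) :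
    Function.Bijective (fun φ : ModSite.unit O ⟶ M => (Gam O X).map φ) := by
  constructor
  · intro φ φ' hφ
    apply M.unitHomEquiv.injective
    apply sections_ext_terminal hX
    rw [SheafOfModules.unitHomEquiv_apply_coe, SheafOfModules.unitHomEquiv_apply_coe]
    have : φ.val.app (op X) = φ'.val.app (op X) := hφ
    rw [this]
  · intro ψ
    refine ⟨M.unitHomEquiv.symm (sectionOf hX M (ψ.hom (1 : (ModSite.ringSh O).obj.obj (op X)))), ?_⟩
    apply ModuleCat.hom_ext
    apply LinearMap.ext_ring
    have h1 := SheafOfModules.unitHomEquiv_apply_coe M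
      (M.unitHomEquiv.symm (sectionOf hX M (ψ.hom (1 : (ModSite.ringSh O).obj.obj (op X))))) (op X)
    rw [Equiv.apply_symm_apply] at h1
    have h2 := sectionOf_val hX M (ψ.hom (1 : (ModSite.ringSh O).obj.obj (op X)))
    exact h1.symm.trans h2


variable (O X) in
noncomputable abbrev FreeN (n : ℕ) : ModSite.Mod O :=
  SheafOfModules.free (R := ModSite.ringSh O) (ULift.{u} (Fin n))

theorem bij_free (hX : IsTerminal X) (n : ℕ) (M : ModSite.Mod O) :
    Function.Bijective (fun φ : FreeN O n ⟶ M => (Gam O X).map φ) :=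
  bij_of_coproduct (Gam O X) (fun _ : ULift.{u} (Fin n) => ModSite.unit O)
    (SheafOfModules.freeCofan _) (SheafOfModules.isColimitFreeCofan _) M (fun _ => bij_unit hX M)

theorem bij_summand (hX : IsTerminal X) (E M : ModSite.Mod O)
    (hE : DCoh.IsFinFreeSummandMod (ModSite.ringSh O) E) :
    Function.Bijective (fun φ : E ⟶ M => (Gam O X).map φ) := by
  obtain ⟨n, i, p, hip⟩ := hE
  exact bij_of_retract (Gam O X) i p hip (bij_free hX n M)


section FreeIso

variable (O X) (n : ℕ)

noncomputable abbrev PN : ModuleCat.{u} ((ModSite.ringSh O).obj.obj (op X)) :=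
  ModuleCat.of _ (ULift.{u} (Fin n) → ((ModSite.ringSh O).obj.obj (op X)))

noncomputable def hcΓ : IsColimit ((Gam O X).mapCocone
    (SheafOfModules.freeCofan (R := ModSite.ringSh O) (ULift.{u} (Fin n)))) :=
  isColimitOfPreserves (Gam O X) (SheafOfModules.isColimitFreeCofan _)

noncomputable def ιΓ (i : ULift.{u} (Fin n)) :
    ModuleCat.of ((ModSite.ringSh O).obj.obj (op X)) ((ModSite.ringSh O).obj.obj (op X)) ⟶
      (Gam O X).obj (FreeN O n) :=
  (Gam O X).map (SheafOfModules.ιFree i)

noncomputable def bCocone : Cocone (Discrete.functor (fun _ : ULift.{u} (Fin n) => ModSite.unit O) ⋙ Gam O X) where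
  pt := PN O X n
  ι := Discrete.natTrans (fun i => (ModuleCat.ofHom (LinearMap.single _ (fun _ => _) i.as) :
    ModuleCat.of ((ModSite.ringSh O).obj.obj (op X)) ((ModSite.ringSh O).obj.obj (op X)) ⟶ PN O X n))

noncomputable def bMap : (Gam O X).obj (FreeN O n) ⟶ PN O X n :=
  (hcΓ O X n).desc (bCocone O X n)

theorem ιΓ_bMap (i : ULift.{u} (Fin n)) :
    ιΓ O X n i ≫ bMap O X n = ModuleCat.ofHom (LinearMap.single _ (fun _ => _) i) :=
  (hcΓ O X n).fac (bCocone O X n) ⟨i⟩

noncomputable def aMap : PN O X n ⟶ (Gam O X).obj (FreeN O n) :=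
  ∑ i : ULift.{u} (Fin n), ModuleCat.ofHom (LinearMap.proj i) ≫ ιΓ O X n i

theorem aMap_bMap : aMap O X n ≫ bMap O X n = 𝟙 _ := by
  rw [aMap, Preadditive.sum_comp]
  simp only [Category.assoc, ιΓ_bMap]
  apply ModuleCat.hom_ext
  apply LinearMap.ext
  intro v
  rw [ModuleCat.hom_sum, LinearMap.sum_apply]
  funext k
  rw [Finset.sum_apply]
  simp only [ModuleCat.hom_comp, ModuleCat.hom_ofHom, LinearMap.coe_comp, Function.comp_apply,
    LinearMap.coe_proj, Function.eval, LinearMap.coe_single, Pi.single_apply, ModuleCat.hom_id,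
    LinearMap.id_coe, id_eq]
  rw [Finset.sum_ite_eq]
  simp

theorem bMap_aMap : bMap O X n ≫ aMap O X n = 𝟙 _ := by
  apply (hcΓ O X n).hom_ext
  rintro ⟨j⟩
  change ιΓ O X n j ≫ bMap O X n ≫ aMap O X n = ιΓ O X n j ≫ 𝟙 _
  rw [← Category.assoc, ιΓ_bMap, aMap, Preadditive.comp_sum, Category.comp_id]
  rw [Finset.sum_eq_single j]
  · rw [← Category.assoc, ← ModuleCat.ofHom_comp, LinearMap.proj_comp_single_same]
    exact Category.id_comp _
  · intro k _ hk
    rw [← Category.assoc, ← ModuleCat.ofHom_comp, LinearMap.proj_comp_single_ne _ _ _ _ hk]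
    exact Limits.zero_comp
  · intro h
    exact absurd (Finset.mem_univ j) h


noncomputable def freeIso : (Gam O X).obj (FreeN O n) ≅ PN O X n where
  hom := bMap O X n
  inv := aMap O X n
  hom_inv_id := bMap_aMap O X n
  inv_hom_id := aMap_bMap O X n

theorem finite_free : Module.Finite ((ModSite.ringSh O).obj.obj (op X)) ((Gam O X).obj (FreeN O n)) :=
  Module.Finite.equiv (freeIso O X n).symm.toLinearEquiv

theorem projective_free :
    Module.Projective ((ModSite.ringSh O).obj.obj (op X)) ((Gam O X).obj (FreeN O n)) :=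
  Module.Projective.of_equiv' (freeIso O X n).symm.toLinearEquiv

end FreeIso

theorem finite_projective_summand (E : ModSite.Mod O)
    (hE : DCoh.IsFinFreeSummandMod (ModSite.ringSh O) E) :
    Module.Finite ((ModSite.ringSh O).obj.obj (op X)) ((Gam O X).obj E) ∧
      Module.Projective ((ModSite.ringSh O).obj.obj (op X)) ((Gam O X).obj E) := by
  obtain ⟨n, i, p, hip⟩ := hE
  have hΓ : (Gam O X).map i ≫ (Gam O X).map p = 𝟙 _ := by
    rw [← CategoryTheory.Functor.map_comp, hip, CategoryTheory.Functor.map_id]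
  have := finite_free O X n
  have := projective_free O X n
  constructor
  · apply Module.Finite.of_surjective ((Gam O X).map p).hom
    intro y
    refine ⟨((Gam O X).map i).hom y, ?_⟩
    have := congrArg (fun t => t.hom y) hΓ
    exact this
  · apply Module.Projective.of_split ((Gam O X).map i).hom ((Gam O X).map p).hom
    have := congrArg (fun t => t.hom) hΓ
    exact this

theorem exists_summand (hX : IsTerminal X) (M : ModuleCat.{u} ((ModSite.ringSh O).obj.obj (op X)))
    (hfin : Module.Finite ((ModSite.ringSh O).obj.obj (op X)) M)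
    (hproj : Module.Projective ((ModSite.ringSh O).obj.obj (op X)) M) :
    ∃ E : ModSite.Mod O, DCoh.IsFinFreeSummandMod (ModSite.ringSh O) E ∧
      Nonempty ((Gam O X).obj E ≅ M) := by
  obtain ⟨n, f, hf⟩ := Module.Finite.exists_fin' ((ModSite.ringSh O).obj.obj (op X)) M
  let F₁ : (Gam O X).obj (FreeN O n) →ₗ[(ModSite.ringSh O).obj.obj (op X)] M :=
    f ∘ₗ (LinearMap.funLeft _ _ (ULift.up : Fin n → ULift.{u} (Fin n))) ∘ₗ (bMap O X n).hom
  have hF₁ : Function.Surjective F₁ := by
    intro m
    obtain ⟨w, hw⟩ := hf m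
    refine ⟨(aMap O X n).hom (fun k => w k.down), ?_⟩
    have h1 := congrArg (fun t => t.hom (fun k : ULift.{u} (Fin n) => w k.down)) (aMap_bMap O X n)
    have h2 : (bMap O X n).hom ((aMap O X n).hom (fun k => w k.down)) = fun k => w k.down := h1
    change f ((LinearMap.funLeft ((ModSite.ringSh O).obj.obj (op X))
      ((ModSite.ringSh O).obj.obj (op X)) ULift.up) ((bMap O X n).hom ((aMap O X n).hom _))) = m
    rw [h2, ← hw]
    rfl
  obtain ⟨G, hG⟩ := Module.projective_lifting_property F₁ LinearMap.id hF₁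
  let a : (Gam O X).obj (FreeN O n) ⟶ M := ModuleCat.ofHom F₁
  let b : M ⟶ (Gam O X).obj (FreeN O n) := ModuleCat.ofHom G
  have hba : b ≫ a = 𝟙 M := by
    apply ModuleCat.hom_ext
    exact hG
  obtain ⟨ε, hε⟩ := (bij_free hX n (FreeN O n)).2 (a ≫ b)
  have hε' : (Gam O X).map ε = a ≫ b := hε
  have hidem : ε ≫ ε = ε := by
    apply (bij_free hX n (FreeN O n)).1
    change (Gam O X).map (ε ≫ ε) = (Gam O X).map ε
    rw [CategoryTheory.Functor.map_comp, hε', Category.assoc, ← Category.assoc b, hba, Category.id_comp]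
  obtain ⟨E, i, p, hip, hpi⟩ := IsIdempotentComplete.idempotents_split (FreeN O n) ε hidem
  refine ⟨E, ⟨n, i, p, hip⟩, ⟨⟨(Gam O X).map i ≫ a, b ≫ (Gam O X).map p, ?_, ?_⟩⟩⟩
  · rw [Category.assoc, ← Category.assoc a, ← hε', ← CategoryTheory.Functor.map_comp,
      ← CategoryTheory.Functor.map_comp,
      ← hpi, Category.assoc, hip, Category.comp_id, hip, CategoryTheory.Functor.map_id]
  · rw [Category.assoc, ← Category.assoc ((Gam O X).map p), ← CategoryTheory.Functor.map_comp, hpi, hε',
      Category.assoc, hba, Category.comp_id, hba]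

end Site

theorem result
    {C : Type u} [SmallCategory C] {J : GrothendieckTopology C} (O : Sheaf J CommRingCat.{u})
    (X : C) (hX : IsTerminal X) :
    (∀ E E' : ModSite.Mod O, DCoh.IsFinFreeSummandMod (ModSite.ringSh O) E →
        DCoh.IsFinFreeSummandMod (ModSite.ringSh O) E' →
        Function.Bijective (fun φ : E ⟶ E' => φ.val.app (op X))) ∧
    (∀ E : ModSite.Mod O, DCoh.IsFinFreeSummandMod (ModSite.ringSh O) E →
        Module.Finite ((ModSite.ringSh O).obj.obj (op X)) (E.val.obj (op X)) ∧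
        Module.Projective ((ModSite.ringSh O).obj.obj (op X)) (E.val.obj (op X))) ∧
    (∀ M : ModuleCat.{u} ((ModSite.ringSh O).obj.obj (op X)),
        Module.Finite ((ModSite.ringSh O).obj.obj (op X)) M →
        Module.Projective ((ModSite.ringSh O).obj.obj (op X)) M →
        ∃ E : ModSite.Mod O, DCoh.IsFinFreeSummandMod (ModSite.ringSh O) E ∧ Nonempty (E.val.obj (op X) ≅ M)) := by
  refine ⟨fun E E' hE _ => bij_summand hX E E' hE, fun E hE => finite_projective_summand E hE,
    fun M hfin hproj => exists_summand hX M hfin hproj⟩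

end Groth.Agent.S9049
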