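import Groth.Statements.S9050
import Groth.Agent.Lib.Helper12.KFlat5

set_option autoImplicit false
universe u
open CategoryTheory CategoryTheory.Limits Opposite
open ModSite

namespace Groth.Agent.S9050

theorem result
    {C : Type u} [SmallCategory C] {J : GrothendieckTopology C} (O : Sheaf J CommRingCat.{u})
    [(ModSite.tensorBi O).PreservesZeroMorphisms] [∀ X : ModSite.Mod O, ((ModSite.tensorBi O).obj X).PreservesZeroMorphisms]
    (K : CochainComplex (ModSite.Mod O) ℤ)
    (hK : ∀ L : CochainComplex (ModSite.Mod O) ℤ, L.Acyclic →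
      (HomologicalComplex.mapBifunctor L K (ModSite.tensorBi O) (ComplexShape.up ℤ)).Acyclic)
    (F F' : CochainComplex (ModSite.Mod O) ℤ) (φ : F ⟶ F') [QuasiIso φ] :
    QuasiIso (HomologicalComplex.mapBifunctorMap φ (𝟙 K) (ModSite.tensorBi O) (ComplexShape.up ℤ)) := by
  have hK' : ModSite.IsKFlat K := fun L hL =>
    (Groth.Agent.Lib.Helper12.KFlat.acyclic_iff_acyc _).mp
      (hK L ((Groth.Agent.Lib.Helper12.KFlat.acyclic_iff_acyc _).mpr hL))
  exact Groth.Agent.Lib.Helper12.KFlat.quasiIso_tensor_right K hK' φ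

end Groth.Agent.S9050
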