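import Groth.Statements.S9051
import Groth.Agent.Lib.Helper12.KFlat15

set_option autoImplicit false
universe u
open CategoryTheory CategoryTheory.Limits Opposite
open ModSite

namespace Groth.Agent.S9051

theorem result
    {C : Type u} [SmallCategory C] {J : GrothendieckTopology C} (O : Sheaf J CommRingCat.{u})
    [(ModSite.tensorBi O).PreservesZeroMorphisms] [∀ X : ModSite.Mod O, ((ModSite.tensorBi O).obj X).PreservesZeroMorphisms]
    (P Q : CochainComplex (ModSite.Mod O) ℤ)
    (hP : ∀ L : CochainComplex (ModSite.Mod O) ℤ, L.Acyclic →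
      (HomologicalComplex.mapBifunctor L P (ModSite.tensorBi O) (ComplexShape.up ℤ)).Acyclic)
    (hQ : ∀ L : CochainComplex (ModSite.Mod O) ℤ, L.Acyclic →
      (HomologicalComplex.mapBifunctor L Q (ModSite.tensorBi O) (ComplexShape.up ℤ)).Acyclic)
    (α : P ⟶ Q) [QuasiIso α] (F : CochainComplex (ModSite.Mod O) ℤ) :
    QuasiIso (HomologicalComplex.mapBifunctorMap (𝟙 F) α (ModSite.tensorBi O) (ComplexShape.up ℤ)) := by
  have hP' : ModSite.IsKFlat P := fun L hL =>
    (Groth.Agent.Lib.Helper12.KFlat.acyclic_iff_acyc _).mp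
      (hP L ((Groth.Agent.Lib.Helper12.KFlat.acyclic_iff_acyc _).mpr hL))
  have hQ' : ModSite.IsKFlat Q := fun L hL =>
    (Groth.Agent.Lib.Helper12.KFlat.acyclic_iff_acyc _).mp
      (hQ L ((Groth.Agent.Lib.Helper12.KFlat.acyclic_iff_acyc _).mpr hL))
  exact Groth.Agent.Lib.Helper12.KFlat.quasiIso_tensor_left F α hP' hQ'

end Groth.Agent.S9051
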