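import Groth.Statements.S9052
import Groth.Agent.Lib.Helper12.KFlat16

set_option autoImplicit false
universe u
open CategoryTheory CategoryTheory.Limits Opposite
open ModSite

namespace Groth.Agent.S9052

theorem result
    {C : Type u} [SmallCategory C] {J : GrothendieckTopology C} (O : Sheaf J CommRingCat.{u})
    [(ModSite.tensorBi O).PreservesZeroMorphisms] [∀ X : ModSite.Mod O, ((ModSite.tensorBi O).obj X).PreservesZeroMorphisms]
    (K : CochainComplex (ModSite.Mod O) ℤ)
    (hK : ∀ L : CochainComplex (ModSite.Mod O) ℤ, L.Acyclic →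
      (HomologicalComplex.mapBifunctor L K (ModSite.tensorBi O) (ComplexShape.up ℤ)).Acyclic)
    (hac : K.Acyclic) (hfl : ∀ i : ℤ, ModSite.IsFlat (K.X i)) (n : ℤ) :
    ModSite.IsFlat (K.cycles n) := by
  have hK' : ModSite.IsKFlat K := fun L hL =>
    (Groth.Agent.Lib.Helper12.KFlat.acyclic_iff_acyc _).mp
      (hK L ((Groth.Agent.Lib.Helper12.KFlat.acyclic_iff_acyc _).mpr hL))
  exact Groth.Agent.Lib.Helper12.KFlat.isFlat_cycles K
    ((Groth.Agent.Lib.Helper12.KFlat.acyclic_iff_acyc _).mp hac) hK' hfl n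

end Groth.Agent.S9052
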