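import Groth.Statements.S9070
import Groth.Agent.Lib.Helper53.WSerreUnb
import Groth.Agent.S9064

set_option autoImplicit false
universe u
open CategoryTheory CategoryTheory.Limits Opposite
attribute [local instance] HasDerivedCategory.standard
open SiteCmp

namespace Groth.Agent.S9070

/-- Let f be a flat morphism from the ringed site (C, O_C) to the ringed site (D, O_D) and A ⊂ Mod(O_C),
A' ⊂ Mod(O_D) weak Serre subcategories such that (2) f^* restricts to an equivalence from A' onto A,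
(3) the unit F' → Rf_*f^*F' is invertible for each F' ∈ A', and (4), (5) each of C, O_C, A and D,
O_D, A' admits a set of objects covering everything, every member V having an integer d_V and a
cofinal system of coverings {V_i → V} with H^p(V_i, F) = 0 for F in the subcategory and p > d_V.
Then f^* : D_{A'}(O_D) → D_A(O_C) is an equivalence with quasi-inverse Rf_*: on objects with
cohomology sheaves in A' (resp. A) the functor f^* (resp. Rf_*) lands in objects with cohomology
sheaves in A (resp. A') and the unit (resp. counit) is an isomorphism there. The adjunction f^* ⊣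
Rf_* on unbounded derived categories is a hypothesis; f^* is exact, so it is its own derived
functor. Stated for ringed sites; the published statement is for ringed topoi. -/
theorem result
    {C : Type u} [SmallCategory C] {J : GrothendieckTopology C} {O_C : Sheaf J CommRingCat.{u}}
    {D : Type u} [SmallCategory D] {K : GrothendieckTopology D} {O_D : Sheaf K CommRingCat.{u}}
    (f : ModSite.RMor O_C O_D) [PreservesFiniteLimits f.pull] [SiteCmp.HasRpushD f]
    (adj : SiteCmp.pullD f ⊣ SiteCmp.RpushD f)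
    (A : ObjectProperty (ModSite.Mod O_C)) [WSerre.IsWeakSerre A]
    (A' : ObjectProperty (ModSite.Mod O_D)) [WSerre.IsWeakSerre A']
    (h2a : ∀ F' : ModSite.Mod O_D, A' F' → A (f.pull.obj F'))
    (h2b : ∀ F' G' : ModSite.Mod O_D, A' F' → A' G' →
      Function.Bijective (fun φ : F' ⟶ G' => f.pull.map φ))
    (h2c : ∀ F : ModSite.Mod O_C, A F → ∃ F' : ModSite.Mod O_D, A' F' ∧ Nonempty (f.pull.obj F' ≅ F))
    (h3 : ∀ F' : ModSite.Mod O_D, A' F' → IsIso (adj.unit.app (SiteCmp.inD O_D F')))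
    (B : Set C) (B' : Set D)
    (hB : ∀ U : C, ∃ (ι : Type u) (Y : ι → C) (g : ∀ i, Y i ⟶ U), Sieve.ofArrows Y g ∈ J U ∧ ∀ i, Y i ∈ B)
    (hA : ∀ V ∈ B, ∃ d : ℕ, ∀ T ∈ J V, ∃ (ι : Type u) (Y : ι → C) (g : ∀ i, Y i ⟶ V),
      (∀ i, T.arrows (g i)) ∧ Sieve.ofArrows Y g ∈ J V ∧
      ∀ (i : ι) (F : ModSite.Mod O_C), A F → ∀ k : ℕ, d < k → Subsingleton (ModSite.HU O_C F k (Y i)))
    (hB' : ∀ U : D, ∃ (ι : Type u) (Y : ι → D) (g : ∀ i, Y i ⟶ U), Sieve.ofArrows Y g ∈ K U ∧ ∀ i, Y i ∈ B')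
    (hA' : ∀ V ∈ B', ∃ d : ℕ, ∀ T ∈ K V, ∃ (ι : Type u) (Y : ι → D) (g : ∀ i, Y i ⟶ V),
      (∀ i, T.arrows (g i)) ∧ Sieve.ofArrows Y g ∈ K V ∧
      ∀ (i : ι) (F : ModSite.Mod O_D), A' F → ∀ k : ℕ, d < k → Subsingleton (ModSite.HU O_D F k (Y i))) :
    (∀ Y : DerivedCategory (ModSite.Mod O_D), WSerre.cohIn A' Y →
      WSerre.cohIn A ((SiteCmp.pullD f).obj Y) ∧ IsIso (adj.unit.app Y)) ∧
    (∀ X : DerivedCategory (ModSite.Mod O_C), WSerre.cohIn A X →
      WSerre.cohIn A' ((SiteCmp.RpushD f).obj X) ∧ IsIso (adj.counit.app X)) := by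
  haveI hGC := Groth.Agent.Lib.Helper53.ModGroth.isGrothendieckAbelian J (ModSite.ringSh O_C)
  haveI hGD := Groth.Agent.Lib.Helper53.ModGroth.isGrothendieckAbelian K (ModSite.ringSh O_D)
  haveI : HasExt.{u} (ModSite.Mod O_C) := hasExt_of_enoughInjectives _
  haveI : HasExt.{u} (ModSite.Mod O_D) := hasExt_of_enoughInjectives _
  haveI hPB : ∀ K' : ℕ → DerivedCategory (ModSite.Mod O_C), HasProduct K' :=
    fun K' => Groth.Agent.Lib.Helper53.WSerreUnb.hasProduct_nat K'
  haveI hPA : ∀ K' : ℕ → DerivedCategory (ModSite.Mod O_D), HasProduct K' :=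
    fun K' => Groth.Agent.Lib.Helper53.WSerreUnb.hasProduct_nat K'
  refine Groth.Agent.Lib.Helper53.WSerreUnb.equivalence_unbounded adj A A' h2a h2c h3 ?_ ?_
  · intro X hX
    refine Groth.Agent.Lib.Helper53.LocRlim.isRlimVia_truncTower
      (Groth.Agent.Lib.Helper53.ModLoc.modLocData J (ModSite.ringSh O_C)) X B hB ?_
    intro V hV
    obtain ⟨d, hd⟩ := hA V hV
    refine ⟨fun m => max (d : ℤ) m, fun T hT => ?_⟩
    obtain ⟨ι, Y, g, hT', hcov, hvan⟩ := hd T hT
    refine ⟨ι, Y, g, hT', hcov, fun i m k hk => ?_⟩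
    have hk' : max (d : ℤ) m < k := hk
    have hdk : d < k := by
      have := le_max_left (d : ℤ) m
      omega
    exact Groth.Agent.Lib.Helper53.ModLoc.subsingleton_ext_Tm J (ModSite.ringSh O_C) (Y i) _ k
      (hvan i _ (hX (m - k)) k hdk)
  · intro K' t hK hconst Lim a hL j
    exact Groth.Agent.S9064.result O_D A' B' hB' hA' K' t hK hconst Lim a hL j

end Groth.Agent.S9070
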