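import Groth.Statements.S9071
import Groth.Agent.S9080
import Groth.Agent.Lib.Helper53.EpsCmp
import Groth.Agent.Lib.Helper77.EpsFF
import Groth.Agent.Lib.Helper16.WSerreImage

set_option autoImplicit false
universe u
open CategoryTheory CategoryTheory.Limits Opposite
attribute [local instance] HasDerivedCategory.standard
open SiteCmp

namespace Groth.Agent.S9071

/-- Let τ' be a coarser topology than τ on a category C, O a τ-sheaf of rings and ε the comparison
morphism from (C_τ, O) to (C_τ', O). Let B be a set of objects and A a full subcategory of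
presheaves of O-modules such that (1) every object of A is a τ-sheaf, (2) A forms a weak Serre
subcategory inside Mod(O_τ), (3) each object of C admits a τ'-covering by members of B, and (4)
H^p_τ(U, F) = 0 for U ∈ B, F ∈ A, p > 0. Then the essential image of A under ε_* forms a weak Serre
subcategory inside Mod(O_τ') and ε^*, Rε_* are quasi-inverse equivalences between D_A(O_τ') and
D_A(O_τ): on objects with cohomology sheaves in the respective subcategory, ε^* and Rε_* preserve
that condition and the unit and counit are isomorphisms. In the order of topologies used here the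
finer topology τ is the larger one, J, and τ' is J' ≤ J; A is given as a property of τ-sheaves of
modules (condition (1) built in); flatness of ε, existence of the unbounded Rε_* and an adjunction
ε^* ⊣ Rε_* are hypotheses. -/
theorem result
    {C : Type u} [SmallCategory C] {J J' : GrothendieckTopology C} (h : J' ≤ J) (O : Sheaf J CommRingCat.{u})
    [PreservesFiniteLimits (SiteCmp.eps h O).pull] [SiteCmp.HasRpushD (SiteCmp.eps h O)]
    (adj : SiteCmp.pullD (SiteCmp.eps h O) ⊣ SiteCmp.RpushD (SiteCmp.eps h O))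
    (A : ObjectProperty (ModSite.Mod O)) [WSerre.IsWeakSerre A] (B : Set C)
    (h3 : ∀ U : C, ∃ (ι : Type u) (Y : ι → C) (g : ∀ i, Y i ⟶ U), Sieve.ofArrows Y g ∈ J' U ∧ ∀ i, Y i ∈ B)
    (h4 : ∀ U ∈ B, ∀ F : ModSite.Mod O, A F → ∀ p : ℕ, 0 < p → Subsingleton (ModSite.HU O F p U)) :
    WSerre.IsWeakSerre (A.map (SiteCmp.eps h O).push) ∧
    (∀ Y : DerivedCategory (ModSite.Mod (SiteCmp.epsRing h O)), WSerre.cohIn (A.map (SiteCmp.eps h O).push) Y →
      WSerre.cohIn A ((SiteCmp.pullD (SiteCmp.eps h O)).obj Y) ∧ IsIso (adj.unit.app Y)) ∧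
    (∀ X : DerivedCategory (ModSite.Mod O), WSerre.cohIn A X →
      WSerre.cohIn (A.map (SiteCmp.eps h O).push) ((SiteCmp.RpushD (SiteCmp.eps h O)).obj X) ∧
      IsIso (adj.counit.app X)) := by
  haveI hGC := Groth.Agent.Lib.Helper53.ModGroth.isGrothendieckAbelian J (ModSite.ringSh O)
  haveI : HasExt.{u} (ModSite.Mod O) := hasExt_of_enoughInjectives _
  let f := SiteCmp.eps h O
  haveI hci : ∀ F : ModSite.Mod O, IsIso (f.adj.counit.app F) :=
    fun F => Groth.Agent.Lib.Helper77.EpsFF.isIso_counit_eps h O F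
  -- `H^n(V, G) = 0` for `V ∈ B`, `G ∈ A`, `n > 0`, in terms of `Ext`
  have hExt : ∀ V ∈ B, ∀ G : ModSite.Mod O, A G → ∀ n : ℕ, 0 < n → Subsingleton (Abelian.Ext.{u}
      (Groth.Agent.Lib.Helper53.ModLoc.Tm J (ModSite.ringSh O) (f.fn.obj V)) G n) :=
    fun V hV G hG n hn =>
      Groth.Agent.Lib.Helper53.ModLoc.subsingleton_ext_Tm J (ModSite.ringSh O) V G n
        (h4 V hV G hG n hn)
  -- the essential image is weak Serre
  haveI hWS : WSerre.IsWeakSerre (A.map f.push) :=
    Groth.Agent.Lib.Helper16.WSerreImage.isWeakSerre_map f.pull f.push f.adj A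
      (fun S hS hS₁ => Groth.Agent.Lib.Helper53.EpsCmp.epi_push_map f S hS B h3
        (fun V hV => hExt V hV S.X₁ hS₁ 1 Nat.one_pos))
  refine ⟨hWS, ?_⟩
  have hJ : ∀ U : C, ∃ (ι : Type u) (Y : ι → C) (g : ∀ i, Y i ⟶ U),
      Sieve.ofArrows Y g ∈ J U ∧ ∀ i, Y i ∈ B := by
    intro U
    obtain ⟨ι, Y, g, hcov, hYB⟩ := h3 U
    exact ⟨ι, Y, g, h _ hcov, hYB⟩
  have hpp : ∀ F : ModSite.Mod O, A F → A (f.pull.obj (f.push.obj F)) := fun F hF =>
    (A.prop_iff_of_iso (asIso (f.adj.counit.app F))).2 hF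
  refine Groth.Agent.S9080.result f adj A (A.map f.push) ?_ ?_ ?_ ?_ B B hJ ?_ h3 ?_
  · -- h2a
    rintro F' ⟨F, hF, ⟨e⟩⟩
    exact (A.prop_iff_of_iso (f.pull.mapIso e)).1 (hpp F hF)
  · -- h2b
    rintro F' G' _ ⟨G, hG, ⟨e⟩⟩
    exact Groth.Agent.Lib.Helper53.AdjSingle.bijective_map_of_iso f.adj F' G' G e
  · -- h2c
    intro F hF
    exact ⟨f.push.obj F, ⟨F, hF, ⟨Iso.refl _⟩⟩, ⟨asIso (f.adj.counit.app F)⟩⟩
  · -- h3
    rintro F' ⟨F, hF, ⟨e⟩⟩
    have h0 := Groth.Agent.Lib.Helper53.EpsCmp.isIso_unit_single_push f adj F B h3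
      (fun V hV n hn => hExt V hV _ (hpp F hF) n hn)
    exact Groth.Agent.Lib.Helper22.isIso_app_of_iso adj.unit
      ((DerivedCategory.singleFunctor (ModSite.Mod (SiteCmp.epsRing h O)) 0).mapIso e) h0
  · -- hA
    intro V hV
    refine ⟨0, fun T hT => ?_⟩
    obtain ⟨ι, Y, g, hT', hcov, hYB⟩ :=
      Groth.Agent.Lib.Helper53.LocVanish.exists_refinement J B hJ V T hT
    exact ⟨ι, Y, g, hT', hcov, fun i F hF k hk => h4 (Y i) (hYB i) F hF k hk⟩
  · -- hA'
    intro V hV
    refine ⟨0, fun T hT => ?_⟩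
    obtain ⟨ι, Y, g, hT', hcov, hYB⟩ :=
      Groth.Agent.Lib.Helper53.LocVanish.exists_refinement J' B h3 V T hT
    exact ⟨ι, Y, g, hT', hcov, fun i F hF k hk => h4 (Y i) (hYB i) F hF k hk⟩

end Groth.Agent.S9071
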