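import Groth.Statements.S9089
import Mathlib.CategoryTheory.Sites.Grothendieck
import Mathlib.RingTheory.Ideal.Span
import Mathlib.Algebra.BigOperators.Fin

set_option autoImplicit false
universe u
open CategoryTheory Opposite
open ModSite

namespace Groth.Agent.S9089

/-- Part (1): ⇔ (2), for a ringed site (C, O) with C small and O a sheaf of commutative rings: the
following are equivalent. (1) For every object U and every section f of O over U there is a covering
sieve on U on each of whose arrows either f or 1 - f restricts to a unit. (2) For every object U,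
every n ≥ 1 and all sections f₁, …, fₙ of O over U generating the unit ideal of O(U), there is a
covering sieve on U on each of whose arrows some fᵢ restricts to a unit. -/
theorem result {C : Type u} [SmallCategory C] (J : GrothendieckTopology C)
    (O : Sheaf J CommRingCat.{u}) :
    (∀ (U : C) (f : O.obj.obj (op U)), ∃ S ∈ J U, ∀ ⦃V : C⦄ (g : V ⟶ U), S g →
        IsUnit ((O.obj.map g.op).hom f) ∨ IsUnit ((O.obj.map g.op).hom (1 - f))) ↔
    (∀ (U : C) (n : ℕ) (f : Fin n → O.obj.obj (op U)), 1 ≤ n → Ideal.span (Set.range f) = ⊤ →
        ∃ S ∈ J U, ∀ ⦃V : C⦄ (g : V ⟶ U), S g → ∃ i, IsUnit ((O.obj.map g.op).hom (f i))) := by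
  classical
  constructor
  · intro h1
    -- induction on n
    have key : ∀ n : ℕ, 1 ≤ n → ∀ (U : C) (f : Fin n → O.obj.obj (op U)),
        Ideal.span (Set.range f) = ⊤ →
        ∃ S ∈ J U, ∀ ⦃V : C⦄ (g : V ⟶ U), S g → ∃ i, IsUnit ((O.obj.map g.op).hom (f i)) := by
      intro n hn
      induction n, hn using Nat.le_induction with
      | base =>
        intro U f hf
        refine ⟨⊤, J.top_mem U, fun V g _ => ⟨0, ?_⟩⟩
        have hu : IsUnit (f 0) := by
          have h1' : (1 : O.obj.obj (op U)) ∈ Ideal.span (Set.range f) := by rw [hf]; trivial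
          rw [Ideal.mem_span_range_iff_exists_fun] at h1'
          obtain ⟨c, hc⟩ := h1'
          rw [Fin.sum_univ_one] at hc
          exact IsUnit.of_mul_eq_one_right _ hc
        exact hu.map _
      | succ n hn ih =>
        intro U f hf
        have h1' : (1 : O.obj.obj (op U)) ∈ Ideal.span (Set.range f) := by rw [hf]; trivial
        rw [Ideal.mem_span_range_iff_exists_fun] at h1'
        obtain ⟨c, hc⟩ := h1'
        rw [Fin.sum_univ_castSucc] at hc
        set e : O.obj.obj (op U) := c (Fin.last n) * f (Fin.last n) with he
        have he1 : 1 - e = ∑ i : Fin n, c i.castSucc * f i.castSucc := by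
          rw [← hc]; ring
        obtain ⟨S, hS, hSe⟩ := h1 U e
        -- the family of sieves
        have hR : ∀ ⦃V : C⦄ ⦃g : V ⟶ U⦄, S g → ∃ R : Sieve V, R ∈ J V ∧
            ∀ ⦃W : C⦄ (k : W ⟶ V), R k → ∃ i, IsUnit ((O.obj.map (k ≫ g).op).hom (f i)) := by
          intro V g hg
          rcases hSe g hg with hu | hu
          · refine ⟨⊤, J.top_mem V, fun W k _ => ⟨Fin.last n, ?_⟩⟩
            have hu' : IsUnit ((O.obj.map g.op).hom (f (Fin.last n))) := by
              rw [he, map_mul] at hu
              exact isUnit_of_mul_isUnit_right hu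
            have : (O.obj.map (k ≫ g).op).hom (f (Fin.last n)) =
                (O.obj.map k.op).hom ((O.obj.map g.op).hom (f (Fin.last n))) := by
              rw [op_comp, Functor.map_comp]; rfl
            rw [this]
            exact hu'.map _
          · -- restricted family generates the unit ideal
            have hspan : Ideal.span (Set.range fun i : Fin n =>
                (O.obj.map g.op).hom (f i.castSucc)) = ⊤ := by
              apply Ideal.eq_top_of_isUnit_mem _ _ hu
              rw [he1, map_sum]
              refine Submodule.sum_mem _ fun i _ => ?_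
              rw [map_mul]
              exact Ideal.mul_mem_left _ _ (Ideal.subset_span ⟨i, rfl⟩)
            obtain ⟨R, hRJ, hRu⟩ := ih V _ hspan
            refine ⟨R, hRJ, fun W k hk => ?_⟩
            obtain ⟨i, hi⟩ := hRu k hk
            refine ⟨i.castSucc, ?_⟩
            have : (O.obj.map (k ≫ g).op).hom (f i.castSucc) =
                (O.obj.map k.op).hom ((O.obj.map g.op).hom (f i.castSucc)) := by
              rw [op_comp, Functor.map_comp]; rfl
            rw [this]
            exact hi
        choose R hRJ hRu using hR
        refine ⟨Sieve.bind S R, J.bind_covering hS (fun _ _ H => hRJ H), ?_⟩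
        rintro W h ⟨V, k, g, hg, hk, rfl⟩
        exact hRu hg k hk
    intro U n f hn hf
    exact key n hn U f hf
  · intro h2 U f
    have hspan : Ideal.span (Set.range ![f, 1 - f]) = ⊤ := by
      have hmem : f + (1 - f) ∈ Ideal.span (Set.range ![f, 1 - f]) :=
        Ideal.add_mem _ (Ideal.subset_span ⟨0, rfl⟩) (Ideal.subset_span ⟨1, rfl⟩)
      rw [Ideal.eq_top_iff_one]
      have h1f : f + (1 - f) = 1 := by ring
      rwa [h1f] at hmem
    obtain ⟨S, hS, hSu⟩ := h2 U 2 ![f, 1 - f] (by norm_num) hspan
    refine ⟨S, hS, fun V g hg => ?_⟩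
    obtain ⟨i, hi⟩ := hSu g hg
    fin_cases i
    · exact Or.inl hi
    · exact Or.inr hi

end Groth.Agent.S9089
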