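import Groth.Statements.S9091
import Mathlib.Tactic

set_option autoImplicit false
universe u
open CategoryTheory Opposite
open ModSite

namespace Groth.Agent.S9091

theorem unit_of_germ {C : Type u} [SmallCategory C] {J : GrothendieckTopology C}
    (O : Sheaf J CommRingCat.{u}) (p : GrothendieckTopology.Point.{u} J) (U : C) (x : p.fiber.obj U)
    (f : O.obj.obj (op U)) (hf : IsUnit ((p.toPresheafFiber U x O.obj).hom f)) :
    ∃ (V : C) (g : V ⟶ U) (y : p.fiber.obj V), p.fiber.map g y = x ∧ IsUnit ((O.obj.map g.op).hom f) := by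
  obtain ⟨b, hb⟩ := hf.exists_right_inv
  obtain ⟨X, x', z, rfl⟩ := p.toPresheafFiber_jointly_surjective (P := O.obj) b
  let W := IsCofiltered.min (Functor.elementsMk p.fiber U x) (Functor.elementsMk p.fiber X x')
  let gU := IsCofiltered.minToLeft (Functor.elementsMk p.fiber U x) (Functor.elementsMk p.fiber X x')
  let gX := IsCofiltered.minToRight (Functor.elementsMk p.fiber U x) (Functor.elementsMk p.fiber X x')
  have hU : (p.toPresheafFiber U x O.obj).hom f =
      (p.toPresheafFiber W.1 W.2 O.obj).hom ((O.obj.map gU.1.op).hom f) :=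
    ((congrArg (fun t => (p.toPresheafFiber U t O.obj).hom f) gU.2).symm).trans
      (p.toPresheafFiber_w_apply gU.1 W.2 O.obj f).symm
  have hX : (p.toPresheafFiber X x' O.obj).hom z =
      (p.toPresheafFiber W.1 W.2 O.obj).hom ((O.obj.map gX.1.op).hom z) :=
    ((congrArg (fun t => (p.toPresheafFiber X t O.obj).hom z) gX.2).symm).trans
      (p.toPresheafFiber_w_apply gX.1 W.2 O.obj z).symm
  rw [hU, hX, ← map_mul] at hb
  have h1 : (p.toPresheafFiber W.1 W.2 O.obj).hom ((O.obj.map gU.1.op).hom f * (O.obj.map gX.1.op).hom z) =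
      (p.toPresheafFiber W.1 W.2 O.obj).hom 1 := by rw [hb, map_one]
  rw [p.toPresheafFiber_eq_iff'] at h1
  obtain ⟨Y, k, y, hy, hk⟩ := h1
  refine ⟨Y, k ≫ gU.1, y, ?_, ?_⟩
  · rw [Functor.map_comp_apply, hy]; exact gU.2
  · have hk' : (O.obj.map k.op).hom ((O.obj.map gU.1.op).hom f * (O.obj.map gX.1.op).hom z) =
        (O.obj.map k.op).hom 1 := hk
    rw [map_mul, map_one] at hk'
    have : (O.obj.map (k ≫ gU.1).op).hom f = (O.obj.map k.op).hom ((O.obj.map gU.1.op).hom f) := by
      rw [op_comp, Functor.map_comp]; rfl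
    rw [this]
    exact IsUnit.of_mul_eq_one _ hk'




/-- Part (2): ⇒ (1) when the site has enough points, for a ringed site (C, O) with C small and O a sheaf
of commutative rings: if at every point p of the site the stalk O_p is the zero ring or is local,
then for every object U and every section f of O over U there is a covering sieve on U on each of
whose arrows either f or 1 - f restricts to a unit. -/
theorem result {C : Type u} [SmallCategory C] {J : GrothendieckTopology C}
    (O : Sheaf J CommRingCat.{u}) [GrothendieckTopology.HasEnoughPoints.{u} J]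
    (h : ∀ p : GrothendieckTopology.Point.{u} J, Subsingleton (ModSite.stalkRing p O) ∨ IsLocalRing (ModSite.stalkRing p O))
    (U : C) (f : O.obj.obj (op U)) :
    ∃ S ∈ J U, ∀ ⦃V : C⦄ (g : V ⟶ U), S g →
        IsUnit ((O.obj.map g.op).hom f) ∨ IsUnit ((O.obj.map g.op).hom (1 - f)) := by
  obtain ⟨P, hPsmall, hP⟩ := GrothendieckTopology.HasEnoughPoints.exists_objectProperty.{u} J
  let ι := {i : Σ V : C, V ⟶ U // IsUnit ((O.obj.map i.2.op).hom f) ∨ IsUnit ((O.obj.map i.2.op).hom (1 - f))}
  refine ⟨Sieve.ofArrows (fun i : ι => i.1.1) (fun i : ι => i.1.2), ?_, ?_⟩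
  · rw [hP.jointly_reflect_ofArrows_mem_of_small]
    intro Φ x
    have hgerm : IsUnit ((Φ.obj.toPresheafFiber U x O.obj).hom f) ∨
        IsUnit ((Φ.obj.toPresheafFiber U x O.obj).hom (1 - f)) := by
      rcases h Φ.obj with hs | hl
      · left
        have : Subsingleton ((Φ.obj.presheafFiber (A := CommRingCat.{u})).obj O.obj : CommRingCat.{u}) := hs
        exact isUnit_of_subsingleton _
      · have : IsLocalRing ((Φ.obj.presheafFiber (A := CommRingCat.{u})).obj O.obj : CommRingCat.{u}) := hl
        rw [map_sub, map_one]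
        exact IsLocalRing.isUnit_or_isUnit_one_sub_self _
    rcases hgerm with hu | hu
    · obtain ⟨V, g, y, hy, hV⟩ := unit_of_germ O Φ.obj U x f hu
      exact ⟨⟨⟨V, g⟩, Or.inl hV⟩, y, hy⟩
    · obtain ⟨V, g, y, hy, hV⟩ := unit_of_germ O Φ.obj U x (1 - f) hu
      exact ⟨⟨⟨V, g⟩, Or.inr hV⟩, y, hy⟩
  · intro V g hg
    obtain ⟨W, k, _, ⟨i⟩, rfl⟩ := hg
    have e : ∀ w : O.obj.obj (op U), (O.obj.map (k ≫ i.1.2).op).hom w =
        (O.obj.map k.op).hom ((O.obj.map i.1.2.op).hom w) := by
      intro w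
      rw [op_comp, Functor.map_comp]; rfl
    rcases i.2 with hu | hu
    · left; rw [e]; exact hu.map _
    · right; rw [e]; exact hu.map _

end Groth.Agent.S9091
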