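import Groth.Statements.S9097
import Mathlib.CategoryTheory.Sites.ConstantSheaf
import Mathlib.CategoryTheory.Sites.LeftExact
import Mathlib.Algebra.Category.Grp.Limits
import Mathlib.Algebra.Category.Grp.FilteredColimits
import Mathlib.Algebra.Category.Grp.EpiMono
import Mathlib.Algebra.Homology.ShortComplex.ExactFunctor

set_option autoImplicit false
universe u
open CategoryTheory Opposite
open CohSite

namespace Groth.Agent.S9097

section helpers
open CategoryTheory.Limits
variable {C : Type u} [SmallCategory C] (J : GrothendieckTopology C) (U : C)

theorem pfl_sections : PreservesFiniteLimits ((sheafSections J AddCommGrpCat.{u}).obj (op U)) := by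
  have : PreservesFiniteLimits (sheafToPresheaf J AddCommGrpCat.{u} ⋙ (evaluation _ _).obj (op U)) := by
    infer_instance
  exact preservesFiniteLimits_of_natIso (sheafSectionsNatIsoEvaluation (J := J) (A := AddCommGrpCat.{u}) (X := U)).symm

theorem pfl_const : PreservesFiniteLimits (constantSheaf J AddCommGrpCat.{u}) := by
  unfold constantSheaf
  infer_instance

theorem pfl_phi : PreservesFiniteLimits (constantSheaf J AddCommGrpCat.{u} ⋙ (sheafSections J AddCommGrpCat.{u}).obj (op U)) := by
  have := pfl_sections J U
  have := pfl_const J
  infer_instance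

theorem surj_phi {B Cc : AddCommGrpCat.{u}} (g : B ⟶ Cc) (hg : Function.Surjective g) :
    Function.Surjective
      ((constantSheaf J AddCommGrpCat.{u} ⋙ (sheafSections J AddCommGrpCat.{u}).obj (op U)).map g) := by
  let UU := forget AddCommGrpCat.{u}
  let e := constantCommuteCompose J UU
  -- a set-theoretic section
  obtain ⟨s, hs⟩ := hg.hasRightInverse
  let s' : UU.obj Cc ⟶ UU.obj B := ↾s
  have hs' : s' ≫ UU.map g = 𝟙 _ := by
    ext x
    exact hs x
  -- the section functor on sheaves of types
  let Ψ := constantSheaf J (Type u) ⋙ (sheafSections J (Type u)).obj (op U)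
  have h1 : Ψ.map s' ≫ Ψ.map (UU.map g) = 𝟙 _ := by
    rw [← Ψ.map_comp, hs', Ψ.map_id]
  have hsurjΨ : Function.Surjective (Ψ.map (UU.map g)) := by
    intro y
    refine ⟨Ψ.map s' y, ?_⟩
    have := congrArg (fun f => f y) h1
    exact this
  -- naturality
  have hnat := e.hom.naturality g
  have hnatU := congrArg (fun f => ((sheafSections J (Type u)).obj (op U)).map f) hnat
  simp only [Functor.map_comp] at hnatU
  intro y
  -- transport y
  let eC := ((sheafSections J (Type u)).obj (op U)).mapIso (e.app Cc)
  let eB := ((sheafSections J (Type u)).obj (op U)).mapIso (e.app B)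
  obtain ⟨z, hz⟩ := hsurjΨ (eC.hom y)
  refine ⟨eB.inv z, ?_⟩
  have h2 := congrArg (fun f => f (eB.inv z)) hnatU
  have h3 : eC.hom ((ConcreteCategory.hom ((constantSheaf J AddCommGrpCat ⋙ (sheafSections J AddCommGrpCat).obj (op U)).map g))
      ((ConcreteCategory.hom eB.inv) z)) = eC.hom y := by
    rw [← hz]
    rw [ConcreteCategory.comp_apply, ConcreteCategory.comp_apply] at h2
    have h4 : (ConcreteCategory.hom (((sheafSections J (Type u)).obj (op U)).map (e.hom.app B)))
        ((ConcreteCategory.hom eB.inv) z) = z := by
      change eB.hom (eB.inv z) = z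
      simp
    rw [h4] at h2
    exact h2
  have hinj : Function.Injective eC.hom := by
    intro a b hab
    have := congrArg eC.inv hab
    simpa using this
  exact hinj h3

end helpers


/-- If 0 → A → B → C → 0 is short exact in the category of abelian groups then, for every object U, the
sequence 0 → A̲(U) → B̲(U) → C̲(U) → 0 of sections of the constant abelian sheaves is short exact;
in other words the sequence of constant sheaves is exact even as a sequence of abelian presheaves.
The instance binder on the sections-of-constant-sheaf functor (it preserves zero morphisms) always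
holds and is only needed to form the complex. -/
theorem result {C : Type u} [SmallCategory C] (J : GrothendieckTopology C)
    (S : ShortComplex AddCommGrpCat.{u}) (hS : S.ShortExact) (U : C)
    [(constantSheaf J AddCommGrpCat.{u} ⋙ (sheafSections J AddCommGrpCat.{u}).obj (op U)).PreservesZeroMorphisms] :
    (S.map (constantSheaf J AddCommGrpCat.{u} ⋙ (sheafSections J AddCommGrpCat.{u}).obj (op U))).ShortExact := by
  have hpfl := pfl_phi J U
  have hmono : Mono S.f := hS.mono_f
  have hepi : Epi S.g := hS.epi_g
  refine ShortComplex.ShortExact.mk' ?_ ?_ ?_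
  · exact hS.exact.map_of_mono_of_preservesKernel _ hmono inferInstance
  · change Mono ((constantSheaf J AddCommGrpCat.{u} ⋙
      (sheafSections J AddCommGrpCat.{u}).obj (op U)).map S.f)
    infer_instance
  · change Epi ((constantSheaf J AddCommGrpCat.{u} ⋙
      (sheafSections J AddCommGrpCat.{u}).obj (op U)).map S.g)
    rw [AddCommGrpCat.epi_iff_surjective]
    exact surj_phi J U S.g ((AddCommGrpCat.epi_iff_surjective _).mp hepi)

end Groth.Agent.S9097
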