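import Groth.Statements.S9108
import Mathlib

set_option autoImplicit false
universe u
open CategoryTheory
open CohSite

namespace Groth.Agent.S9108

/-- Let u : C ⥤ D be a functor between small sites which is cocontinuous, continuous (restriction along
u preserves sheaves, and u sends covering families to covering families) and fully faithful; let g
be the morphism of topoi attached to u, so that g⁻¹ is restriction along u, g_* its right adjoint
and g_! its left adjoint on abelian sheaves. Then for every abelian sheaf F on C the canonical maps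
F → g⁻¹g_!F (unit) and g⁻¹g_*F → F (counit) are isomorphisms. -/
theorem result {C D : Type u} [SmallCategory C] [SmallCategory D]
    (J : GrothendieckTopology C) (K : GrothendieckTopology D) (u : C ⥤ D)
    [u.IsCocontinuous J K] [u.IsContinuous J K] (hu : CoverPreserving J K u) [u.Full] [u.Faithful]
    (F : Sheaf J AddCommGrpCat.{u}) :
    IsIso ((u.sheafAdjunctionContinuous AddCommGrpCat.{u} J K).unit.app F) ∧
      IsIso ((u.sheafAdjunctionCocontinuous AddCommGrpCat.{u} J K).counit.app F) := by
  have hc : ∀ G : Sheaf J AddCommGrpCat.{u},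
      IsIso ((u.sheafAdjunctionCocontinuous AddCommGrpCat.{u} J K).counit.app G) := by
    intro G
    have : (sheafToPresheaf J AddCommGrpCat.{u}).map
        ((u.sheafAdjunctionCocontinuous AddCommGrpCat.{u} J K).counit.app G) =
        (u.op.ranAdjunction AddCommGrpCat.{u}).counit.app G.obj :=
      Functor.sheafAdjunctionCocontinuous_counit_app_hom (G := u) AddCommGrpCat.{u} J K G
    have h1 : u.op.Full := inferInstance
    have h2 : u.op.Faithful := inferInstance
    have h3 : ∀ (P : Cᵒᵖ ⥤ AddCommGrpCat.{u}), u.op.HasPointwiseRightKanExtension P :=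
      fun P => inferInstance
    have h4 : ∀ (P : Cᵒᵖ ⥤ AddCommGrpCat.{u}), u.op.HasRightKanExtension P :=
      fun P => inferInstance
    have : IsIso ((sheafToPresheaf J AddCommGrpCat.{u}).map
        ((u.sheafAdjunctionCocontinuous AddCommGrpCat.{u} J K).counit.app G)) := by
      rw [this, Functor.ranAdjunction_counit]
      have : ∀ X, IsIso ((u.op.ranCounit.app G.obj).app X) := fun X =>
        (Functor.isPointwiseRightKanExtensionRanCounit u.op G.obj (u.op.obj X)).isIso_hom_app
      exact @NatIso.isIso_of_isIso_app _ _ _ _ _ _ _ this
    exact isIso_of_reflects_iso _ (sheafToPresheaf J AddCommGrpCat.{u})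
  have hc' : IsIso (u.sheafAdjunctionCocontinuous AddCommGrpCat.{u} J K).counit :=
    NatIso.isIso_of_isIso_app _
  let t : Adjunction.Triple (u.sheafPullback AddCommGrpCat.{u} J K)
      (u.sheafPushforwardContinuous AddCommGrpCat.{u} J K)
      (u.sheafPushforwardCocontinuous AddCommGrpCat.{u} J K) :=
    ⟨u.sheafAdjunctionContinuous AddCommGrpCat.{u} J K,
      u.sheafAdjunctionCocontinuous AddCommGrpCat.{u} J K⟩
  have hu' : IsIso (u.sheafAdjunctionContinuous AddCommGrpCat.{u} J K).unit :=
    t.isIso_unit_iff_isIso_counit.mpr hc'
  exact ⟨inferInstance, hc F⟩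

end Groth.Agent.S9108
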