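import Groth.Statements.S9109
import Mathlib

set_option autoImplicit false
universe u
open CategoryTheory CategoryTheory.Limits
open CohSite

namespace Groth.Agent.S9109

/-- Part (1): on a small site (C, J) with a point p: the skyscraper functor p_* from abelian groups to
abelian sheaves on C (right adjoint to the stalk functor at p; its value on A is the sheaf U ↦ ∏_{x
∈ p⁻¹U} A) is exact. As a right adjoint it preserves limits; the statement here is that it also
preserves finite colimits. -/
theorem result {C : Type u} [SmallCategory C] {J : GrothendieckTopology C}
    (p : GrothendieckTopology.Point.{u} J) :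
    PreservesFiniteColimits (p.skyscraperSheafFunctor (A := AddCommGrpCat.{u})) := by
  haveI : (p.skyscraperSheafFunctor (A := AddCommGrpCat.{u})).Additive :=
    Functor.additive_of_preserves_binary_products _
  rw [Functor.preservesFiniteColimits_iff_forall_exact_map_and_epi]
  intro S hS
  have hlim : PreservesFiniteLimits (p.skyscraperSheafFunctor (A := AddCommGrpCat.{u})) :=
    inferInstance
  have h0 := (Functor.preservesFiniteLimits_tfae
    (p.skyscraperSheafFunctor (A := AddCommGrpCat.{u}))).out 3 0
  have h1 := h0.1 hlim S hS
  refine ⟨h1.1, ?_⟩
  haveI := hS.epi_g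
  apply (sheafToPresheaf J AddCommGrpCat.{u}).epi_of_epi_map
  change Epi (p.skyscraperPresheafFunctor.map S.g)
  apply (config := { allowSynthFailures := true }) NatTrans.epi_of_epi_app
  intro U
  change Epi (Limits.Pi.map fun _ => S.g)
  have hlimepi : (lim (J := Discrete (p.fiber.obj U.unop)) (C := AddCommGrpCat.{u})).PreservesEpimorphisms :=
    inferInstance
  haveI : Epi (Discrete.natTrans (F := Discrete.functor fun _ : p.fiber.obj U.unop => S.X₂)
      (G := Discrete.functor fun _ : p.fiber.obj U.unop => S.X₃) fun _ => S.g) := by
    apply (config := { allowSynthFailures := true }) NatTrans.epi_of_epi_app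
    intro j
    exact hS.epi_g
  exact hlimepi.preserves (Discrete.natTrans (F := Discrete.functor fun _ : p.fiber.obj U.unop => S.X₂)
      (G := Discrete.functor fun _ : p.fiber.obj U.unop => S.X₃) fun _ => S.g)

end Groth.Agent.S9109
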