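import Groth.Statements.S9110
import Groth.Agent.Lib.Helper42.PreFlat

set_option autoImplicit false
universe u
open CategoryTheory CategoryTheory.Limits
open ModSite

namespace Groth.Agent.S9110

/-- Let C be a small category, O a presheaf of commutative rings on C and F a presheaf of O-modules such
that each F(U) is a flat O(U)-module. Then F is flat as a presheaf of modules, i.e. the functor G ↦
G ⊗_{p,O} F given by the sectionwise tensor product of presheaves of modules is exact (preserves
finite limits and finite colimits). -/
theorem result {C : Type u} [SmallCategory C] (O : Cᵒᵖ ⥤ CommRingCat.{u})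
    (F : PresheafOfModules.{u} (O ⋙ forget₂ CommRingCat.{u} RingCat.{u}))
    (hF : ∀ X : Cᵒᵖ, Module.Flat (O.obj X) (F.obj X)) :
    PreservesFiniteLimits (MonoidalCategory.tensorRight F) ∧ PreservesFiniteColimits (MonoidalCategory.tensorRight F) := by
  refine ⟨Groth.Agent.Lib.Helper42.PreFlat.preservesFiniteLimits_tensorRight_of_flat O F hF, ?_⟩
  have : PreservesColimitsOfSize.{u, u} (MonoidalCategory.tensorRight F) := inferInstance
  exact PreservesColimitsOfSize.preservesFiniteColimits _

end Groth.Agent.S9110
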