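import Groth.Statements.S9112
import Mathlib.Tactic
import Groth.Agent.Lib.Helper72.SheafTensor

set_option autoImplicit false
universe u
open CategoryTheory
open ModSite

namespace Groth.Agent.S9112

open CategoryTheory.Limits
theorem toSheaf_preservesColimitsOfShape {C : Type u} [SmallCategory C] {J : GrothendieckTopology C}
    (R : Sheaf J RingCat.{u}) (K : Type) [SmallCategory K] [FinCategory K] :
    PreservesColimitsOfShape K (SheafOfModules.toSheaf.{u} R) := by
  let adj := PresheafOfModules.sheafificationAdjunction (𝟙 R.obj)
  have : IsIso adj.counit := inferInstance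
  have : (SheafOfModules.forget R ⋙ PresheafOfModules.restrictScalars (𝟙 R.obj)).Full :=
    adj.fullyFaithfulROfIsIsoCounit.full
  have : (SheafOfModules.forget R ⋙ PresheafOfModules.restrictScalars (𝟙 R.obj)).Faithful :=
    adj.fullyFaithfulROfIsIsoCounit.faithful
  have : PreservesColimitsOfShape K
      (PresheafOfModules.sheafification.{u} (𝟙 R.obj) ⋙ SheafOfModules.toSheaf.{u} R) := by
    change PreservesColimitsOfShape K
      (PresheafOfModules.toPresheaf R.obj ⋙ presheafToSheaf J AddCommGrpCat.{u})
    infer_instance
  exact Groth.Agent.Lib.Helper72.preservesColimitsOfShape_of_comp_reflector adj K _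




/-- Part (1): on a small ringed site (C, O) with O commutative, for a point p of the site: the stalk
functor F ↦ F_p from O-modules to O_p-modules is exact. Stated on a short exact sequence 0 → F₁ → F₂
→ F₃ → 0 of O-modules: the induced O_p-linear map F₁,p → F₂,p is injective, F₂,p → F₃,p is
surjective, and the range of the first is the kernel of the second. -/
theorem result {C : Type u} [SmallCategory C] {J : GrothendieckTopology C}
    (O : Sheaf J CommRingCat.{u}) (S : ShortComplex (ModSite.Mod O)) (hS : S.ShortExact)
    (p : GrothendieckTopology.Point.{u} J) :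
    Function.Injective (ModSite.stalkMap p S.f).hom ∧ Function.Surjective (ModSite.stalkMap p S.g).hom ∧
      LinearMap.range (ModSite.stalkMap p S.f).hom = LinearMap.ker (ModSite.stalkMap p S.g).hom := by
  have hcol : PreservesFiniteColimits (SheafOfModules.toSheaf.{u} (ringSh O)) :=
    ⟨fun K _ _ => toSheaf_preservesColimitsOfShape (ringSh O) K⟩
  let Fp : ModSite.Mod O ⥤ AddCommGrpCat.{u} :=
    SheafOfModules.toSheaf.{u} (ringSh O) ⋙ p.sheafFiber (A := AddCommGrpCat.{u})
  have : PreservesFiniteLimits Fp := comp_preservesFiniteLimits _ _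
  have : PreservesFiniteColimits Fp := comp_preservesFiniteColimits _ _
  have hadd : Fp.Additive := Functor.additive_of_preserves_binary_products Fp
  have hE : (S.map Fp).ShortExact := hS.map_of_exact Fp
  have h1 : Function.Injective (Fp.map S.f).hom := by
    have := hE.mono_f
    exact (AddCommGrpCat.mono_iff_injective _).1 this
  have h2 : Function.Surjective (Fp.map S.g).hom := by
    have := hE.epi_g
    exact (AddCommGrpCat.epi_iff_surjective _).1 this
  have h3 := (ShortComplex.ab_exact_iff_range_eq_ker (S := S.map Fp)).1 hE.exact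
  refine ⟨h1, h2, ?_⟩
  ext x
  have h4 : x ∈ (AddCommGrpCat.Hom.hom (Fp.map S.f)).range ↔ x ∈ (AddCommGrpCat.Hom.hom (Fp.map S.g)).ker := by
    have h6 : (AddCommGrpCat.Hom.hom (Fp.map S.f)).range = (AddCommGrpCat.Hom.hom (Fp.map S.g)).ker := h3
    rw [h6]
  rw [AddMonoidHom.mem_range, AddMonoidHom.mem_ker] at h4
  rw [LinearMap.mem_range, LinearMap.mem_ker]
  exact h4

end Groth.Agent.S9112
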