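import Groth.Statements.S9124
import Groth.Agent.Lib.Helper70.Catenary
-- import your own Groth.Agent.* helpers here

set_option autoImplicit false
universe u
open CAlg

namespace Groth.Agent.S9124

/-- A localization of a catenary ring is catenary. -/
theorem result (A : Type u) [CommRing A] (S : Submonoid A)
    (B : Type u) [CommRing B] [Algebra A B] [IsLocalization S B]
    (hA : CAlg.IsCatenary A) : CAlg.IsCatenary B := by
  rw [Groth.Agent.Lib.Helper70.isCatenary_iff_posetCat] at hA ⊢
  let e := IsLocalization.primeSpectrumOrderIso S B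
  let φ : PrimeSpectrum B ↪o PrimeSpectrum A :=
    e.toOrderEmbedding.trans (OrderEmbedding.subtype _)
  refine Groth.Agent.Lib.Helper70.PosetCat.of_embedding φ ?_ hA
  intro a b r _ hrb
  have hdisj : Disjoint (S : Set A) r.asIdeal := by
    have hb : Disjoint (S : Set A) (φ b).asIdeal := (e b).2
    exact Set.disjoint_of_subset_right hrb hb
  refine ⟨e.symm ⟨r, hdisj⟩, ?_⟩
  show ((e (e.symm ⟨r, hdisj⟩)) : PrimeSpectrum A) = r
  rw [OrderIso.apply_symm_apply]

end Groth.Agent.S9124
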