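import Groth.Statements.S9126
import Groth.Agent.Lib.Helper70.Catenary3
import Mathlib.RingTheory.EssentialFiniteness
import Mathlib.RingTheory.Localization.Submodule
import Mathlib.RingTheory.Polynomial.Basic
-- import your own Groth.Agent.* helpers here

set_option autoImplicit false
universe u
open CAlg

namespace Groth.Agent.S9126

/-- An algebra essentially of finite type over a Noetherian universally catenary ring is universally
catenary. -/
theorem result (A : Type u) [CommRing A] (B : Type u) [CommRing B]
    [Algebra A B] [Algebra.EssFiniteType A B]
    (hA : CAlg.IsUniversallyCatenary A) : CAlg.IsUniversallyCatenary B := by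
  obtain ⟨hN, hcat⟩ := hA
  have : IsNoetherianRing A := hN
  have hN₀ : IsNoetherianRing (Algebra.EssFiniteType.subalgebra A B) :=
    Algebra.FiniteType.isNoetherianRing A _
  refine ⟨IsLocalization.isNoetherianRing (Algebra.EssFiniteType.submonoid A B) B hN₀, ?_⟩
  intro C _ _ hC
  refine Groth.Agent.Lib.Helper70.isCatenary_of_finiteType_of_isLocalization
    (Algebra.EssFiniteType.subalgebra A B) (Algebra.EssFiniteType.submonoid A B) B ?_ C hC
  intro n
  apply hcat
  exact Algebra.FiniteType.trans (S := Algebra.EssFiniteType.subalgebra A B) inferInstance inferInstance

end Groth.Agent.S9126
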