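import Groth.Statements.S9127
import Groth.Agent.Lib.Helper70.Catenary
import Groth.Agent.S9125
-- import your own Groth.Agent.* helpers here

set_option autoImplicit false
universe u
open CAlg

namespace Groth.Agent.S9127

/-- A Noetherian ring is catenary if and only if its quotient by every minimal prime is catenary. -/
theorem result (R : Type u) [CommRing R] [IsNoetherianRing R] :
    CAlg.IsCatenary R ↔ ∀ p ∈ minimalPrimes R, CAlg.IsCatenary (R ⧸ p) := by
  constructor
  · intro h p _
    exact Groth.Agent.S9125.result R p h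
  · intro h
    rw [Groth.Agent.Lib.Helper70.isCatenary_iff_posetCat]
    apply Groth.Agent.Lib.Helper70.PosetCat.of_cover.{u, u}
    intro p
    obtain ⟨p₀, hp₀, hle⟩ := Ideal.exists_minimalPrimes_le (bot_le : (⊥ : Ideal R) ≤ p.asIdeal)
    have hcat := h p₀ hp₀
    rw [Groth.Agent.Lib.Helper70.isCatenary_iff_posetCat] at hcat
    let e := p₀.primeSpectrumQuotientOrderIsoZeroLocus
    let φ : PrimeSpectrum (R ⧸ p₀) ↪o PrimeSpectrum R :=
      e.toOrderEmbedding.trans (OrderEmbedding.subtype _)
    refine ⟨PrimeSpectrum (R ⧸ p₀), inferInstance, φ, hcat, ?_, ?_⟩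
    · intro a r har
      have hmem : r ∈ PrimeSpectrum.zeroLocus (p₀ : Set R) := by
        have ha : (φ a) ∈ PrimeSpectrum.zeroLocus (p₀ : Set R) := (e a).2
        rw [PrimeSpectrum.mem_zeroLocus] at ha ⊢
        exact ha.trans har
      refine ⟨e.symm ⟨r, hmem⟩, ?_⟩
      show ((e (e.symm ⟨r, hmem⟩)) : PrimeSpectrum R) = r
      rw [OrderIso.apply_symm_apply]
    · have hmem : p ∈ PrimeSpectrum.zeroLocus (p₀ : Set R) := by
        rw [PrimeSpectrum.mem_zeroLocus]
        exact hle
      refine ⟨e.symm ⟨p, hmem⟩, ?_⟩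
      show ((e (e.symm ⟨p, hmem⟩)) : PrimeSpectrum R) = p
      rw [OrderIso.apply_symm_apply]

end Groth.Agent.S9127
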