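import Groth.Statements.S9129
import Groth.Agent.Lib.Helper67.FlatDepth7

set_option autoImplicit false
universe u
open CAlg

namespace Groth.Agent.S9129

/-- Suppose R → S is a flat local homomorphism between Noetherian local rings, with R Cohen–Macaulay.
Assume either that S is finite over R or that the Krull dimension of S is at most that of R. Then
the two rings have equal dimension and S is itself Cohen–Macaulay. -/
theorem result (R S : Type u) [CommRing R] [CommRing S]
    [LocCoh.IsCohenMacaulayLocalRing R] [IsNoetherianRing S] [IsLocalRing S] [Algebra R S]
    [IsLocalHom (algebraMap R S)] [Module.Flat R S]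
    (h : Module.Finite R S ∨ ringKrullDim S ≤ ringKrullDim R) :
    LocCoh.IsCohenMacaulayLocalRing S ∧ ringKrullDim R = ringKrullDim S := by
  have hR : LocCoh.IsCohenMacaulayLocalRing R := inferInstance
  have hle : ringKrullDim S ≤ ringKrullDim R := by
    rcases h with hfin | hle
    · haveI : Algebra.IsIntegral R S := Algebra.IsIntegral.of_finite R S
      exact Groth.Agent.Lib.Helper67.ringKrullDim_le_of_isIntegral R S
    · exact hle
  exact Groth.Agent.Lib.Helper67.isCohenMacaulayLocalRing_of_flat_of_dim_le hR hle

end Groth.Agent.S9129
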