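import Groth.Statements.S9130
import Groth.Agent.Lib.Helper73.DimFormula.Algebra

set_option autoImplicit false
universe u
open CAlg

namespace Groth.Agent.S9130

/-- Let A ⊆ B be domains with B of finite type over A and A Noetherian, and assume every element of B is
algebraic over A. For a height-one prime p of A, only finitely many primes of B lie over p and each
of them has height one. (The published statement assumes that Frac(B) is finite over Frac(A); this
row assumes B algebraic over A, which is equivalent for a finite type extension of domains.) -/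
theorem result (A B : Type u) [CommRing A] [IsDomain A]
    [IsNoetherianRing A] [CommRing B] [IsDomain B] [Algebra A B] [FaithfulSMul A B]
    [Algebra.FiniteType A B] [Algebra.IsAlgebraic A B] (p : Ideal A) [p.IsPrime]
    (hp : p.height = 1) :
    (p.primesOver B).Finite ∧ ∀ q ∈ p.primesOver B, q.height = 1 := by
  have hB : IsNoetherianRing B := Algebra.FiniteType.isNoetherianRing A B
  have hpne : p ≠ ⊥ := Ideal.ne_bot_of_height_eq_one hp
  have key : ∀ q ∈ p.primesOver B, q.height = 1 := by
    intro q hq
    have hqp : q.IsPrime := hq.1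
    have hqo : q.LiesOver p := hq.2
    have h := Groth.Agent.Lib.Helper73.dimFormula_le A B p q
    have h0 : Algebra.trdeg A B = 0 := trdeg_eq_zero
    rw [h0, add_zero, hp] at h
    have h1 : (q.height : Cardinal.{u}) ≤ ((1 : ℕ∞) : Cardinal.{u}) :=
      le_trans (le_add_right le_rfl) h
    have h2 : q.height ≤ 1 := Cardinal.ofENat_le_ofENat.mp h1
    have h3 : q ≠ ⊥ := Ideal.ne_bot_of_liesOver_of_ne_bot hpne q
    have h4 : q.height ≠ 0 := by
      rw [Ne, Ideal.height_eq_zero_iff_eq_bot]; exact h3
    exact le_antisymm h2 (Order.one_le_iff_ne_zero.mpr h4)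
  refine ⟨?_, key⟩
  have hfin : (p.map (algebraMap A B)).minimalPrimes.Finite :=
    Ideal.finite_minimalPrimes_of_isNoetherianRing B _
  refine hfin.subset ?_
  intro q hq
  have hqp : q.IsPrime := hq.1
  have hqo : q.LiesOver p := hq.2
  have hle : p.map (algebraMap A B) ≤ q := by
    rw [Ideal.map_le_iff_le_comap]
    exact (q.over_def p).le
  refine ⟨⟨hqp, hle⟩, ?_⟩
  intro q' ⟨hq'p, hq'le⟩ hq'q
  by_contra hnot
  have hlt : q' < q := lt_of_le_not_ge hq'q hnot
  have h1 := Ideal.height_add_one_le_of_lt_of_isPrime hlt
  rw [key q hq] at h1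
  have h2 : q'.height = 0 := by
    have : q'.height + 1 ≤ 0 + 1 := by simpa using h1
    exact le_antisymm ((ENat.add_le_add_iff_right ENat.one_ne_top).mp this) zero_le
  rw [Ideal.height_eq_zero_iff_eq_bot] at h2
  rw [h2, le_bot_iff, Ideal.map_eq_bot_iff_of_injective (FaithfulSMul.algebraMap_injective A B)]
    at hq'le
  exact hpne hq'le

end Groth.Agent.S9130
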