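import Groth.Statements.S9132
import Mathlib

set_option autoImplicit false
universe u
open CAlg

namespace Groth.Agent.S9132

open IsLocalRing

/-- A Noetherian local domain R that is not a field is dominated by a Noetherian local ring R' of
dimension one lying between R and its fraction field, with R' essentially of finite type over R. -/
theorem result (R : Type u) [CommRing R] [IsDomain R]
    [IsNoetherianRing R] [IsLocalRing R] (hR : ¬ IsField R) :
    ∃ R' : Subalgebra R (FractionRing R), ∃ _ : IsLocalRing R',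
      IsNoetherianRing R' ∧ ringKrullDim R' = 1 ∧ IsLocalHom (algebraMap R R') ∧
        Algebra.EssFiniteType R R' := by
  classical
  set K := FractionRing R with hK
  have hinj : Function.Injective (algebraMap R K) := IsFractionRing.injective R K
  have hm0 : maximalIdeal R ≠ ⊥ := fun h => hR (isField_iff_maximalIdeal_eq.2 h)
  obtain ⟨s, hs⟩ := (isNoetherianRing_iff_ideal_fg R).1 inferInstance (maximalIdeal R)
  obtain ⟨V, hV, hVloc⟩ := IsLocalRing.exists_factor_valuationRing (algebraMap R K)
  have hsne : s.Nonempty := by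
    rw [Finset.nonempty_iff_ne_empty]
    rintro rfl
    exact hm0 (by rw [← hs]; simp)
  obtain ⟨x₀, hx₀s, hx₀max⟩ := Finset.exists_max_image s
    (fun x => V.valuation (algebraMap R K x)) hsne
  have hsm : ∀ x ∈ s, x ∈ maximalIdeal R := fun x hx => hs ▸ Ideal.subset_span hx
  have hx₀0 : x₀ ≠ 0 := by
    rintro rfl
    refine hm0 ?_
    rw [← hs, Ideal.span_eq_bot]
    intro x hx
    have := hx₀max x hx
    simp only [map_zero, le_zero_iff] at this
    exact hinj (by rw [map_zero]; exact (map_eq_zero _).1 this)
  set t : K := algebraMap R K x₀ with ht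
  have ht0 : t ≠ 0 := by rwa [ht, Ne, map_eq_zero_iff _ hinj]
  have hvt : V.valuation t < 1 := by
    have hx₀m : x₀ ∈ maximalIdeal R := hsm x₀ hx₀s
    have hnu : ¬ IsUnit ((algebraMap R K).codRestrict V.toSubring hV x₀) :=
      fun hu => (mem_maximalIdeal _).1 hx₀m (hVloc.map_nonunit _ hu)
    rcases V.valuation_lt_one_or_eq_one ⟨t, hV x₀⟩ with h | h
    · exact h
    · exact absurd ((V.valuation_eq_one_iff _).2 h) hnu
  set Gf : Finset K := s.image (fun x => algebraMap R K x / t) with hGf
  set B' : Subalgebra R K := Algebra.adjoin R (Gf : Set K) with hB'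
  have hB'V : ∀ b ∈ B', b ∈ V := by
    intro b hb
    induction hb using Algebra.adjoin_induction with
    | mem b hb =>
      obtain ⟨x, hx, rfl⟩ := Finset.mem_image.1 (Finset.mem_coe.1 hb)
      rw [← V.valuation_le_one_iff, map_div₀]
      exact (div_le_one₀ (by rw [zero_lt_iff]; exact (map_ne_zero _).2 ht0)).2 (hx₀max x hx)
    | algebraMap r => exact hV r
    | add _ _ _ _ h₁ h₂ => exact V.add_mem _ _ h₁ h₂
    | mul _ _ _ _ h₁ h₂ => exact V.mul_mem _ _ h₁ h₂
  have hFT : Algebra.FiniteType R B' := (Subalgebra.fg_iff_finiteType B').1 (Subalgebra.fg_adjoin_finset Gf)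
  have hNB' : IsNoetherianRing B' := Algebra.FiniteType.isNoetherianRing R B'
  set t' : B' := algebraMap R B' x₀ with ht'
  have ht'0 : t' ≠ 0 := by
    intro h
    exact ht0 (congrArg Subtype.val h)
  have hmem : ∀ a ∈ maximalIdeal R, algebraMap R B' a ∈ Ideal.span {t'} := by
    intro a ha
    rw [← hs] at ha
    induction ha using Submodule.span_induction with
    | mem x hx =>
      have hxG : algebraMap R K x / t ∈ B' :=
        Algebra.subset_adjoin (Finset.mem_coe.2 (Finset.mem_image_of_mem _ hx))
      refine Ideal.mem_span_singleton'.2 ⟨⟨_, hxG⟩, Subtype.ext ?_⟩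
      change algebraMap R K x / t * t = algebraMap R K x
      exact div_mul_cancel₀ _ ht0
    | zero => simp
    | add a b _ _ h₁ h₂ => rw [map_add]; exact Ideal.add_mem _ h₁ h₂
    | smul r a _ h => rw [smul_eq_mul, map_mul]; exact Ideal.mul_mem_left _ _ h
  have hnu : ¬ IsUnit t' := by
    rintro ⟨u, hu⟩
    have h1 : t * ((u⁻¹ : B'ˣ) : B').1 = 1 := by
      have := congrArg Subtype.val (u.mul_inv)
      rw [hu] at this
      exact this
    have h2 : V.valuation t * V.valuation ((u⁻¹ : B'ˣ) : B').1 = 1 := by rw [← map_mul, h1, map_one]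
    have h3 : V.valuation ((u⁻¹ : B'ˣ) : B').1 ≤ 1 :=
      (V.valuation_le_one_iff _).2 (hB'V _ ((u⁻¹ : B'ˣ) : B').2)
    have h4 : V.valuation t * V.valuation ((u⁻¹ : B'ˣ) : B').1 ≤ V.valuation t * 1 :=
      mul_le_mul_right h3 _
    rw [h2, mul_one] at h4
    exact absurd hvt (not_lt.2 h4)
  have hne : Ideal.span {t'} ≠ ⊤ := by rwa [Ne, Ideal.span_singleton_eq_top]
  obtain ⟨⟨P, hP⟩⟩ := Ideal.nonempty_minimalPrimes hne
  have hPp : P.IsPrime := hP.1.1
  have ht'P : t' ∈ P := hP.1.2 (Ideal.mem_span_singleton_self t')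
  have hP0 : P ≠ ⊥ := by rintro rfl; exact ht'0 (by simpa using ht'P)
  have hPh : P.height = 1 := by
    refine le_antisymm (Ideal.height_le_one_of_isPrincipal_of_mem_minimalPrimes _ P hP) ?_
    rw [Order.one_le_iff_pos, pos_iff_ne_zero, Ne, Ideal.height_eq_zero_iff_eq_bot]
    exact hP0
  have hinjB : Function.Injective (algebraMap B' K) := Subtype.val_injective
  have : FaithfulSMul B' K := (faithfulSMul_iff_algebraMap_injective _ _).2 hinjB
  have hFr : IsFractionRing B' K := IsFractionRing.of_field B' K (fun z => by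
      obtain ⟨a, b, -, rfl⟩ := IsFractionRing.div_surjective (A := R) z
      exact ⟨algebraMap R B' a, algebraMap R B' b, rfl⟩)
  have hS : P.primeCompl ≤ nonZeroDivisors B' := P.primeCompl_le_nonZeroDivisors
  set S : Subalgebra B' K := Localization.subalgebra K P.primeCompl hS with hSdef
  have hSat : IsLocalization.AtPrime S P :=
    Localization.subalgebra.isLocalization_subalgebra K P.primeCompl hS
  have hSloc : IsLocalRing S := IsLocalization.AtPrime.isLocalRing S P
  have hSN : IsNoetherianRing S := IsLocalization.isNoetherianRing P.primeCompl S hNB'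
  have hSdim : ringKrullDim S = 1 := by
    rw [IsLocalization.AtPrime.ringKrullDim_eq_height P S, hPh]; rfl
  have hSess : Algebra.EssFiniteType R S := by
    have : Algebra.EssFiniteType B' S := Algebra.EssFiniteType.of_isLocalization S P.primeCompl
    exact Algebra.EssFiniteType.comp R B' S
  have hSlh : IsLocalHom (algebraMap R S) := by
    refine ⟨fun a ha => ?_⟩
    by_contra hau
    have ham : a ∈ maximalIdeal R := (mem_maximalIdeal _).2 hau
    have haP : algebraMap R B' a ∈ P := hP.1.2 (hmem a ham)
    rw [IsScalarTower.algebraMap_apply R B' S, IsLocalization.AtPrime.isUnit_to_map_iff S P] at ha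
    exact ha haP
  refine ⟨S.restrictScalars R, hSloc, hSN, hSdim, ?_, hSess⟩
  exact hSlh

end Groth.Agent.S9132
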