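import Groth.Statements.S9133
import Groth.Agent.Lib.Helper14.KrullAkizukiThm

set_option autoImplicit false
universe u
open CAlg

namespace Groth.Agent.S9133

open Groth.Agent.Lib.Helper14.KrullAkizuki

/-- Let R → S be a homomorphism of domains compatible with field maps K → L of their fraction fields (so
R → S is injective), where R is Noetherian local of dimension one and L is finite over K. Then each
prime n of S whose contraction to R is the maximal ideal of R is a maximal ideal of S, only finitely
many such n exist, and each quotient S/n is a finite R-module (its residue field is a finite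
extension of that of R). -/
theorem result (R S K L : Type u)
    [CommRing R] [IsDomain R] [IsNoetherianRing R] [IsLocalRing R] (hdim : ringKrullDim R = 1)
    [CommRing S] [IsDomain S] [Algebra R S] [Field K] [Field L] [Algebra R K] [IsFractionRing R K]
    [Algebra S L] [IsFractionRing S L] [Algebra K L] [Algebra R L] [IsScalarTower R K L]
    [IsScalarTower R S L] [FiniteDimensional K L] :
    (∀ n ∈ (IsLocalRing.maximalIdeal R).primesOver S, n.IsMaximal) ∧
      ((IsLocalRing.maximalIdeal R).primesOver S).Finite ∧
      ∀ n ∈ (IsLocalRing.maximalIdeal R).primesOver S, Module.Finite R (S ⧸ n) := by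
  have : Ring.KrullDimLE 1 R := Ring.krullDimLE_iff.2 (by rw [hdim]; rfl)
  have hA : Function.Injective (algebraMap S L) := IsFractionRing.injective S L
  have hN : IsNoetherianRing S := isNoetherianRing_of_injective R K L hA
  have hD : Ring.KrullDimLE 1 S := krullDimLE_one_of_injective R K L hA
  have hRS : Function.Injective (algebraMap R S) := by
    have h1 : Function.Injective (algebraMap R L) := by
      rw [IsScalarTower.algebraMap_eq R K L]
      exact (algebraMap K L).injective.comp (IsFractionRing.injective R K)
    rw [IsScalarTower.algebraMap_eq R S L] at h1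
    exact Function.Injective.of_comp h1
  have hm : IsLocalRing.maximalIdeal R ≠ ⊥ := by
    intro h
    have hf : IsField R := IsLocalRing.isField_iff_maximalIdeal_eq.2 h
    rw [ringKrullDim_eq_zero_of_isField hf] at hdim
    exact zero_ne_one hdim
  obtain ⟨a, ham, ha0⟩ := Submodule.exists_mem_ne_zero_of_ne_bot hm
  have ha0' : algebraMap R S a ≠ 0 := by rwa [Ne, map_eq_zero_iff _ hRS]
  have hmem : ∀ n ∈ (IsLocalRing.maximalIdeal R).primesOver S, algebraMap R S a ∈ n := by
    rintro n ⟨_, hn⟩
    have : a ∈ n.under R := hn.over ▸ ham
    exact this
  have hne : ∀ n ∈ (IsLocalRing.maximalIdeal R).primesOver S, n ≠ ⊥ := by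
    intro n hn h
    exact ha0' (by simpa [h] using hmem n hn)
  refine ⟨fun n hn => hn.1.isMaximal_of_ne_bot (hne n hn), ?_, fun n hn => ?_⟩
  · refine (finite_setOf_isPrime_mem ha0').subset fun n hn => ⟨hn.1, hmem n hn⟩
  · have hfl := isFiniteLength_quotient' R K L hA n (hne n hn)
    have : IsNoetherian R (S ⧸ n) := (isFiniteLength_iff_isNoetherian_isArtinian.1 hfl).1
    infer_instance

end Groth.Agent.S9133
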