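import Groth.Statements.S9136
import Groth.Agent.Lib.Helper29.DegG

set_option autoImplicit false
universe u
open CAlg

namespace Groth.Agent.S9136

open CAlg
open Groth.Agent.Lib.Helper29 Groth.Agent.Lib.Helper29.Deg IsLocalRing


/-- Let A ⊆ B be a finite type extension of domains, A Noetherian local of dimension one, with
compatible fraction fields K ⊆ L and L finite over K. Then B has finitely many maximal ideals, and
for a nonzero x in the maximal ideal of A the sum over the maximal ideals m of B of (length of B/m
over A, i.e. the residue degree) times (length of B_m / x B_m over B_m) is at most the degree of L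
over K times the length of A/xA; equality holds exactly when B is a finite A-module. -/
theorem result (A B K L : Type u)
    [CommRing A] [IsDomain A] [IsNoetherianRing A] [IsLocalRing A] (hdim : ringKrullDim A = 1)
    [CommRing B] [IsDomain B] [Algebra A B] [FaithfulSMul A B] [Algebra.FiniteType A B]
    [Field K] [Field L] [Algebra A K] [IsFractionRing A K] [Algebra B L] [IsFractionRing B L]
    [Algebra K L] [Algebra A L] [IsScalarTower A K L] [IsScalarTower A B L] [FiniteDimensional K L]
    (x : A) (hx : x ∈ IsLocalRing.maximalIdeal A) (hx0 : x ≠ 0) :
    Finite (MaximalSpectrum B) ∧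
      (∑ᶠ m : MaximalSpectrum B,
          Module.length A (B ⧸ m.asIdeal) *
            Module.length (Localization.AtPrime m.asIdeal)
              (Localization.AtPrime m.asIdeal ⧸
                Ideal.span ({algebraMap A (Localization.AtPrime m.asIdeal) x} : Set _)) ≤
        (Module.finrank K L : ℕ∞) * Module.length A (A ⧸ Ideal.span ({x} : Set A))) ∧
      ((∑ᶠ m : MaximalSpectrum B,
          Module.length A (B ⧸ m.asIdeal) *
            Module.length (Localization.AtPrime m.asIdeal)
              (Localization.AtPrime m.asIdeal ⧸
                Ideal.span ({algebraMap A (Localization.AtPrime m.asIdeal) x} : Set _)) =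
        (Module.finrank K L : ℕ∞) * Module.length A (A ⧸ Ideal.span ({x} : Set A))) ↔ Module.Finite A B) := by
  classical
  by_cases hall : ∀ n : MaximalSpectrum B, algebraMap A B x ∈ n.asIdeal
  · haveI := isArtinianRing_quot (K := K) (L := L) (B := B) hdim x hx0
    have hle : ∀ m : MaximalSpectrum B,
        (Ideal.span {algebraMap A B x} : Ideal B) ≤ m.asIdeal := by
      intro m
      rw [Ideal.span_le, Set.singleton_subset_iff]; exact hall m
    have hfinite : Finite (MaximalSpectrum B) := finite_maximalSpectrum_of _ hle
    have hsum := sum_eq_length (K := K) (L := L) hdim hx0 hall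
    refine ⟨hfinite, ?_, ?_⟩
    · rw [hsum]
      exact length_quot_le (K := K) (L := L) hdim x hx0
    · rw [hsum]
      constructor
      · intro heq
        exact finite_of_length_eq (K := K) (L := L) hdim x hx hx0 heq
      · intro hfin
        exact length_quot_eq_of_finite (K := K) (L := L) hdim x hx0
  · push_neg at hall
    obtain ⟨n₀, hn₀⟩ := hall
    haveI := n₀.isMaximal
    have hbot : n₀.asIdeal = ⊥ := eq_bot_of_not_mem (K := K) (L := L) hdim hx n₀.asIdeal hn₀
    have hbotmax : (⊥ : Ideal B).IsMaximal := hbot ▸ n₀.isMaximal
    have hBf : IsField B := Ring.isField_iff_maximal_bot.mpr hbotmax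
    have hall' : ∀ n : MaximalSpectrum B, n.asIdeal = ⊥ := fun n =>
      (hbotmax.eq_of_le n.isMaximal.ne_top bot_le).symm
    have hxB : algebraMap A B x ≠ 0 := by
      rw [Ne, map_eq_zero_iff _ (FaithfulSMul.algebraMap_injective A B)]; exact hx0
    have hsub : Subsingleton (MaximalSpectrum B) :=
      ⟨fun n n' => MaximalSpectrum.ext ((hall' n).trans (hall' n').symm)⟩
    have hsum : (∑ᶠ m : MaximalSpectrum B,
          Module.length A (B ⧸ m.asIdeal) *
            Module.length (Localization.AtPrime m.asIdeal)
              (Localization.AtPrime m.asIdeal ⧸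
                Ideal.span ({algebraMap A (Localization.AtPrime m.asIdeal) x} : Set _))) = 0 := by
      apply finsum_eq_zero_of_forall_eq_zero
      intro n
      haveI := n.isMaximal
      rw [term_eq_zero_of_not_mem n.asIdeal (by rw [hall' n, Ideal.mem_bot]; exact hxB), mul_zero]
    have hr : (Module.finrank K L : ℕ∞) ≠ 0 := by
      have : 0 < Module.finrank K L := Module.finrank_pos
      exact_mod_cast this.ne'
    have hlen : Module.length A (A ⧸ Ideal.span ({x} : Set A)) ≠ 0 := by
      rw [Ne, Module.length_eq_zero_iff, not_subsingleton_iff_nontrivial,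
        Ideal.Quotient.nontrivial_iff, Ne, Ideal.span_singleton_eq_top]
      exact (IsLocalRing.mem_maximalIdeal x).mp hx
    have hnf : ¬ Module.Finite A B := by
      intro hfin
      have hAf : IsField A :=
        isField_of_isIntegral_of_isField (FaithfulSMul.algebraMap_injective A B) hBf
      have := ringKrullDim_eq_zero_of_isField hAf
      rw [hdim] at this
      exact one_ne_zero this
    refine ⟨inferInstance, ?_, ?_⟩
    · rw [hsum]; exact zero_le
    · rw [hsum]
      refine iff_of_false ?_ hnf
      intro h0
      exact mul_ne_zero hr hlen h0.symm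

end Groth.Agent.S9136
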