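import Groth.Statements.S9137
import Mathlib

set_option autoImplicit false
universe u
open CAlg

namespace Groth.Agent.S9137

open IsLocalRing

theorem finite_fiber (R S : Type u) [CommRing R] [CommRing S]
    [IsLocalRing R] [IsLocalRing S] [Algebra R S] [IsLocalHom (algebraMap R S)]
    [Algebra.EssFiniteType R S]
    (hres : Module.Finite (IsLocalRing.ResidueField R) (IsLocalRing.ResidueField S))
    (hdim : ringKrullDim (S ⧸ (IsLocalRing.maximalIdeal R).map (algebraMap R S)) = 0) :
    Module.Finite R (S ⧸ (IsLocalRing.maximalIdeal R).map (algebraMap R S)) := by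
  have hle : (maximalIdeal R).map (algebraMap R S) ≤ maximalIdeal S :=
    map_maximalIdeal_le (algebraMap R S)
  have hnt : Nontrivial (S ⧸ (maximalIdeal R).map (algebraMap R S)) :=
    Ideal.Quotient.nontrivial_iff.mpr (map_maximalIdeal_lt_top (algebraMap R S)).ne
  have hloc : IsLocalRing (S ⧸ (maximalIdeal R).map (algebraMap R S)) :=
    IsLocalRing.of_surjective' (Ideal.Quotient.mk _) Ideal.Quotient.mk_surjective
  have hkd : Ring.KrullDimLE 0 (S ⧸ (maximalIdeal R).map (algebraMap R S)) := by
    rw [Ring.krullDimLE_iff]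
    exact hdim.le
  have hk : IsNoetherianRing (R ⧸ maximalIdeal R) := by
    let := Ideal.Quotient.field (maximalIdeal R)
    infer_instance
  have hnoeth : IsNoetherianRing (S ⧸ (maximalIdeal R).map (algebraMap R S)) :=
    Algebra.EssFiniteType.isNoetherianRing (R ⧸ maximalIdeal R) _
  have hfinS : Module.Finite R (ResidueField S) := Module.Finite.trans (ResidueField R) _
  let f : (S ⧸ (maximalIdeal R).map (algebraMap R S)) →ₐ[R] ResidueField S :=
    Ideal.Quotient.factorₐ R hle
  have hf : Function.Surjective f := Ideal.Quotient.factor_surjective hle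
  refine Module.finite_of_surjective_of_ker_le_nilradical f hf ?_ (IsNoetherian.noetherian _)
  rw [Ring.KrullDimLE.nilradical_eq_maximalIdeal]
  exact IsLocalRing.le_maximalIdeal (RingHom.ker_ne_top _)

theorem weakly (R S : Type u) [CommRing R] [CommRing S]
    [IsLocalRing R] [IsLocalRing S] [Algebra R S] [IsLocalHom (algebraMap R S)]
    (hfin : Module.Finite R (S ⧸ (IsLocalRing.maximalIdeal R).map (algebraMap R S)))
    (A : Type u) [CommRing A] [Algebra R A] [Algebra A S] [IsScalarTower R A S]
    (q : Ideal A) [q.IsPrime] [IsLocalization.AtPrime S q]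
    (hq : q = (maximalIdeal S).comap (algebraMap A S)) :
    Algebra.WeaklyQuasiFiniteAt R q := by
  rw [Algebra.weaklyQuasiFiniteAt_iff]
  let e : Localization.AtPrime q ≃ₐ[A] S := IsLocalization.algEquiv q.primeCompl _ _
  let eR : Localization.AtPrime q ≃ₐ[R] S := e.restrictScalars R
  have hunder : q.under R = maximalIdeal R := by
    rw [Ideal.under_def, hq, Ideal.comap_comap, ← IsScalarTower.algebraMap_eq,
      maximalIdeal_comap]
  let e' : (Localization.AtPrime q ⧸ (q.under R).map (algebraMap R (Localization.AtPrime q)))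
      ≃ₐ[R] (S ⧸ (maximalIdeal R).map (algebraMap R S)) :=
    Ideal.quotientEquivAlg _ _ eR (by
      rw [hunder, Ideal.map_map]
      congr 1
      exact (eR.toAlgHom.comp_algebraMap).symm)
  rw [Algebra.QuasiFinite.iff_of_algEquiv e']
  infer_instance

/-- Let R → S be a local ring homomorphism between local rings, essentially of finite type, such that
the residue field of S is finite over that of R and S/m_R S has dimension zero. Then S is, as an
R-algebra, the localization of a finite R-algebra at a prime. -/
theorem result (R S : Type u) [CommRing R] [CommRing S]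
    [IsLocalRing R] [IsLocalRing S] [Algebra R S] [IsLocalHom (algebraMap R S)]
    [Algebra.EssFiniteType R S]
    (hres : Module.Finite (IsLocalRing.ResidueField R) (IsLocalRing.ResidueField S))
    (hdim : ringKrullDim (S ⧸ (IsLocalRing.maximalIdeal R).map (algebraMap R S)) = 0) :
    ∃ (S' : Type u) (_ : CommRing S') (_ : Algebra R S') (_ : Algebra S' S) (_ : IsScalarTower R S' S)
      (q : Ideal S') (_ : q.IsPrime), Module.Finite R S' ∧ IsLocalization.AtPrime S q := by
  have hfin := finite_fiber R S hres hdim
  let A := Algebra.EssFiniteType.subalgebra R S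
  let q : Ideal A := (maximalIdeal S).comap (algebraMap A S)
  have hqprime : q.IsPrime := Ideal.comap_isPrime _ _
  have hM : Algebra.EssFiniteType.submonoid R S = q.primeCompl := by
    ext a
    simp only [Algebra.EssFiniteType.submonoid, Submonoid.mem_comap, IsUnit.mem_submonoid_iff,
      Ideal.mem_primeCompl_iff, q, Ideal.mem_comap, mem_maximalIdeal, mem_nonunits_iff, not_not]
    exact Iff.rfl
  have hloc : IsLocalization.AtPrime S q := by
    unfold IsLocalization.AtPrime
    rw [← hM]
    infer_instance
  have hw := weakly R S hfin A q rfl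
  obtain ⟨B, hBfg, r, hrq, hbij⟩ :=
    Algebra.QuasiFiniteAt.exists_fg_and_exists_notMem_and_awayMap_bijective (R := R) q
  have hsurj := Localization.awayMap_surjective_iff.mp hbij.2
  have hBfin : Module.Finite R B := ⟨(Submodule.fg_top _).mpr hBfg⟩
  let qB : Ideal B := (maximalIdeal S).comap (algebraMap B S)
  refine ⟨B, inferInstance, inferInstance, inferInstance, inferInstance, qB, inferInstance,
    hBfin, ?_⟩
  have hBA : ∀ b : B, algebraMap B S b = ((b : A) : S) := fun b => rfl
  have hAS : ∀ a : A, algebraMap A S a = (a : S) := fun a => rfl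
  have hunit : ∀ a : A, a ∉ q → IsUnit (a : S) := by
    intro a ha
    by_contra h
    exact ha h
  have hru : IsUnit (((r : A) : S)) := hunit _ hrq
  have hsurj' : ∀ a : A, ∃ (b : B) (m : ℕ), ((b : A) : S) = ((r : A) : S) ^ m * (a : S) := by
    intro a
    obtain ⟨b, m, hb⟩ := hsurj a
    refine ⟨b, m, ?_⟩
    have := congrArg (fun x : A => (x : S)) hb
    simpa using this
  have hmemB : ∀ b : B, IsUnit ((b : A) : S) → b ∈ qB.primeCompl := by
    intro b hb hmem
    exact hmem hb
  unfold IsLocalization.AtPrime
  rw [isLocalization_iff]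
  refine ⟨?_, ?_, ?_⟩
  · rintro ⟨y, hy⟩
    by_contra h
    exact hy h
  · intro z
    obtain ⟨⟨a, t⟩, hz⟩ := IsLocalization.surj q.primeCompl z
    obtain ⟨b1, m1, hb1⟩ := hsurj' a
    obtain ⟨b2, m2, hb2⟩ := hsurj' t
    have hu2 : IsUnit (((r ^ m1 * b2 : B) : A) : S) := by
      push_cast
      rw [hb2]
      exact ((hru.pow _).mul ((hru.pow _).mul (hunit _ t.2)))
    refine ⟨⟨r ^ m2 * b1, ⟨r ^ m1 * b2, hmemB _ hu2⟩⟩, ?_⟩
    simp only [hBA]
    push_cast
    rw [hb1, hb2]
    simp only [hAS] at hz
    rw [← hz]
    ring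
  · intro x y hxy
    rw [hBA, hBA] at hxy
    obtain ⟨t, ht⟩ := IsLocalization.exists_of_eq (M := q.primeCompl) (S := S)
      (x := (x : A)) (y := (y : A)) hxy
    obtain ⟨b, m, hb⟩ := hsurj' t
    have hu : IsUnit ((b : A) : S) := by
      rw [hb]
      exact (hru.pow _).mul (hunit _ t.2)
    refine ⟨⟨b, hmemB _ hu⟩, ?_⟩
    apply Subtype.ext
    apply Subtype.ext
    push_cast
    have ht' := congrArg (fun x : A => (x : S)) ht
    simp only [Subalgebra.coe_mul] at ht'
    rw [hb, mul_assoc, ht', mul_assoc]

end Groth.Agent.S9137
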