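import Groth.Statements.S9138
import Mathlib
import Groth.Agent.S3869
import Groth.Agent.S0544
import Groth.Agent.Lib.Helper54.ComplFlat
import Groth.Agent.Lib.Helper61.FSAdicCompl

set_option autoImplicit false
universe u
open CAlg

namespace Groth.Agent.S9138
open TensorProduct

/-- Part A: some power of `n` lies in `mS`. -/
theorem exists_pow_le (R S : Type u) [CommRing R] [CommRing S]
    [IsLocalRing R] [IsLocalRing S] [Algebra R S]
    (hfib : Module.Finite (IsLocalRing.maximalIdeal R).ResidueField
      ((IsLocalRing.maximalIdeal R).Fiber S)) :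
    Module.Finite R (S ⧸ (IsLocalRing.maximalIdeal R).map (algebraMap R S)) ∧
    ∃ k : ℕ, (IsLocalRing.maximalIdeal S) ^ k ≤
      (IsLocalRing.maximalIdeal R).map (algebraMap R S) := by
  set m := IsLocalRing.maximalIdeal R with hm
  set κ := m.ResidueField with hκ
  have hfib' : Module.Finite κ (κ ⊗[R] S) := hfib
  have h1 : Module.Finite R (κ ⊗[R] S) := Module.Finite.trans κ (κ ⊗[R] S)
  let e₀ : (R ⧸ m) ≃ₐ[R] κ :=
    AlgEquiv.ofBijective (IsScalarTower.toAlgHom R (R ⧸ m) κ)
      m.bijective_algebraMap_quotient_residueField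
  let e₁ : (S ⧸ m.map (algebraMap R S)) ≃ₗ[R] (R ⧸ m) ⊗[R] S :=
    (Algebra.TensorProduct.quotIdealMapEquivQuotTensor S m).toLinearEquiv.restrictScalars R
  let e₂ : (R ⧸ m) ⊗[R] S ≃ₗ[R] κ ⊗[R] S :=
    TensorProduct.congr e₀.toLinearEquiv (LinearEquiv.refl R S)
  have h2 : Module.Finite R (S ⧸ m.map (algebraMap R S)) :=
    Module.Finite.equiv (e₁.trans e₂).symm
  refine ⟨h2, ?_⟩
  letI : Field (R ⧸ m) := Ideal.Quotient.field m
  have h3 : Module.Finite (R ⧸ m) (S ⧸ m.map (algebraMap R S)) :=
    Module.Finite.of_restrictScalars_finite R (R ⧸ m) _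
  have h4 : IsArtinianRing (S ⧸ m.map (algebraMap R S)) :=
    IsArtinianRing.of_finite (R ⧸ m) _
  obtain ⟨k, hk⟩ := IsArtinianRing.isNilpotent_jacobson_bot (R := S ⧸ m.map (algebraMap R S))
  refine ⟨k, fun x hx => ?_⟩
  have h5 : (IsLocalRing.maximalIdeal S).map (Ideal.Quotient.mk (m.map (algebraMap R S))) ≤
      Ideal.jacobson ⊥ := by
    rw [Ideal.map_le_iff_le_comap]
    intro z hz
    rw [Ideal.mem_comap, Ideal.mem_jacobson_bot]
    intro y
    obtain ⟨y, rfl⟩ := Ideal.Quotient.mk_surjective y
    rw [← map_mul, ← map_one (Ideal.Quotient.mk (m.map (algebraMap R S))), ← map_add]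
    apply IsUnit.map
    have : z * y ∈ IsLocalRing.maximalIdeal S := Ideal.mul_mem_right _ _ hz
    by_contra hu
    have h6 : z * y + 1 ∈ IsLocalRing.maximalIdeal S := (IsLocalRing.mem_maximalIdeal _).mpr hu
    have h7 : (1 : S) ∈ IsLocalRing.maximalIdeal S := by
      have := sub_mem h6 this
      simpa using this
    exact (Ideal.ne_top_iff_one _).mp (IsLocalRing.maximalIdeal.isMaximal S).ne_top h7
  have h8 : Ideal.Quotient.mk (m.map (algebraMap R S)) x ∈
      (Ideal.jacobson (⊥ : Ideal (S ⧸ m.map (algebraMap R S)))) ^ k := by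
    refine Ideal.pow_right_mono h5 k ?_
    rw [← Ideal.map_pow]
    exact Ideal.mem_map_of_mem _ hx
  rw [hk] at h8
  exact Ideal.Quotient.eq_zero_iff_mem.mp h8


/-- `complMap` on a Cauchy sequence. -/
theorem evalₐ_complMap_mk {S T : Type u} [CommRing S] [CommRing T] (I : Ideal S) (K : Ideal T)
    (g : S →+* T) (h : I.map g ≤ K) (a : AdicCompletion.AdicCauchySequence I S) (n : ℕ) :
    AdicCompletion.evalₐ K n (FSch.complMap I K g h (AdicCompletion.mk I S a)) =
      Ideal.Quotient.mk (K ^ n) (g (a n)) := by
  rw [Groth.Agent.S3869.evalₐ_complMap, AdicCompletion.evalₐ_mk, Ideal.quotientMap_mk]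

/-- Part C: ideals defining the same topology have the same completion. -/
theorem complMap_id_bijective {S : Type u} [CommRing S] (I J : Ideal S) (k : ℕ)
    (hk : J ^ k ≤ I) (h' : I.map (RingHom.id S) ≤ J) :
    Function.Bijective (FSch.complMap I J (RingHom.id S) h') := by
  -- we may assume `k ≥ 1`
  have hk1 : J ^ (k + 1) ≤ I := (Ideal.pow_le_pow_right (Nat.le_succ k)).trans hk
  have hpow : ∀ n, J ^ ((k + 1) * n) ≤ I ^ n := fun n => by
    rw [pow_mul]; exact Ideal.pow_right_mono hk1 n
  have hle : ∀ n, n ≤ (k + 1) * n := fun n => by nlinarith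
  constructor
  · rw [injective_iff_map_eq_zero]
    intro x hx
    obtain ⟨a, rfl⟩ := AdicCompletion.mk_surjective I S x
    apply AdicCompletion.ext_evalₐ
    intro n
    rw [map_zero, AdicCompletion.evalₐ_mk, Ideal.Quotient.eq_zero_iff_mem]
    have h1 : a ((k + 1) * n) ∈ J ^ ((k + 1) * n) := by
      have := congrArg (AdicCompletion.evalₐ J ((k + 1) * n)) hx
      rw [evalₐ_complMap_mk, map_zero, Ideal.Quotient.eq_zero_iff_mem] at this
      exact this
    have h2 : a n - a ((k + 1) * n) ∈ I ^ n := by
      have := a.2 (hle n)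
      rw [SModEq.sub_mem, smul_eq_mul, Ideal.mul_top] at this
      exact this
    have h3 : a n = (a n - a ((k + 1) * n)) + a ((k + 1) * n) := by ring
    rw [h3]
    exact add_mem h2 (hpow n h1)
  · intro y
    obtain ⟨b, rfl⟩ := AdicCompletion.mk_surjective J S y
    have hb : ∀ {m n : ℕ}, m ≤ n → b m - b n ∈ J ^ m := by
      intro m n hmn
      have := b.2 hmn
      rw [SModEq.sub_mem, smul_eq_mul, Ideal.mul_top] at this
      exact this
    let a : AdicCompletion.AdicCauchySequence I S :=
      ⟨fun n => b ((k + 1) * n), by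
        intro m n hmn
        rw [SModEq.sub_mem, smul_eq_mul, Ideal.mul_top]
        exact hpow m (hb (Nat.mul_le_mul_left _ hmn))⟩
    refine ⟨AdicCompletion.mk I S a, ?_⟩
    apply AdicCompletion.ext_evalₐ
    intro n
    rw [evalₐ_complMap_mk, AdicCompletion.evalₐ_mk, RingHom.id_apply, Ideal.Quotient.eq]
    have := hb (hle n)
    rw [← neg_sub]
    exact neg_mem this


/-- Part D: finiteness of the completed map. -/
theorem finite_complMap (R S : Type u) [CommRing R] [CommRing S] [Algebra R S]
    (m : Ideal R) (n : Ideal S) (hm : m.FG) (hn : n.FG)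
    (h : m.map (algebraMap R S) ≤ n)
    (hfin : Module.Finite R (S ⧸ m.map (algebraMap R S)))
    (k : ℕ) (hk : n ^ k ≤ m.map (algebraMap R S)) :
    (FSch.complMap m n (algebraMap R S) h).Finite := by
  set ψ := FSch.complMap m n (algebraMap R S) h with hψ
  letI : Algebra (AdicCompletion m R) (AdicCompletion n S) := ψ.toAlgebra
  change Module.Finite (AdicCompletion m R) (AdicCompletion n S)
  set m' : Ideal (AdicCompletion m R) := m.map (algebraMap R (AdicCompletion m R)) with hm'
  set n' : Ideal (AdicCompletion n S) := n.map (algebraMap S (AdicCompletion n S)) with hn'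
  -- the key ideal `m Ŝ`
  have hmap : m'.map ψ = (m.map (algebraMap R S)).map (algebraMap S (AdicCompletion n S)) := by
    have hcomp : ψ.comp (algebraMap R (AdicCompletion m R)) =
        (algebraMap S (AdicCompletion n S)).comp (algebraMap R S) :=
      RingHom.ext fun r =>
        Groth.Agent.Lib.Helper54.ComplFlat.complMap_algebraMap m n (algebraMap R S) h r
    rw [hm', Ideal.map_map, Ideal.map_map, hcomp]
  have hmapn : m'.map (algebraMap (AdicCompletion m R) (AdicCompletion n S)) ≤ n' := by
    rw [RingHom.algebraMap_toAlgebra, hmap]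
    exact Ideal.map_mono h
  -- completeness
  have : IsAdicComplete m (AdicCompletion m R) := AdicCompletion.isAdicComplete hm
  have : IsPrecomplete m' (AdicCompletion m R) :=
    IsPrecomplete.map_algebraMap_iff.mpr inferInstance
  have : IsAdicComplete n (AdicCompletion n S) := AdicCompletion.isAdicComplete hn
  have : IsHausdorff n' (AdicCompletion n S) :=
    IsHausdorff.map_algebraMap_iff.mpr inferInstance
  have : IsHausdorff m' (AdicCompletion n S) := IsHausdorff.of_map hmapn
  -- generators
  obtain ⟨r, t, ht⟩ := Module.Finite.exists_fin (R := R) (M := S ⧸ m.map (algebraMap R S))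
  choose t' ht' using fun i => Ideal.Quotient.mk_surjective (t i)
  classical
  have : IsPrecomplete m' (Fin r → AdicCompletion m R) :=
    Groth.Agent.S0544.isPrecomplete_pi m' (ι := Fin r)
  let f : (Fin r → AdicCompletion m R) →ₗ[AdicCompletion m R] AdicCompletion n S :=
    Fintype.linearCombination (AdicCompletion m R)
      (fun i => algebraMap S (AdicCompletion n S) (t' i))
  have hf : Function.Surjective f := by
    apply surjective_of_mkQ_comp_surjective (I := m')
    intro y
    obtain ⟨y, rfl⟩ := Submodule.mkQ_surjective _ y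
    obtain ⟨s, -, hs⟩ := Groth.Agent.Lib.Helper61.FSCompl.exists_of_sub_mem n hn k y
    have hmem : Ideal.Quotient.mk (m.map (algebraMap R S)) s ∈
        Submodule.span R (Set.range t) := by rw [ht]; trivial
    obtain ⟨c, hc⟩ := (Submodule.mem_span_range_iff_exists_fun R).mp hmem
    refine ⟨fun i => algebraMap R (AdicCompletion m R) (c i), ?_⟩
    rw [LinearMap.comp_apply, Submodule.mkQ_apply, Submodule.mkQ_apply,
      Submodule.Quotient.eq, Ideal.smul_top_eq_map, Submodule.restrictScalars_mem,
      RingHom.algebraMap_toAlgebra, hmap]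
    have hw : s - ∑ i, c i • t' i ∈ m.map (algebraMap R S) := by
      rw [← Ideal.Quotient.eq_zero_iff_mem, map_sub, sub_eq_zero, ← hc, map_sum]
      refine Finset.sum_congr rfl fun i _ => ?_
      change c i • t i = Ideal.Quotient.mkₐ R _ (c i • t' i)
      rw [map_smul, Ideal.Quotient.mkₐ_eq_mk, ht']
    have hfc : f (fun i => algebraMap R (AdicCompletion m R) (c i)) =
        algebraMap S (AdicCompletion n S) (∑ i, c i • t' i) := by
      simp only [f, Fintype.linearCombination_apply, map_sum]
      refine Finset.sum_congr rfl fun i _ => ?_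
      rw [Algebra.smul_def, RingHom.algebraMap_toAlgebra, Algebra.smul_def, map_mul,
        Groth.Agent.Lib.Helper54.ComplFlat.complMap_algebraMap m n (algebraMap R S) h (c i)]
    rw [hfc]
    have e : algebraMap S (AdicCompletion n S) (∑ i, c i • t' i) - y =
        algebraMap S (AdicCompletion n S) (∑ i, c i • t' i - s) -
          (y - algebraMap S (AdicCompletion n S) s) := by
      rw [map_sub]; ring
    rw [e]
    refine sub_mem (Ideal.mem_map_of_mem _ ?_) (Ideal.map_mono hk hs)
    rw [← neg_sub]
    exact neg_mem hw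
  exact Module.Finite.of_surjective f hf

end Groth.Agent.S9138

namespace Groth.Agent.S9138

/-- Let R → S be a local ring homomorphism between local rings with finitely generated maximal ideals m
and n, such that S/mS is a finite-dimensional κ(m)-vector space. Then (1) the canonical ring map
from the mS-adic completion of S to the n-adic completion of S is bijective, and (2) the induced
ring map from the m-adic completion of R to the n-adic completion of S is finite. (The hypotheses h
and h' record the inclusion mS ⊆ n, which holds for any local homomorphism; they are the arguments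
the completion maps take.) -/
theorem result (R S : Type u) [CommRing R] [CommRing S]
    [IsLocalRing R] [IsLocalRing S] [Algebra R S] [IsLocalHom (algebraMap R S)]
    (hm : (IsLocalRing.maximalIdeal R).FG) (hn : (IsLocalRing.maximalIdeal S).FG)
    (hfib : Module.Finite (IsLocalRing.maximalIdeal R).ResidueField ((IsLocalRing.maximalIdeal R).Fiber S))
    (h : (IsLocalRing.maximalIdeal R).map (algebraMap R S) ≤ IsLocalRing.maximalIdeal S)
    (h' : ((IsLocalRing.maximalIdeal R).map (algebraMap R S)).map (RingHom.id S) ≤ IsLocalRing.maximalIdeal S) :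
    Function.Bijective (FSch.complMap ((IsLocalRing.maximalIdeal R).map (algebraMap R S))
        (IsLocalRing.maximalIdeal S) (RingHom.id S) h') ∧
      (FSch.complMap (IsLocalRing.maximalIdeal R) (IsLocalRing.maximalIdeal S) (algebraMap R S) h).Finite := by
  obtain ⟨hfin, k, hk⟩ := exists_pow_le R S hfib
  exact ⟨complMap_id_bijective _ _ k hk h', finite_complMap R S _ _ hm hn h hfin k hk⟩

end Groth.Agent.S9138
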