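import Groth.Statements.S9139
import Mathlib.RingTheory.Noetherian.Nilpotent
import Mathlib.RingTheory.Ideal.Maps
-- import your own Groth.Agent.* helpers here

set_option autoImplicit false
universe u
open CAlg

namespace Groth.Agent.S9139

theorem exists_fg_le {R S' : Type u} [CommRing R] [CommRing S'] [Algebra R S'] (I : Ideal R)
    (z : S') (hz : z ∈ I • (⊤ : Submodule R S')) :
    ∃ J : Ideal R, J.FG ∧ J ≤ I ∧ z ∈ J • (⊤ : Submodule R S') := by
  refine Submodule.smul_induction_on hz ?_ ?_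
  · intro a ha y _
    refine ⟨Ideal.span {a}, ⟨{a}, by simp⟩, ?_, ?_⟩
    · rw [Ideal.span_le]
      simpa using ha
    · exact Submodule.smul_mem_smul (Ideal.mem_span_singleton_self a) trivial
  · intro x y hx hy
    obtain ⟨J₁, h1, h1', h1''⟩ := hx
    obtain ⟨J₂, h2, h2', h2''⟩ := hy
    refine ⟨J₁ ⊔ J₂, Submodule.FG.sup h1 h2, sup_le h1' h2', ?_⟩
    exact Submodule.add_mem _ (Submodule.smul_mono_left le_sup_left h1'')
      (Submodule.smul_mono_left le_sup_right h2'')

theorem exists_fg_le_finset {R S' : Type u} [CommRing R] [CommRing S'] [Algebra R S'] (I : Ideal R)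
    (M : Submodule R S') (s : Finset S')
    (hs : ∀ x ∈ s, x ∈ M ⊔ I • (⊤ : Submodule R S')) :
    ∃ J : Ideal R, J.FG ∧ J ≤ I ∧ ∀ x ∈ s, x ∈ M ⊔ J • (⊤ : Submodule R S') := by
  classical
  induction s using Finset.induction_on with
  | empty => exact ⟨⊥, Submodule.fg_bot, bot_le, by simp⟩
  | insert a s _ ih =>
    obtain ⟨J₁, h1, h1', h1''⟩ := ih (fun x hx => hs x (Finset.mem_insert_of_mem hx))
    have ha := hs a (Finset.mem_insert_self a s)
    rw [Submodule.mem_sup] at ha
    obtain ⟨t, ht, j, hj, rfl⟩ := ha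
    obtain ⟨J₂, h2, h2', h2''⟩ := exists_fg_le I j hj
    refine ⟨J₁ ⊔ J₂, Submodule.FG.sup h1 h2, sup_le h1' h2', ?_⟩
    intro x hx
    rw [Finset.mem_insert] at hx
    rcases hx with rfl | hx
    · exact Submodule.add_mem_sup ht (Submodule.smul_mono_left le_sup_right h2'')
    · have hle : M ⊔ J₁ • (⊤ : Submodule R S') ≤ M ⊔ (J₁ ⊔ J₂) • (⊤ : Submodule R S') :=
        sup_le_sup_left (Submodule.smul_mono_left le_sup_left) _
      exact hle (h1'' x hx)

theorem sup_pow_eq_top {R S' : Type u} [CommRing R] [CommRing S'] [Algebra R S'] (J : Ideal R)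
    (T : Subalgebra R S') (h : Subalgebra.toSubmodule T ⊔ J • (⊤ : Submodule R S') = ⊤) (n : ℕ) :
    Subalgebra.toSubmodule T ⊔ (J ^ n) • (⊤ : Submodule R S') = ⊤ := by
  induction n with
  | zero => rw [pow_zero, Ideal.one_eq_top, Submodule.top_smul, sup_top_eq]
  | succ n ih =>
    apply le_antisymm le_top
    have hstep : (J ^ n) • (⊤ : Submodule R S') ≤
        Subalgebra.toSubmodule T ⊔ (J ^ (n + 1)) • (⊤ : Submodule R S') := by
      calc (J ^ n) • (⊤ : Submodule R S')
          = (J ^ n) • (Subalgebra.toSubmodule T ⊔ J • (⊤ : Submodule R S')) := by rw [h]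
        _ = (J ^ n) • Subalgebra.toSubmodule T ⊔ (J ^ n) • J • (⊤ : Submodule R S') := by
            rw [Submodule.smul_sup]
        _ ≤ Subalgebra.toSubmodule T ⊔ (J ^ (n + 1)) • (⊤ : Submodule R S') := by
            refine sup_le_sup Submodule.smul_le_right ?_
            rw [← Submodule.mul_smul, ← pow_succ]
    calc (⊤ : Submodule R S') = Subalgebra.toSubmodule T ⊔ (J ^ n) • (⊤ : Submodule R S') := ih.symm
      _ ≤ Subalgebra.toSubmodule T ⊔ (J ^ (n + 1)) • (⊤ : Submodule R S') :=
          sup_le le_sup_left hstep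


/-- Let I be a locally nilpotent ideal of a ring R (every element of I is nilpotent) and S → S' a map of
R-algebras with S' of finite type over R. If S → S'/IS' is surjective then so is S → S'. -/
theorem result (R S S' : Type u) [CommRing R] [CommRing S]
    [CommRing S'] [Algebra R S] [Algebra R S'] [Algebra.FiniteType R S'] (I : Ideal R)
    (hI : ∀ x ∈ I, IsNilpotent x) (f : S →ₐ[R] S')
    (hf : Function.Surjective ((Ideal.Quotient.mk (I.map (algebraMap R S'))).comp f.toRingHom)) :
    Function.Surjective f := by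
  classical
  obtain ⟨s, hs⟩ := (Algebra.FiniteType.out : (⊤ : Subalgebra R S').FG)
  let T : Subalgebra R S' := f.range
  have hmemI : ∀ x : S', x ∈ Subalgebra.toSubmodule T ⊔ I • (⊤ : Submodule R S') := by
    intro x
    obtain ⟨s₀, hs₀⟩ := hf (Ideal.Quotient.mk _ x)
    have : f s₀ - x ∈ I.map (algebraMap R S') := by
      rw [← Ideal.Quotient.eq]
      exact hs₀
    have hx : x = f s₀ + (x - f s₀) := by ring
    rw [hx]
    refine Submodule.add_mem_sup ⟨s₀, rfl⟩ ?_
    rw [Ideal.smul_top_eq_map]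
    have h2 : x - f s₀ ∈ I.map (algebraMap R S') := by
      have := (I.map (algebraMap R S')).neg_mem this
      simpa using this
    exact h2
  obtain ⟨J, hJfg, hJI, hJ⟩ := exists_fg_le_finset I (Subalgebra.toSubmodule T) s
    (fun x _ => hmemI x)
  have hJS : ∀ z : S', z ∈ J • (⊤ : Submodule R S') ↔ z ∈ J.map (algebraMap R S') := by
    intro z
    rw [Ideal.smul_top_eq_map]
    rfl
  have hall : ∀ y : S', y ∈ Subalgebra.toSubmodule T ⊔ J • (⊤ : Submodule R S') := by
    intro y
    have hy : y ∈ Algebra.adjoin R (s : Set S') := by rw [hs]; trivial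
    induction hy using Algebra.adjoin_induction with
    | mem x hx => exact hJ x hx
    | algebraMap r => exact Submodule.mem_sup_left (T.algebraMap_mem r)
    | add x y _ _ hx hy => exact Submodule.add_mem _ hx hy
    | mul x y _ _ hx hy =>
      rw [Submodule.mem_sup] at hx hy ⊢
      obtain ⟨t₁, ht₁, j₁, hj₁, rfl⟩ := hx
      obtain ⟨t₂, ht₂, j₂, hj₂, rfl⟩ := hy
      refine ⟨t₁ * t₂, T.mul_mem ht₁ ht₂, t₁ * j₂ + j₁ * (t₂ + j₂), ?_, by ring⟩
      rw [hJS] at hj₁ hj₂ ⊢
      exact Ideal.add_mem _ (Ideal.mul_mem_left _ _ hj₂) (Ideal.mul_mem_right _ _ hj₁)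
  have htop : Subalgebra.toSubmodule T ⊔ J • (⊤ : Submodule R S') = ⊤ :=
    eq_top_iff.mpr (fun y _ => hall y)
  have hJnil : J ≤ nilradical R := fun x hx => hI x (hJI hx)
  obtain ⟨N, hN⟩ := hJfg.isNilpotent_iff_le_nilradical.mpr hJnil
  have hfin := sup_pow_eq_top J T htop N
  rw [hN] at hfin
  have hT : Subalgebra.toSubmodule T = ⊤ := by
    have : ((0 : Ideal R)) • (⊤ : Submodule R S') = ⊥ := by simp
    rw [this, sup_bot_eq] at hfin
    exact hfin
  intro y
  have : y ∈ Subalgebra.toSubmodule T := by rw [hT]; trivial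
  exact this

end Groth.Agent.S9139
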