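import Groth.Statements.S9140
import Groth.Agent.S9139
import Mathlib.RingTheory.Flat.EquationalCriterion
import Mathlib.RingTheory.Nakayama
import Mathlib.RingTheory.FinitePresentation
import Mathlib.RingTheory.Ideal.Operations
-- import your own Groth.Agent.* helpers here

set_option autoImplicit false
universe u
open CAlg

namespace Groth.Agent.S9140

theorem ker_fg {R S S' : Type u} [CommRing R] [CommRing S] [CommRing S'] [Algebra R S]
    [Algebra R S'] [Algebra.FiniteType R S] [Algebra.FinitePresentation R S']
    (f : S →ₐ[R] S') (hf : Function.Surjective f) : (RingHom.ker f.toRingHom).FG := by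
  obtain ⟨n, g, hg⟩ := Algebra.FiniteType.iff_quotient_mvPolynomial''.mp
    (inferInstance : Algebra.FiniteType R S)
  have h := (Algebra.FinitePresentation.ker_fg_of_mvPolynomial (f.comp g) (hf.comp hg)).map
    g.toRingHom
  convert h using 1
  simp_rw [RingHom.ker_eq_comap_bot, AlgHom.toRingHom_eq_coe, AlgHom.comp_toRingHom]
  rw [← Ideal.comap_comap, Ideal.map_comap_of_surjective (g : MvPolynomial (Fin n) R →+* S) hg]

theorem ker_le_smul {R S S' : Type u} [CommRing R] [CommRing S] [CommRing S'] [Algebra R S]
    [Algebra R S'] [Module.Flat R S'] (I : Ideal R) (f : S →ₐ[R] S')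
    (hf : Function.Surjective f) (k : S) (hk : f k = 0)
    (hkI : k ∈ I.map (algebraMap R S)) :
    k ∈ I.map (algebraMap R S) * RingHom.ker f.toRingHom := by
  classical
  have hk' : k ∈ I • (Submodule.span R (Set.range (id : S → S))) := by
    rw [Set.range_id, Submodule.span_univ, Ideal.smul_top_eq_map]
    exact hkI
  rw [Submodule.mem_ideal_smul_span_iff_exists_sum] at hk'
  obtain ⟨a, haI, hsum⟩ := hk'
  simp only [id] at hsum
  rw [Finsupp.sum] at hsum
  have hrel : ∑ i : a.support, a i.1 • f i.1 = 0 := by
    rw [← hk, ← hsum, map_sum, ← Finset.sum_coe_sort a.support (fun i => f (a i • i))]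
    refine Finset.sum_congr rfl (fun i _ => ?_)
    rw [map_smul]
  obtain ⟨κ, c, y, hy, hc⟩ := Module.Flat.isTrivialRelation_of_sum_smul_eq_zero hrel
  simp only at hy hc
  choose t ht using fun j => hf (y j)
  let ki : a.support → S := fun i => i.1 - ∑ j, c i j • t j
  have hki : ∀ i, ki i ∈ RingHom.ker f.toRingHom := by
    intro i
    rw [RingHom.mem_ker]
    show f (i.1 - ∑ j, c i j • t j) = 0
    rw [map_sub, map_sum, sub_eq_zero, hy i]
    refine Finset.sum_congr rfl (fun j _ => ?_)
    rw [map_smul, ht]
  have hkeq : k = ∑ i : a.support, a i.1 • ki i := by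
    have h1 : ∑ i : a.support, a i.1 • ki i =
        ∑ i : a.support, a i.1 • (i.1 : S) - ∑ i : a.support, ∑ j, (a i.1 * c i j) • t j := by
      rw [← Finset.sum_sub_distrib]
      refine Finset.sum_congr rfl (fun i _ => ?_)
      simp only [ki, smul_sub, Finset.smul_sum, mul_smul]
    have h2 : ∑ i : a.support, ∑ j, (a i.1 * c i j) • t j = 0 := by
      rw [Finset.sum_comm]
      refine Finset.sum_eq_zero (fun j _ => ?_)
      rw [← Finset.sum_smul, hc j, zero_smul]
    rw [h1, h2, sub_zero, ← hsum, ← Finset.sum_coe_sort a.support (fun i => a i • i)]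
  rw [hkeq]
  refine Submodule.sum_mem _ (fun i _ => ?_)
  rw [Algebra.smul_def]
  exact Ideal.mul_mem_mul (Ideal.mem_map_of_mem _ (haI i.1)) (hki i)


/-- Let I be a locally nilpotent ideal of a ring R and S → S' a map of R-algebras with S of finite type
over R and S' of finite presentation and flat over R. If the induced map S/IS → S'/IS' is bijective
(stated as: S → S'/IS' is surjective with kernel IS), then S → S' is bijective. -/
theorem result (R S S' : Type u)
    [CommRing R] [CommRing S] [CommRing S'] [Algebra R S] [Algebra R S'] [Algebra.FiniteType R S]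
    [Algebra.FinitePresentation R S'] [Module.Flat R S'] (I : Ideal R) (hI : ∀ x ∈ I, IsNilpotent x)
    (f : S →ₐ[R] S')
    (hsurj : Function.Surjective ((Ideal.Quotient.mk (I.map (algebraMap R S'))).comp f.toRingHom))
    (hker : ∀ s : S, f s ∈ I.map (algebraMap R S') → s ∈ I.map (algebraMap R S)) :
    Function.Bijective f := by
  have hf : Function.Surjective f := Groth.Agent.S9139.result R S S' I hI f hsurj
  refine ⟨?_, hf⟩
  have hfg := ker_fg f hf
  have hle : RingHom.ker f.toRingHom ≤ I.map (algebraMap R S) • RingHom.ker f.toRingHom := by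
    intro k hk
    have hk0 : f k = 0 := hk
    have hkI : k ∈ I.map (algebraMap R S) := hker k (by rw [hk0]; exact Ideal.zero_mem _)
    exact ker_le_smul I f hf k hk0 hkI
  have hjac : I.map (algebraMap R S) ≤ Ideal.jacobson ⊥ := by
    refine le_trans ?_ (Ideal.radical_le_jacobson (I := (⊥ : Ideal S)))
    rw [Ideal.map_le_iff_le_comap]
    intro x hx
    rw [Ideal.mem_comap]
    exact (hI x hx).map (algebraMap R S)
  have hbot := Submodule.eq_bot_of_le_smul_of_le_jacobson_bot _ _ hfg hle hjac
  exact (RingHom.injective_iff_ker_eq_bot f.toRingHom).mpr hbot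

end Groth.Agent.S9140
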