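import Groth.Statements.S9148
import Groth.Agent.Lib.Helper94.SyntO

set_option autoImplicit false
universe u
open Synt

namespace Groth.Agent.S9148

open Groth.Agent.Lib.Helper94.SyntJ Groth.Agent.Lib.Helper94.SyntC in

/-- A relative global complete intersection over a ring R descends to a relative global complete
intersection over a finite type ℤ-subalgebra of R containing the coefficients. -/
theorem result (R : Type u) [CommRing R] (n c : ℕ)
    (F : Fin c → MvPolynomial (Fin n) R) (h : Synt.IsRelGCI R n c F) :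
    ∃ (R₀ : Subalgebra ℤ R) (F₀ : Fin c → MvPolynomial (Fin n) R₀), Algebra.FiniteType ℤ R₀ ∧
      (∀ i, MvPolynomial.map (algebraMap R₀ R) (F₀ i) = F i) ∧ Synt.IsRelGCI R₀ n c F₀ := by
  classical
  -- first approximation
  obtain ⟨R₀, F₀, hFT₀, -, hF₀⟩ :=
    Groth.Agent.Lib.Helper94.SyntF.exists_subalgebra R F ∅ Set.finite_empty
  haveI : IsNoetherianRing R₀ := Algebra.FiniteType.isNoetherianRing ℤ R₀
  haveI : IsNoetherianRing (MvPolynomial (Fin n) R₀) := inferInstance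
  have hG₀ := isOpen_goodLocus_of_noetherian R₀ F₀
  set Z₀ := (GoodLocus R₀ F₀)ᶜ with hZ₀
  have hZc : IsClosed Z₀ := hG₀.isClosed_compl
  set J₀ := PrimeSpectrum.vanishingIdeal Z₀ with hJ₀
  have hZJ : PrimeSpectrum.zeroLocus (J₀ : Set (MvPolynomial (Fin n) R₀)) = Z₀ := by
    rw [hJ₀, PrimeSpectrum.zeroLocus_vanishingIdeal_eq_closure, hZc.closure_eq]
  let μ₀ : MvPolynomial (Fin n) R₀ →+* MvPolynomial (Fin n) R := MvPolynomial.map (algebraMap R₀ R)
  -- the extension of J₀ is the unit ideal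
  have htop : J₀.map μ₀ = ⊤ := by
    by_contra hne
    obtain ⟨q', hq'm, hle⟩ := Ideal.exists_le_maximal _ hne
    haveI : q'.IsPrime := hq'm.isPrime
    have h1 : (⟨q', inferInstance⟩ : PrimeSpectrum (MvPolynomial (Fin n) R)) ∈ GoodLocus R F :=
      fun hI => (Groth.Agent.Lib.Helper94.SyntF.transRegAt_of_isRelGCI R n c F h q' hI).2
    rw [goodLocus_eq_preimage F₀ F hF₀] at h1
    have h2 : PrimeSpectrum.comap μ₀ ⟨q', inferInstance⟩ ∈ Z₀ := by
      rw [← hZJ, PrimeSpectrum.mem_zeroLocus]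
      exact SetLike.coe_subset_coe.mpr (Ideal.map_le_iff_le_comap.mp hle)
    exact h2 h1
  -- generators of J₀ and a partition of unity
  obtain ⟨m, g, hg⟩ := Submodule.fg_iff_exists_fin_generating_family.mp
    (IsNoetherian.noetherian J₀)
  have h1mem : (1 : MvPolynomial (Fin n) R) ∈ Ideal.span (Set.range (μ₀ ∘ g)) := by
    rw [Set.range_comp, ← Ideal.map_span]
    have : Ideal.span (Set.range g) = J₀ := hg
    rw [this, htop]
    trivial
  obtain ⟨a, ha⟩ := (Ideal.mem_span_range_iff_exists_fun).mp h1mem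
  -- second approximation
  let t : Set R := ⋃ k, ((a k).coeffs : Set R)
  have ht : t.Finite := Set.finite_iUnion fun k => (a k).coeffs.finite_toSet
  obtain ⟨s₀, hs₀⟩ := (Subalgebra.fg_iff_finiteType R₀).mpr hFT₀
  obtain ⟨R₁, F₁, hFT₁, ht₁, hF₁⟩ :=
    Groth.Agent.Lib.Helper94.SyntF.exists_subalgebra R F (t ∪ (s₀ : Set R))
      (ht.union s₀.finite_toSet)
  haveI : IsNoetherianRing R₁ := Algebra.FiniteType.isNoetherianRing ℤ R₁
  have hle : R₀ ≤ R₁ := by
    rw [← hs₀]
    exact Algebra.adjoin_le (Set.subset_union_right.trans ht₁)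
  letI : Algebra R₀ R₁ := (Subalgebra.inclusion hle).toAlgebra
  haveI : IsScalarTower R₀ R₁ R := IsScalarTower.of_algebraMap_eq fun x => rfl
  let ν : MvPolynomial (Fin n) R₀ →+* MvPolynomial (Fin n) R₁ := MvPolynomial.map (algebraMap R₀ R₁)
  let μ₁ : MvPolynomial (Fin n) R₁ →+* MvPolynomial (Fin n) R := MvPolynomial.map (algebraMap R₁ R)
  have hμ₁ : Function.Injective μ₁ := MvPolynomial.map_injective _ Subtype.val_injective
  have hcomp : ∀ x, μ₁ (ν x) = μ₀ x := by
    intro x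
    simp only [μ₁, ν, μ₀, MvPolynomial.map_map]
    congr 2
  have hF₀₁ : ∀ i, ν (F₀ i) = F₁ i := by
    intro i
    apply hμ₁
    rw [hcomp]
    exact (hF₀ i).trans (hF₁ i).symm
  -- lift the partition of unity
  have ha' : ∀ k, a k ∈ Set.range μ₁ := by
    intro k
    rw [MvPolynomial.mem_range_map_iff_coeffs_subset]
    intro x hx
    have : x ∈ R₁ := ht₁ (Or.inl (Set.mem_iUnion.mpr ⟨k, hx⟩))
    exact ⟨⟨x, this⟩, rfl⟩
  choose a' ha' using ha'
  have htop₁ : J₀.map ν = ⊤ := by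
    rw [Ideal.eq_top_iff_one]
    have h1 : (∑ k, a' k * ν (g k)) = 1 := by
      apply hμ₁
      rw [map_sum, map_one, ← ha]
      refine Finset.sum_congr rfl fun k _ => ?_
      rw [map_mul, ha', hcomp]
      rfl
    rw [← h1]
    refine Ideal.sum_mem _ fun k _ => Ideal.mul_mem_left _ _ (Ideal.mem_map_of_mem _ ?_)
    rw [← hg]
    exact Submodule.subset_span ⟨k, rfl⟩
  refine ⟨R₁, F₁, hFT₁, hF₁, ?_⟩
  apply Groth.Agent.Lib.Helper94.SyntO.isRelGCI_of_forall_transRegAt
  intro q₁' _ hI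
  have hmem : (⟨q₁', inferInstance⟩ : PrimeSpectrum (MvPolynomial (Fin n) R₁)) ∈
      GoodLocus R₁ F₁ := by
    rw [goodLocus_eq_preimage F₀ F₁ hF₀₁]
    show PrimeSpectrum.comap ν ⟨q₁', inferInstance⟩ ∈ GoodLocus R₀ F₀
    by_contra hcon
    have h2 : PrimeSpectrum.comap ν ⟨q₁', inferInstance⟩ ∈ Z₀ := hcon
    rw [← hZJ, PrimeSpectrum.mem_zeroLocus] at h2
    have h3 : J₀.map ν ≤ q₁' := Ideal.map_le_iff_le_comap.mpr (SetLike.coe_subset_coe.mp h2)
    rw [htop₁] at h3
    exact (Ideal.IsPrime.ne_top inferInstance) (top_le_iff.mp h3)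
  exact hmem hI


end Groth.Agent.S9148
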