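import Groth.Statements.S9149
import Groth.Agent.Lib.Helper16.SplitSynt

set_option autoImplicit false
universe u
open Synt

namespace Groth.Agent.S9149

open Polynomial in
/-- A monic polynomial over a ring A splits into linear factors over some A-algebra A' that is syntomic,
finite free and faithfully flat over A. -/
theorem result (A : Type u) [CommRing A] (P : A[X]) (hP : P.Monic) :
    ∃ (A' : Type u) (_ : CommRing A') (_ : Algebra A A'),
      Synt.IsSyntomic A A' ∧ Module.Finite A A' ∧ Module.Free A A' ∧ Module.FaithfullyFlat A A' ∧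
        ∃ s : Multiset A', P.map (algebraMap A A') = (s.map fun b => X - C b).prod := by
  obtain ⟨A', iA', iAlg, m, k, hk, ⟨pres⟩, ⟨bas⟩, s, hs⟩ :=
    Helper16.SplitSynt.exists_split P.natDegree A P hP rfl
  have : Nonempty (Fin k) := ⟨⟨0, hk⟩⟩
  have h := Helper16.FrobSynt.syntomic_of_free_of_presentation pres bas.repr
  exact ⟨A', iA', iAlg, h.1, Module.Finite.of_basis bas, Module.Free.of_basis bas, h.2, s, hs⟩

end Groth.Agent.S9149
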