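import Groth.Statements.S9172
import Groth.Agent.Lib.Helper94.SyntN

set_option autoImplicit false
universe u
open Synt

namespace Groth.Agent.S9172

open MvPolynomial in

open MvPolynomial in
/-- Let S = R[x_1, …, x_n]/(F_1, …, F_c) over a ring R. Let I be an ideal of R such that the reduction
R/I[x]/(F mod I) = S/IS is a relative global complete intersection over R/I (its nonempty fibres
have dimension n − c). Then some h in the polynomial ring, with image g in S, satisfies: g maps to 1
in S/IS, and the presentation S_g = R[x_1, …, x_{n+1}]/(F_1, …, F_c, h·x_{n+1} − 1) is a relative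
global complete intersection over R (with S_g isomorphic to it over R). -/
theorem result (R : Type u) [CommRing R] (n c : ℕ) (F : Fin c → MvPolynomial (Fin n) R)
    (I : Ideal R)
    (hI : Synt.IsRelGCI (R ⧸ I) n c (fun i => MvPolynomial.map (Ideal.Quotient.mk I) (F i))) :
    ∃ h : MvPolynomial (Fin n) R,
      Ideal.Quotient.mk (I.map (algebraMap R (Synt.RelGCIRing R n c F)))
        (Ideal.Quotient.mk (Ideal.span (Set.range F)) h) = 1 ∧
      Synt.IsRelGCI R (n + 1) (c + 1)
        (Fin.snoc (fun i => rename Fin.castSucc (F i)) (rename Fin.castSucc h * X (Fin.last n) - 1)) ∧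
      Nonempty (Localization.Away (Ideal.Quotient.mk (Ideal.span (Set.range F)) h) ≃ₐ[R]
        Synt.RelGCIRing R (n + 1) (c + 1)
          (Fin.snoc (fun i => rename Fin.castSucc (F i)) (rename Fin.castSucc h * X (Fin.last n) - 1))) := by
  classical
  obtain ⟨h, m, hm, hmh, hgood⟩ := Groth.Agent.Lib.Helper94.SyntN.exists_good R n c F
    (I.map (C : R →+* MvPolynomial (Fin n) R)) ⊥ (by
      intro q' _ hle _ hIq'
      let π : MvPolynomial (Fin n) R →+* MvPolynomial (Fin n) (R ⧸ I) :=
        MvPolynomial.map (algebraMap R (R ⧸ I))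
      have hπ : Function.Surjective π :=
        MvPolynomial.map_surjective _ Ideal.Quotient.mk_surjective
      have hker : RingHom.ker π = I.map (C : R →+* MvPolynomial (Fin n) R) := by
        rw [MvPolynomial.ker_map]
        congr 1
        exact Ideal.mk_ker
      have hkq : RingHom.ker π ≤ q' := hker.le.trans hle
      haveI : (q'.map π).IsPrime := Ideal.map_isPrime_of_surjective hπ hkq
      have hq : q' = (q'.map π).comap π := by
        rw [Ideal.comap_map_of_surjective π hπ, left_eq_sup, ← RingHom.ker_eq_comap_bot]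
        exact hkq
      have hF : Ideal.span (Set.range fun i => MvPolynomial.map (Ideal.Quotient.mk I) (F i)) ≤
          q'.map π := by
        rw [Ideal.span_le]
        rintro _ ⟨i, rfl⟩
        exact Ideal.mem_map_of_mem π (hIq' (Ideal.subset_span ⟨i, rfl⟩))
      have h1 := (Groth.Agent.Lib.Helper94.SyntF.transRegAt_of_isRelGCI (R ⧸ I) n c _ hI
        (q'.map π) hF).2
      have h2 := Groth.Agent.Lib.Helper94.SyntM.transRegAt_iff (R₁ := R) (R := R ⧸ I)
        (q'.map π) q' hq F
      rw [List.map_ofFn] at h2
      exact h2.mp h1)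
  rw [Submonoid.mem_bot] at hm
  subst hm
  refine ⟨h, ?_, Groth.Agent.Lib.Helper94.SyntM.isRelGCI_rel R n c F h hgood,
    Groth.Agent.Lib.Helper94.SyntL.nonempty_algEquiv_away R n c F h⟩
  have h1 : Ideal.Quotient.mk (I.map (algebraMap R (Synt.RelGCIRing R n c F)))
      (Ideal.Quotient.mk (Ideal.span (Set.range F)) (1 - h)) = 0 := by
    rw [Ideal.Quotient.eq_zero_iff_mem]
    have := Ideal.mem_map_of_mem (Ideal.Quotient.mk (Ideal.span (Set.range F))) hmh
    rw [Ideal.map_map] at this
    exact this
  rw [map_sub, map_sub, map_one, map_one, sub_eq_zero] at h1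
  exact h1.symm


end Groth.Agent.S9172
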