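import Groth.Statements.S9150
import Groth.Agent.Lib.Helper94.SyntS
import Groth.Agent.Lib.Helper94.SyntT
import Groth.Agent.S9172

set_option autoImplicit false
universe u
open Synt

namespace Groth.Agent.S9150

open Groth.Agent.Lib.Helper94.SyntL Groth.Agent.Lib.Helper94.SyntT in
/-- local form -/
theorem local_form (R : Type u) [CommRing R] (I : Ideal R) (Sb : Type u) [CommRing Sb]
    [Algebra R Sb] [Algebra (R ⧸ I) Sb] [IsScalarTower R (R ⧸ I) Sb]
    (h : Synt.IsSyntomic (R ⧸ I) Sb) (q : Ideal Sb) [q.IsPrime] :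
    ∃ g : Sb, g ∉ q ∧ ∃ (n c : ℕ) (F : Fin c → MvPolynomial (Fin n) R), Synt.IsRelGCI R n c F ∧
        Nonempty (Localization.Away g ≃ₐ[R]
          (Synt.RelGCIRing R n c F ⧸ I.map (algebraMap R (Synt.RelGCIRing R n c F)))) := by
  obtain ⟨hfl, hfp, hfib⟩ := h
  haveI := hfl
  haveI := hfp
  set p : Ideal (R ⧸ I) := q.comap (algebraMap (R ⧸ I) Sb) with hp
  haveI : p.IsPrime := Ideal.comap_isPrime _ _
  -- the prime of the fibre
  let e := PrimeSpectrum.preimageEquivFiber (R ⧸ I) Sb ⟨p, inferInstance⟩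
  let q₀ : PrimeSpectrum.comap (algebraMap (R ⧸ I) Sb) ⁻¹' {⟨p, inferInstance⟩} :=
    ⟨⟨q, inferInstance⟩, rfl⟩
  let Q : Ideal (p.Fiber Sb) := (e q₀).asIdeal
  haveI : Q.IsPrime := (e q₀).isPrime
  have hQ : Q.comap (Algebra.TensorProduct.includeRight.toRingHom) = q := by
    have := e.left_inv q₀
    exact congrArg (fun x => x.1.asIdeal) this
  have hflat : Module.Flat (R ⧸ I) (Localization.AtPrime q) :=
    Module.Flat.trans (R ⧸ I) Sb _
  have hLCI := hfib ⟨p, inferInstance⟩
  haveI : Algebra.FiniteType p.ResidueField (p.Fiber Sb) := hLCI.1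
  have hCI := (Groth.Agent.Lib.Helper94.CIMain.isLCIOver_iff_forall_prime p.ResidueField
    (p.Fiber Sb)).mp hLCI ⟨Q, inferInstance⟩
  obtain ⟨g, hg, N, C, G, hG, ⟨e₀⟩⟩ :=
    Groth.Agent.Lib.Helper94.SyntR.exists_relGCI_away p q rfl Q hQ hflat hCI
  have hsurj : Function.Surjective (MvPolynomial.map (σ := Fin N) (Ideal.Quotient.mk I)) :=
    MvPolynomial.map_surjective _ Ideal.Quotient.mk_surjective
  choose F hF using fun i => hsurj (G i)
  have hGF : G = fun i => MvPolynomial.map (Ideal.Quotient.mk I) (F i) := funext fun i => (hF i).symm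
  subst hGF
  obtain ⟨h, h1, hrel, -⟩ := Groth.Agent.S9172.result R N C F I hG
  refine ⟨g, hg, N + 1, C + 1, rel R N C F h, hrel, ?_⟩
  -- the unit
  have hu : IsUnit (Ideal.Quotient.mk (Ideal.span (Set.range
      fun i => MvPolynomial.map (Ideal.Quotient.mk I) (F i)))
      (MvPolynomial.map (Ideal.Quotient.mk I) h)) := by
    have h2 : Ideal.Quotient.mk (Ideal.span (Set.range F)) (h - 1) ∈
        I.map (algebraMap R (Synt.RelGCIRing R N C F)) := by
      rw [← Ideal.Quotient.eq_zero_iff_mem, map_sub, map_sub, h1, map_one, map_one, sub_self]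
    have h3 : I.map (algebraMap R (Synt.RelGCIRing R N C F)) =
        (I.map (MvPolynomial.C : R →+* MvPolynomial (Fin N) R)).map
          (Ideal.Quotient.mk (Ideal.span (Set.range F))) := by
      rw [Ideal.map_map]; rfl
    rw [h3, Ideal.mem_map_iff_of_surjective _ Ideal.Quotient.mk_surjective] at h2
    obtain ⟨a, ha, hah⟩ := h2
    have h4 : h - 1 - a ∈ Ideal.span (Set.range F) := by
      rw [← Ideal.Quotient.eq_zero_iff_mem, map_sub, hah, sub_self]
    have h5 : h - 1 ∈ RingHom.ker (quotMapHom R I N C F).toRingHom := by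
      rw [ker_quotMapHom]
      have : h - 1 = (h - 1 - a) + a := by ring
      rw [this]
      exact Submodule.add_mem_sup h4 ha
    rw [RingHom.mem_ker] at h5
    have h6 : quotMapHom R I N C F h = 1 := by
      have : quotMapHom R I N C F (h - 1) = 0 := h5
      rw [map_sub, map_one, sub_eq_zero] at this
      exact this
    rw [quotMapHom_apply] at h6
    rw [h6]
    exact isUnit_one
  obtain ⟨e1⟩ := nonempty_algEquiv_rel_of_isUnit N C
    (fun i => MvPolynomial.map (Ideal.Quotient.mk I) (F i))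
    (MvPolynomial.map (Ideal.Quotient.mk I) h) hu
  have hQ1 := nonempty_quotMapEquiv R I (N + 1) (C + 1) (rel R N C F h)
  have hfam : (fun i => MvPolynomial.map (Ideal.Quotient.mk I) (rel R N C F h i)) =
      rel (R ⧸ I) N C (fun j => MvPolynomial.map (Ideal.Quotient.mk I) (F j))
        (MvPolynomial.map (Ideal.Quotient.mk I) h) := funext (map_rel N C F h _)
  rw [hfam] at hQ1
  obtain ⟨e2⟩ := hQ1
  exact ⟨((e₀.trans e1).restrictScalars R).trans e2.symm⟩

/-- Let I be an ideal of a ring R and S̄ an R-algebra killed by I which is syntomic over R/I. Then S̄ is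
covered by finitely many basic opens S̄_g each isomorphic, as an R-algebra, to S/IS for some
relative global complete intersection S over R. -/
theorem result (R : Type u) [CommRing R] (I : Ideal R) (Sb : Type u) [CommRing Sb]
    [Algebra R Sb] [Algebra (R ⧸ I) Sb] [IsScalarTower R (R ⧸ I) Sb] (h : Synt.IsSyntomic (R ⧸ I) Sb) :
    ∃ s : Finset Sb, Ideal.span (s : Set Sb) = ⊤ ∧ ∀ g ∈ s,
      ∃ (n c : ℕ) (F : Fin c → MvPolynomial (Fin n) R), Synt.IsRelGCI R n c F ∧
        Nonempty (Localization.Away g ≃ₐ[R]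
          (Synt.RelGCIRing R n c F ⧸ I.map (algebraMap R (Synt.RelGCIRing R n c F)))) := by
  classical
  let T : Set Sb := {g | ∃ (n c : ℕ) (F : Fin c → MvPolynomial (Fin n) R), Synt.IsRelGCI R n c F ∧
        Nonempty (Localization.Away g ≃ₐ[R]
          (Synt.RelGCIRing R n c F ⧸ I.map (algebraMap R (Synt.RelGCIRing R n c F))))}
  have hT : Ideal.span T = ⊤ := by
    by_contra hne
    obtain ⟨m, hm, hle⟩ := Ideal.exists_le_maximal _ hne
    haveI := hm.isPrime
    obtain ⟨g, hg, hP⟩ := local_form R I Sb h m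
    exact hg (hle (Ideal.subset_span hP))
  obtain ⟨s, hsT, hs⟩ := (Ideal.span_eq_top_iff_finite T).mp hT
  exact ⟨s, hs, fun g hg => hsT hg⟩


end Groth.Agent.S9150
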