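import Groth.Statements.S9151
import Mathlib
import Groth.Agent.Lib.Helper65.Schanuel
import Groth.Agent.Lib.Helper94.SyntV
import Groth.Agent.Lib.Helper94.SyntF
import Groth.Agent.Lib.Helper94.SyntG
-- import your own Groth.Agent.* helpers here

set_option autoImplicit false
universe u
open Synt

namespace Groth.Agent.S9151

open TensorProduct MvPolynomial Algebra Groth.Agent.Lib.Helper65.Schanuel

set_option linter.style.haveILetI false

/-- the conormal module of a relative global complete intersection presentation is projective. -/
theorem projective_cotangent_naive_of_isRelGCI (R : Type u) [CommRing R] (N C : ℕ)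
    (G : Fin C → MvPolynomial (Fin N) R) (hG : Synt.IsRelGCI R N C G) :
    Module.Projective (Synt.RelGCIRing R N C G)
      (Generators.naive (I := Ideal.span (Set.range G))).toExtension.Cotangent := by
  have hli := Groth.Agent.Lib.Helper94.SyntG.linearIndependent_toCotangent G (fun m hm hIm =>
    (Groth.Agent.Lib.Helper94.SyntF.transRegAt_of_isRelGCI R N C G hG m hIm).2.1)
  have hsp := Groth.Agent.Lib.Helper94.SyntG.span_toCotangent G
  haveI : Module.Free (MvPolynomial (Fin N) R ⧸ Ideal.span (Set.range G))
      (Ideal.span (Set.range G)).Cotangent :=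
    Module.Free.of_basis (Module.Basis.mk hli hsp.ge)
  exact Module.Projective.of_equiv (naiveCotangentEquiv (Ideal.span (Set.range G))).symm

theorem projective_baseChange_of_split {T : Type*} [CommRing T] (B : Type*) [CommRing B]
    [Algebra T B] {M N : Type*} [AddCommGroup M] [AddCommGroup N] [Module T M] [Module T N]
    (i : M →ₗ[T] N) (r : N →ₗ[T] M) (h : r ∘ₗ i = LinearMap.id)
    [Module.Projective B (B ⊗[T] N)] : Module.Projective B (B ⊗[T] M) :=
  .of_split (i.baseChange B) (r.baseChange B)
    (by rw [← LinearMap.baseChange_comp, h, LinearMap.baseChange_id])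


/-- Let S = R[x_1, …, x_n]/I with I finitely generated and let g ∈ S be such that S_g is syntomic over
R. Then the localization (I/I²)_g of the conormal module is a finite projective S_g-module. -/
theorem result (R : Type u) [CommRing R] (n : ℕ)
    (I : Ideal (MvPolynomial (Fin n) R)) (hI : I.FG) (g : MvPolynomial (Fin n) R ⧸ I)
    (hg : Synt.IsSyntomic R (Localization.Away g)) :
    Module.Finite (Localization.Away g) (LocalizedModule (Submonoid.powers g) I.Cotangent) ∧
      Module.Projective (Localization.Away g) (LocalizedModule (Submonoid.powers g) I.Cotangent) := by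
  haveI : Module.Finite (MvPolynomial (Fin n) R) I := Module.Finite.iff_fg.mpr hI
  haveI : Module.Finite (MvPolynomial (Fin n) R) I.Cotangent :=
    Module.Finite.of_surjective I.toCotangent I.toCotangent_surjective
  haveI : Module.Finite (MvPolynomial (Fin n) R ⧸ I) I.Cotangent :=
    Module.Finite.of_restrictScalars_finite (MvPolynomial (Fin n) R) _ _
  haveI hfin : Module.Finite (Localization.Away g)
      (LocalizedModule (Submonoid.powers g) I.Cotangent) := inferInstance
  refine ⟨hfin, ?_⟩
  -- the presentation of `T = S_g`
  let P₀ : Generators R (MvPolynomial (Fin n) R ⧸ I) (Fin n) := Generators.naive (I := I)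
  let Q₁ : Generators (MvPolynomial (Fin n) R ⧸ I) (Localization.Away g) Unit :=
    Generators.localizationAway (Localization.Away g) g
  let PT : Generators R (Localization.Away g) (Unit ⊕ Fin n) := Q₁.comp P₀
  obtain ⟨x₁, hx₁⟩ := Generators.Cotangent.surjective_map_ofComp Q₁ P₀
    (Generators.cMulXSubOneCotangent (Localization.Away g) g)
  let e₁ := Generators.cotangentCompLocalizationAwayEquiv g P₀ hx₁
  -- `M` is the base change of the conormal module of `P₀`
  let ψ : P₀.toExtension.Cotangent →ₗ[MvPolynomial (Fin n) R ⧸ I]
      LocalizedModule (Submonoid.powers g) I.Cotangent :=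
    (LocalizedModule.mkLinearMap (Submonoid.powers g) I.Cotangent) ∘ₗ
      (naiveCotangentEquiv I).toLinearMap
  haveI : IsLocalizedModule (Submonoid.powers g) ψ :=
    IsLocalizedModule.of_linearEquiv_right (Submonoid.powers g)
      (LocalizedModule.mkLinearMap (Submonoid.powers g) I.Cotangent) (naiveCotangentEquiv I)
  let e₂ : Localization.Away g ⊗[MvPolynomial (Fin n) R ⧸ I] P₀.toExtension.Cotangent ≃ₗ[
      Localization.Away g] LocalizedModule (Submonoid.powers g) I.Cotangent :=
    (IsLocalizedModule.isBaseChange (Submonoid.powers g) (Localization.Away g) ψ).equiv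
  apply projective_of_forall_exists_away
  intro q hq
  haveI := hq
  obtain ⟨g', hg'q, N, C, G, hG, ⟨e⟩⟩ :=
    Groth.Agent.Lib.Helper94.SyntV.exists_relGCI_of_isSyntomic R (Localization.Away g) hg q
  haveI := projective_cotangent_naive_of_isRelGCI R N C G hG
  letI algTB : Algebra (Localization.Away g) (Synt.RelGCIRing R N C G) :=
    (e.toAlgHom.toRingHom.comp (algebraMap (Localization.Away g) (Localization.Away g'))).toAlgebra
  haveI : IsScalarTower R (Localization.Away g) (Synt.RelGCIRing R N C G) := by
    refine .of_algebraMap_eq' ?_
    ext r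
    rw [RingHom.algebraMap_toAlgebra]
    simp only [RingHom.comp_apply]
    rw [← IsScalarTower.algebraMap_apply R (Localization.Away g) (Localization.Away g')]
    exact (e.commutes r).symm
  let e' : Localization.Away g' ≃ₐ[Localization.Away g] Synt.RelGCIRing R N C G :=
    { e.toRingEquiv with commutes' := fun t => rfl }
  haveI : IsLocalization.Away g' (Synt.RelGCIRing R N C G) :=
    IsLocalization.isLocalization_of_algEquiv (Submonoid.powers g') e'
  refine ⟨g', hg'q, Synt.RelGCIRing R N C G, inferInstance, algTB, inferInstance, ?_⟩
  haveI : Module.Projective (Synt.RelGCIRing R N C G)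
      (Synt.RelGCIRing R N C G ⊗[Localization.Away g] PT.toExtension.Cotangent) :=
    projective_tensor_cotangent_of_away PT g'
      (Generators.naive (I := Ideal.span (Set.range G))
        (Function.surjInv Ideal.Quotient.mk_surjective) (Function.surjInv_eq _))
  let i : LocalizedModule (Submonoid.powers g) I.Cotangent →ₗ[Localization.Away g]
      PT.toExtension.Cotangent :=
    e₁.symm.toLinearMap ∘ₗ LinearMap.inl (Localization.Away g) _ _ ∘ₗ e₂.symm.toLinearMap
  let r : PT.toExtension.Cotangent →ₗ[Localization.Away g]
      LocalizedModule (Submonoid.powers g) I.Cotangent :=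
    e₂.toLinearMap ∘ₗ LinearMap.fst (Localization.Away g) _ _ ∘ₗ e₁.toLinearMap
  have hri : r ∘ₗ i = LinearMap.id := by
    ext m
    simp [i, r]
  exact projective_baseChange_of_split (Synt.RelGCIRing R N C G) i r hri


end Groth.Agent.S9151
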