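import Groth.Statements.S9153
import Groth.Agent.Lib.Helper73.DimFT.Catenary

set_option autoImplicit false
universe u
open CAlg

namespace Groth.Agent.S9153

/-- In a polynomial ring in finitely many variables over a field, every saturated chain of primes
between two primes p ⊆ q has length equal to the difference of their heights (stated additively:
length + height p = height q). -/
theorem result (k : Type u) [Field k] (n : ℕ)
    (s : LTSeries (PrimeSpectrum (MvPolynomial (Fin n) k)))
    (hsat : ∀ i : Fin s.length, s (Fin.castSucc i) ⋖ s (Fin.succ i)) :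
    (s.length : ℕ∞) + s.head.asIdeal.height = s.last.asIdeal.height := by
  have h1 := Groth.Agent.Lib.Helper73.ringKrullDim_quotient_head_eq_of_saturated k s hsat
  have h2 := Groth.Agent.Lib.Helper73.height_add_ringKrullDim_quotient k s.head.asIdeal
  have h3 := Groth.Agent.Lib.Helper73.height_add_ringKrullDim_quotient k s.last.asIdeal
  obtain ⟨d, hd⟩ := Groth.Agent.Lib.Helper73.exists_nat_ringKrullDim_eq k
    (MvPolynomial (Fin n) k)
  obtain ⟨e, he⟩ := Groth.Agent.Lib.Helper73.exists_nat_ringKrullDim_eq k
    (MvPolynomial (Fin n) k ⧸ s.last.asIdeal)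
  have hfin1 : s.head.asIdeal.height ≠ ⊤ := Ideal.height_ne_top_of_isPrime
  have hfin2 : s.last.asIdeal.height ≠ ⊤ := Ideal.height_ne_top_of_isPrime
  obtain ⟨a, ha⟩ := ENat.ne_top_iff_exists.mp hfin1
  obtain ⟨b, hb⟩ := ENat.ne_top_iff_exists.mp hfin2
  rw [h1, he, hd, ← ha] at h2
  rw [he, hd, ← hb] at h3
  rw [← ha, ← hb]
  have h2' : ((a + (e + s.length) : ℕ) : WithBot ℕ∞) = ((d : ℕ) : WithBot ℕ∞) := by
    push_cast
    exact h2
  have h3' : ((b + e : ℕ) : WithBot ℕ∞) = ((d : ℕ) : WithBot ℕ∞) := by
    push_cast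
    exact h3
  have e2 : a + (e + s.length) = d := by exact_mod_cast h2'
  have e3 : b + e = d := by exact_mod_cast h3'
  have : s.length + a = b := by omega
  exact_mod_cast this

end Groth.Agent.S9153
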