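import Groth.Statements.S9154
import Mathlib
import Groth.Agent.Lib.Helper94.CIField
import Groth.Agent.Lib.Helper85.ZClosedDim
import Groth.Agent.Lib.Helper73.DimFT.Catenary
import Groth.Agent.Lib.Helper73.DimFormula.Algebra
import Groth.Agent.Lib.Helper67.EquiCat

set_option autoImplicit false
universe u
open CAlg

namespace Groth.Agent.S9154

section

variable {S : Type u} [CommRing S]

/-- `dim (S_q / I S_q) = ht (q / I)` -/
theorem ringKrullDim_quotient_localization (I q : Ideal S) [q.IsPrime] (hIq : I ≤ q) :
    ringKrullDim (Localization.AtPrime q ⧸ I.map (algebraMap S (Localization.AtPrime q))) =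
      ((q.map (Ideal.Quotient.mk I)).height : WithBot ℕ∞) := by
  have hprime : (q.map (Ideal.Quotient.mk I)).IsPrime :=
    Ideal.map_isPrime_of_surjective Ideal.Quotient.mk_surjective (by rwa [Ideal.mk_ker])
  have hloc : IsLocalization.AtPrime
      (Localization.AtPrime q ⧸ I.map (algebraMap S (Localization.AtPrime q)))
      (q.map (Ideal.Quotient.mk I)) := by
    unfold IsLocalization.AtPrime
    rw [← Groth.Agent.Lib.Helper85.ZClosed.algebraMapSubmonoid_quotient_primeCompl I q hIq]
    infer_instance
  exact IsLocalization.AtPrime.ringKrullDim_eq_height (q.map (Ideal.Quotient.mk I)) _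

theorem spanFinrank_ofList_le (rs : List S) : (Ideal.ofList rs).spanFinrank ≤ rs.length := by
  classical
  have hfin : {r | r ∈ rs}.Finite := List.finite_toSet rs
  refine le_trans (Submodule.spanFinrank_span_le_ncard_of_finite hfin) ?_
  have : {r | r ∈ rs} = (rs.toFinset : Set S) := by ext; simp
  rw [this, Set.ncard_coe_finset]
  exact List.toFinset_card_le rs

end

section Main

/-- the numerical core: for a prime `q ⊇ I = (f)`, natural numbers `a = ht q`, `b = ht (q/I)`,
`c = dim S/q`, `e = dim S/I` with `d ≤ a + c`, `b + c ≤ e`, `a ≤ b + i`. -/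
theorem exists_numbers (k S : Type u) [Field k] [CommRing S] [Algebra k S]
    [Algebra.FiniteType k S] [IsNoetherianRing S] (d : ℕ)
    (heq : ∀ p ∈ minimalPrimes S, ringKrullDim (S ⧸ p) = d) (f : List S)
    (q : Ideal S) [hq : q.IsPrime] (hIq : Ideal.ofList f ≤ q) :
    ∃ a b c e : ℕ, q.height = a ∧ (q.map (Ideal.Quotient.mk (Ideal.ofList f))).height = b ∧
      ringKrullDim (S ⧸ Ideal.ofList f) = e ∧ d ≤ a + c ∧ b + c ≤ e ∧ a ≤ b + f.length := by
  set I := Ideal.ofList f with hI
  have hqbar : (q.map (Ideal.Quotient.mk I)).IsPrime :=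
    Ideal.map_isPrime_of_surjective Ideal.Quotient.mk_surjective (by rwa [Ideal.mk_ker])
  have hIne : I ≠ ⊤ := fun h => hq.ne_top (top_le_iff.1 (h ▸ hIq))
  have hnt : Nontrivial (S ⧸ I) := Ideal.Quotient.nontrivial_iff.mpr hIne
  obtain ⟨a, ha⟩ := ENat.ne_top_iff_exists.mp (Ideal.height_ne_top_of_isPrime (I := q))
  have hNq : IsNoetherianRing (S ⧸ I) := inferInstance
  obtain ⟨b, hb⟩ := ENat.ne_top_iff_exists.mp
    (Ideal.height_ne_top_of_isPrime (I := q.map (Ideal.Quotient.mk I)))
  obtain ⟨c, hc⟩ := Groth.Agent.Lib.Helper73.exists_nat_ringKrullDim_eq k (S ⧸ q)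
  obtain ⟨e, he⟩ := Groth.Agent.Lib.Helper73.exists_nat_ringKrullDim_eq k (S ⧸ I)
  refine ⟨a, b, c, e, ha.symm, hb.symm, he, ?_, ?_, ?_⟩
  · -- `d ≤ ht q + dim S/q`
    obtain ⟨p, hp, hpq⟩ := Ideal.exists_minimalPrimes_le (I := (⊥ : Ideal S)) (J := q) bot_le
    have hpprime : p.IsPrime := hp.1.1
    have hdp := heq p hp
    have hq' : (q.map (Ideal.Quotient.mk p)).IsPrime :=
      Ideal.map_isPrime_of_surjective Ideal.Quotient.mk_surjective (by rwa [Ideal.mk_ker])
    have h1 := Groth.Agent.Lib.Helper73.height_add_ringKrullDim_quotient k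
      (q.map (Ideal.Quotient.mk p))
    rw [hdp, ringKrullDim_eq_of_ringEquiv (DoubleQuot.quotQuotEquivQuotOfLE hpq), hc] at h1
    have h2 := Groth.Agent.Lib.Helper73.height_map_quotientMk_add_height_le p q hpq
    have h3 : (q.map (Ideal.Quotient.mk p)).height ≤ q.height := le_trans le_self_add h2
    obtain ⟨a', ha'⟩ := ENat.ne_top_iff_exists.mp
      (Ideal.height_ne_top_of_isPrime (I := q.map (Ideal.Quotient.mk p)))
    rw [← ha'] at h1 h3
    rw [← ha] at h3
    have h1' : a' + c = d := by exact_mod_cast h1
    have h3' : a' ≤ a := by exact_mod_cast h3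
    omega
  · -- `ht (q/I) + dim S/q ≤ dim S/I`
    have h1 := Groth.Agent.Lib.Helper67.EquiCat.height_add_ringKrullDim_quotient_le
      (q.map (Ideal.Quotient.mk I))
    rw [ringKrullDim_eq_of_ringEquiv (DoubleQuot.quotQuotEquivQuotOfLE hIq), hc, he, ← hb] at h1
    exact_mod_cast h1
  · -- Krull
    have h1 := Ideal.height_le_height_add_spanFinrank_of_le hIq
    have h2 := spanFinrank_ofList_le f
    rw [← ha, ← hb] at h1
    have h1' : a ≤ b + I.spanFinrank := by exact_mod_cast h1
    have h2' : I.spanFinrank ≤ f.length := h2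
    omega

end Main

/-- Let S be a Cohen–Macaulay finite type algebra over a field k, equidimensional of dimension d, and
f_1, …, f_i elements (i ≤ d) generating a proper ideal whose zero locus has dimension at most d − i.
Then that dimension equals d − i and the f_j form a regular sequence in S_q for every prime q
containing them. (The published statement also allows the f_j to generate the unit ideal, where the
zero locus is empty and the equality fails, e.g. f_1 = 1 in k[x]; this row assumes the ideal is
proper.) -/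
theorem result (k S : Type u) [Field k] [CommRing S] [Algebra k S]
    [Algebra.FiniteType k S] [LocCoh.IsCohenMacaulayRing S] (d : ℕ)
    (heq : ∀ p ∈ minimalPrimes S, ringKrullDim (S ⧸ p) = d) (f : List S) (hi : f.length ≤ d)
    (hne : Ideal.ofList f ≠ ⊤)
    (hle : ringKrullDim (S ⧸ Ideal.ofList f) ≤ ((d - f.length : ℕ) : WithBot ℕ∞)) :
    ringKrullDim (S ⧸ Ideal.ofList f) = ((d - f.length : ℕ) : WithBot ℕ∞) ∧
      ∀ (q : Ideal S) [q.IsPrime], Ideal.ofList f ≤ q →
        RingTheory.Sequence.IsRegular (Localization.AtPrime q)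
          (f.map (algebraMap S (Localization.AtPrime q))) := by
  have hN : IsNoetherianRing S := Algebra.FiniteType.isNoetherianRing k S
  constructor
  · obtain ⟨m, hm, hIm⟩ := Ideal.exists_le_maximal _ hne
    have hmp : m.IsPrime := hm.isPrime
    obtain ⟨a, b, c, e, ha, hb, he, h1, h2, h3⟩ := exists_numbers k S d heq f m hIm
    rw [he] at hle ⊢
    have hle' : e ≤ d - f.length := by exact_mod_cast hle
    have : e = d - f.length := by omega
    rw [this]
  · intro q hq hIq
    obtain ⟨a, b, c, e, ha, hb, he, h1, h2, h3⟩ := exists_numbers k S d heq f q hIq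
    rw [he] at hle
    have hle' : e ≤ d - f.length := by exact_mod_cast hle
    have hab : b + f.length = a := by omega
    have hCM : LocCoh.IsCohenMacaulayLocalRing (Localization.AtPrime q) :=
      LocCoh.IsCohenMacaulayRing.isCohenMacaulayLocalRing_localization q
    apply Groth.Agent.Lib.Helper94.CIField.isRegular_of_ringKrullDim_quotient
    · intro r hr
      obtain ⟨s, hs, rfl⟩ := List.mem_map.1 hr
      have h3 := IsLocalization.AtPrime.under_maximalIdeal (Localization.AtPrime q) q
      rw [Ideal.under_def] at h3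
      rw [← Ideal.mem_comap, h3]
      exact hIq (Ideal.subset_span hs)
    · rw [← Ideal.map_ofList, List.length_map,
        ringKrullDim_quotient_localization (Ideal.ofList f) q hIq, hb,
        IsLocalization.AtPrime.ringKrullDim_eq_height q, ha]
      exact_mod_cast hab

end Groth.Agent.S9154
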