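import Groth.Statements.S9155
-- import your own Groth.Agent.* helpers here
import Groth.Agent.Lib.Helper70.DiffEtale
import Groth.Agent.S9472

set_option autoImplicit false
universe u
open Diff16

namespace Groth.Agent.S9155

open scoped TensorProduct

/-- A differential operator of order at most k between modules over B (relative to A → B) has exactly
one extension to the localized modules over S⁻¹B that is again a differential operator of order at
most k (relative to A → S⁻¹B), compatible with the localization maps. -/
theorem result (A B : Type u) [CommRing A] [CommRing B] [Algebra A B]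
    (S : Submonoid B) (M N : Type u) [AddCommGroup M] [Module B M] [Module A M] [IsScalarTower A B M]
    [AddCommGroup N] [Module B N] [Module A N] [IsScalarTower A B N] (k : ℕ) (D : M →ₗ[A] N)
    (hD : Diff16.IsDiffOpLE A B M N k D) :
    ∃! E : LocalizedModule S M →ₗ[A] LocalizedModule S N,
      Diff16.IsDiffOpLE A (Localization S) (LocalizedModule S M) (LocalizedModule S N) k E ∧
        E ∘ₗ (LocalizedModule.mkLinearMap S M).restrictScalars A =
          (LocalizedModule.mkLinearMap S N).restrictScalars A ∘ₗ D := by
  have hbc : IsBaseChange (Localization S) (LocalizedModule.mkLinearMap S M) :=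
    IsLocalizedModule.isBaseChange S (Localization S) (LocalizedModule.mkLinearMap S M)
  let e : Localization S ⊗[B] M ≃ₗ[Localization S] LocalizedModule S M := hbc.equiv
  have he1 : ∀ m : M, e ((1 : Localization S) ⊗ₜ[B] m) = LocalizedModule.mkLinearMap S M m := by
    intro m
    rw [IsBaseChange.equiv_tmul, one_smul]
  have he2 : ∀ m : M, e.symm (LocalizedModule.mkLinearMap S M m) = (1 : Localization S) ⊗ₜ[B] m :=
    fun m => hbc.equiv_symm_apply m
  have hD1 : Diff16.IsDiffOpLE A B M (LocalizedModule S N) k
      ((LocalizedModule.mkLinearMap S N).restrictScalars A ∘ₗ D) :=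
    Groth.Agent.S9472.isDiffOpLE_comp_left (LocalizedModule.mkLinearMap S N) k D hD
  obtain ⟨D', hD', hD'1⟩ := Groth.Agent.Lib.Helper70.DiffEtale.exists_extension k A B
    (Localization S) M (LocalizedModule S N) _ hD1
  refine ⟨D' ∘ₗ e.symm.toLinearMap.restrictScalars A, ⟨?_, ?_⟩, ?_⟩
  · exact Groth.Agent.S9472.isDiffOpLE_restrict (S := Localization S) (S' := Localization S)
      e.symm.toLinearMap k D' hD'
  · ext m
    simp only [LinearMap.comp_apply, LinearMap.restrictScalars_apply, LinearEquiv.coe_coe]
    rw [he2, hD'1]
    rfl
  · rintro E ⟨hE, hE1⟩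
    have hF : Diff16.IsDiffOpLE A (Localization S) (Localization S ⊗[B] M) (LocalizedModule S N) k
        (E ∘ₗ e.toLinearMap.restrictScalars A - D') := by
      apply Groth.Agent.S9472.isDiffOpLE_sub
      · exact Groth.Agent.S9472.isDiffOpLE_restrict (S := Localization S) (S' := Localization S)
          e.toLinearMap k E hE
      · exact hD'
    have h0 := Groth.Agent.S9472.eq_zero_of_vanish (S := B) k _ hF (by
      intro m
      rw [LinearMap.sub_apply, LinearMap.comp_apply, LinearMap.restrictScalars_apply,
        LinearEquiv.coe_coe, he1, hD'1]
      have := LinearMap.congr_fun hE1 m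
      simp only [LinearMap.comp_apply, LinearMap.restrictScalars_apply] at this
      rw [this]
      exact sub_self _)
    ext x
    have h1 := LinearMap.congr_fun h0 (e.symm x)
    rw [LinearMap.sub_apply, LinearMap.comp_apply, LinearMap.restrictScalars_apply,
      LinearEquiv.coe_coe, LinearEquiv.apply_symm_apply, LinearMap.zero_apply, sub_eq_zero] at h1
    rw [h1]
    rfl

end Groth.Agent.S9155
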