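import Groth.Statements.S9156
import Mathlib
import Groth.Agent.Lib.Helper67.CMCat2
import Groth.Agent.Lib.Helper73.DimFT.Catenary
import Groth.Agent.Lib.Helper73.DimFormula.Catenary

set_option autoImplicit false
universe u
open CAlg

namespace Groth.Agent.S9156

set_option linter.style.haveILetI false
set_option linter.unusedSectionVars false

open IsLocalRing LocCoh Groth.Agent.Lib.Helper67 Groth.Agent.Lib.Helper73 Groth.Agent.Lib.Helper70

section Cover

variable {S : Type u} [CommRing S]

/-- Covers of primes are preserved by localization. -/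
lemma covBy_map_localization (M : Submonoid S) (R' : Type u) [CommRing R'] [Algebra S R']
    [IsLocalization M R'] (p q : PrimeSpectrum S)
    (hq : Disjoint (M : Set S) (q.asIdeal : Set S)) (h : p ⋖ q)
    (hp' : (p.asIdeal.map (algebraMap S R')).IsPrime)
    (hq' : (q.asIdeal.map (algebraMap S R')).IsPrime) :
    (⟨p.asIdeal.map (algebraMap S R'), hp'⟩ : PrimeSpectrum R') ⋖
      ⟨q.asIdeal.map (algebraMap S R'), hq'⟩ := by
  have hp : Disjoint (M : Set S) (p.asIdeal : Set S) :=
    Set.disjoint_of_subset_right h.lt.le hq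
  have hcp : (p.asIdeal.map (algebraMap S R')).comap (algebraMap S R') = p.asIdeal :=
    IsLocalization.comap_map_of_isPrime_disjoint M R' p.2 hp
  have hcq : (q.asIdeal.map (algebraMap S R')).comap (algebraMap S R') = q.asIdeal :=
    IsLocalization.comap_map_of_isPrime_disjoint M R' q.2 hq
  constructor
  · refine lt_of_le_of_ne (Ideal.map_mono h.lt.le) ?_
    intro heq
    have h1 := congrArg (fun x : PrimeSpectrum R' => x.asIdeal.comap (algebraMap S R')) heq
    simp only [hcp, hcq] at h1
    exact h.lt.ne (PrimeSpectrum.ext h1)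
  · intro z hpz hzq
    have hzmap : (z.asIdeal.comap (algebraMap S R')).map (algebraMap S R') = z.asIdeal :=
      IsLocalization.map_comap M R' z.asIdeal
    have hz1 : p ≤ (⟨z.asIdeal.comap (algebraMap S R'), inferInstance⟩ : PrimeSpectrum S) := by
      show p.asIdeal ≤ z.asIdeal.comap (algebraMap S R')
      exact hcp.ge.trans (Ideal.comap_mono hpz.le)
    have hz2 : (⟨z.asIdeal.comap (algebraMap S R'), inferInstance⟩ : PrimeSpectrum S) ≤ q := by
      show z.asIdeal.comap (algebraMap S R') ≤ q.asIdeal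
      exact (Ideal.comap_mono hzq.le).trans hcq.le
    rcases eq_or_lt_of_le hz1 with heq | hlt
    · apply hpz.ne
      apply PrimeSpectrum.ext
      show p.asIdeal.map (algebraMap S R') = z.asIdeal
      have hI : p.asIdeal = z.asIdeal.comap (algebraMap S R') :=
        congrArg PrimeSpectrum.asIdeal heq
      rw [← hzmap, ← hI]
    · rcases eq_or_lt_of_le hz2 with heq | hlt2
      · apply hzq.ne
        apply PrimeSpectrum.ext
        have hI2 : z.asIdeal.comap (algebraMap S R') = q.asIdeal :=
          congrArg PrimeSpectrum.asIdeal heq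
        show z.asIdeal = q.asIdeal.map (algebraMap S R')
        rw [← hzmap, hI2]
      · exact h.2 hlt hlt2

/-- In a Cohen–Macaulay ring, `ht q = ht p + 1` for `p ⋖ q`. -/
theorem height_eq_add_one_of_covBy_of_CM [hS : IsCohenMacaulayRing S] (p q : PrimeSpectrum S)
    (h : p ⋖ q) : q.asIdeal.height = p.asIdeal.height + 1 := by
  haveI := q.2
  haveI := p.2
  set R' := Localization.AtPrime q.asIdeal with hR'
  haveI hCM : IsCohenMacaulayLocalRing R' := hS.isCohenMacaulayLocalRing_localization q.asIdeal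
  have hdq : Disjoint (q.asIdeal.primeCompl : Set S) (q.asIdeal : Set S) := by
    rw [Set.disjoint_left]
    intro x hx hxq
    exact hx hxq
  have hdp : Disjoint (q.asIdeal.primeCompl : Set S) (p.asIdeal : Set S) :=
    Set.disjoint_of_subset_right h.lt.le hdq
  have hp' : (p.asIdeal.map (algebraMap S R')).IsPrime :=
    IsLocalization.isPrime_of_isPrime_disjoint q.asIdeal.primeCompl R' p.asIdeal p.2 hdp
  have hq' : (q.asIdeal.map (algebraMap S R')).IsPrime :=
    IsLocalization.isPrime_of_isPrime_disjoint q.asIdeal.primeCompl R' q.asIdeal q.2 hdq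
  have hcov := covBy_map_localization q.asIdeal.primeCompl R' p q hdq h hp' hq'
  have key := CMCat.height_eq_add_one_of_covBy (R := R') R' hCM.supportDim_eq_depth
    (CMCat.support_self_eq_univ R') _ _ hcov
  simp only at key
  rw [IsLocalization.height_map_of_disjoint q.asIdeal.primeCompl p.asIdeal hdp,
    IsLocalization.height_map_of_disjoint q.asIdeal.primeCompl q.asIdeal hdq] at key
  exact key

end Cover

section Delta

variable (k : Type u) [Field k] (S : Type u) [CommRing S] [Algebra k S] [Algebra.FiniteType k S]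
  [IsCohenMacaulayRing S]

/-- `δ(x) = ht x + dim S/x`. -/
noncomputable def delta (x : PrimeSpectrum S) : WithBot ℕ∞ :=
  (x.asIdeal.height : WithBot ℕ∞) + ringKrullDim (S ⧸ x.asIdeal)

include k in
lemma delta_eq_of_covBy (p q : PrimeSpectrum S) (h : p ⋖ q) : delta S p = delta S q := by
  unfold delta
  rw [height_eq_add_one_of_covBy_of_CM p q h, ringKrullDim_quotient_eq_add_one_of_covBy k p q h]
  push_cast
  rw [add_assoc, add_comm (1 : WithBot ℕ∞)]

include k in
lemma delta_eq_of_le (p q : PrimeSpectrum S) (h : p ≤ q) : delta S p = delta S q := by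
  rcases eq_or_lt_of_le h with rfl | hlt
  · rfl
  have hcat : PosetCat (PrimeSpectrum S) := CMCat.isCatenary_of_isCohenMacaulayRing S
  let c0 : LTSeries (PrimeSpectrum S) := RelSeries.cons (RelSeries.singleton _ q) p hlt
  have hc0h : c0.head = p := RelSeries.head_cons _ _ _
  have hc0l : c0.last = q := (RelSeries.last_cons _ _ _).trans rfl
  obtain ⟨s, h1, h2, -, h4⟩ := PosetCat.exists_saturated_of_series hcat c0
  rw [hc0h] at h1
  rw [hc0l] at h2
  have key : ∀ i : Fin (s.length + 1), delta S (s i) = delta S s.head := by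
    intro i
    induction i using Fin.induction with
    | zero => rfl
    | succ i ih => rw [← delta_eq_of_covBy k S _ _ (h4 i), ih]
  have := key (Fin.last _)
  rw [h1] at this
  rw [← this, ← h2]
  rfl

include k in
lemma exists_nat_delta (x : PrimeSpectrum S) : ∃ d : ℕ, delta S x = (d : WithBot ℕ∞) := by
  have hft : Algebra.FiniteType k (S ⧸ x.asIdeal) :=
    Algebra.FiniteType.of_surjective (Ideal.Quotient.mkₐ k x.asIdeal) Ideal.Quotient.mk_surjective
  obtain ⟨a, ha⟩ := exists_nat_ringKrullDim_eq k (S ⧸ x.asIdeal)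
  obtain ⟨b, hb⟩ := ENat.ne_top_iff_exists.mp (Ideal.height_ne_top_of_isPrime (I := x.asIdeal))
  refine ⟨b + a, ?_⟩
  unfold delta
  rw [ha, ← hb]
  push_cast
  rfl

/-- the natural number `δ(x)` -/
noncomputable def dfun (x : PrimeSpectrum S) : ℕ := (exists_nat_delta k S x).choose

lemma dfun_spec (x : PrimeSpectrum S) : delta S x = (dfun k S x : WithBot ℕ∞) :=
  (exists_nat_delta k S x).choose_spec

lemma dfun_eq_of_le (p q : PrimeSpectrum S) (h : p ≤ q) : dfun k S p = dfun k S q := by
  have := delta_eq_of_le k S p q h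
  rw [dfun_spec k S p, dfun_spec k S q] at this
  exact_mod_cast this

lemma height_eq_dfun_of_isMaximal (x : PrimeSpectrum S) (hx : x.asIdeal.IsMaximal) :
    x.asIdeal.height = (dfun k S x : ℕ∞) := by
  have h1 := dfun_spec k S x
  unfold delta at h1
  letI := Ideal.Quotient.field x.asIdeal
  rw [ringKrullDim_eq_zero_of_field, add_zero] at h1
  exact_mod_cast h1

end Delta

section Clopen

variable (k : Type u) [Field k] (S : Type u) [CommRing S] [Algebra k S] [Algebra.FiniteType k S]
  [IsCohenMacaulayRing S]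

/-- the points of the spectrum which are minimal primes -/
def Pmin : Set (PrimeSpectrum S) := {x | x.asIdeal ∈ minimalPrimes S}

lemma finite_Pmin : (Pmin S).Finite := by
  have h := minimalPrimes.finite_of_isNoetherianRing S
  exact Set.Finite.preimage (fun x _ y _ hxy => PrimeSpectrum.ext hxy) h

/-- the locus where `δ = d` -/
def Z (d : ℕ) : Set (PrimeSpectrum S) := {x | dfun k S x = d}

lemma mem_Z_iff (d : ℕ) (x : PrimeSpectrum S) :
    x ∈ Z k S d ↔ ∃ p ∈ Pmin S, dfun k S p = d ∧ p ≤ x := by
  constructor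
  · intro hx
    obtain ⟨p, hpmin, hpx⟩ := Ideal.exists_minimalPrimes_le (I := ⊥) (J := x.asIdeal) bot_le
    have hp : p.IsPrime := hpmin.1.1
    refine ⟨⟨p, hp⟩, hpmin, ?_, hpx⟩
    rw [dfun_eq_of_le k S ⟨p, hp⟩ x hpx]
    exact hx
  · rintro ⟨p, -, hd, hpx⟩
    show dfun k S x = d
    rw [← dfun_eq_of_le k S p x hpx]
    exact hd

lemma isClosed_Z (d : ℕ) : IsClosed (Z k S d) := by
  have : Z k S d = ⋃ p ∈ {p ∈ Pmin S | dfun k S p = d},
      PrimeSpectrum.zeroLocus (p.asIdeal : Set S) := by
    ext x
    rw [mem_Z_iff]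
    simp only [Set.mem_iUnion, Set.mem_setOf_eq, PrimeSpectrum.mem_zeroLocus,
      SetLike.coe_subset_coe, exists_prop]
    constructor
    · rintro ⟨p, h1, h2, h3⟩
      exact ⟨p, ⟨h1, h2⟩, h3⟩
    · rintro ⟨p, ⟨h1, h2⟩, h3⟩
      exact ⟨p, h1, h2, h3⟩
  rw [this]
  exact Set.Finite.isClosed_biUnion ((finite_Pmin S).subset (fun p hp => hp.1))
    (fun p _ => PrimeSpectrum.isClosed_zeroLocus _)

lemma isClopen_Z (d : ℕ) : IsClopen (Z k S d) := by
  refine ⟨isClosed_Z k S d, ?_⟩
  rw [← isClosed_compl_iff]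
  have : (Z k S d)ᶜ = ⋃ p ∈ {p ∈ Pmin S | dfun k S p ≠ d},
      PrimeSpectrum.zeroLocus (p.asIdeal : Set S) := by
    ext x
    simp only [Set.mem_compl_iff, Set.mem_iUnion, Set.mem_setOf_eq, PrimeSpectrum.mem_zeroLocus,
      SetLike.coe_subset_coe, exists_prop]
    constructor
    · intro hx
      obtain ⟨p, hpmin, hpx⟩ := Ideal.exists_minimalPrimes_le (I := ⊥) (J := x.asIdeal) bot_le
      have hp : p.IsPrime := hpmin.1.1
      refine ⟨⟨p, hp⟩, ⟨hpmin, ?_⟩, hpx⟩
      rw [dfun_eq_of_le k S ⟨p, hp⟩ x hpx]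
      exact hx
    · rintro ⟨p, ⟨-, h2⟩, h3⟩ hx
      apply h2
      rw [dfun_eq_of_le k S p x h3]
      exact hx
  rw [this]
  exact Set.Finite.isClosed_biUnion ((finite_Pmin S).subset (fun p hp => hp.1))
    (fun p _ => PrimeSpectrum.isClosed_zeroLocus _)

/-- a bound for `δ` -/
lemma exists_bound : ∃ N : ℕ, ∀ x : PrimeSpectrum S, dfun k S x ≤ N := by
  obtain ⟨N, hN⟩ := ((finite_Pmin S).image (dfun k S)).bddAbove
  refine ⟨N, fun x => ?_⟩
  obtain ⟨p, hpmin, hpx⟩ := Ideal.exists_minimalPrimes_le (I := ⊥) (J := x.asIdeal) bot_le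
  have hp : p.IsPrime := hpmin.1.1
  rw [← dfun_eq_of_le k S ⟨p, hp⟩ x hpx]
  exact hN ⟨⟨p, hp⟩, hpmin, rfl⟩

end Clopen

section Idem

variable (k : Type u) [Field k] (S : Type u) [CommRing S] [Algebra k S] [Algebra.FiniteType k S]
  [IsCohenMacaulayRing S]

lemma exists_idem (d : ℕ) : ∃ e : S, IsIdempotentElem e ∧
    Z k S d = (PrimeSpectrum.basicOpen e : Set (PrimeSpectrum S)) :=
  PrimeSpectrum.exists_idempotent_basicOpen_eq_of_isClopen (isClopen_Z k S d)

/-- the idempotent cutting out `Z d` -/
noncomputable def idem (d : ℕ) : S := (exists_idem k S d).choose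

lemma idem_isIdempotentElem (d : ℕ) : IsIdempotentElem (idem k S d) :=
  (exists_idem k S d).choose_spec.1

lemma mem_Z_iff_idem (d : ℕ) (x : PrimeSpectrum S) : x ∈ Z k S d ↔ idem k S d ∉ x.asIdeal := by
  rw [(exists_idem k S d).choose_spec.2]
  rfl

lemma idem_mul_idem {d d' : ℕ} (h : d ≠ d') : idem k S d * idem k S d' = 0 := by
  apply PrimeSpectrum.basicOpen_injOn_isIdempotentElem
    ((idem_isIdempotentElem k S d).mul (idem_isIdempotentElem k S d'))
    (IsIdempotentElem.zero)
  ext x
  simp only [PrimeSpectrum.basicOpen_zero]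
  constructor
  · intro hx
    exfalso
    have hx' : idem k S d * idem k S d' ∉ x.asIdeal := hx
    have h1 : idem k S d ∉ x.asIdeal := fun hm => hx' (Ideal.mul_mem_right _ _ hm)
    have h2 : idem k S d' ∉ x.asIdeal := fun hm => hx' (Ideal.mul_mem_left _ _ hm)
    rw [← mem_Z_iff_idem] at h1 h2
    exact h (h1.symm.trans h2)
  · intro hx
    exact absurd hx (by simp)

lemma completeOrthogonalIdempotents (N : ℕ) (hN : ∀ x : PrimeSpectrum S, dfun k S x ≤ N) :
    CompleteOrthogonalIdempotents (fun i : Fin (N + 1) => idem k S i.val) := by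
  have hO : OrthogonalIdempotents (fun i : Fin (N + 1) => idem k S i.val) :=
    ⟨fun i => idem_isIdempotentElem k S i.val,
      fun i j hij => idem_mul_idem k S (fun h => hij (Fin.ext h))⟩
  refine ⟨hO, ?_⟩
  apply PrimeSpectrum.basicOpen_injOn_isIdempotentElem
    (hO.isIdempotentElem_sum (s := Finset.univ)) (IsIdempotentElem.one)
  ext x
  simp only [PrimeSpectrum.basicOpen_one]
  constructor
  · intro _; trivial
  · intro _
    show (∑ i : Fin (N + 1), idem k S i.val) ∉ x.asIdeal
    intro hmem
    let i : Fin (N + 1) := ⟨dfun k S x, Nat.lt_succ_of_le (hN x)⟩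
    have hxi : x ∈ Z k S i.val := rfl
    rw [mem_Z_iff_idem] at hxi
    apply hxi
    have := hO.mul_sum_of_mem (i := i) (s := Finset.univ) (Finset.mem_univ i)
    rw [← this]
    exact Ideal.mul_mem_left _ _ hmem

end Idem

/-- A Cohen–Macaulay finite type algebra S over a field k decomposes as a finite product of k-algebras
S_0 × ⋯ × S_N in which every maximal ideal of the factor S_d has height d (so Spec S is a finite
disjoint union of equidimensional open and closed pieces). -/
theorem result (k S : Type u) [Field k] [CommRing S]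
    [Algebra k S] [Algebra.FiniteType k S] [LocCoh.IsCohenMacaulayRing S] :
    ∃ (N : ℕ) (T : Fin (N + 1) → Type u) (_ : ∀ d, CommRing (T d)) (_ : ∀ d, Algebra k (T d)),
      Nonempty (S ≃ₐ[k] ((d : Fin (N + 1)) → T d)) ∧
        ∀ (d : Fin (N + 1)) (m : Ideal (T d)), m.IsMaximal → m.height = (d : ℕ) := by
  obtain ⟨N, hN⟩ := exists_bound k S
  have hC := completeOrthogonalIdempotents k S N hN
  refine ⟨N, fun i : Fin (N + 1) => S ⧸ Ideal.span {1 - idem k S i.val}, fun i => inferInstance,
    fun i => inferInstance, ?_, ?_⟩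
  · let φ : S →ₐ[k] ((i : Fin (N + 1)) → S ⧸ Ideal.span {1 - idem k S i.val}) :=
      Pi.algHom k _ (fun i => Ideal.Quotient.mkₐ k (Ideal.span {1 - idem k S i.val}))
    have hφ : Function.Bijective φ := hC.bijective_pi
    exact ⟨AlgEquiv.ofBijective φ hφ⟩
  · intro i m hm
    set I := Ideal.span {1 - idem k S i.val} with hI
    have hloc : IsLocalization.Away (idem k S i.val) (S ⧸ I) :=
      IsLocalization.away_of_isIdempotentElem (idem_isIdempotentElem k S i.val)
        (by rw [Ideal.Quotient.algebraMap_eq, Ideal.mk_ker]) Ideal.Quotient.mk_surjective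
    have h1 : (m.under S).height = m.height :=
      IsLocalization.height_under (Submonoid.powers (idem k S i.val)) m
    have hmax : (m.under S).IsMaximal :=
      Ideal.comap_isMaximal_of_surjective _ Ideal.Quotient.mk_surjective
    let x : PrimeSpectrum S := ⟨m.under S, hmax.isPrime⟩
    have hx : x ∈ Z k S i.val := by
      rw [mem_Z_iff_idem]
      intro hmem
      have h2 : (1 - idem k S i.val) ∈ m.under S := by
        show Ideal.Quotient.mk I (1 - idem k S i.val) ∈ m
        have h0 : Ideal.Quotient.mk I (1 - idem k S i.val) = 0 :=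
          Ideal.Quotient.eq_zero_iff_mem.mpr (Ideal.subset_span rfl)
        rw [h0]
        exact m.zero_mem
      have : (1 : S) ∈ m.under S := by
        have := Ideal.add_mem _ h2 hmem
        simpa using this
      exact hmax.ne_top ((Ideal.eq_top_iff_one _).mpr this)
    have h3 := height_eq_dfun_of_isMaximal k S x hmax
    rw [← h1]
    have h4 : dfun k S x = i.val := hx
    rw [h4] at h3
    exact h3

end Groth.Agent.S9156
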