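import Groth.Statements.S9157
import Mathlib

set_option autoImplicit false
universe u
open CAlg

namespace Groth.Agent.S9157

section
variable {R : Type u} [CommRing R] (S : Submonoid R) {M : Type u} [AddCommGroup M] [Module R M]

theorem exists_mk_eq (z : LocalizedModule S M) : ∃ (m : M) (s : S), z = LocalizedModule.mk m s :=
  LocalizedModule.induction_on (fun m s => ⟨m, s, rfl⟩) z

theorem mk_eq_zero_of_smul {N : Type*} [AddCommGroup N] [Module R N] (m : N) (s t : S)
    (h : t • m = 0) : LocalizedModule.mk m s = 0 := by
  rw [← LocalizedModule.zero_mk 1, LocalizedModule.mk_eq]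
  exact ⟨t, by rw [one_smul, h, smul_zero, smul_zero]⟩

theorem exists_smul_eq_zero_of_mk_eq_zero {N : Type*} [AddCommGroup N] [Module R N] (m : N)
    (s : S) (h : LocalizedModule.mk m s = 0) : ∃ t : S, t • m = 0 := by
  rw [← LocalizedModule.zero_mk 1, LocalizedModule.mk_eq] at h
  obtain ⟨u, hu⟩ := h
  exact ⟨u, by rw [one_smul, smul_zero, smul_zero] at hu; exact hu⟩

end

/-- If the localization S⁻¹M of an R-module M is finitely presented over S⁻¹R, then some finitely
presented R-module M' maps to M inducing an isomorphism S⁻¹M' → S⁻¹M. -/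
theorem result (R : Type u) [CommRing R] (S : Submonoid R)
    (M : Type u) [AddCommGroup M] [Module R M]
    [Module.FinitePresentation (Localization S) (LocalizedModule S M)] :
    ∃ (M' : Type u) (_ : AddCommGroup M') (_ : Module R M') (φ : M' →ₗ[R] M),
      Module.FinitePresentation R M' ∧ Function.Bijective (LocalizedModule.map S φ) := by
  classical
  obtain ⟨T, hT⟩ := (inferInstance : Module.Finite (Localization S) (LocalizedModule S M)).fg_top
  choose x sx hx using fun z : LocalizedModule S M => exists_mk_eq S z
  let f : (T → R) →ₗ[R] M := Fintype.linearCombination R (fun z : T => x z.1)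
  have hfsurj : Function.Surjective (LocalizedModule.map S f) := by
    rw [← LinearMap.range_eq_top, eq_top_iff, ← hT, Submodule.span_le]
    intro z hz
    refine ⟨LocalizedModule.mk (Pi.single (⟨z, hz⟩ : T) 1) (sx z), ?_⟩
    rw [LocalizedModule.map_mk]
    simp only [f, Fintype.linearCombination_apply_single, one_smul]
    exact (hx z).symm
  obtain ⟨U, hU⟩ := Module.FinitePresentation.fg_ker (LocalizedModule.map S f) hfsurj
  choose y sy hy using fun w : LocalizedModule S (T → R) => exists_mk_eq S w
  have hker : ∀ w : U, ∃ t : S, t • f (y w.1) = 0 := by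
    intro w
    have hw : w.1 ∈ LinearMap.ker (LocalizedModule.map S f) := by
      rw [← hU]
      exact Submodule.subset_span w.2
    rw [LinearMap.mem_ker, hy w.1, LocalizedModule.map_mk] at hw
    exact exists_smul_eq_zero_of_mk_eq_zero S _ _ hw
  choose t ht using hker
  let K' : Submodule R (T → R) := Submodule.span R (Set.range fun w : U => t w • y w.1)
  have hK' : K' ≤ LinearMap.ker f := by
    rw [Submodule.span_le]
    rintro _ ⟨w, rfl⟩
    change f (t w • y w.1) = 0
    rw [LinearMap.map_smul_of_tower]
    exact ht w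
  refine ⟨(T → R) ⧸ K', inferInstance, inferInstance, K'.liftQ f hK', ?_, ?_, ?_⟩
  · apply Module.finitePresentation_of_surjective K'.mkQ (Submodule.mkQ_surjective _)
    rw [Submodule.ker_mkQ]
    exact Submodule.fg_span (Set.finite_range _)
  · rw [injective_iff_map_eq_zero]
    intro w' hw'
    obtain ⟨m', s, rfl⟩ := exists_mk_eq S w'
    obtain ⟨y0, rfl⟩ := Submodule.mkQ_surjective K' m'
    rw [LocalizedModule.map_mk] at hw'
    have hmem : LocalizedModule.mk y0 s ∈ LinearMap.ker (LocalizedModule.map S f) := by
      rw [LinearMap.mem_ker, LocalizedModule.map_mk]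
      exact hw'
    have hle : LinearMap.ker (LocalizedModule.map S f) ≤
        LinearMap.ker (LocalizedModule.map S K'.mkQ) := by
      rw [← hU, Submodule.span_le]
      intro w hw
      rw [SetLike.mem_coe, LinearMap.mem_ker, hy w, LocalizedModule.map_mk]
      apply mk_eq_zero_of_smul S _ _ (t ⟨w, hw⟩)
      rw [← LinearMap.map_smul_of_tower, Submodule.mkQ_apply, Submodule.Quotient.mk_eq_zero]
      exact Submodule.subset_span ⟨⟨w, hw⟩, rfl⟩
    have := hle hmem
    rw [LinearMap.mem_ker, LocalizedModule.map_mk] at this
    exact this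
  · intro z'
    obtain ⟨w, rfl⟩ := hfsurj z'
    obtain ⟨y0, s, rfl⟩ := exists_mk_eq S w
    refine ⟨LocalizedModule.mk (K'.mkQ y0) s, ?_⟩
    rw [LocalizedModule.map_mk, LocalizedModule.map_mk]
    rfl

end Groth.Agent.S9157
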