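import Groth.Statements.S9158
import Groth.Agent.Lib.Helper55.GR.Final

set_option autoImplicit false
universe u
open CAlg

namespace Groth.Agent.S9158

/-- Generic freeness over a reduced ring: let R → S be of finite type with R reduced and M a finite
S-module. There is a dense open subset U of Spec R such that each point of U lies in a basic open
D(f) ⊆ U with M_f and S_f free over R_f, S_f of finite presentation over R_f, and M_f of finite
presentation over S_f. -/
theorem result (R S : Type u) [CommRing R] [IsReduced R] [CommRing S]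
    [Algebra R S] [Algebra.FiniteType R S] (M : Type u) [AddCommGroup M] [Module S M] [Module R M]
    [IsScalarTower R S M] [Module.Finite S M] :
    ∃ U : Set (PrimeSpectrum R), IsOpen U ∧ Dense U ∧ ∀ u ∈ U, ∃ f : R, f ∉ u.asIdeal ∧
      (PrimeSpectrum.basicOpen f : Set (PrimeSpectrum R)) ⊆ U ∧
      Module.Free (Localization.Away f) (LocalizedModule (Submonoid.powers f) M) ∧
      Module.Free (Localization.Away f) (LocalizedModule (Submonoid.powers f) S) ∧
      (Localization.awayMap (algebraMap R S) f).FinitePresentation ∧
      Module.FinitePresentation (Localization.Away (algebraMap R S f))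
        (LocalizedModule (Submonoid.powers (algebraMap R S f)) M) := by
  classical
  let Good : R → Prop := fun f =>
    Module.Free (Localization.Away f) (LocalizedModule (Submonoid.powers f) M) ∧
      Module.Free (Localization.Away f) (LocalizedModule (Submonoid.powers f) S) ∧
      (Localization.awayMap (algebraMap R S) f).FinitePresentation ∧
      Module.FinitePresentation (Localization.Away (algebraMap R S f))
        (LocalizedModule (Submonoid.powers (algebraMap R S f)) M)
  let U : Set (PrimeSpectrum R) := {u | ∃ f : R, f ∉ u.asIdeal ∧ Good f}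
  have hsub : ∀ f : R, Good f → (PrimeSpectrum.basicOpen f : Set (PrimeSpectrum R)) ⊆ U :=
    fun f hf v hv => ⟨f, hv, hf⟩
  refine ⟨U, ?_, ?_, ?_⟩
  · rw [isOpen_iff_forall_mem_open]
    rintro u ⟨f, hfu, hf⟩
    exact ⟨PrimeSpectrum.basicOpen f, hsub f hf, (PrimeSpectrum.basicOpen f).isOpen, hfu⟩
  · rw [dense_iff_inter_open]
    rintro V hV ⟨p, hp⟩
    obtain ⟨W, ⟨h, rfl⟩, hpW, hWV⟩ :=
      PrimeSpectrum.isTopologicalBasis_basic_opens.exists_subset_of_mem_open hp hV
    have hh : h ≠ 0 := by
      rintro rfl
      exact hpW (Submodule.zero_mem _)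
    obtain ⟨f, hne, hgood⟩ :=
      Groth.Agent.Lib.Helper55.GR.generic_freeness_reduced R S M h hh
    have hnil : ¬ IsNilpotent (h * f) := fun hn => hne (IsReduced.eq_zero _ hn)
    have hbot : PrimeSpectrum.basicOpen (h * f) ≠ ⊥ := by
      rw [Ne, PrimeSpectrum.basicOpen_eq_bot_iff]
      exact hnil
    obtain ⟨q, hq⟩ : ∃ q, q ∈ PrimeSpectrum.basicOpen (h * f) := by
      by_contra hcon
      push Not at hcon
      apply hbot
      ext q
      simp only [TopologicalSpace.Opens.coe_bot, Set.mem_empty_iff_false, iff_false]
      exact hcon q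
    refine ⟨q, hWV ?_, hsub _ hgood hq⟩
    rw [PrimeSpectrum.basicOpen_mul] at hq
    exact hq.1
  · rintro u ⟨f, hfu, hf⟩
    exact ⟨f, hfu, hsub f hf, hf⟩

end Groth.Agent.S9158
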