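import Groth.Statements.S9161
import Mathlib.Tactic.Abel

set_option autoImplicit false
universe u
open CAlg

namespace Groth.Agent.S9161

/-- If two two-term complexes of R-modules A₁ → A₀ and B₁ → B₀ are homotopy equivalent (maps of
complexes both ways whose composites are homotopic to the identity maps), then A₁ ⊕ B₀ and B₁ ⊕ A₀
are isomorphic R-modules. -/
theorem result (R : Type u) [CommRing R]
    (A₁ A₀ B₁ B₀ : Type u) [AddCommGroup A₁] [Module R A₁] [AddCommGroup A₀] [Module R A₀]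
    [AddCommGroup B₁] [Module R B₁] [AddCommGroup B₀] [Module R B₀]
    (dA : A₁ →ₗ[R] A₀) (dB : B₁ →ₗ[R] B₀) (φ₁ : A₁ →ₗ[R] B₁) (φ₀ : A₀ →ₗ[R] B₀)
    (ψ₁ : B₁ →ₗ[R] A₁) (ψ₀ : B₀ →ₗ[R] A₀) (hφ : dB ∘ₗ φ₁ = φ₀ ∘ₗ dA) (hψ : dA ∘ₗ ψ₁ = ψ₀ ∘ₗ dB)
    (h : A₀ →ₗ[R] A₁) (hh₁ : LinearMap.id - ψ₁ ∘ₗ φ₁ = h ∘ₗ dA) (hh₀ : LinearMap.id - ψ₀ ∘ₗ φ₀ = dA ∘ₗ h)
    (h' : B₀ →ₗ[R] B₁) (hh'₁ : LinearMap.id - φ₁ ∘ₗ ψ₁ = h' ∘ₗ dB)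
    (hh'₀ : LinearMap.id - φ₀ ∘ₗ ψ₀ = dB ∘ₗ h') :
    Nonempty ((A₁ × B₀) ≃ₗ[R] (B₁ × A₀)) := by
  have eφ : ∀ a, dB (φ₁ a) = φ₀ (dA a) := fun a => LinearMap.congr_fun hφ a
  have eψ : ∀ b, dA (ψ₁ b) = ψ₀ (dB b) := fun b => LinearMap.congr_fun hψ b
  have e₁ : ∀ a, a - ψ₁ (φ₁ a) = h (dA a) := fun a => LinearMap.congr_fun hh₁ a
  have e₀ : ∀ a, a - ψ₀ (φ₀ a) = dA (h a) := fun a => LinearMap.congr_fun hh₀ a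
  have e'₁ : ∀ b, b - φ₁ (ψ₁ b) = h' (dB b) := fun b => LinearMap.congr_fun hh'₁ b
  have e'₀ : ∀ b, b - φ₀ (ψ₀ b) = dB (h' b) := fun b => LinearMap.congr_fun hh'₀ b
  let Ψ : (B₁ × A₀) →ₗ[R] (A₁ × B₀) :=
    LinearMap.prod (h.coprod (-ψ₁) ∘ₗ (LinearMap.prod (LinearMap.snd R B₁ A₀) (LinearMap.fst R B₁ A₀)))
      (dB.coprod φ₀)
  have hΨ : ∀ b₁ a₀, Ψ (b₁, a₀) = (h a₀ - ψ₁ b₁, dB b₁ + φ₀ a₀) := by
    intro b₁ a₀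
    simp [Ψ, sub_eq_add_neg]
  have hinj : Function.Injective Ψ := by
    rw [injective_iff_map_eq_zero]
    rintro ⟨b₁, a₀⟩ hx
    rw [hΨ, Prod.mk_eq_zero] at hx
    obtain ⟨hx1, hx2⟩ := hx
    have ha₀ : a₀ = 0 := by
      have := e₀ a₀
      have h3 : φ₀ a₀ = - dB b₁ := by rw [eq_neg_iff_add_eq_zero, add_comm]; exact hx2
      have h4 : h a₀ = ψ₁ b₁ := sub_eq_zero.1 hx1
      rw [h3, h4, map_neg, eψ, sub_neg_eq_add] at this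
      simpa using this
    subst ha₀
    simp only [map_zero, add_zero, zero_sub, neg_eq_zero] at hx1 hx2
    have := e'₁ b₁
    rw [hx1, hx2, map_zero, map_zero, sub_zero] at this
    rw [this]
    rfl
  have hsurj : Function.Surjective Ψ := by
    rintro ⟨a₁, b₀⟩
    refine ⟨(-φ₁ (a₁ - (h (ψ₀ b₀) - ψ₁ (h' b₀))) + h' b₀, dA (a₁ - (h (ψ₀ b₀) - ψ₁ (h' b₀))) + ψ₀ b₀), ?_⟩
    rw [hΨ]
    generalize ha : a₁ - (h (ψ₀ b₀) - ψ₁ (h' b₀)) = a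
    refine Prod.ext ?_ ?_
    · dsimp only
      rw [map_add, map_add, map_neg, ← e₁ a, ← ha]
      abel
    · dsimp only
      rw [map_add, map_add, map_neg, eφ, ← e'₀ b₀]
      abel
  exact ⟨(LinearEquiv.ofBijective Ψ ⟨hinj, hsurj⟩).symm⟩

end Groth.Agent.S9161
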