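import Groth.Statements.S9162
import Groth.Agent.S9161
import Mathlib

set_option autoImplicit false
universe u
open CAlg

namespace Groth.Agent.S9162

section
open Algebra Algebra.Extension

theorem homEx {R S : Type u} [CommRing R] [CommRing S] [Algebra R S] {n m : ℕ}
    (α : MvPolynomial (Fin n) R →ₐ[R] S) (hα : Function.Surjective α)
    (β : MvPolynomial (Fin m) R →ₐ[R] S) (hβ : Function.Surjective β) :
    Nonempty ((Algebra.Extension.ofSurjective α hα).Hom (Algebra.Extension.ofSurjective β hβ)) := by
  choose q hq using fun i : Fin n => hβ (α (MvPolynomial.X i))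
  let φ : MvPolynomial (Fin n) R →ₐ[R] MvPolynomial (Fin m) R := MvPolynomial.aeval q
  have hφ : β.comp φ = α := by
    apply MvPolynomial.algHom_ext
    intro i
    simp [φ, hq]
  exact ⟨{ toRingHom := (φ : MvPolynomial (Fin n) R →+* MvPolynomial (Fin m) R)
           toRingHom_algebraMap := fun x => φ.commutes x
           algebraMap_toRingHom := fun x => AlgHom.congr_fun hφ x }⟩

theorem cotSpaceEquiv {R S : Type u} [CommRing R] [CommRing S] [Algebra R S] {m : ℕ}
    (β : MvPolynomial (Fin m) R →ₐ[R] S) (hβ : Function.Surjective β) :
    Nonempty ((Algebra.Extension.ofSurjective β hβ).CotangentSpace ≃ₗ[S] (Fin m → S)) := by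
  let b : Module.Basis (Fin m) (Algebra.Extension.ofSurjective β hβ).Ring
      Ω[(Algebra.Extension.ofSurjective β hβ).Ring⁄R] :=
    KaehlerDifferential.mvPolynomialBasis R (Fin m)
  exact ⟨(Module.Basis.baseChange S b).equivFun⟩

end

/-- Let S be an R-algebra and α : R[x_1, …, x_n] → S, β : R[y_1, …, y_m] → S surjective R-algebra maps
(presentations by polynomial rings in finitely many variables; the kernels I and J need not be
finitely generated). Then I/I² ⊕ S^m and J/J² ⊕ S^n are isomorphic S-modules. -/
theorem result (R S : Type u) [CommRing R] [CommRing S]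
    [Algebra R S] (n m : ℕ) (α : MvPolynomial (Fin n) R →ₐ[R] S) (hα : Function.Surjective α)
    (β : MvPolynomial (Fin m) R →ₐ[R] S) (hβ : Function.Surjective β) :
    Nonempty (((Algebra.Extension.ofSurjective α hα).Cotangent × (Fin m → S)) ≃ₗ[S]
      ((Algebra.Extension.ofSurjective β hβ).Cotangent × (Fin n → S))) := by
  obtain ⟨f⟩ := homEx α hα β hβ
  obtain ⟨g⟩ := homEx β hβ α hα
  obtain ⟨e1⟩ := cotSpaceEquiv α hα
  obtain ⟨e2⟩ := cotSpaceEquiv β hβ
  obtain ⟨E⟩ := Groth.Agent.S9161.result S
    (Algebra.Extension.ofSurjective α hα).Cotangent (Algebra.Extension.ofSurjective α hα).CotangentSpace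
    (Algebra.Extension.ofSurjective β hβ).Cotangent (Algebra.Extension.ofSurjective β hβ).CotangentSpace
    (Algebra.Extension.ofSurjective α hα).cotangentComplex
    (Algebra.Extension.ofSurjective β hβ).cotangentComplex
    (Algebra.Extension.Cotangent.map f) (Algebra.Extension.CotangentSpace.map f)
    (Algebra.Extension.Cotangent.map g) (Algebra.Extension.CotangentSpace.map g)
    (Algebra.Extension.CotangentSpace.map_comp_cotangentComplex f).symm
    (Algebra.Extension.CotangentSpace.map_comp_cotangentComplex g).symm
    ((Algebra.Extension.Hom.id _).sub (g.comp f))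
    (by
      rw [← Algebra.Extension.Cotangent.map_sub_map, Algebra.Extension.Cotangent.map_id,
        Algebra.Extension.Cotangent.map_comp]
      rfl)
    (by
      have := Algebra.Extension.CotangentSpace.map_sub_map (Algebra.Extension.Hom.id _) (g.comp f)
      rw [Algebra.Extension.CotangentSpace.map_id, Algebra.Extension.CotangentSpace.map_comp] at this
      exact this)
    ((Algebra.Extension.Hom.id _).sub (f.comp g))
    (by
      rw [← Algebra.Extension.Cotangent.map_sub_map, Algebra.Extension.Cotangent.map_id,
        Algebra.Extension.Cotangent.map_comp]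
      rfl)
    (by
      have := Algebra.Extension.CotangentSpace.map_sub_map (Algebra.Extension.Hom.id _) (f.comp g)
      rw [Algebra.Extension.CotangentSpace.map_id, Algebra.Extension.CotangentSpace.map_comp] at this
      exact this)
  exact ⟨(LinearEquiv.prodCongr (LinearEquiv.refl S _) e2.symm).trans
    (E.trans (LinearEquiv.prodCongr (LinearEquiv.refl S _) e1))⟩

end Groth.Agent.S9162
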