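import Groth.Statements.S9163

set_option autoImplicit false
universe u
open CAlg

namespace Groth.Agent.S9163

open Polynomial in
/-- If S is integral over R, then any finitely many elements of R and of S lie in a pair R₀ ⊆ R, S₀ ⊆ S
with R₀ a finite type ℤ-subalgebra, S₀ an R₀-subalgebra of S, and S₀ finite as an R₀-module; so R →
S is the directed colimit of finite maps between finite type ℤ-algebras. -/
theorem result (R S : Type u) [CommRing R] [CommRing S] [Algebra R S]
    [Algebra.IsIntegral R S] (E : Finset R) (F : Finset S) :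
    ∃ (R₀ : Subalgebra ℤ R) (S₀ : Subalgebra R₀ S), Algebra.FiniteType ℤ R₀ ∧ (E : Set R) ⊆ R₀ ∧
      (F : Set S) ⊆ S₀ ∧ Module.Finite R₀ S₀ := by
  classical
  have hint : ∀ s : S, ∃ p : R[X], p.Monic ∧ eval₂ (algebraMap R S) s p = 0 :=
    fun s => Algebra.IsIntegral.isIntegral s
  choose p hpm hp using hint
  let T : Finset R := E ∪ F.biUnion (fun s => (p s).coeffs)
  let R₀ : Subalgebra ℤ R := Algebra.adjoin ℤ (T : Set R)
  have hT : (T : Set R) ⊆ R₀ := Algebra.subset_adjoin
  have hE : (E : Set R) ⊆ R₀ := fun x hx => hT (by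
    simp only [T, Finset.coe_union, Set.mem_union]; exact Or.inl hx)
  have hcoeff : ∀ s ∈ F, ((p s).coeffs : Set R) ⊆ R₀.toSubring := fun s hs x hx => hT (by
    simp only [T, Finset.coe_union, Set.mem_union, Finset.coe_biUnion, Set.mem_iUnion]
    exact Or.inr ⟨s, hs, hx⟩)
  have hintR₀ : ∀ s ∈ (F : Set S), IsIntegral R₀ s := by
    intro s hs
    refine ⟨(p s).toSubring R₀.toSubring (hcoeff s hs), ((p s).monic_toSubring _ _).mpr (hpm s), ?_⟩
    rw [IsScalarTower.algebraMap_eq R₀ R S, ← eval₂_map]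
    have hmap : map (algebraMap R₀ R) ((p s).toSubring R₀.toSubring (hcoeff s hs)) = p s :=
      (p s).map_toSubring R₀.toSubring _
    rw [hmap]
    exact hp s
  refine ⟨R₀, Algebra.adjoin R₀ (F : Set S), ?_, hE, Algebra.subset_adjoin, ?_⟩
  · exact (Subalgebra.fg_iff_finiteType R₀).1 (Subalgebra.fg_adjoin_finset T)
  · exact Module.Finite.of_fg (fg_adjoin_of_finite F.finite_toSet hintR₀)

end Groth.Agent.S9163
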