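import Groth.Statements.S9164
import Groth.Agent.Lib.Helper14.KrullAkizuki

set_option autoImplicit false
universe u
open CAlg

namespace Groth.Agent.S9164

open Groth.Agent.Lib.Helper14.KrullAkizuki

section
variable {R K V : Type u} [CommRing R] [IsDomain R] [Field K] [Algebra R K]
    [IsFractionRing R K] [AddCommGroup V] [Module K V] [Module R V] [IsScalarTower R K V]

theorem exists_smul_mem (L : Submodule R V) (hspan : Submodule.span K (L : Set V) = ⊤) (x : V) :
    ∃ r : R, r ≠ 0 ∧ r • x ∈ L := by
  have hx : x ∈ Submodule.span K (L : Set V) := by rw [hspan]; trivial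
  induction hx using Submodule.span_induction with
  | mem y hy => exact ⟨1, one_ne_zero, by rwa [one_smul]⟩
  | zero => exact ⟨1, one_ne_zero, by rw [smul_zero]; exact L.zero_mem⟩
  | add y z _ _ hy hz =>
    obtain ⟨r, hr0, hr⟩ := hy
    obtain ⟨s, hs0, hs⟩ := hz
    refine ⟨r * s, mul_ne_zero hr0 hs0, ?_⟩
    rw [smul_add]
    refine L.add_mem ?_ ?_
    · rw [mul_comm, mul_smul]; exact L.smul_mem _ hr
    · rw [mul_smul]; exact L.smul_mem _ hs
  | smul k y _ hy =>
    obtain ⟨r, hr0, hr⟩ := hy
    obtain ⟨a, b, hb, rfl⟩ := IsFractionRing.div_surjective (A := R) k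
    have hb0 : b ≠ 0 := nonZeroDivisors.ne_zero hb
    refine ⟨b * r, mul_ne_zero hb0 hr0, ?_⟩
    have hbK : algebraMap R K b ≠ 0 := by
      rwa [Ne, map_eq_zero_iff _ (IsFractionRing.injective R K)]
    have : (b * r) • ((algebraMap R K a / algebraMap R K b) • y) = a • (r • y) := by
      rw [← algebraMap_smul K (b * r), ← algebraMap_smul K a, ← algebraMap_smul K r, smul_smul,
        smul_smul, map_mul]
      congr 1
      field_simp
    rw [this]
    exact L.smul_mem _ hr

omit [IsDomain R] in
theorem span_eq_top_of_forall (L L' : Submodule R V) (hspan : Submodule.span K (L : Set V) = ⊤)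
    (h : ∀ x ∈ L, ∃ r : R, r ≠ 0 ∧ r • x ∈ L') : Submodule.span K (L' : Set V) = ⊤ := by
  rw [eq_top_iff, ← hspan, Submodule.span_le]
  intro x hx
  obtain ⟨r, hr0, hr⟩ := h x hx
  have hrK : algebraMap R K r ≠ 0 := by
    rwa [Ne, map_eq_zero_iff _ (IsFractionRing.injective R K)]
  have : x = (algebraMap R K r)⁻¹ • (r • x) := by
    rw [← algebraMap_smul K r, smul_smul, inv_mul_cancel₀ hrK, one_smul]
  rw [this]
  exact Submodule.smul_mem _ _ (Submodule.subset_span hr)

end

section
variable {R K V : Type u} [CommRing R] [IsDomain R] [IsNoetherianRing R] [Ring.KrullDimLE 1 R]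
    [Field K] [Algebra R K]
    [IsFractionRing R K] [AddCommGroup V] [Module K V] [Module R V] [IsScalarTower R K V]
    [FiniteDimensional K V]

theorem length_quot_ne_top (L₁ L₂ : Submodule R V) (_hle : L₁ ≤ L₂) (hfg : L₂.FG)
    (hspan : Submodule.span K (L₁ : Set V) = ⊤) :
    Module.length R (L₂ ⧸ Submodule.comap L₂.subtype L₁) ≠ ⊤ := by
  classical
  obtain ⟨S, hS⟩ := hfg
  have hr : ∀ x : V, ∃ r : R, r ≠ 0 ∧ r • x ∈ L₁ := exists_smul_mem L₁ hspan
  choose ρ hρ0 hρ using hr
  let r : R := ∏ x ∈ S, ρ x
  have hr0 : r ≠ 0 := Finset.prod_ne_zero_iff.2 fun x _ => hρ0 x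
  have hrL : ∀ y ∈ L₂, r • y ∈ L₁ := by
    intro y hy
    rw [← hS] at hy
    induction hy using Submodule.span_induction with
    | mem x hx =>
      have : r = (∏ z ∈ S.erase x, ρ z) * ρ x := by
        rw [Finset.prod_erase_mul _ _ hx]
      rw [this, mul_smul]
      exact L₁.smul_mem _ (hρ x)
    | zero => rw [smul_zero]; exact L₁.zero_mem
    | add y z _ _ hy hz => rw [smul_add]; exact L₁.add_mem hy hz
    | smul a y _ hy => rw [smul_comm]; exact L₁.smul_mem _ hy
  let b := Module.finBasis K V
  let f : L₂ →ₗ[R] (Fin (Module.finrank K V) → K) :=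
    (b.equivFun.toLinearMap.restrictScalars R) ∘ₗ L₂.subtype
  have hf : Function.Injective f := by
    intro x y hxy
    apply Subtype.ext
    exact b.equivFun.injective hxy
  have h1 := length_quot_ne_top_of_injective (K := K) hr0 _ f hf
  have hle' : xs r L₂ ≤ Submodule.comap L₂.subtype L₁ := by
    intro y hy
    obtain ⟨y', rfl⟩ := mem_xs.1 hy
    exact hrL y'.1 y'.2
  refine ne_top_of_le_ne_top h1 ?_
  exact Module.length_le_of_surjective (Submodule.mapQ _ _ LinearMap.id hle')
    (by
      intro q
      obtain ⟨y, rfl⟩ := Submodule.mkQ_surjective _ q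
      exact ⟨Submodule.Quotient.mk y, rfl⟩)

omit [IsNoetherianRing R] [Ring.KrullDimLE 1 R] in
theorem not_length_self_ne_top (hdim : ringKrullDim R = 1) : ¬ Module.length R R ≠ ⊤ := by
  intro h
  rw [Module.length_ne_top_iff, ← isArtinianRing_iff_isFiniteLength] at h
  have hf : IsField R := IsArtinianRing.isField_of_isDomain R
  have := ringKrullDim_eq_zero_of_isField hf
  rw [hdim] at this
  exact one_ne_zero this

theorem exists_smul_mem_of_length (hdim : ringKrullDim R = 1) (L₁ L₂ : Submodule R V)
    (hlen : Module.length R (L₂ ⧸ Submodule.comap L₂.subtype L₁) ≠ ⊤) (x : V) (hx : x ∈ L₂) :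
    ∃ r : R, r ≠ 0 ∧ r • x ∈ L₁ := by
  by_contra hcon
  push Not at hcon
  apply not_length_self_ne_top hdim
  let g : R →ₗ[R] (L₂ ⧸ Submodule.comap L₂.subtype L₁) :=
    LinearMap.toSpanSingleton R _ (Submodule.Quotient.mk ⟨x, hx⟩)
  have hg : Function.Injective g := by
    rw [injective_iff_map_eq_zero]
    intro r hr
    by_contra hr0
    apply hcon r hr0
    simp only [g, LinearMap.toSpanSingleton_apply] at hr
    rw [← Submodule.Quotient.mk_smul, Submodule.Quotient.mk_eq_zero] at hr
    exact hr
  exact ne_top_of_le_ne_top hlen (Module.length_le_of_injective g hg)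

end

/-- Let R be a one-dimensional Noetherian local domain with fraction field K and V a finite-dimensional
K-vector space; a lattice is a finitely generated R-submodule of V spanning V over K. (1) For a
lattice M and an R-submodule M' ⊇ M: M' is a lattice iff M'/M has finite length over R iff M' is
finitely generated. (2) For a lattice M and M' ⊆ M: M' is a lattice iff M/M' has finite length. (3)
The intersection of two lattices is a lattice. (The published statement also asserts that the sum M
+ M' of two lattices is a lattice and two identities between lengths of quotients of nested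
lattices; this row states (1), (2) and the intersection half of (3).) -/
theorem result (R K V : Type u) [CommRing R] [IsDomain R]
    [IsNoetherianRing R] [IsLocalRing R] (hdim : ringKrullDim R = 1) [Field K] [Algebra R K]
    [IsFractionRing R K] [AddCommGroup V] [Module K V] [Module R V] [IsScalarTower R K V]
    [FiniteDimensional K V] (M : Submodule R V) [Submodule.IsLattice K M] :
    (∀ M' : Submodule R V, M ≤ M' →
        (Submodule.IsLattice K M' ↔ Module.length R (M' ⧸ Submodule.comap M'.subtype M) ≠ ⊤) ∧
          (Submodule.IsLattice K M' ↔ M'.FG)) ∧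
      (∀ M' : Submodule R V, M' ≤ M →
        (Submodule.IsLattice K M' ↔ Module.length R (M ⧸ Submodule.comap M.subtype M') ≠ ⊤)) ∧
      ∀ M' : Submodule R V, Submodule.IsLattice K M' → Submodule.IsLattice K (M ⊓ M') := by
  have hK1 : Ring.KrullDimLE 1 R := Ring.krullDimLE_iff.2 (by rw [hdim]; rfl)
  have hMfg : M.FG := Submodule.IsLattice.fg
  have hMspan : Submodule.span K (M : Set V) = ⊤ := Submodule.IsLattice.span_eq_top
  have hfgiff : ∀ M' : Submodule R V, M ≤ M' → (Submodule.IsLattice K M' ↔ M'.FG) := by
    intro M' hle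
    exact ⟨fun h => h.fg, fun h => Submodule.IsLattice.of_le_of_isLattice_of_fg K hle h⟩
  refine ⟨fun M' hle => ⟨?_, hfgiff M' hle⟩, fun M' hle => ?_, fun M' hM' => ?_⟩
  · constructor
    · intro h
      exact length_quot_ne_top M M' hle h.fg hMspan
    · intro h
      rw [hfgiff M' hle]
      have hfin : IsFiniteLength R (M' ⧸ Submodule.comap M'.subtype M) :=
        Module.length_ne_top_iff.1 h
      have hnoeth : IsNoetherian R (M' ⧸ Submodule.comap M'.subtype M) :=
        (isFiniteLength_iff_isNoetherian_isArtinian.1 hfin).1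
      have h1 : (Submodule.map (Submodule.comap M'.subtype M).mkQ (⊤ : Submodule R M')).FG :=
        IsNoetherian.noetherian _
      have h2 : ((⊤ : Submodule R M') ⊓ LinearMap.ker (Submodule.comap M'.subtype M).mkQ).FG := by
        rw [Submodule.ker_mkQ, top_inf_eq]
        have : Submodule.comap M'.subtype M = Submodule.map (Submodule.inclusion hle) ⊤ := by
          ext y
          simp only [Submodule.mem_comap, Submodule.subtype_apply, Submodule.map_top,
            LinearMap.mem_range]
          constructor
          · intro hy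
            exact ⟨⟨y.1, hy⟩, Subtype.ext rfl⟩
          · rintro ⟨z, rfl⟩
            exact z.2
        rw [this]
        exact Submodule.FG.map _ ((Submodule.fg_top M).2 hMfg)
      have h3 := Submodule.fg_of_fg_map_of_fg_inf_ker _ h1 h2
      exact (Submodule.fg_top M').1 h3
  · constructor
    · intro h
      exact length_quot_ne_top M' M hle hMfg h.span_eq_top
    · intro h
      refine ⟨?_, ?_⟩
      · have : IsNoetherian R M := isNoetherian_of_fg_of_noetherian M hMfg
        have hN : IsNoetherian R M' := isNoetherian_of_le hle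
        exact (Submodule.fg_top M').1 (IsNoetherian.noetherian _)
      · exact span_eq_top_of_forall M M' hMspan
          (fun x hx => exists_smul_mem_of_length hdim M' M h x hx)
  · refine ⟨?_, ?_⟩
    · have : IsNoetherian R M := isNoetherian_of_fg_of_noetherian M hMfg
      have hN : IsNoetherian R (M ⊓ M' : Submodule R V) := isNoetherian_of_le inf_le_left
      exact (Submodule.fg_top _).1 (IsNoetherian.noetherian _)
    · refine span_eq_top_of_forall M (M ⊓ M') hMspan (fun x hx => ?_)
      obtain ⟨r, hr0, hr⟩ := exists_smul_mem M' hM'.span_eq_top x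
      exact ⟨r, hr0, M.smul_mem _ hx, hr⟩

end Groth.Agent.S9164
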