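import Groth.Statements.S9165
import Groth.Agent.Lib.Helper73.CMFib.PiDecomp

set_option autoImplicit false
universe u
open CAlg

namespace Groth.Agent.S9165

/-- A flat, finitely presented ring map R → S whose fibre rings κ(p) ⊗ S are Cohen–Macaulay decomposes S
as a finite product of R-algebras S_d (d = 0, …, N), each again flat, finitely presented with
Cohen–Macaulay fibres, and with every irreducible component of every fibre of S_d of dimension d. -/
theorem result (R S : Type u) [CommRing R]
    [CommRing S] [Algebra R S] [Module.Flat R S] [Algebra.FinitePresentation R S]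
    (hCM : ∀ p : PrimeSpectrum R, LocCoh.IsCohenMacaulayRing (p.asIdeal.Fiber S)) :
    ∃ (N : ℕ) (T : Fin (N + 1) → Type u) (_ : ∀ d, CommRing (T d)) (_ : ∀ d, Algebra R (T d)),
      Nonempty (S ≃ₐ[R] ((d : Fin (N + 1)) → T d)) ∧
        ∀ d : Fin (N + 1), Module.Flat R (T d) ∧ Algebra.FinitePresentation R (T d) ∧
          (∀ p : PrimeSpectrum R, LocCoh.IsCohenMacaulayRing (p.asIdeal.Fiber (T d))) ∧
          ∀ (p : PrimeSpectrum R), ∀ P ∈ minimalPrimes (p.asIdeal.Fiber (T d)),
            ringKrullDim (p.asIdeal.Fiber (T d) ⧸ P) = ((d : ℕ) : WithBot ℕ∞) := by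
  open Groth.Agent.Lib.Helper73 in
  classical
  haveI : Algebra.FiniteType R S := inferInstance
  obtain ⟨N, hN⟩ := exists_bound_fibreDimAt R S
  -- the clopen pieces and their idempotents
  have hclopen := isClopen_fibreDimAt_eq R S hCM
  have hex : ∀ n : ℕ, ∃ e : S, IsIdempotentElem e ∧
      {q : PrimeSpectrum S | FlatMor.fibreDimAt (specAlg R S) q = ((n : ℕ) : WithBot ℕ∞)} =
        PrimeSpectrum.basicOpen e := fun n => PrimeSpectrum.isClopen_iff.mp (hclopen n)
  choose e he heq using hex
  have hmem : ∀ (n : ℕ) (q : PrimeSpectrum S), e n ∉ q.asIdeal ↔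
      FlatMor.fibreDimAt (specAlg R S) q = ((n : ℕ) : WithBot ℕ∞) := by
    intro n q
    have : q ∈ {q : PrimeSpectrum S |
        FlatMor.fibreDimAt (specAlg R S) q = ((n : ℕ) : WithBot ℕ∞)} ↔
        q ∈ (PrimeSpectrum.basicOpen (e n) : Set (PrimeSpectrum S)) := by rw [heq n]
    exact this.symm
  -- complete orthogonal idempotents
  have hortho : ∀ i j : Fin (N + 1), i ≠ j → e i * e j = 0 := by
    intro i j hij
    have hidem : IsIdempotentElem (e i * e j) := (he i).mul (he j)
    have hnil : IsNilpotent (e i * e j) := by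
      rw [← PrimeSpectrum.basicOpen_eq_bot_iff]
      ext q
      simp only [PrimeSpectrum.basicOpen_mul, TopologicalSpace.Opens.coe_inf, Set.mem_inter_iff,
        TopologicalSpace.Opens.coe_bot, Set.mem_empty_iff_false, iff_false, not_and]
      intro h1 h2
      have h1' := (hmem i q).mp h1
      have h2' := (hmem j q).mp h2
      rw [h1'] at h2'
      have : (i : ℕ) = j := by exact_mod_cast h2'
      exact hij (Fin.ext this)
    obtain ⟨k, hk⟩ := hnil
    rcases k with _ | k
    · rw [pow_zero] at hk
      rw [← mul_one (e i * e j), hk, mul_zero]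
    · rw [hidem.pow_succ_eq] at hk
      exact hk
  have hprod : ∏ i : Fin (N + 1), (1 - e i) = 0 := by
    have hidem : IsIdempotentElem (∏ i : Fin (N + 1), (1 - e i)) := by
      unfold IsIdempotentElem
      rw [← Finset.prod_mul_distrib]
      exact Finset.prod_congr rfl fun i _ => (he i).one_sub.eq
    have hnil : IsNilpotent (∏ i : Fin (N + 1), (1 - e i)) := by
      rw [nilpotent_iff_mem_prime]
      intro q hq
      obtain ⟨n, hn⟩ := exists_nat_fibreDimAt (specAlg R S) (⟨q, hq⟩ : PrimeSpectrum S)
      have hnN : n ≤ N := by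
        have := hN ⟨q, hq⟩
        rw [hn] at this
        exact_mod_cast this
      have h1 : e n ∉ q := (hmem n ⟨q, hq⟩).mpr hn
      have h2 : (1 - e n) ∈ q := by
        have : e n * (1 - e n) ∈ q := by
          rw [mul_sub, mul_one, (he n).eq, sub_self]
          exact zero_mem _
        exact (hq.mem_or_mem this).resolve_left h1
      have h3 : (1 - e ((⟨n, by omega⟩ : Fin (N + 1)) : ℕ)) ∈ q := h2
      exact Ideal.prod_mem (s := Finset.univ) (f := fun i : Fin (N + 1) => 1 - e i) q (i := ⟨n, by omega⟩) (Finset.mem_univ _) h3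
    obtain ⟨k, hk⟩ := hnil
    rcases k with _ | k
    · rw [pow_zero] at hk
      rw [← mul_one (∏ i : Fin (N + 1), (1 - e i)), hk, mul_zero]
    · rw [hidem.pow_succ_eq] at hk
      exact hk
  have hcoi : CompleteOrthogonalIdempotents (fun i : Fin (N + 1) => e i) :=
    CompleteOrthogonalIdempotents.of_prod_one_sub ⟨fun i => he i, fun i j hij => hortho i j hij⟩
      hprod
  refine ⟨N, fun d => S ⧸ Ideal.span {1 - e d}, fun d => inferInstance, fun d => inferInstance,
    ⟨{ __ := AlgHom.pi fun i : Fin (N + 1) => Ideal.Quotient.mkₐ R (Ideal.span {1 - e i})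
       __ := Equiv.ofBijective _ hcoi.bijective_pi }⟩, ?_⟩
  intro d
  haveI hloc : IsLocalization.Away (e d) (S ⧸ Ideal.span {1 - e (d : ℕ)}) :=
    IsLocalization.Away.quotient_of_isIdempotentElem (he d)
  refine ⟨?_, ?_, ?_, ?_⟩
  · haveI : Module.Flat S (S ⧸ Ideal.span {1 - e (d : ℕ)}) :=
      IsLocalization.flat _ (Submonoid.powers (e d))
    exact Module.Flat.trans R S _
  · haveI : Algebra.FinitePresentation S (S ⧸ Ideal.span {1 - e (d : ℕ)}) :=
      IsLocalization.Away.finitePresentation (e d)
    exact Algebra.FinitePresentation.trans R S _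
  · exact isCohenMacaulayRing_fiber_quot_idem R S (e d) (he d) hCM
  · intro p P hP
    exact ringKrullDim_fiber_quot_idem_quot_minimalPrime R S (e d) (he d) d
      (fun q hq => (hmem d q).mp hq) p P hP

end Groth.Agent.S9165
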