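import Groth.Statements.S9166
import Mathlib
import Groth.Agent.Lib.Helper67.FlatDepth11

set_option autoImplicit false
universe u
open CAlg

namespace Groth.Agent.S9166

theorem ker_fg (R S S' : Type u) [CommRing R] [CommRing S]
    [CommRing S'] [Algebra R S] [Algebra R S'] [Algebra.FiniteType R S] [Algebra.FinitePresentation R S']
    (f : S →ₐ[R] S') (hf : Function.Surjective f) : (RingHom.ker f.toRingHom).FG := by
  obtain ⟨n, π, hπ⟩ := Algebra.FiniteType.iff_quotient_mvPolynomial''.mp
    (inferInstance : Algebra.FiniteType R S)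
  have h1 : (RingHom.ker (f.comp π).toRingHom).FG :=
    Algebra.FinitePresentation.ker_fG_of_surjective (f.comp π) (hf.comp hπ)
  have h2 : RingHom.ker f.toRingHom = (RingHom.ker (f.comp π).toRingHom).map π.toRingHom := by
    have : RingHom.ker (f.comp π).toRingHom = (RingHom.ker f.toRingHom).comap π.toRingHom := by
      rw [RingHom.comap_ker]; rfl
    rw [this]
    exact (Ideal.map_comap_of_surjective π.toRingHom hπ _).symm
  rw [h2]
  exact Ideal.FG.map h1 _

/-- Key step: the kernel dies in the localization at `q`. -/
theorem map_ker_eq_bot (R S S' : Type u) [CommRing R] [CommRing S]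
    [CommRing S'] [Algebra R S] [Algebra R S'] [Algebra.FiniteType R S] [Algebra.FinitePresentation R S']
    (I : Ideal R) (f : S →ₐ[R] S') (hf : Function.Surjective f) (q : Ideal S) [q.IsPrime]
    (hq : I.map (algebraMap R S) ≤ q)
    (hker : ∀ j : S, f j = 0 →
      algebraMap S (Localization.AtPrime q) j ∈ I.map (algebraMap R (Localization.AtPrime q)))
    (hflat : letI : Module S S' := f.toRingHom.toModule
      Module.Flat R (LocalizedModule q.primeCompl S')) :
    (RingHom.ker f.toRingHom).map (algebraMap S (Localization.AtPrime q)) = ⊥ := by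
  classical
  letI : Module S S' := f.toRingHom.toModule
  haveI hST : IsScalarTower R S S' := ⟨fun r s x => by
    show f (r • s) * x = r • (f s * x)
    rw [map_smul, smul_mul_assoc]⟩
  set Sq := Localization.AtPrime q with hSq
  let fl : S →ₗ[S] S' :=
    { toFun := f, map_add' := map_add f,
      map_smul' := fun a b => by show f (a * b) = f a * f b; exact map_mul f a b }
  let φ : Sq →ₗ[Sq] LocalizedModule q.primeCompl S' := LocalizedModule.map q.primeCompl fl
  let φR : Sq →ₗ[R] LocalizedModule q.primeCompl S' := φ.restrictScalars R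
  have hφsurj : Function.Surjective φR := by
    intro y
    induction y using LocalizedModule.induction_on with
    | h m s =>
      obtain ⟨a, rfl⟩ := hf m
      exact ⟨LocalizedModule.mk a s, by
        show LocalizedModule.map q.primeCompl fl (LocalizedModule.mk a s) = _
        rw [LocalizedModule.map_mk]; rfl⟩
  set K := RingHom.ker f.toRingHom with hK
  set P' : Ideal Sq := K.map (algebraMap S Sq) with hP'
  have hKfg : K.FG := ker_fg R S S' f hf
  have hP'fg : P'.FG := Ideal.FG.map hKfg _
  have halg : ∀ j : S, algebraMap S Sq j = LocalizedModule.mk j 1 := by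
    intro j
    rw [← Localization.mk_one_eq_algebraMap]; rfl
  -- `P' ≤ ker φ`
  have h1 : ∀ z, z ∈ P' → φR z = 0 := by
    intro z hz
    have : P' ≤ LinearMap.ker φ := by
      rw [hP', Ideal.map_le_iff_le_comap]
      intro j hj
      rw [Ideal.mem_comap, LinearMap.mem_ker, halg]
      show LocalizedModule.map q.primeCompl fl (LocalizedModule.mk j 1) = _
      rw [LocalizedModule.map_mk]
      have : fl j = 0 := hj
      rw [this, LocalizedModule.zero_mk]
    exact this hz
  -- `ker φ ≤ P'`
  have h2 : ∀ z, φR z = 0 → z ∈ P' := by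
    intro z hz
    induction z using LocalizedModule.induction_on with
    | h a s =>
      have hz' : LocalizedModule.mk (fl a) s = 0 := by
        have : LocalizedModule.map q.primeCompl fl (LocalizedModule.mk a s) = 0 := hz
        rwa [LocalizedModule.map_mk] at this
      rw [← LocalizedModule.zero_mk s, LocalizedModule.mk_eq] at hz'
      obtain ⟨t, ht⟩ := hz'
      have hmem : ((t * s : q.primeCompl) : S) * a ∈ K := by
        rw [hK, RingHom.mem_ker]
        have : (t * s : q.primeCompl) • fl a = 0 := by
          rw [mul_smul, ht, smul_zero, smul_zero]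
        show f (((t * s : q.primeCompl) : S) * a) = 0
        rw [map_mul]
        exact this
      have : (LocalizedModule.mk a s : Sq) = IsLocalization.mk' Sq a s := by
        rw [← Localization.mk_eq_mk']; rfl
      rw [this, hP', IsLocalization.mk'_mem_map_algebraMap_iff q.primeCompl]
      exact ⟨_, (t * s).2, hmem⟩
  -- flatness of the quotient
  let e : (Sq ⧸ LinearMap.ker φR) ≃ₗ[R] LocalizedModule q.primeCompl S' :=
    φR.quotKerEquivOfSurjective hφsurj
  haveI : Module.Flat R (Sq ⧸ LinearMap.ker φR) := Module.Flat.of_linearEquiv e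
  -- P' ≤ I Sq
  have h3 : P' ≤ I.map (algebraMap R Sq) := by
    rw [hP', Ideal.map_le_iff_le_comap]
    intro j hj
    exact hker j hj
  -- image of I lands in the maximal ideal
  have h4 : ∀ r ∈ I, algebraMap R Sq r ∈ IsLocalRing.maximalIdeal Sq := by
    intro r hr
    rw [IsScalarTower.algebraMap_apply R S Sq]
    have : algebraMap R S r ∈ q := hq (Ideal.mem_map_of_mem _ hr)
    exact (IsLocalization.AtPrime.to_map_mem_maximal_iff Sq q _).mpr this
  -- Nakayama
  apply Submodule.eq_bot_of_le_smul_of_le_jacobson_bot (IsLocalRing.maximalIdeal Sq) P' hP'fg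
  · intro z hz
    have hz1 : z ∈ LinearMap.ker φR := h1 z hz
    have hz2 : z ∈ I • (⊤ : Submodule R Sq) := by
      rw [Ideal.smul_top_eq_map]
      exact h3 hz
    have hz3 := Groth.Agent.Lib.Helper67.mem_smul_of_mem_smul_top_of_flat_quotient
      (LinearMap.ker φR) I hz1 hz2
    refine Submodule.smul_induction_on hz3 ?_ ?_
    · intro r hr p hp
      have : r • p = algebraMap R Sq r • p := by rw [algebraMap_smul]
      rw [this]
      exact Submodule.smul_mem_smul (h4 r hr) (h2 p hp)
    · intro x y hx hy
      exact add_mem hx hy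
  · rw [IsLocalRing.jacobson_eq_maximalIdeal ⊥ bot_ne_top]

/-- Let I be an ideal of a ring R, S → S' a surjective homomorphism of R-algebras with S of finite type
and S' of finite presentation over R, and q a prime of S containing IS. Assume S'_q is flat over R
and that S_q/IS_q → S'_q/IS'_q is an isomorphism, which for a surjection says: every element of the
kernel of S → S' maps into I·S_q. Then for some g ∉ q the localized map S_g → S'_g is bijective. -/
theorem result (R S S' : Type u) [CommRing R] [CommRing S]
    [CommRing S'] [Algebra R S] [Algebra R S'] [Algebra.FiniteType R S] [Algebra.FinitePresentation R S']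
    (I : Ideal R) (f : S →ₐ[R] S') (hf : Function.Surjective f) (q : Ideal S) [q.IsPrime]
    (hq : I.map (algebraMap R S) ≤ q)
    (hker : ∀ j : S, f j = 0 →
      algebraMap S (Localization.AtPrime q) j ∈ I.map (algebraMap R (Localization.AtPrime q)))
    (hflat : letI : Module S S' := f.toRingHom.toModule
      Module.Flat R (LocalizedModule q.primeCompl S')) :
    ∃ g : S, g ∉ q ∧ Function.Bijective (Localization.awayMap f.toRingHom g) := by
  classical
  have hbot := map_ker_eq_bot R S S' I f hf q hq hker hflat
  have hKfg := ker_fg R S S' f hf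
  obtain ⟨T, hT⟩ := hKfg
  have hkill : ∀ k : S, k ∈ RingHom.ker f.toRingHom → ∃ t : q.primeCompl, (t : S) * k = 0 := by
    intro k hk
    have : algebraMap S (Localization.AtPrime q) k = 0 := by
      have : algebraMap S (Localization.AtPrime q) k ∈
          (RingHom.ker f.toRingHom).map (algebraMap S (Localization.AtPrime q)) :=
        Ideal.mem_map_of_mem _ hk
      rw [hbot] at this
      exact this
    exact (IsLocalization.map_eq_zero_iff q.primeCompl _ k).mp this
  choose t ht using hkill
  let g : q.primeCompl := ∏ k ∈ T.attach, t k.1 (by rw [← hT]; exact Ideal.subset_span k.2)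
  have hg : ∀ j : S, j ∈ RingHom.ker f.toRingHom → (g : S) * j = 0 := by
    intro j hj
    rw [← hT] at hj
    refine Submodule.span_induction ?_ ?_ ?_ ?_ hj
    · intro k hk
      have hk' : k ∈ RingHom.ker f.toRingHom := by rw [← hT]; exact Ideal.subset_span hk
      have hdvd : t k hk' ∣ g :=
        Finset.dvd_prod_of_mem (fun k : {x // x ∈ T} =>
          t k.1 (by rw [← hT]; exact Ideal.subset_span k.2)) (Finset.mem_attach T ⟨k, hk⟩)
      obtain ⟨c, hc⟩ := hdvd
      rw [hc, Submonoid.coe_mul, mul_comm (t k hk' : S), mul_assoc, ht k hk', mul_zero]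
    · rw [mul_zero]
    · intro x y _ _ hx hy
      rw [mul_add, hx, hy, add_zero]
    · intro a x _ hx
      rw [smul_eq_mul, mul_left_comm, hx, mul_zero]
  refine ⟨g, g.2, ?_, ?_⟩
  · rw [injective_iff_map_eq_zero]
    intro x hx
    obtain ⟨a, s, rfl⟩ := IsLocalization.exists_mk'_eq (Submonoid.powers (g : S)) x
    rw [Localization.awayMap, IsLocalization.Away.map, IsLocalization.map_mk',
      IsLocalization.mk'_eq_zero_iff] at hx
    obtain ⟨⟨m, k, hk⟩, hm⟩ := hx
    rw [IsLocalization.mk'_eq_zero_iff]
    have h1 : (g : S) ^ k * a ∈ RingHom.ker f.toRingHom := by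
      rw [RingHom.mem_ker, map_mul, map_pow]
      rw [← hm]
      show f.toRingHom (g : S) ^ k * f.toRingHom a = m * f.toRingHom a
      rw [← hk]
    refine ⟨⟨(g : S) ^ (k + 1), k + 1, rfl⟩, ?_⟩
    show (g : S) ^ (k + 1) * a = 0
    rw [pow_succ', mul_assoc]
    exact hg _ h1
  · intro y
    obtain ⟨b, s, rfl⟩ := IsLocalization.exists_mk'_eq (Submonoid.powers (f.toRingHom (g : S))) y
    obtain ⟨a, rfl⟩ := hf b
    obtain ⟨s, n, hn⟩ := s
    refine ⟨IsLocalization.mk' _ a (⟨(g : S) ^ n, n, rfl⟩ : Submonoid.powers (g : S)), ?_⟩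
    rw [Localization.awayMap, IsLocalization.Away.map, IsLocalization.map_mk']
    congr 1
    apply Subtype.ext
    show f.toRingHom ((g : S) ^ n) = s
    rw [map_pow, ← hn]

end Groth.Agent.S9166
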