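import Groth.Statements.S9167
import Groth.Agent.S9157
import Mathlib

set_option autoImplicit false
universe u
open CAlg

namespace Groth.Agent.S9167

section

theorem exists_fp_lift {R : Type u} [CommRing R] (I : Ideal R) (N : Type u) [AddCommGroup N]
    [Module (R ⧸ I) N] [Module.FinitePresentation (R ⧸ I) N] :
    ∃ (M : Type u) (_ : AddCommGroup M) (_ : Module R M), Module.FinitePresentation R M ∧
      Nonempty ((M ⧸ (I • ⊤ : Submodule R M)) ≃ₗ[R ⧸ I] N) := by
  classical
  obtain ⟨n, K, e, hK⟩ := Module.FinitePresentation.exists_fin (R ⧸ I) N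
  obtain ⟨k, w, hw⟩ := Submodule.fg_iff_exists_fin_generating_family.mp hK
  choose u hu using fun j i => Ideal.Quotient.mk_surjective (w j i)
  let π : (Fin n → R) →ₗ[R] (Fin n → R ⧸ I) :=
    (Ideal.Quotient.mkₐ R I).toLinearMap.compLeft (Fin n)
  have hπ : ∀ v i, π v i = Ideal.Quotient.mk I (v i) := fun v i => rfl
  have hπu : ∀ j, π (u j) = w j := fun j => funext fun i => by rw [hπ, hu]
  let U : Submodule R (Fin n → R) := Submodule.span R (Set.range u)
  let ψ0 : (Fin n → R) →ₗ[R] ((Fin n → R ⧸ I) ⧸ K) := (K.mkQ.restrictScalars R) ∘ₗ π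
  have hψ0 : ∀ v, ψ0 v = K.mkQ (π v) := fun v => rfl
  have hU : U ≤ LinearMap.ker ψ0 := by
    rw [Submodule.span_le]
    rintro _ ⟨j, rfl⟩
    rw [SetLike.mem_coe, LinearMap.mem_ker, hψ0, hπu, Submodule.mkQ_apply,
      Submodule.Quotient.mk_eq_zero, ← hw]
    exact Submodule.subset_span ⟨j, rfl⟩
  let ψ : ((Fin n → R) ⧸ U) →ₗ[R] ((Fin n → R ⧸ I) ⧸ K) := U.liftQ ψ0 hU
  have hψ : ∀ v, ψ (U.mkQ v) = K.mkQ (π v) := fun v => rfl
  have hπsurj : Function.Surjective π := by
    intro v
    choose v' hv' using fun i => Ideal.Quotient.mk_surjective (v i)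
    exact ⟨v', funext fun i => by rw [hπ, hv']⟩
  have hψsurj : Function.Surjective ψ := by
    intro z
    obtain ⟨v, rfl⟩ := K.mkQ_surjective z
    obtain ⟨v', rfl⟩ := hπsurj v
    exact ⟨U.mkQ v', hψ v'⟩
  have hker : LinearMap.ker ψ = (I • ⊤ : Submodule R ((Fin n → R) ⧸ U)) := by
    apply le_antisymm
    · intro m hm
      obtain ⟨v, rfl⟩ := U.mkQ_surjective m
      rw [LinearMap.mem_ker, hψ, Submodule.mkQ_apply, Submodule.Quotient.mk_eq_zero, ← hw,
        Submodule.mem_span_range_iff_exists_fun] at hm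
      obtain ⟨c, hc⟩ := hm
      choose d hd using fun j => Ideal.Quotient.mk_surjective (c j)
      have hπ0 : π (v - ∑ j, d j • u j) = 0 := by
        rw [map_sub, map_sum, ← hc, sub_eq_zero]
        refine Finset.sum_congr rfl fun j _ => ?_
        rw [map_smul, hπu, ← hd j, ← Ideal.Quotient.algebraMap_eq, algebraMap_smul]
      have hv' : ∀ i, (v - ∑ j, d j • u j) i ∈ I := by
        intro i
        rw [← Ideal.Quotient.eq_zero_iff_mem, ← hπ, hπ0]
        rfl
      have hvU : U.mkQ v = U.mkQ (v - ∑ j, d j • u j) := by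
        have h0 : U.mkQ (∑ j, d j • u j) = 0 := by
          rw [Submodule.mkQ_apply, Submodule.Quotient.mk_eq_zero]
          exact Submodule.sum_mem _ fun j _ =>
            Submodule.smul_mem _ _ (Submodule.subset_span ⟨j, rfl⟩)
        rw [map_sub, h0, sub_zero]
      rw [hvU]
      have hdecomp : (v - ∑ j, d j • u j) =
          ∑ i, (v - ∑ j, d j • u j) i • (Pi.single i 1 : Fin n → R) := by
        funext i
        simp [Finset.sum_apply, Pi.single_apply]
      rw [hdecomp, map_sum]
      refine Submodule.sum_mem _ fun i _ => ?_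
      rw [map_smul]
      exact Submodule.smul_mem_smul (hv' i) Submodule.mem_top
    · rw [Submodule.smul_le]
      intro r hr m _
      rw [LinearMap.mem_ker, map_smul]
      rw [← algebraMap_smul (R ⧸ I) r (ψ m)]
      have : algebraMap R (R ⧸ I) r = 0 := Ideal.Quotient.eq_zero_iff_mem.mpr hr
      rw [this, zero_smul]
  have hfp : Module.FinitePresentation R ((Fin n → R) ⧸ U) :=
    Module.finitePresentation_of_surjective U.mkQ U.mkQ_surjective
      (by rw [Submodule.ker_mkQ]; exact Submodule.fg_span (Set.finite_range u))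
  refine ⟨(Fin n → R) ⧸ U, inferInstance, inferInstance, hfp, ⟨?_⟩⟩
  let e3 : (((Fin n → R) ⧸ U) ⧸ (I • ⊤ : Submodule R ((Fin n → R) ⧸ U))) ≃ₗ[R]
      ((Fin n → R ⧸ I) ⧸ K) :=
    (Submodule.quotEquivOfEq _ _ hker.symm).trans (LinearMap.quotKerEquivOfSurjective ψ hψsurj)
  exact (e3.extendScalarsOfSurjective Ideal.Quotient.mk_surjective).trans e.symm

end

/-- With R' = S⁻¹(R/I), every finitely presented R'-module is of the form S⁻¹(M/IM) for some finitely
presented R-module M. -/
theorem result (R : Type u) [CommRing R] (I : Ideal R)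
    (S : Submonoid R) (M' : Type u) [AddCommGroup M']
    [Module (Localization (S.map (Ideal.Quotient.mk I))) M']
    [Module.FinitePresentation (Localization (S.map (Ideal.Quotient.mk I))) M'] :
    ∃ (M : Type u) (_ : AddCommGroup M) (_ : Module R M), Module.FinitePresentation R M ∧
      Nonempty (LocalizedModule (S.map (Ideal.Quotient.mk I)) (M ⧸ (I • ⊤ : Submodule R M))
        ≃ₗ[Localization (S.map (Ideal.Quotient.mk I))] M') := by
  classical
  let _ : Module (R ⧸ I) M' :=
    Module.compHom M' (algebraMap (R ⧸ I) (Localization (S.map (Ideal.Quotient.mk I))))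
  have : IsScalarTower (R ⧸ I) (Localization (S.map (Ideal.Quotient.mk I))) M' :=
    IsScalarTower.of_algebraMap_smul (fun _ _ => rfl)
  have : IsLocalizedModule (S.map (Ideal.Quotient.mk I)) (LinearMap.id : M' →ₗ[R ⧸ I] M') :=
    isLocalizedModule_id (S.map (Ideal.Quotient.mk I)) M'
      (Localization (S.map (Ideal.Quotient.mk I)))
  let e1 : LocalizedModule (S.map (Ideal.Quotient.mk I)) M'
      ≃ₗ[Localization (S.map (Ideal.Quotient.mk I))] M' :=
    (IsLocalizedModule.iso (S.map (Ideal.Quotient.mk I))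
      (LinearMap.id : M' →ₗ[R ⧸ I] M')).extendScalarsOfIsLocalization
        (S.map (Ideal.Quotient.mk I)) (Localization (S.map (Ideal.Quotient.mk I)))
  have : Module.FinitePresentation (Localization (S.map (Ideal.Quotient.mk I)))
      (LocalizedModule (S.map (Ideal.Quotient.mk I)) M') :=
    Module.FinitePresentation.of_equiv e1.symm
  obtain ⟨N', _, _, φ, hN', hφ⟩ :=
    Groth.Agent.S9157.result (R ⧸ I) (S.map (Ideal.Quotient.mk I)) M'
  obtain ⟨M, _, _, hM, ⟨e3⟩⟩ := exists_fp_lift I N'
  refine ⟨M, inferInstance, inferInstance, hM, ⟨?_⟩⟩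
  let e2 : LocalizedModule (S.map (Ideal.Quotient.mk I)) N'
      ≃ₗ[Localization (S.map (Ideal.Quotient.mk I))]
      LocalizedModule (S.map (Ideal.Quotient.mk I)) M' := LinearEquiv.ofBijective _ hφ
  let e4 : LocalizedModule (S.map (Ideal.Quotient.mk I)) (M ⧸ (I • ⊤ : Submodule R M))
      ≃ₗ[Localization (S.map (Ideal.Quotient.mk I))]
      LocalizedModule (S.map (Ideal.Quotient.mk I)) N' :=
    LinearEquiv.ofBijective (LocalizedModule.map (S.map (Ideal.Quotient.mk I)) e3.toLinearMap)
      ⟨LocalizedModule.map_injective _ _ e3.injective,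
        LocalizedModule.map_surjective _ _ e3.surjective⟩
  exact e4.trans (e2.trans e1)

end Groth.Agent.S9167
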