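import Groth.Statements.S9168
import Mathlib

set_option autoImplicit false
universe u
open CAlg

namespace Groth.Agent.S9168

section

def locSub {R : Type*} [CommRing R] (T : Subring R) : Subring R where
  carrier := {x | ∃ a ∈ T, ∃ s ∈ T, IsUnit s ∧ x * s = a}
  mul_mem' := by
    rintro x y ⟨a, ha, s, hs, hsu, hx⟩ ⟨b, hb, t, ht, htu, hy⟩
    exact ⟨a * b, T.mul_mem ha hb, s * t, T.mul_mem hs ht, hsu.mul htu, by
      rw [← hx, ← hy]; ring⟩
  one_mem' := ⟨1, T.one_mem, 1, T.one_mem, isUnit_one, by simp⟩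
  add_mem' := by
    rintro x y ⟨a, ha, s, hs, hsu, hx⟩ ⟨b, hb, t, ht, htu, hy⟩
    exact ⟨a * t + b * s, T.add_mem (T.mul_mem ha ht) (T.mul_mem hb hs), s * t,
      T.mul_mem hs ht, hsu.mul htu, by rw [← hx, ← hy]; ring⟩
  zero_mem' := ⟨0, T.zero_mem, 1, T.one_mem, isUnit_one, by simp⟩
  neg_mem' := by
    rintro x ⟨a, ha, s, hs, hsu, hx⟩
    exact ⟨-a, T.neg_mem ha, s, hs, hsu, by rw [← hx]; ring⟩

theorem le_locSub {R : Type*} [CommRing R] (T : Subring R) : T ≤ locSub T :=
  fun x hx => ⟨x, hx, 1, T.one_mem, isUnit_one, by simp⟩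

theorem isUnit_locSub {R : Type*} [CommRing R] (T : Subring R) (x : locSub T)
    (hx : IsUnit (x : R)) : IsUnit x := by
  obtain ⟨a, ha, s, hs, hsu, hxs⟩ := x.2
  have hau : IsUnit a := hxs ▸ hx.mul hsu
  obtain ⟨u, hu⟩ := hau
  have hy : s * ↑u⁻¹ ∈ locSub T :=
    ⟨s, hs, a, ha, ⟨u, hu⟩, by rw [← hu, mul_assoc, Units.inv_mul, mul_one]⟩
  refine IsUnit.of_mul_eq_one ⟨s * ↑u⁻¹, hy⟩ ?_
  apply Subtype.ext
  change (x : R) * (s * ↑u⁻¹) = 1
  rw [← mul_assoc, hxs, ← hu, Units.mul_inv]

theorem isLocalHom_locSub {R : Type*} [CommRing R] (T : Subring R) :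
    IsLocalHom (locSub T).subtype :=
  ⟨fun x hx => isUnit_locSub T x hx⟩

theorem essFT_locSub {A R : Type*} [CommRing A] [CommRing R] (T : Subring R)
    [Algebra A (locSub T)] (σ : Finset (locSub T))
    (hT : ∀ z (hz : z ∈ T),
      (⟨z, le_locSub T hz⟩ : locSub T) ∈ Algebra.adjoin A (σ : Set (locSub T))) :
    Algebra.EssFiniteType A (locSub T) := by
  rw [Algebra.essFiniteType_iff]
  refine ⟨σ, fun x => ?_⟩
  obtain ⟨a, ha, s, hs, hsu, hxs⟩ := x.2
  refine ⟨⟨s, le_locSub T hs⟩, hT s hs, isUnit_locSub T _ hsu, ?_⟩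
  have : x * ⟨s, le_locSub T hs⟩ = ⟨a, le_locSub T ha⟩ := Subtype.ext hxs
  rw [this]
  exact hT a ha

end

/-- For a local homomorphism of local rings R → S and finite subsets E ⊆ R, F ⊆ S there are local
subrings R₀ ⊆ R and S₀ ⊆ S containing E and F, with R → S mapping R₀ into S₀, such that the
inclusions and the induced map R₀ → S₀ are local homomorphisms, R₀ is essentially of finite type
over ℤ and S₀ is essentially of finite type over R₀. (So R → S is the directed colimit of such R₀ →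
S₀.) -/
theorem result (R S : Type u) [CommRing R] [CommRing S] [IsLocalRing R]
    [IsLocalRing S] [Algebra R S] [IsLocalHom (algebraMap R S)] (E : Finset R) (F : Finset S) :
    ∃ (R₀ : Subring R) (S₀ : Subring S) (h : ∀ x ∈ R₀, algebraMap R S x ∈ S₀),
      (E : Set R) ⊆ R₀ ∧ (F : Set S) ⊆ S₀ ∧ ∃ (_ : IsLocalRing R₀) (_ : IsLocalRing S₀),
        IsLocalHom R₀.subtype ∧ IsLocalHom S₀.subtype ∧
          IsLocalHom ((algebraMap R S).restrict R₀ S₀ h) ∧
          (algebraMap ℤ R₀).EssFiniteType ∧ ((algebraMap R S).restrict R₀ S₀ h).EssFiniteType := by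
  classical
  let TR : Subring R := Subring.closure (E : Set R)
  let R₀ : Subring R := locSub TR
  let TS : Subring S := Subring.closure ((algebraMap R S) '' (R₀ : Set R) ∪ (F : Set S))
  let S₀ : Subring S := locSub TS
  have h : ∀ x ∈ R₀, algebraMap R S x ∈ S₀ := fun x hx =>
    le_locSub _ (Subring.subset_closure (Or.inl ⟨x, hx, rfl⟩))
  have hE : (E : Set R) ⊆ R₀ := fun x hx => le_locSub _ (Subring.subset_closure hx)
  have hF : (F : Set S) ⊆ S₀ := fun x hx => le_locSub _ (Subring.subset_closure (Or.inr hx))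
  have hl1 : IsLocalHom R₀.subtype := isLocalHom_locSub TR
  have hl2 : IsLocalHom S₀.subtype := isLocalHom_locSub TS
  have hR₀ : IsLocalRing R₀ := RingHom.domain_isLocalRing R₀.subtype
  have hS₀ : IsLocalRing S₀ := RingHom.domain_isLocalRing S₀.subtype
  refine ⟨R₀, S₀, h, hE, hF, hR₀, hS₀, hl1, hl2, ?_, ?_, ?_⟩
  · refine ⟨fun x hx => ?_⟩
    have h1 : IsUnit (algebraMap R S (x : R)) := hx.map S₀.subtype
    have h2 : IsUnit (x : R) := isUnit_of_map_unit (algebraMap R S) _ h1
    exact isUnit_locSub TR x h2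
  · rw [RingHom.essFiniteType_algebraMap]
    let σ : Finset R₀ := E.subtype (fun x => x ∈ R₀)
    refine essFT_locSub TR σ ?_
    intro z hz
    induction hz using Subring.closure_induction with
    | mem x hx =>
      apply Algebra.subset_adjoin
      simpa [σ] using hx
    | zero => exact Subalgebra.zero_mem _
    | one => exact Subalgebra.one_mem _
    | add x y _ _ hx hy => exact Subalgebra.add_mem _ hx hy
    | neg x _ hx => exact Subalgebra.neg_mem _ hx
    | mul x y _ _ hx hy => exact Subalgebra.mul_mem _ hx hy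
  · let g : R₀ →+* S₀ := (algebraMap R S).restrict R₀ S₀ h
    change g.EssFiniteType
    let _ : Algebra R₀ S₀ := g.toAlgebra
    change Algebra.EssFiniteType R₀ S₀
    let σ : Finset S₀ := F.subtype (fun x => x ∈ S₀)
    refine essFT_locSub TS σ ?_
    intro z hz
    induction hz using Subring.closure_induction with
    | mem x hx =>
      rcases hx with ⟨r, hr, rfl⟩ | hx
      · have : (⟨algebraMap R S r, le_locSub TS (Subring.subset_closure (Or.inl ⟨r, hr, rfl⟩))⟩ : S₀) =
            algebraMap R₀ S₀ ⟨r, hr⟩ := rfl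
        rw [this]
        exact Subalgebra.algebraMap_mem _ _
      · apply Algebra.subset_adjoin
        simpa [σ] using hx
    | zero => exact Subalgebra.zero_mem _
    | one => exact Subalgebra.one_mem _
    | add x y _ _ hx hy => exact Subalgebra.add_mem _ hx hy
    | neg x _ hx => exact Subalgebra.neg_mem _ hx
    | mul x y _ _ hx hy => exact Subalgebra.mul_mem _ hx hy

end Groth.Agent.S9168
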