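import Groth.Statements.S9170
import Groth.Agent.Lib.Helper94.SyntF
import Groth.Agent.Lib.Helper94.SyntG

set_option autoImplicit false
universe u
open Synt

namespace Groth.Agent.S9170


/-- For a relative global complete intersection S = R[x_1, …, x_n]/(f_1, …, f_c) over a ring R and a
prime q' of the polynomial ring containing the ideal (f_1, …, f_c): (1) f_1, …, f_c is a regular
sequence in the localization R[x]_{q'} (a local ring); (2) every quotient R[x]_{q'}/(f_1, …, f_i) is
flat over R; (3) the conormal module (f)/(f)² is free over S with basis the classes of the f_i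
(stated as: these classes are linearly independent over S and span). -/
theorem result (R : Type u) [CommRing R] (n c : ℕ)
    (F : Fin c → MvPolynomial (Fin n) R) (h : Synt.IsRelGCI R n c F)
    (q' : Ideal (MvPolynomial (Fin n) R)) [q'.IsPrime] (hq' : Ideal.span (Set.range F) ≤ q') :
    RingTheory.Sequence.IsRegular (Localization.AtPrime q')
        ((List.ofFn F).map (algebraMap (MvPolynomial (Fin n) R) (Localization.AtPrime q'))) ∧
      (∀ i ≤ c, Module.Flat R (Localization.AtPrime q' ⧸ Ideal.ofList
        (((List.ofFn F).take i).map (algebraMap (MvPolynomial (Fin n) R) (Localization.AtPrime q'))))) ∧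
      LinearIndependent (Synt.RelGCIRing R n c F)
        (fun i : Fin c => (Ideal.span (Set.range F)).toCotangent ⟨F i, Ideal.subset_span (Set.mem_range_self i)⟩) ∧
      Submodule.span (Synt.RelGCIRing R n c F) (Set.range
        (fun i : Fin c => (Ideal.span (Set.range F)).toCotangent ⟨F i, Ideal.subset_span (Set.mem_range_self i)⟩)) = ⊤ := by
  obtain ⟨-, hT⟩ := Groth.Agent.Lib.Helper94.SyntF.transRegAt_of_isRelGCI R n c F h q' hq'
  refine ⟨⟨hT.1, ?_⟩, fun i hi => hT.2 i (by rw [List.length_ofFn]; exact hi), ?_, ?_⟩
  · rw [smul_eq_mul, Ideal.mul_top]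
    intro htop
    have hle : Ideal.ofList ((List.ofFn F).map
        (algebraMap (MvPolynomial (Fin n) R) (Localization.AtPrime q'))) ≤
        IsLocalRing.maximalIdeal (Localization.AtPrime q') := by
      rw [← Ideal.map_ofList, Groth.Agent.Lib.Helper94.CIField.ofList_ofFn,
        ← Localization.AtPrime.map_eq_maximalIdeal]
      exact Ideal.map_mono hq'
    exact (IsLocalRing.maximalIdeal.isMaximal _).ne_top (top_le_iff.mp (htop ▸ hle))
  · apply Groth.Agent.Lib.Helper94.SyntG.linearIndependent_toCotangent
    intro m hm hIm
    exact (Groth.Agent.Lib.Helper94.SyntF.transRegAt_of_isRelGCI R n c F h m hIm).2.1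
  · exact Groth.Agent.Lib.Helper94.SyntG.span_toCotangent F


end Groth.Agent.S9170
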