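import Groth.Statements.S9171
import Groth.Agent.Lib.Helper94.CILoc

set_option autoImplicit false
universe u
open Synt

namespace Groth.Agent.S9171


/-- Let S = k[x_1, …, x_n]/I over a field k, q a prime of S, q' the corresponding prime of the
polynomial ring and c the integer with c + ht(q) = ht(q'). Equivalent: (1) S_g is a global complete
intersection over k for some g ∉ q; (2) the extension of I to the local ring k[x]_{q'} is generated
by c elements; (5) that extension is generated by a regular sequence. Stated as (1) ↔ (2) and (1) ↔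
(5). -/
theorem result (k : Type u) [Field k] (n : ℕ)
    (I : Ideal (MvPolynomial (Fin n) k)) (q : Ideal (MvPolynomial (Fin n) k ⧸ I)) [q.IsPrime] (c : ℕ)
    (hc : (c : ℕ∞) + q.height = (q.comap (Ideal.Quotient.mk I)).height) :
    ((∃ g : MvPolynomial (Fin n) k ⧸ I, g ∉ q ∧ Synt.IsGlobalCI k (Localization.Away g)) ↔
        ∃ s : Finset (Localization.AtPrime (q.comap (Ideal.Quotient.mk I))), s.card = c ∧
          Ideal.span (s : Set _) =
            I.map (algebraMap _ (Localization.AtPrime (q.comap (Ideal.Quotient.mk I))))) ∧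
      ((∃ g : MvPolynomial (Fin n) k ⧸ I, g ∉ q ∧ Synt.IsGlobalCI k (Localization.Away g)) ↔
        ∃ rs : List (Localization.AtPrime (q.comap (Ideal.Quotient.mk I))),
          RingTheory.Sequence.IsRegular (Localization.AtPrime (q.comap (Ideal.Quotient.mk I))) rs ∧
          Ideal.ofList rs =
            I.map (algebraMap _ (Localization.AtPrime (q.comap (Ideal.Quotient.mk I))))) := by
  open Groth.Agent.Lib.Helper94.CILoc in
  have hφ : Function.Surjective (Ideal.Quotient.mkₐ k I) := Ideal.Quotient.mkₐ_surjective k I
  have hker : RingHom.ker (Ideal.Quotient.mkₐ k I).toRingHom = I := Ideal.mk_ker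
  have h1 := isRegularIdeal_iff_exists_finset (Ideal.Quotient.mkₐ k I) hφ q c hc
  rw [hker] at h1
  have h2 : (∃ g : MvPolynomial (Fin n) k ⧸ I, g ∉ q ∧ Synt.IsGlobalCI k (Localization.Away g)) ↔
      CInt.IsRegularIdeal (I.map
        (algebraMap _ (Localization.AtPrime (q.comap (Ideal.Quotient.mk I))))) := by
    constructor
    · rintro ⟨g, hg, hGCI⟩
      have := isRegularIdeal_of_isGlobalCI_away (Ideal.Quotient.mkₐ k I) hφ q g hg hGCI
      rw [hker] at this
      exact this
    · intro h
      obtain ⟨s, hs, hspan⟩ := h1.mp h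
      exact exists_isGlobalCI_away (Ideal.Quotient.mkₐ k I) hφ q c hc s hs
        (hspan.trans (by rw [hker]))
  exact ⟨h2.trans h1, h2⟩


end Groth.Agent.S9171
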