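import Groth.Statements.S9174
import Groth.Agent.Lib.Helper73.CMFib.RegLocus

set_option autoImplicit false
universe u
open CAlg

namespace Groth.Agent.S9174

/-- Let R → S be of finite type with every fibre ring κ(p) ⊗ S Cohen–Macaulay and equidimensional of
dimension d, and let f_1, …, f_i ∈ S. The primes q ⊇ (f_1, …, f_i) at which the f_j form a regular
sequence in the fibre local ring S_q/pS_q (p = q ∩ R) form an open subset of V(f_1, …, f_i): there
is an open U of Spec S whose trace on V(f_1, …, f_i) is exactly this set. -/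
theorem result (R S : Type u) [CommRing R] [CommRing S]
    [Algebra R S] [Algebra.FiniteType R S] (d : ℕ)
    (hCM : ∀ p : PrimeSpectrum R, LocCoh.IsCohenMacaulayRing (p.asIdeal.Fiber S))
    (heq : ∀ p : PrimeSpectrum R, ∀ P ∈ minimalPrimes (p.asIdeal.Fiber S),
      ringKrullDim (p.asIdeal.Fiber S ⧸ P) = (d : WithBot ℕ∞))
    (f : List S) :
    ∃ U : Set (PrimeSpectrum S), IsOpen U ∧ ∀ q : PrimeSpectrum S, Ideal.ofList f ≤ q.asIdeal →
      (q ∈ U ↔ RingTheory.Sequence.IsRegular (EGA4.FibLocRing R S q.asIdeal)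
        (f.map (algebraMap S (EGA4.FibLocRing R S q.asIdeal)))) := by
  open Groth.Agent.Lib.Helper73 in
  classical
  have hsurj : Function.Surjective (Ideal.Quotient.mk (Ideal.ofList f)) :=
    Ideal.Quotient.mk_surjective
  have hex : ∀ q : PrimeSpectrum S, Ideal.ofList f ≤ q.asIdeal →
      ∃ q' : PrimeSpectrum (S ⧸ Ideal.ofList f),
        q = PrimeSpectrum.comap (Ideal.Quotient.mk (Ideal.ofList f)) q' := by
    intro q hq
    have : q ∈ Set.range (PrimeSpectrum.comap (Ideal.Quotient.mk (Ideal.ofList f))) := by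
      rw [range_comap_of_surjective _ _ hsurj, Ideal.mk_ker]
      exact hq
    obtain ⟨q', hq'⟩ := this
    exact ⟨q', hq'.symm⟩
  by_cases hlen : f.length ≤ d
  · have hV : IsOpen {q' : PrimeSpectrum (S ⧸ Ideal.ofList f) |
        FlatMor.fibreDimAt (specAlg R (S ⧸ Ideal.ofList f)) q' ≤
          ((d - f.length : ℕ) : WithBot ℕ∞)} :=
      isOpen_fibreDimAt_le (d - f.length) _ _ (specAlg R (S ⧸ Ideal.ofList f))
    have hemb := PrimeSpectrum.isClosedEmbedding_comap_of_surjective (S ⧸ Ideal.ofList f)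
      (Ideal.Quotient.mk (Ideal.ofList f)) hsurj
    refine ⟨(PrimeSpectrum.comap (Ideal.Quotient.mk (Ideal.ofList f)) ''
      {q' : PrimeSpectrum (S ⧸ Ideal.ofList f) |
        FlatMor.fibreDimAt (specAlg R (S ⧸ Ideal.ofList f)) q' ≤
          ((d - f.length : ℕ) : WithBot ℕ∞)}ᶜ)ᶜ, ?_, ?_⟩
    · exact (hemb.isClosedMap _ hV.isClosed_compl).isOpen_compl
    · intro q hq
      obtain ⟨q', hq'⟩ := hex q hq
      rw [isRegular_fibLoc_iff R S d hCM heq f _ rfl q' q hq', hq', Set.mem_compl_iff,
        hemb.injective.mem_set_image, Set.mem_compl_iff, not_not, Set.mem_setOf_eq]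
      obtain ⟨n, hn⟩ := exists_nat_fibreDimAt (specAlg R (S ⧸ Ideal.ofList f)) q'
      rw [hn]
      constructor
      · intro h
        have h' : n ≤ d - f.length := by exact_mod_cast h
        exact_mod_cast (by omega : n + f.length ≤ d)
      · intro h
        have h' : n + f.length ≤ d := by exact_mod_cast h
        exact_mod_cast (by omega : n ≤ d - f.length)
  · refine ⟨∅, isOpen_empty, ?_⟩
    intro q hq
    obtain ⟨q', hq'⟩ := hex q hq
    rw [isRegular_fibLoc_iff R S d hCM heq f _ rfl q' q hq']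
    obtain ⟨n, hn⟩ := exists_nat_fibreDimAt (specAlg R (S ⧸ Ideal.ofList f)) q'
    rw [hn]
    simp only [Set.mem_empty_iff_false, false_iff]
    intro h
    have h' : n + f.length ≤ d := by exact_mod_cast h
    omega

end Groth.Agent.S9174
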