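import Groth.Statements.S9175
import Groth.Agent.Lib.Helper73.DimFormula.QuasiFiniteAlg

set_option autoImplicit false
universe u
open CAlg

namespace Groth.Agent.S9175

/-- Let R → S be of finite type, q a prime of S over p, and Q the prime of the fibre ring κ(p) ⊗ S
pulling back to q. If Spec(κ(p) ⊗ S) has local dimension n at Q (the relative dimension of S over R
at q is n), then some S_g with g ∉ q admits an R-algebra map from the polynomial ring R[t_1, …, t_n]
which is of finite type and quasi-finite. -/
theorem result (R S : Type u) [CommRing R] [CommRing S]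
    [Algebra R S] [Algebra.FiniteType R S] (p : Ideal R) [p.IsPrime] (q : Ideal S) [q.IsPrime] [q.LiesOver p]
    (Q : PrimeSpectrum (p.Fiber S))
    (hQ : Q.asIdeal.comap (Algebra.TensorProduct.includeRight.toRingHom) = q) (n : ℕ)
    (hdim : FlatMor.localDim (PrimeSpectrum (p.Fiber S)) Q = (n : WithBot ℕ∞)) :
    ∃ g : S, g ∉ q ∧ ∃ φ : MvPolynomial (Fin n) R →ₐ[R] Localization.Away g,
      φ.toRingHom.FiniteType ∧ φ.toRingHom.QuasiFinite := by
  open Groth.Agent.Lib.Helper73 AlgebraicGeometry CategoryTheory in
  let P : PrimeSpectrum R := ⟨p, inferInstance⟩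
  have h1 := fibreDimAt_SpecMap_eq_localDim R S P Q
  set x : Spec (CommRingCat.of S) := ((PrimeSpectrum.preimageHomeomorphFiber R S P).symm Q).1
    with hxdef
  have hxq : x.asIdeal = q := hQ
  rw [hdim] at h1
  obtain ⟨π, hπ⟩ := exists_mvPolynomial_quasiFiniteAt n R S x h1.le
  let _ : Algebra (MvPolynomial (Fin n) R) S := π.toRingHom.toAlgebra
  have hst : IsScalarTower R (MvPolynomial (Fin n) R) S :=
    IsScalarTower.of_algebraMap_eq fun r => (π.commutes r).symm
  have hft : Algebra.FiniteType (MvPolynomial (Fin n) R) S :=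
    Algebra.FiniteType.of_restrictScalars_finiteType R _ _
  have hqf : Algebra.QuasiFiniteAt (MvPolynomial (Fin n) R) x.asIdeal :=
    algebra_quasiFiniteAt_of_SpecMap x hπ
  obtain ⟨g, hg, hgqf⟩ := exists_quasiFinite_away_of_quasiFiniteAt
    (R := MvPolynomial (Fin n) R) x.asIdeal
  refine ⟨g, hxq ▸ hg, (IsScalarTower.toAlgHom R S (Localization.Away g)).comp π, ?_, ?_⟩
  · have h2 : ((IsScalarTower.toAlgHom R S (Localization.Away g)).comp π).toRingHom =
        algebraMap (MvPolynomial (Fin n) R) (Localization.Away g) := rfl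
    rw [h2, RingHom.finiteType_algebraMap]
    have h3 : Algebra.FiniteType S (Localization.Away g) :=
      IsLocalization.finiteType_of_monoid_fg (Submonoid.powers g) _
    exact Algebra.FiniteType.trans (S := S) hft h3
  · have h2 : ((IsScalarTower.toAlgHom R S (Localization.Away g)).comp π).toRingHom =
        algebraMap (MvPolynomial (Fin n) R) (Localization.Away g) := rfl
    rw [h2, RingHom.quasiFinite_algebraMap]
    exact hgqf

end Groth.Agent.S9175
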