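import Groth.Statements.S9176
import Mathlib
import Groth.Agent.S0402
import Groth.Agent.S9355
import Groth.Agent.Lib.Helper73.DimFormula.QuasiFiniteAlg

set_option autoImplicit false
universe u
open CAlg

namespace Groth.Agent.S9176

/-- For a ring map R → S of finite presentation and n ≥ 0, the set of primes q of S whose fibre
Spec(κ(p) ⊗ S), p = q ∩ R, has local dimension at most n at the point over q is open and
quasi-compact in Spec S. -/
theorem result (R S : Type u) [CommRing R]
    [CommRing S] [Algebra R S] [Algebra.FinitePresentation R S] (n : ℕ) :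
    IsOpen {q : PrimeSpectrum S | ∀ Q : PrimeSpectrum ((q.asIdeal.under R).Fiber S),
        Q.asIdeal.comap (Algebra.TensorProduct.includeRight.toRingHom) = q.asIdeal →
          FlatMor.localDim (PrimeSpectrum ((q.asIdeal.under R).Fiber S)) Q ≤ (n : WithBot ℕ∞)} ∧
      IsCompact {q : PrimeSpectrum S | ∀ Q : PrimeSpectrum ((q.asIdeal.under R).Fiber S),
        Q.asIdeal.comap (Algebra.TensorProduct.includeRight.toRingHom) = q.asIdeal →
          FlatMor.localDim (PrimeSpectrum ((q.asIdeal.under R).Fiber S)) Q ≤ (n : WithBot ℕ∞)} := by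
  open AlgebraicGeometry CategoryTheory in
  classical
  have hfp : LocallyOfFinitePresentation (Spec.map (CommRingCat.ofHom (algebraMap R S))) := by
    rw [HasRingHomProperty.Spec_iff (P := @LocallyOfFinitePresentation)]
    exact RingHom.finitePresentation_algebraMap.mpr inferInstance
  have hset : {q : PrimeSpectrum S | ∀ Q : PrimeSpectrum ((q.asIdeal.under R).Fiber S),
        Q.asIdeal.comap (Algebra.TensorProduct.includeRight.toRingHom) = q.asIdeal →
          FlatMor.localDim (PrimeSpectrum ((q.asIdeal.under R).Fiber S)) Q ≤ (n : WithBot ℕ∞)} =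
      {q : Spec (CommRingCat.of S) |
        FlatMor.fibreDimAt (Spec.map (CommRingCat.ofHom (algebraMap R S))) q ≤ n} := by
    ext q
    simp only [Set.mem_setOf_eq]
    constructor
    · intro h
      have hq : (⟨q.asIdeal.under R, inferInstance⟩ : PrimeSpectrum R) =
          PrimeSpectrum.comap (algebraMap R S) q := rfl
      have key := Groth.Agent.Lib.Helper73.fibreDimAt_SpecMap_eq_localDim R S
        ⟨q.asIdeal.under R, inferInstance⟩
        (PrimeSpectrum.preimageHomeomorphFiber R S ⟨q.asIdeal.under R, inferInstance⟩ ⟨q, hq.symm⟩)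
      rw [Homeomorph.symm_apply_apply] at key
      have h1 := h (PrimeSpectrum.preimageHomeomorphFiber R S ⟨q.asIdeal.under R, inferInstance⟩
        ⟨q, hq.symm⟩) (by
          have := congrArg (fun z => z.1.asIdeal) ((PrimeSpectrum.preimageHomeomorphFiber R S
            ⟨q.asIdeal.under R, inferInstance⟩).symm_apply_apply ⟨q, hq.symm⟩)
          exact this)
      exact key.le.trans h1
    · intro h Q hQ
      have key := Groth.Agent.Lib.Helper73.fibreDimAt_SpecMap_eq_localDim R S
        ⟨q.asIdeal.under R, inferInstance⟩ Q
      have h2 : ((PrimeSpectrum.preimageHomeomorphFiber R S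
          ⟨q.asIdeal.under R, inferInstance⟩).symm Q).1 = q := PrimeSpectrum.ext hQ
      rw [h2] at key
      exact key.symm.le.trans h
  rw [hset]
  refine ⟨Groth.Agent.S0402.result _ n, ?_⟩
  have := Groth.Agent.S9355.result (Spec.map (CommRingCat.ofHom (algebraMap R S))) n
    isCompact_univ isOpen_univ
  rwa [Set.inter_univ] at this

end Groth.Agent.S9176
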