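import Groth.Statements.S9177
import Mathlib

set_option autoImplicit false
universe u
open CAlg

namespace Groth.Agent.S9177

section
open TensorProduct

variable {ι : Type u} [Preorder ι] [Nonempty ι] [IsDirectedOrder ι] {G : ι → Type u}
  [∀ i, CommRing (G i)]
  {A : Type u} [CommRing A] [∀ i, Algebra A (G i)]
  {R' : Type u} [CommRing R'] [Algebra A R']

structure Sys (fA : ∀ i j, i ≤ j → G i →ₐ[A] G j) (ofA : ∀ i, G i →ₐ[A] R') : Prop where
  P0 : ∀ i x, fA i i le_rfl x = x
  P0' : ∀ i j k (h1 : i ≤ j) (h2 : j ≤ k) x, fA j k h2 (fA i j h1 x) = fA i k (h1.trans h2) x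
  P1 : ∀ i j h x, ofA j (fA i j h x) = ofA i x
  P2 : ∀ z : R', ∃ i x, ofA i x = z
  P3 : ∀ i x, ofA i x = 0 → ∃ j h, fA i j h x = 0

variable {fA : ∀ i j, i ≤ j → G i →ₐ[A] G j} {ofA : ∀ i, G i →ₐ[A] R'}

theorem keyK (h : Sys fA ofA) (C : Type u) [AddCommGroup C] [Module A C] (i : ι)
    (z : G i ⊗[A] C) (hz : (ofA i).toLinearMap.rTensor C z = 0) :
    ∃ j, ∃ hij : i ≤ j, (fA i j hij).toLinearMap.rTensor C z = 0 := by
  classical
  let fL : ∀ i j, i ≤ j → G i →ₗ[A] G j := fun i j h => (fA i j h).toLinearMap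
  have hds : DirectedSystem G (fun i j h => fL i j h) :=
    ⟨fun i x => h.P0 i x, fun k j i h1 h2 x => h.P0' i j k h1 h2 x⟩
  let Θ : Module.DirectLimit G fL →ₗ[A] R' :=
    Module.DirectLimit.lift A ι G fL (fun i => (ofA i).toLinearMap)
      (fun i j hij x => h.P1 i j hij x)
  have Θof : ∀ i x, Θ (Module.DirectLimit.of A ι G fL i x) = ofA i x := fun i x =>
    Module.DirectLimit.lift_of _ _ x
  have Θinj : Function.Injective Θ := by
    rw [injective_iff_map_eq_zero]
    intro x hx
    obtain ⟨i, y, rfl⟩ := Module.DirectLimit.exists_of x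
    rw [Θof] at hx
    obtain ⟨j, hij, hj⟩ := h.P3 i y hx
    rw [← Module.DirectLimit.of_f (hij := hij)]
    have : fL i j hij y = 0 := hj
    rw [this, map_zero]
  have Θsurj : Function.Surjective Θ := by
    intro z
    obtain ⟨i, x, rfl⟩ := h.P2 z
    exact ⟨_, Θof i x⟩
  let Θe : Module.DirectLimit G fL ≃ₗ[A] R' := LinearEquiv.ofBijective Θ ⟨Θinj, Θsurj⟩
  have hcomp : (ofA i).toLinearMap = Θe.toLinearMap ∘ₗ Module.DirectLimit.of A ι G fL i := by
    ext x
    exact (Θof i x).symm
  rw [hcomp, LinearMap.rTensor_comp, LinearMap.comp_apply] at hz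
  have h2 : (Module.DirectLimit.of A ι G fL i).rTensor C z = 0 := by
    have : (LinearEquiv.rTensor C Θe) ((Module.DirectLimit.of A ι G fL i).rTensor C z) = 0 := hz
    simpa using this
  have h3 := TensorProduct.directLimitLeft_rTensor_of fL C z
  rw [h2, map_zero] at h3
  obtain ⟨j, hij, hj⟩ := Module.DirectLimit.of.zero_exact h3.symm
  exact ⟨j, hij, hj⟩

theorem natN {B C : Type u} [CommRing B] [CommRing C] [Algebra A B] [Algebra A C]
    {S T : Type u} [CommRing S] [CommRing T] [Algebra A S] [Algebra A T]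
    (g : S →ₐ[A] T) (u : B →ₐ[A] C) (w : S ⊗[A] B) :
    g.toLinearMap.rTensor C (Algebra.TensorProduct.map (AlgHom.id A S) u w) =
      Algebra.TensorProduct.map (AlgHom.id A T) u (g.toLinearMap.rTensor B w) := by
  induction w using TensorProduct.induction_on with
  | zero => simp
  | tmul a b => simp
  | add x y hx hy => simp only [map_add, hx, hy]

theorem part1 (h : Sys fA ofA) (B C : Type u) [CommRing B] [CommRing C] [Algebra A B]
    [Algebra A C] (hB : Algebra.FiniteType A B) (u u' : B →ₐ[A] C)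
    (heq : Algebra.TensorProduct.map (AlgHom.id A R') u =
      Algebra.TensorProduct.map (AlgHom.id A R') u') :
    ∃ i, Algebra.TensorProduct.map (AlgHom.id A (G i)) u =
      Algebra.TensorProduct.map (AlgHom.id A (G i)) u' := by
  classical
  obtain ⟨s, hs⟩ := hB.out
  obtain ⟨i0⟩ := ‹Nonempty ι›
  have h1 : ∀ b : B, ∃ j, ∃ _ : i0 ≤ j, (1 : G j) ⊗ₜ[A] (u b - u' b) = 0 := by
    intro b
    have hb : (1 : R') ⊗ₜ[A] (u b - u' b) = 0 := by
      have := congrArg (fun φ => φ (1 ⊗ₜ b)) heq
      simp only [Algebra.TensorProduct.map_tmul, AlgHom.coe_id, id] at this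
      rw [TensorProduct.tmul_sub, this, sub_self]
    obtain ⟨j, hij, hj⟩ := keyK h C i0 ((1 : G i0) ⊗ₜ[A] (u b - u' b)) (by
      rw [LinearMap.rTensor_tmul]; simpa using hb)
    refine ⟨j, hij, ?_⟩
    rw [LinearMap.rTensor_tmul] at hj
    simpa using hj
  choose j hj hj0 using h1
  obtain ⟨k, hk⟩ := Finset.exists_le (s.image j)
  have h2 : ∀ b ∈ s, (1 : G k) ⊗ₜ[A] u b = (1 : G k) ⊗ₜ[A] u' b := by
    intro b hb
    have hjk : j b ≤ k := hk _ (Finset.mem_image_of_mem j hb)
    have := congrArg ((fA (j b) k hjk).toLinearMap.rTensor C) (hj0 b)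
    rw [LinearMap.rTensor_tmul, map_zero, TensorProduct.tmul_sub, sub_eq_zero] at this
    simpa using this
  refine ⟨k, ?_⟩
  have h3 : (Algebra.TensorProduct.includeRight : C →ₐ[A] G k ⊗[A] C).comp u =
      (Algebra.TensorProduct.includeRight : C →ₐ[A] G k ⊗[A] C).comp u' := by
    apply AlgHom.ext_of_adjoin_eq_top hs
    intro b hb
    exact h2 b hb
  apply Algebra.TensorProduct.ext'
  intro a b
  rw [Algebra.TensorProduct.map_tmul, Algebra.TensorProduct.map_tmul]
  have h4 : (1 : G k) ⊗ₜ[A] u b = (1 : G k) ⊗ₜ[A] u' b := congrArg (fun φ => φ b) h3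
  calc (AlgHom.id A (G k)) a ⊗ₜ[A] u b = (a ⊗ₜ[A] (1 : C)) * ((1 : G k) ⊗ₜ[A] u b) := by simp
  _ = (a ⊗ₜ[A] (1 : C)) * ((1 : G k) ⊗ₜ[A] u' b) := by rw [h4]
  _ = _ := by simp

theorem liftL (h : Sys fA ofA) (B : Type u) [CommRing B] [Algebra A B] (z : R' ⊗[A] B) :
    ∃ i, ∃ w : G i ⊗[A] B, (ofA i).toLinearMap.rTensor B w = z := by
  induction z using TensorProduct.induction_on with
  | zero =>
    obtain ⟨i0⟩ := ‹Nonempty ι›
    exact ⟨i0, 0, map_zero _⟩
  | tmul r b =>
    obtain ⟨i, x, rfl⟩ := h.P2 r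
    exact ⟨i, x ⊗ₜ b, by simp⟩
  | add z1 z2 h1 h2 =>
    obtain ⟨i1, w1, rfl⟩ := h1
    obtain ⟨i2, w2, rfl⟩ := h2
    obtain ⟨k, h1k, h2k⟩ := exists_ge_ge i1 i2
    have hc : ∀ i (hik : i ≤ k), (ofA k).toLinearMap ∘ₗ (fA i k hik).toLinearMap =
        (ofA i).toLinearMap := by
      intro i hik
      ext x
      exact h.P1 i k hik x
    refine ⟨k, (fA i1 k h1k).toLinearMap.rTensor B w1 + (fA i2 k h2k).toLinearMap.rTensor B w2, ?_⟩
    rw [map_add, ← LinearMap.comp_apply, ← LinearMap.comp_apply, ← LinearMap.rTensor_comp,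
      ← LinearMap.rTensor_comp, hc, hc]

theorem part2 (h : Sys fA ofA) (B C : Type u) [CommRing B] [CommRing C] [Algebra A B]
    [Algebra A C] (hC : Algebra.FiniteType A C) (u : B →ₐ[A] C)
    (hsurj : Function.Surjective (Algebra.TensorProduct.map (AlgHom.id A R') u)) :
    ∃ i, Function.Surjective (Algebra.TensorProduct.map (AlgHom.id A (G i)) u) := by
  classical
  obtain ⟨s, hs⟩ := hC.out
  have h1 : ∀ c : C, ∃ j, ∃ w : G j ⊗[A] B,
      Algebra.TensorProduct.map (AlgHom.id A (G j)) u w = (1 : G j) ⊗ₜ[A] c := by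
    intro c
    obtain ⟨z, hz⟩ := hsurj ((1 : R') ⊗ₜ[A] c)
    obtain ⟨i, w, rfl⟩ := liftL h B z
    rw [← natN] at hz
    have h0 : (ofA i).toLinearMap.rTensor C
        (Algebra.TensorProduct.map (AlgHom.id A (G i)) u w - (1 : G i) ⊗ₜ[A] c) = 0 := by
      rw [map_sub, hz, LinearMap.rTensor_tmul]
      simp
    obtain ⟨j, hij, hj⟩ := keyK h C i _ h0
    refine ⟨j, (fA i j hij).toLinearMap.rTensor B w, ?_⟩
    rw [map_sub, sub_eq_zero, natN, LinearMap.rTensor_tmul] at hj
    simpa using hj
  choose j w hw using h1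
  obtain ⟨k, hk⟩ := Finset.exists_le (s.image j)
  refine ⟨k, ?_⟩
  have h2 : ∀ c ∈ s, (1 : G k) ⊗ₜ[A] c ∈
      (Algebra.TensorProduct.map (AlgHom.id A (G k)) u).range := by
    intro c hc
    have hjk : j c ≤ k := hk _ (Finset.mem_image_of_mem j hc)
    refine ⟨(fA (j c) k hjk).toLinearMap.rTensor B (w c), ?_⟩
    change Algebra.TensorProduct.map (AlgHom.id A (G k)) u _ = _
    rw [← natN, hw, LinearMap.rTensor_tmul]
    simp
  have h3 : ∀ c : C, (1 : G k) ⊗ₜ[A] c ∈
      (Algebra.TensorProduct.map (AlgHom.id A (G k)) u).range := by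
    intro c
    have hle : Algebra.adjoin A (s : Set C) ≤
        ((Algebra.TensorProduct.map (AlgHom.id A (G k)) u).range).comap
          (Algebra.TensorProduct.includeRight : C →ₐ[A] G k ⊗[A] C) :=
      Algebra.adjoin_le (fun c hc => h2 c hc)
    rw [hs] at hle
    exact hle (Algebra.mem_top : c ∈ (⊤ : Subalgebra A C))
  intro z
  change z ∈ (Algebra.TensorProduct.map (AlgHom.id A (G k)) u).range
  induction z using TensorProduct.induction_on with
  | zero => exact Subalgebra.zero_mem _
  | tmul a c =>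
    have : a ⊗ₜ[A] c = (a ⊗ₜ[A] (1 : C)) * ((1 : G k) ⊗ₜ[A] c) := by simp
    rw [this]
    refine Subalgebra.mul_mem _ ⟨a ⊗ₜ[A] (1 : B), by simp⟩ (h3 c)
  | add x y hx hy => exact Subalgebra.add_mem _ hx hy


end

open TensorProduct in

open TensorProduct in
/-- Let R = colim R_i be a directed colimit of A-algebras (compatible transition maps), B and C
A-algebras. (1) If B is of finite type over A, two A-algebra maps B → C whose base changes to R
coincide already have equal base changes to some R_i. (2) If C is of finite type over A and u : B →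
C has surjective base change to R, then its base change to some R_i is surjective. (The A-algebra
structure on R is through any stage R_l; it does not depend on l.) -/
theorem result {ι : Type u} [Preorder ι]
    [Nonempty ι] [IsDirectedOrder ι] (G : ι → Type u) [∀ i, CommRing (G i)]
    (f : ∀ i j, i ≤ j → G i →+* G j) [DirectedSystem G (fun i j h => f i j h)]
    (A : Type u) [CommRing A] [∀ i, Algebra A (G i)]
    (hf : ∀ i j (h : i ≤ j), (f i j h).comp (algebraMap A (G i)) = algebraMap A (G j)) (l : ι)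
    (B C : Type u) [CommRing B] [CommRing C] [Algebra A B] [Algebra A C] :
    letI : Algebra A (Ring.DirectLimit G (fun i j h => f i j h)) :=
      ((Ring.DirectLimit.of G (fun i j h => f i j h) l).comp (algebraMap A (G l))).toAlgebra
    (Algebra.FiniteType A B → ∀ u u' : B →ₐ[A] C,
        Algebra.TensorProduct.map (AlgHom.id A (Ring.DirectLimit G (fun i j h => f i j h))) u =
            Algebra.TensorProduct.map (AlgHom.id A (Ring.DirectLimit G (fun i j h => f i j h))) u' →
          ∃ i : ι, Algebra.TensorProduct.map (AlgHom.id A (G i)) u =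
            Algebra.TensorProduct.map (AlgHom.id A (G i)) u') ∧
      (Algebra.FiniteType A C → ∀ u : B →ₐ[A] C,
        Function.Surjective
            (Algebra.TensorProduct.map (AlgHom.id A (Ring.DirectLimit G (fun i j h => f i j h))) u) →
          ∃ i : ι, Function.Surjective (Algebra.TensorProduct.map (AlgHom.id A (G i)) u)) := by
  let inst : Algebra A (Ring.DirectLimit G (fun i j h => f i j h)) :=
    ((Ring.DirectLimit.of G (fun i j h => f i j h) l).comp (algebraMap A (G l))).toAlgebra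
  have hcomm : ∀ i (a : A), Ring.DirectLimit.of G (fun i j h => f i j h) i (algebraMap A (G i) a) =
      algebraMap A (Ring.DirectLimit G (fun i j h => f i j h)) a := by
    intro i a
    obtain ⟨k, hik, hlk⟩ := exists_ge_ge i l
    have e1 := RingHom.congr_fun (hf i k hik) a
    have e2 := RingHom.congr_fun (hf l k hlk) a
    simp only [RingHom.comp_apply] at e1 e2
    change _ = Ring.DirectLimit.of G (fun i j h => f i j h) l (algebraMap A (G l) a)
    rw [← Ring.DirectLimit.of_f hik, ← Ring.DirectLimit.of_f hlk, e1, e2]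
  let fA : ∀ i j, i ≤ j → G i →ₐ[A] G j := fun i j h =>
    { f i j h with commutes' := fun a => RingHom.congr_fun (hf i j h) a }
  let ofA : ∀ i, G i →ₐ[A] Ring.DirectLimit G (fun i j h => f i j h) := fun i =>
    { Ring.DirectLimit.of G (fun i j h => f i j h) i with commutes' := fun a => hcomm i a }
  have hsys : Sys fA ofA :=
    { P0 := fun i x => DirectedSystem.map_self' (f := fun i j h => f i j h) x
      P0' := fun i j k h1 h2 x => DirectedSystem.map_map' (f := fun i j h => f i j h) h1 h2 x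
      P1 := fun i j h x => Ring.DirectLimit.of_f h x
      P2 := fun z => Ring.DirectLimit.exists_of z
      P3 := fun i x hx => Ring.DirectLimit.of.zero_exact hx }
  exact ⟨fun hB u u' heq => part1 hsys B C hB u u' heq, fun hC u hs => part2 hsys B C hC u hs⟩

end Groth.Agent.S9177
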