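import Groth.Statements.S9178
import Mathlib

set_option autoImplicit false
universe u
open CAlg

namespace Groth.Agent.S9178

section
open TensorProduct

theorem key (A B C : Type u) [CommRing A] [CommRing B]
    [CommRing C] [Algebra A B] [Algebra B C] [Algebra A C] [IsScalarTower A B C]
    (hAC : Function.Surjective (algebraMap A C))
    (h : RingHom.ker (algebraMap A C) ≤ (RingHom.ker (algebraMap B C)).comap (Algebra.ofId A B))
    (b : B) (hb : b ∈ RingHom.ker (algebraMap B C))
    (hz : (1 : C) ⊗ₜ[B] KaehlerDifferential.D A B b = 0) :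
    (RingHom.ker (algebraMap B C)).toCotangent ⟨b, hb⟩ ∈
      LinearMap.range (Ideal.mapCotangent (RingHom.ker (algebraMap A C))
        (RingHom.ker (algebraMap B C)) (Algebra.ofId A B) h) := by
  set I := RingHom.ker (algebraMap A C) with hI
  set J := RingHom.ker (algebraMap B C) with hJ
  set mc := Ideal.mapCotangent I J (Algebra.ofId A B) h with hmc
  have hcompat : ∀ a : A, algebraMap B C (algebraMap A B a) = algebraMap A C a := fun a =>
    (IsScalarTower.algebraMap_apply A B C a).symm
  let K : Submodule B J.Cotangent := Submodule.span B (Set.range mc)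
  have hK : ∀ x ∈ K, x ∈ LinearMap.range mc := by
    intro x hx
    induction hx using Submodule.span_induction with
    | mem x hx => exact hx
    | zero => exact zero_mem _
    | add x y _ _ hx hy => exact add_mem hx hy
    | smul c x _ hx =>
      obtain ⟨y, rfl⟩ := hx
      obtain ⟨a, ha⟩ := hAC (algebraMap B C c)
      have h1 : (c - algebraMap A B a) • mc y = 0 := by
        apply Ideal.Cotangent.smul_eq_zero_of_mem
        rw [hJ, RingHom.mem_ker, map_sub, hcompat, ha, sub_self]
      have h2 : c • mc y = a • mc y := by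
        rw [← algebraMap_smul B a (mc y)]
        rw [sub_smul, sub_eq_zero] at h1
        exact h1
      rw [h2, ← map_smul]
      exact ⟨_, rfl⟩
  let φ : J →ₗ[B] (J.Cotangent ⧸ K) := K.mkQ ∘ₗ J.toCotangent
  have hφI : ∀ (a : A) (ha : a ∈ I) (hj : algebraMap A B a ∈ J), φ ⟨algebraMap A B a, hj⟩ = 0 := by
    intro a ha hj
    change K.mkQ (J.toCotangent ⟨algebraMap A B a, hj⟩) = 0
    rw [Submodule.mkQ_apply, Submodule.Quotient.mk_eq_zero]
    apply Submodule.subset_span
    exact ⟨I.toCotangent ⟨a, ha⟩, rfl⟩
  have hφsq : ∀ (j j' : B) (hj : j ∈ J) (hj' : j' ∈ J) (hjj : j * j' ∈ J), φ ⟨j * j', hjj⟩ = 0 := by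
    intro j j' hj hj' hjj
    change K.mkQ (J.toCotangent ⟨j * j', hjj⟩) = 0
    have : J.toCotangent ⟨j * j', hjj⟩ = 0 := by
      rw [Ideal.toCotangent_eq_zero, pow_two]
      exact Ideal.mul_mem_mul hj hj'
    rw [this, map_zero]
  let σ : B → A := fun b => Function.surjInv hAC (algebraMap B C b)
  have hσ : ∀ b, algebraMap A C (σ b) = algebraMap B C b := fun b =>
    Function.surjInv_eq hAC _
  have memJ : ∀ (b : B) (a : A), algebraMap A C a = algebraMap B C b →
      b - algebraMap A B a ∈ J := by
    intro b a ha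
    rw [hJ, RingHom.mem_ker, map_sub, hcompat, ha, sub_self]
  let δ₀ : B → (J.Cotangent ⧸ K) := fun b => φ ⟨b - algebraMap A B (σ b), memJ b _ (hσ b)⟩
  have hwd : ∀ (b : B) (a : A) (ha : algebraMap A C a = algebraMap B C b),
      δ₀ b = φ ⟨b - algebraMap A B a, memJ b a ha⟩ := by
    intro b a ha
    have haI : a - σ b ∈ I := by
      rw [hI, RingHom.mem_ker, map_sub, ha, hσ, sub_self]
    have hj : algebraMap A B (a - σ b) ∈ J := h haI
    have := hφI (a - σ b) haI hj
    have e : (⟨b - algebraMap A B (σ b), memJ b _ (hσ b)⟩ : J) =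
        ⟨b - algebraMap A B a, memJ b a ha⟩ + ⟨algebraMap A B (a - σ b), hj⟩ := by
      apply Subtype.ext
      simp only [map_sub, Submodule.coe_add]
      ring
    change φ _ = _
    rw [e, map_add, this, add_zero]
  let Dl : B →ₗ[A] (J.Cotangent ⧸ K) :=
    { toFun := δ₀
      map_add' := fun x y => by
        have hxy : algebraMap A C (σ x + σ y) = algebraMap B C (x + y) := by
          rw [map_add, map_add, hσ, hσ]
        rw [hwd (x + y) (σ x + σ y) hxy]
        change _ = φ _ + φ _
        rw [← map_add]
        congr 1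
        apply Subtype.ext
        simp only [map_add, Submodule.coe_add]
        ring
      map_smul' := fun a x => by
        have hax : algebraMap A C (a * σ x) = algebraMap B C (a • x) := by
          rw [map_mul, hσ, Algebra.smul_def, map_mul, hcompat]
        rw [hwd (a • x) (a * σ x) hax, RingHom.id_apply]
        change _ = a • φ _
        rw [← algebraMap_smul B a (φ _), ← map_smul]
        congr 1
        apply Subtype.ext
        simp only [map_mul, Submodule.coe_smul, smul_eq_mul, Algebra.smul_def]
        ring }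
  have hleib : ∀ x y : B, Dl (x * y) = x • Dl y + y • Dl x := by
    intro x y
    have hxy : algebraMap A C (σ x * σ y) = algebraMap B C (x * y) := by
      rw [map_mul, map_mul, hσ, hσ]
    change δ₀ (x * y) = x • φ _ + y • φ _
    rw [hwd (x * y) (σ x * σ y) hxy, ← map_smul, ← map_smul, ← map_add]
    have hprod : (x - algebraMap A B (σ x)) * (y - algebraMap A B (σ y)) ∈ J :=
      J.mul_mem_left _ (memJ y _ (hσ y))
    have := hφsq _ _ (memJ x _ (hσ x)) (memJ y _ (hσ y)) hprod
    rw [← sub_zero (φ (_ + _)), ← this, ← map_sub]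
    congr 1
    apply Subtype.ext
    simp only [map_mul, Submodule.coe_add, Submodule.coe_sub, Submodule.coe_smul, smul_eq_mul]
    ring
  let Dd : Derivation A B (J.Cotangent ⧸ K) := Derivation.mk' Dl hleib
  let ℓ : Ω[B⁄A] →ₗ[B] (J.Cotangent ⧸ K) := Dd.liftKaehlerDifferential
  have hℓ : ℓ (KaehlerDifferential.D A B b) = φ ⟨b, hb⟩ := by
    change Dd.liftKaehlerDifferential (KaehlerDifferential.D A B b) = _
    rw [Derivation.liftKaehlerDifferential_comp_D]
    change δ₀ b = _
    have hb0 : algebraMap A C 0 = algebraMap B C b := by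
      rw [map_zero]; exact (RingHom.mem_ker.mp hb).symm
    rw [hwd b 0 hb0]
    congr 1
    apply Subtype.ext
    simp
  have hkill : ∀ (j : B), j ∈ J → ∀ n : J.Cotangent ⧸ K, j • n = 0 := by
    intro j hj n
    obtain ⟨x, rfl⟩ := K.mkQ_surjective n
    rw [← map_smul, Ideal.Cotangent.smul_eq_zero_of_mem hj, map_zero]
  let J' : Ideal B := LinearMap.ker (Algebra.linearMap B C)
  have hJ' : ∀ x, x ∈ J' ↔ x ∈ J := by
    intro x
    rw [hJ, RingHom.mem_ker]
    exact LinearMap.mem_ker
  have hsurjBC : Function.Surjective (Algebra.linearMap B C) := by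
    intro c
    obtain ⟨a, rfl⟩ := hAC c
    exact ⟨algebraMap A B a, hcompat a⟩
  let e : (B ⧸ J') ≃ₗ[B] C := LinearMap.quotKerEquivOfSurjective (Algebra.linearMap B C) hsurjBC
  have he1 : e.symm 1 = 1 := by
    rw [LinearEquiv.symm_apply_eq]
    change _ = (Algebra.linearMap B C) 1
    simp
  have hz' : (1 : B ⧸ J') ⊗ₜ[B] KaehlerDifferential.D A B b = 0 := by
    have := congrArg (LinearMap.rTensor (Ω[B⁄A]) e.symm.toLinearMap) hz
    rw [LinearMap.rTensor_tmul, map_zero] at this
    rw [← this]
    congr 1
    exact he1.symm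
  have hmem : KaehlerDifferential.D A B b ∈ J' • (⊤ : Submodule B (Ω[B⁄A])) := by
    rw [← LinearMap.ker_tensorProductMk]
    exact hz'
  have hℓ0 : ∀ ω ∈ J' • (⊤ : Submodule B (Ω[B⁄A])), ℓ ω = 0 := by
    intro ω hω
    induction hω using Submodule.smul_induction_on' with
    | smul r hr n _ =>
      rw [map_smul]
      exact hkill r ((hJ' r).mp hr) _
    | add x _ y _ hx hy => rw [map_add, hx, hy, add_zero]
  have h0 := hℓ0 _ hmem
  rw [hℓ] at h0
  change K.mkQ (J.toCotangent ⟨b, hb⟩) = 0 at h0
  rw [Submodule.mkQ_apply, Submodule.Quotient.mk_eq_zero] at h0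
  exact hK _ h0

end

/-- For ring maps A → B → C with A → C surjective, writing I = ker(A → C) and J = ker(B → C), the
sequence I/I² → J/J² → C ⊗_B Ω_{B/A} → 0 is exact. Stated: the image of I/I² in J/J² is exactly the
kernel of J/J² → C ⊗_B Ω_{B/A} (surjectivity of the latter map is the standard conormal sequence for
the surjection B → C). -/
theorem result (A B C : Type u) [CommRing A] [CommRing B]
    [CommRing C] [Algebra A B] [Algebra B C] [Algebra A C] [IsScalarTower A B C]
    (hAC : Function.Surjective (algebraMap A C))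
    (h : RingHom.ker (algebraMap A C) ≤ (RingHom.ker (algebraMap B C)).comap (Algebra.ofId A B)) :
    Function.Exact
      (Ideal.mapCotangent (RingHom.ker (algebraMap A C)) (RingHom.ker (algebraMap B C)) (Algebra.ofId A B) h)
      (KaehlerDifferential.kerCotangentToTensor A B C) := by
  intro y
  obtain ⟨⟨b, hb⟩, rfl⟩ := Ideal.toCotangent_surjective _ y
  constructor
  · intro hy
    rw [KaehlerDifferential.kerCotangentToTensor_toCotangent] at hy
    exact key A B C hAC h b hb hy
  · rintro ⟨x, hx⟩
    obtain ⟨⟨a, ha⟩, rfl⟩ := Ideal.toCotangent_surjective _ x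
    rw [← hx, Ideal.mapCotangent_toCotangent, KaehlerDifferential.kerCotangentToTensor_toCotangent]
    change (1 : C) ⊗ₜ[B] KaehlerDifferential.D A B (algebraMap A B a) = 0
    rw [Derivation.map_algebraMap, TensorProduct.tmul_zero]

end Groth.Agent.S9178
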