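import Groth.Statements.S9180
import Mathlib
import Groth.Agent.Lib.Helper73.DimFormula.FieldExt
import Groth.Agent.Lib.Helper77.FlatDepth3
import Groth.Agent.Lib.Helper35.TensorPrime

set_option autoImplicit false
universe u
open CAlg

namespace Groth.Agent.S9180

open TensorProduct

set_option linter.style.haveILetI false
set_option linter.unusedSectionVars false

open Groth.Agent.Lib.Helper73 Groth.Agent.Lib.Helper77.FlatDepth

section Setup

variable (k S K : Type u) [Field k] [CommRing S] [Algebra k S] [Field K] [Algebra k K]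

attribute [local instance] Algebra.TensorProduct.rightAlgebra

/-- `S ⊗ K ≃ K ⊗ S` as `K`-algebras (`K` acting on the right factor). -/
noncomputable def commK : (K ⊗[k] S) ≃ₐ[K] (S ⊗[k] K) :=
  AlgEquiv.ofRingEquiv (f := (Algebra.TensorProduct.comm k K S : K ⊗[k] S ≃+* S ⊗[k] K)) (by
    intro c
    simp [Algebra.TensorProduct.algebraMap_apply, Algebra.TensorProduct.right_algebraMap_apply])

instance finiteType_right [Algebra.FiniteType k S] : Algebra.FiniteType K (S ⊗[k] K) :=
  Algebra.FiniteType.equiv inferInstance (commK k S K)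

end Setup


section Aux

variable (k S K : Type u) [Field k] [CommRing S] [Algebra k S] [Field K] [Algebra k K]

attribute [local instance] Algebra.TensorProduct.rightAlgebra

theorem hphi (c : k) : algebraMap S (S ⊗[k] K) (algebraMap k S c) =
    algebraMap K (S ⊗[k] K) (algebraMap k K c) := by
  rw [Algebra.TensorProduct.algebraMap_apply, Algebra.TensorProduct.right_algebraMap_apply,
    Algebra.algebraMap_eq_smul_one (A := K) c]
  rw [TensorProduct.tmul_smul, TensorProduct.smul_tmul', Algebra.smul_def, mul_one]
  rfl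

theorem hgen : Algebra.adjoin K (Set.range (algebraMap S (S ⊗[k] K))) = ⊤ := by
  rw [eq_top_iff]
  intro x _
  induction x using TensorProduct.induction_on with
  | zero => exact Subalgebra.zero_mem _
  | tmul s c =>
    have : s ⊗ₜ[k] c = c • (algebraMap S (S ⊗[k] K) s) := by
      rw [Algebra.smul_def, Algebra.TensorProduct.right_algebraMap_apply,
        Algebra.TensorProduct.algebraMap_apply, Algebra.TensorProduct.tmul_mul_tmul]
      simp
    rw [this]
    exact Subalgebra.smul_mem _ (Algebra.subset_adjoin (Set.mem_range_self s)) c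
  | add x y hx hy => exact Subalgebra.add_mem _ (hx trivial) (hy trivial)

end Aux

open TensorProduct in

open TensorProduct in
/-- Let S be of finite type over a field k, K an extension field of k, S_K = S ⊗_k K, q a prime of S
whose residue field has transcendence degree r over k, and q_K a prime of S_K lying over q whose
residue field has transcendence degree r_K over K. Then the local ring at q_K of the fibre of S →
S_K over q has dimension dim (S_K)_{q_K} − dim S_q = r − r_K (stated additively), and there is a
prime of S_K over q for which this dimension is zero. -/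
theorem result (k S K : Type u) [Field k] [CommRing S] [Algebra k S]
    [Algebra.FiniteType k S] [Field K] [Algebra k K] (q : Ideal S) [q.IsPrime] (r : ℕ)
    (hr : Algebra.trdeg k q.ResidueField = r) (qK : Ideal (S ⊗[k] K)) [qK.IsPrime] [qK.LiesOver q]
    (rK : ℕ)
    (hrK : letI : Algebra K (S ⊗[k] K) := Algebra.TensorProduct.rightAlgebra
      Algebra.trdeg K qK.ResidueField = rK) :
    ringKrullDim (EGA4.FibLocRing S (S ⊗[k] K) qK) + ringKrullDim (Localization.AtPrime q) =
        ringKrullDim (Localization.AtPrime qK) ∧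
      ringKrullDim (EGA4.FibLocRing S (S ⊗[k] K) qK) + (rK : WithBot ℕ∞) = (r : WithBot ℕ∞) ∧
      ∃ (q' : Ideal (S ⊗[k] K)) (_ : q'.IsPrime), q'.LiesOver q ∧
        ringKrullDim (EGA4.FibLocRing S (S ⊗[k] K) q') = 0 := by
  letI algK : Algebra K (S ⊗[k] K) := Algebra.TensorProduct.rightAlgebra
  haveI : Algebra.FiniteType K (S ⊗[k] K) := finiteType_right k S K
  haveI : IsNoetherianRing S := Algebra.FiniteType.isNoetherianRing k S
  haveI : IsNoetherianRing (S ⊗[k] K) := Algebra.FiniteType.isNoetherianRing K _
  have hq : q = qK.comap (algebraMap S (S ⊗[k] K)) := (inferInstance : qK.LiesOver q).over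
  -- the flat dimension formula
  obtain ⟨-, hdim, -⟩ := loc_formulas S (S ⊗[k] K) qK
  have hhtq : ringKrullDim (Localization.AtPrime (qK.comap (algebraMap S (S ⊗[k] K)))) =
      ringKrullDim (Localization.AtPrime q) := by
    rw [IsLocalization.AtPrime.ringKrullDim_eq_height (qK.comap (algebraMap S (S ⊗[k] K))),
      IsLocalization.AtPrime.ringKrullDim_eq_height q]
    congr 2
    exact hq.symm
  have h1 : ringKrullDim (EGA4.FibLocRing S (S ⊗[k] K) qK) + ringKrullDim (Localization.AtPrime q) =
      ringKrullDim (Localization.AtPrime qK) := by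
    rw [hdim, hhtq, add_comm]
  -- natural number values
  have hfin : FiniteRingKrullDim (EGA4.FibLocRing S (S ⊗[k] K) qK) :=
    inferInstanceAs (FiniteRingKrullDim (FibLoc S (S ⊗[k] K) qK))
  obtain ⟨hbot, htop⟩ := finiteRingKrullDim_iff_ne_bot_and_top.mp hfin
  obtain ⟨m, hm⟩ := WithBot.ne_bot_iff_exists.mp hbot
  have hmtop : m ≠ ⊤ := by
    rintro rfl
    exact htop hm.symm
  obtain ⟨n, rfl⟩ := ENat.ne_top_iff_exists.mp hmtop
  obtain ⟨a, ha⟩ := ENat.ne_top_iff_exists.mp (Ideal.height_ne_top (I := q) (Ideal.IsPrime.ne_top inferInstance))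
  obtain ⟨b, hb⟩ := ENat.ne_top_iff_exists.mp (Ideal.height_ne_top (I := qK) (Ideal.IsPrime.ne_top inferInstance))
  -- quotient dimensions from the transcendence degrees
  have hqd : quotDim (⟨q, inferInstance⟩ : PrimeSpectrum S) = r :=
    quotDim_eq_of_ringKrullDim_eq k ⟨q, inferInstance⟩ r
      (ringKrullDim_eq_of_trdeg_eq k q.ResidueField r hr)
  have hqKd : quotDim (⟨qK, inferInstance⟩ : PrimeSpectrum (S ⊗[k] K)) = rK :=
    quotDim_eq_of_ringKrullDim_eq K ⟨qK, inferInstance⟩ rK
      (ringKrullDim_eq_of_trdeg_eq K qK.ResidueField rK hrK)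
  -- invariance of the local dimension under the field extension
  have hflat : Module.Flat S (S ⊗[k] K) := inferInstance
  have hG : GeneralizingMap (PrimeSpectrum.comap (algebraMap S (S ⊗[k] K))) :=
    RingHom.Flat.generalizingMap_comap ((RingHom.flat_algebraMap_iff).mpr hflat)
  have hO : IsOpenMap (PrimeSpectrum.comap (algebraMap S (S ⊗[k] K))) :=
    PrimeSpectrum.isOpenMap_comap_algebraMap_tensorProduct_of_field
  have hld := localDim_primeSpectrum_eq_of_adjoin_eq_top (algebraMap k K)
    (algebraMap S (S ⊗[k] K)) (hphi k S K) (hgen k S K) hG hO ⟨qK, inferInstance⟩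
  have hcomap : PrimeSpectrum.comap (algebraMap S (S ⊗[k] K)) ⟨qK, inferInstance⟩ =
      (⟨q, inferInstance⟩ : PrimeSpectrum S) := PrimeSpectrum.ext hq.symm
  rw [hcomap, localDim_primeSpectrum_eq K, localDim_primeSpectrum_eq k, hqd, hqKd] at hld
  simp only [] at hld
  rw [← ha, ← hb] at hld
  have e1 : b + rK = a + r := by exact_mod_cast hld
  have e2 : n + a = b := by
    have := h1
    rw [IsLocalization.AtPrime.ringKrullDim_eq_height q (Localization.AtPrime q),
      IsLocalization.AtPrime.ringKrullDim_eq_height qK (Localization.AtPrime qK),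
      ← hm, ← ha, ← hb] at this
    exact_mod_cast this
  have e3 : n + rK = r := by omega
  refine ⟨h1, ?_, ?_⟩
  · rw [← hm]
    exact_mod_cast e3
  · -- a prime over `q` minimal over `q (S ⊗ K)`
    haveI : Module.FaithfullyFlat S (S ⊗[k] K) := inferInstance
    obtain ⟨𝔮, h𝔮prime, h𝔮q⟩ := Ideal.exists_isPrime_liesOver_of_faithfullyFlat (B := S ⊗[k] K) q
    have hle : q.map (algebraMap S (S ⊗[k] K)) ≤ 𝔮 := by
      rw [Ideal.map_le_iff_le_comap]
      exact le_of_eq h𝔮q.over
    obtain ⟨q', hq'min, hq'le⟩ := Ideal.exists_minimalPrimes_le hle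
    haveI hq'prime : q'.IsPrime := hq'min.1.1
    have hq'q : q'.comap (algebraMap S (S ⊗[k] K)) = q := by
      apply le_antisymm
      · calc q'.comap (algebraMap S (S ⊗[k] K)) ≤ 𝔮.comap (algebraMap S (S ⊗[k] K)) :=
            Ideal.comap_mono hq'le
          _ = q := h𝔮q.over.symm
      · rw [← Ideal.map_le_iff_le_comap]
        exact hq'min.1.2
    refine ⟨q', hq'prime, ⟨hq'q.symm⟩, ?_⟩
    apply dim_fibLoc_eq_zero_of_minimal S (S ⊗[k] K) q'
    rw [hq'q]
    exact hq'min

end Groth.Agent.S9180
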