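import Groth.Statements.S9181
import Mathlib
import Groth.Agent.Lib.Helper80.RelNNField

set_option autoImplicit false
universe u
open CAlg

namespace Groth.Agent.S9181

open MvPolynomial TensorProduct Groth.Agent.Lib.Helper80

section Aux

variable {R : Type u} [CommRing R]

/-- Clearing denominators of a polynomial over the residue field. -/
lemma exists_smul_eq_map (p : Ideal R) [p.IsPrime] {σ : Type} (h : MvPolynomial σ p.ResidueField) :
    ∃ t : R, t ∉ p ∧ ∃ h0 : MvPolynomial σ R,
      MvPolynomial.map (algebraMap R p.ResidueField) h0 = algebraMap R p.ResidueField t • h := by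
  let e := MvPolynomial.algebraTensorAlgEquiv (σ := σ) R p.ResidueField
  obtain ⟨t, ht, h0, hth⟩ := Ideal.Fiber.exists_smul_eq_one_tmul p (e.symm h)
  refine ⟨t, ht, h0, ?_⟩
  have h1 := congrArg e hth
  rw [MvPolynomial.algebraTensorAlgEquiv_tmul, one_smul] at h1
  rw [← h1, ← algebraMap_smul p.ResidueField t (e.symm h), map_smul, AlgEquiv.apply_symm_apply]

variable (R) in
/-- Projection killing the variables of index `≥ r`. -/
noncomputable def proj (n r : ℕ) : MvPolynomial (Fin n) R →ₐ[R] MvPolynomial (Fin r) R :=
  aeval (fun i : Fin n => if h : (i : ℕ) < r then X ⟨i, h⟩ else 0)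

lemma sub_rename_proj_mem {n r : ℕ} (hrn : r ≤ n) (h : MvPolynomial (Fin n) R) :
    h - rename (Fin.castLE hrn) (proj R n r h) ∈
      Ideal.span (Set.range fun i : {i : Fin n // r ≤ (i : ℕ)} =>
        (X (i : Fin n) : MvPolynomial (Fin n) R)) := by
  induction h using MvPolynomial.induction_on with
  | C a => simp [proj]
  | add p q hp hq =>
    have h1 : p + q - rename (Fin.castLE hrn) (proj R n r (p + q)) =
        (p - rename (Fin.castLE hrn) (proj R n r p)) +
          (q - rename (Fin.castLE hrn) (proj R n r q)) := by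
      rw [map_add, map_add]; ring
    rw [h1]; exact Ideal.add_mem _ hp hq
  | mul_X p i hp =>
    by_cases hi : (i : ℕ) < r
    · have hX : rename (Fin.castLE hrn) (proj R n r (X i)) = X i := by
        simp only [proj, aeval_X, dif_pos hi, rename_X]
        congr 1
      have h1 : p * X i - rename (Fin.castLE hrn) (proj R n r (p * X i)) =
          (p - rename (Fin.castLE hrn) (proj R n r p)) * X i := by
        rw [map_mul, map_mul, hX]; ring
      rw [h1]; exact Ideal.mul_mem_right _ _ hp
    · have hX : proj R n r (X i) = 0 := by simp only [proj, aeval_X, dif_neg hi]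
      have h1 : p * X i - rename (Fin.castLE hrn) (proj R n r (p * X i)) = p * X i := by
        rw [map_mul, hX, mul_zero, map_zero, sub_zero]
      rw [h1]
      exact Ideal.mul_mem_left _ _ (Ideal.subset_span ⟨⟨i, not_lt.mp hi⟩, rfl⟩)

end Aux

/-- Let R → S be of finite type, q a prime of S over p, Q the prime of κ(p) ⊗ S over q, with the fibre
of local dimension n at Q and κ(q) of transcendence degree r over κ(p). Then for some f ∉ p and g ∉
q there is an R-algebra map φ : R_f[x_1, …, x_n] → S_g, of finite type and quasi-finite, such that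
the inverse image of q S_g under φ is the ideal generated by p and the variables x_{r+1}, …, x_n. -/
theorem result (R S : Type u) [CommRing R] [CommRing S]
    [Algebra R S] [Algebra.FiniteType R S] (p : Ideal R) [p.IsPrime] (q : Ideal S) [q.IsPrime] [q.LiesOver p]
    [Algebra (Localization.AtPrime p) (Localization.AtPrime q)]
    [Localization.AtPrime.IsLiesOverAlgebra p q] (Q : PrimeSpectrum (p.Fiber S))
    (hQ : Q.asIdeal.comap (Algebra.TensorProduct.includeRight.toRingHom) = q) (n r : ℕ)
    (hdim : FlatMor.localDim (PrimeSpectrum (p.Fiber S)) Q = (n : WithBot ℕ∞))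
    (hr : Algebra.trdeg p.ResidueField q.ResidueField = r) :
    ∃ (f : R) (g : S), f ∉ p ∧ g ∉ q ∧
      ∃ φ : MvPolynomial (Fin n) (Localization.Away f) →ₐ[R] Localization.Away g,
        φ.toRingHom.FiniteType ∧ φ.toRingHom.QuasiFinite ∧
        (q.map (algebraMap S (Localization.Away g))).comap φ =
          p.map (algebraMap R (MvPolynomial (Fin n) (Localization.Away f))) ⊔
            Ideal.span (Set.range fun i : {i : Fin n // r ≤ (i : ℕ)} =>
              (MvPolynomial.X (i : Fin n) : MvPolynomial (Fin n) (Localization.Away f))) := by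
  classical
  let inc : S →ₐ[R] p.Fiber S := Algebra.TensorProduct.includeRight
  let Λ : p.Fiber S →ₐ[p.ResidueField] q.ResidueField :=
    Algebra.TensorProduct.lift (Algebra.ofId _ _) (IsScalarTower.toAlgHom _ _ _) fun _ _ ↦ .all _ _
  have hΛinc : ∀ x : S, Λ (inc x) = algebraMap S q.ResidueField x := by
    intro x
    simp [Λ, inc]
  have hQ' : ∀ x : S, inc x ∈ Q.asIdeal ↔ x ∈ q := by
    intro x
    rw [← hQ]
    rfl
  -- kernel of Λ
  have hkerI : RingHom.ker Λ.toRingHom = Q.asIdeal := by
    have hprime : (RingHom.ker Λ.toRingHom).IsPrime := RingHom.ker_isPrime _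
    have h1 : (RingHom.ker Λ.toRingHom).comap
        (Algebra.TensorProduct.includeRight : S →ₐ[R] p.Fiber S) = q := by
      ext x
      rw [Ideal.mem_comap, RingHom.mem_ker]
      show Λ (inc x) = 0 ↔ x ∈ q
      rw [hΛinc, Ideal.algebraMap_residueField_eq_zero]
    have h2 := (PrimeSpectrum.primesOverOrderIsoFiber R S p).symm.injective
      (a₁ := ⟨RingHom.ker Λ.toRingHom, hprime⟩) (a₂ := Q) (Subtype.ext (by
        rw [PrimeSpectrum.coe_primesOverOrderIsoFiber_symm_apply,
          PrimeSpectrum.coe_primesOverOrderIsoFiber_symm_apply]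
        exact h1.trans hQ.symm))
    exact congrArg PrimeSpectrum.asIdeal h2
  have hker : ∀ a, Λ a = 0 ↔ a ∈ Q.asIdeal := by
    intro a
    rw [← hkerI]
    rfl
  have hfrac : ∀ x : q.ResidueField, ∃ a b : p.Fiber S, Λ b ≠ 0 ∧ x * Λ b = Λ a := by
    intro x
    obtain ⟨⟨a, ⟨b, hb⟩⟩, hab⟩ := IsLocalization.surj (nonZeroDivisors (S ⧸ q)) x
    obtain ⟨a', rfl⟩ := Ideal.Quotient.mk_surjective a
    obtain ⟨b', rfl⟩ := Ideal.Quotient.mk_surjective b
    refine ⟨inc a', inc b', ?_, ?_⟩
    · rw [hΛinc]
      intro h0
      rw [Ideal.algebraMap_residueField_eq_zero] at h0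
      exact (nonZeroDivisors.ne_zero hb) (Ideal.Quotient.eq_zero_iff_mem.mpr h0)
    · rw [hΛinc, hΛinc]
      exact hab
  have hinc : ∀ a : p.Fiber S, ∃ u : p.ResidueField, u ≠ 0 ∧ ∃ s, u • a = inc s := by
    intro a
    obtain ⟨t, ht, s, hts⟩ := Ideal.Fiber.exists_smul_eq_one_tmul p a
    refine ⟨algebraMap R _ t, ?_, s, ?_⟩
    · rwa [Ne, Ideal.algebraMap_residueField_eq_zero]
    · rw [algebraMap_smul]
      exact hts
  obtain ⟨hrn, hht⟩ := RelNN.height_of_localDim Λ Q hker hfrac n r hdim hr
  obtain ⟨s, g, hgQ, hsQ, hind, hP3, hP4⟩ :=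
    RelNN.fieldLevel Λ Q.asIdeal hker hfrac (inc : S → p.Fiber S) hinc n r hrn hht hr
  have hgq : g ∉ q := fun h => hgQ ((hQ' g).mpr h)
  have hsq : ∀ i : Fin n, r ≤ (i : ℕ) → s i ∈ q := fun i hi => (hQ' _).mp (hsQ i hi)
  let φ0 : MvPolynomial (Fin n) R →ₐ[R] S := aeval s
  have hspan_le : Ideal.span (Set.range fun i : {i : Fin n // r ≤ (i : ℕ)} =>
      (X (i : Fin n) : MvPolynomial (Fin n) R)) ≤ q.comap φ0.toRingHom := by
    rw [Ideal.span_le]
    rintro _ ⟨i, rfl⟩
    show φ0 (X (i : Fin n)) ∈ q
    rw [aeval_X]
    exact hsq i i.2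
  -- the preimage of `q`
  have hP : q.comap φ0.toRingHom = p.map (algebraMap R (MvPolynomial (Fin n) R)) ⊔
      Ideal.span (Set.range fun i : {i : Fin n // r ≤ (i : ℕ)} =>
        (X (i : Fin n) : MvPolynomial (Fin n) R)) := by
    apply le_antisymm
    · intro h hh
      have hd := sub_rename_proj_mem hrn h
      have h3 : φ0 (rename (Fin.castLE hrn) (proj R n r h)) ∈ q := by
        have h3' := Ideal.sub_mem _ hh (hspan_le hd)
        rw [sub_sub_cancel] at h3'
        exact h3'
      have h4 : aeval (fun i : Fin r => Λ (inc (s (Fin.castLE hrn i))))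
          (MvPolynomial.map (algebraMap R p.ResidueField) (proj R n r h)) = 0 := by
        rw [MvPolynomial.aeval_map_algebraMap]
        have h4' : aeval (R := R) (fun i : Fin r => Λ (inc (s (Fin.castLE hrn i)))) (proj R n r h) =
            algebraMap S q.ResidueField (φ0 (rename (Fin.castLE hrn) (proj R n r h))) := by
          simp only [hΛinc]
          show _ = algebraMap S q.ResidueField (aeval s (rename (Fin.castLE hrn) (proj R n r h)))
          rw [aeval_rename, ← aeval_algebraMap_apply]
          rfl
        rw [h4', Ideal.algebraMap_residueField_eq_zero]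
        exact h3
      have h5 : MvPolynomial.map (algebraMap R p.ResidueField) (proj R n r h) = 0 :=
        hind.eq_zero_of_aeval_eq_zero _ h4
      have h6 : proj R n r h ∈ Ideal.map (C : R →+* MvPolynomial (Fin r) R) p := by
        rw [MvPolynomial.mem_map_C_iff]
        intro m
        have h6' := congrArg (coeff m) h5
        rw [coeff_map, coeff_zero] at h6'
        exact Ideal.algebraMap_residueField_eq_zero.mp h6'
      have h7 : rename (Fin.castLE hrn) (proj R n r h) ∈
          p.map (algebraMap R (MvPolynomial (Fin n) R)) := by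
        have h7' := Ideal.mem_map_of_mem
          (rename (Fin.castLE hrn) : MvPolynomial (Fin r) R →ₐ[R] _).toRingHom h6
        rw [Ideal.map_map] at h7'
        have hcomp : ((rename (Fin.castLE hrn) : MvPolynomial (Fin r) R →ₐ[R]
            MvPolynomial (Fin n) R).toRingHom.comp C) = algebraMap R (MvPolynomial (Fin n) R) := by
          refine RingHom.ext fun a => ?_
          simp
        rw [hcomp] at h7'
        exact h7'
      have hsum : h = (h - rename (Fin.castLE hrn) (proj R n r h)) +
          rename (Fin.castLE hrn) (proj R n r h) := by ring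
      rw [hsum]
      exact Ideal.add_mem _ (Ideal.mem_sup_right hd) (Ideal.mem_sup_left h7)
    · apply sup_le
      · rw [Ideal.map_le_iff_le_comap]
        intro a ha
        show φ0 (algebraMap R _ a) ∈ q
        rw [AlgHom.commutes]
        have hpq : p = q.under R := q.over_def p
        rw [hpq] at ha
        exact ha
      · exact hspan_le
  -- quasi-finiteness at `q`
  letI algP : Algebra (MvPolynomial (Fin n) R) S := φ0.toRingHom.toAlgebra
  haveI towP : IsScalarTower R (MvPolynomial (Fin n) R) S :=
    IsScalarTower.of_algebraMap_eq' φ0.comp_algebraMap.symm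
  haveI ftP : Algebra.FiniteType (MvPolynomial (Fin n) R) S :=
    Algebra.FiniteType.of_restrictScalars_finiteType R _ S
  have hqf : Algebra.QuasiFiniteAt (MvPolynomial (Fin n) R) q := by
    let qs : PrimeSpectrum S := ⟨q, inferInstance⟩
    refine Algebra.QuasiFiniteAt.of_isOpen_singleton_fiber qs ?_
    rw [isOpen_induced_iff]
    refine ⟨PrimeSpectrum.basicOpen g, (PrimeSpectrum.basicOpen g).isOpen, ?_⟩
    ext ⟨q', hq'⟩
    simp only [Set.mem_preimage, Set.mem_singleton_iff, Subtype.mk.injEq]
    constructor
    · intro hgq'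
      have hgq'' : g ∉ q'.asIdeal := hgq'
      have hcm : q'.asIdeal.comap φ0.toRingHom = q.comap φ0.toRingHom :=
        congrArg PrimeSpectrum.asIdeal hq'
      have hover : q'.asIdeal.LiesOver p := ⟨by
        have h1 : (q'.asIdeal.comap φ0.toRingHom).comap (algebraMap R (MvPolynomial (Fin n) R)) =
            q'.asIdeal.comap (algebraMap R S) := by
          rw [Ideal.comap_comap]
          exact congrArg (fun ψ => Ideal.comap ψ q'.asIdeal) φ0.comp_algebraMap
        have h2 : (q.comap φ0.toRingHom).comap (algebraMap R (MvPolynomial (Fin n) R)) =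
            q.comap (algebraMap R S) := by
          rw [Ideal.comap_comap]
          exact congrArg (fun ψ => Ideal.comap ψ q) φ0.comp_algebraMap
        show p = q'.asIdeal.comap (algebraMap R S)
        rw [← h1, hcm, h2]
        exact q.over_def p⟩
      let Q'' : PrimeSpectrum (p.Fiber S) :=
        PrimeSpectrum.primesOverOrderIsoFiber R S p ⟨q'.asIdeal, q'.isPrime, hover⟩
      have hQ'' : ∀ x : S, inc x ∈ Q''.asIdeal ↔ x ∈ q'.asIdeal := by
        intro x
        have h1 := (PrimeSpectrum.primesOverOrderIsoFiber R S p).symm_apply_apply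
          ⟨q'.asIdeal, q'.isPrime, hover⟩
        have h2 := congrArg Subtype.val h1
        rw [PrimeSpectrum.coe_primesOverOrderIsoFiber_symm_apply] at h2
        have h3 : x ∈ Q''.asIdeal.comap (Algebra.TensorProduct.includeRight : S →ₐ[R] p.Fiber S) ↔
            x ∈ q'.asIdeal := by rw [h2]
        exact h3
      have hle : Q.asIdeal ≤ Q''.asIdeal := by
        refine hP3 Q''.asIdeal Q''.isPrime (fun i hi => ?_) (fun hc => hgq'' ((hQ'' g).mp hc))
        rw [hQ'']
        have hX : (X i : MvPolynomial (Fin n) R) ∈ q.comap φ0.toRingHom := by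
          show φ0 (X i) ∈ q
          rw [aeval_X]
          exact hsq i hi
        rw [← hcm] at hX
        have hX' : φ0 (X i) ∈ q'.asIdeal := hX
        rwa [aeval_X] at hX'
      have hge : Q''.asIdeal ≤ Q.asIdeal := by
        refine hP4 Q''.asIdeal Q''.isPrime hle (fun h hh => ?_)
        obtain ⟨t, ht, h0, hth⟩ := exists_smul_eq_map p h
        have key : aeval (fun i => inc (s (Fin.castLE hrn i)))
            (MvPolynomial.map (algebraMap R p.ResidueField) h0) =
            inc (φ0 (rename (Fin.castLE hrn) h0)) := by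
          rw [MvPolynomial.aeval_map_algebraMap]
          show _ = inc (aeval s (rename (Fin.castLE hrn) h0))
          rw [aeval_rename, comp_aeval_apply]
          rfl
        have hu : algebraMap R p.ResidueField t ≠ 0 := by
          rwa [Ne, Ideal.algebraMap_residueField_eq_zero]
        have e1 : aeval (fun i => inc (s (Fin.castLE hrn i)))
            (algebraMap R p.ResidueField t • h) =
            algebraMap R p.ResidueField t • aeval (fun i => inc (s (Fin.castLE hrn i))) h :=
          map_smul _ _ _
        have m1 : inc (φ0 (rename (Fin.castLE hrn) h0)) ∈ Q''.asIdeal := by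
          rw [← key, hth, e1]
          exact (RelNN.smul_mem_iff_of_ne_zero Q''.asIdeal hu _).mpr hh
        have m2 : φ0 (rename (Fin.castLE hrn) h0) ∈ q'.asIdeal := (hQ'' _).mp m1
        have m3 : φ0 (rename (Fin.castLE hrn) h0) ∈ q := by
          have m3' : rename (Fin.castLE hrn) h0 ∈ q'.asIdeal.comap φ0.toRingHom := m2
          rw [hcm] at m3'
          exact m3'
        have m4 : inc (φ0 (rename (Fin.castLE hrn) h0)) ∈ Q.asIdeal := (hQ' _).mpr m3
        rw [← key, hth, e1] at m4
        exact (RelNN.smul_mem_iff_of_ne_zero Q.asIdeal hu _).mp m4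
      have hEq : Q''.asIdeal = Q.asIdeal := le_antisymm hge hle
      apply PrimeSpectrum.ext
      ext x
      rw [← hQ'', hEq, hQ']
    · intro h
      rw [h]
      exact hgq
  haveI := hqf
  obtain ⟨S', hS', rr, hrq, Hbij⟩ :=
    Algebra.QuasiFiniteAt.exists_fg_and_exists_notMem_and_awayMap_bijective
      (R := MvPolynomial (Fin n) R) q
  haveI : Module.Finite (MvPolynomial (Fin n) R) S' := ⟨(Submodule.fg_top _).mpr hS'⟩
  haveI : Algebra.QuasiFinite (MvPolynomial (Fin n) R) (Localization.Away rr) := .trans _ S' _
  have hsurj : Function.Surjective (Localization.awayMapₐ S'.val rr) := Hbij.2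
  have hQF : Algebra.QuasiFinite (MvPolynomial (Fin n) R) (Localization.Away (S'.val rr)) :=
    Algebra.QuasiFinite.of_surjective_algHom (R := MvPolynomial (Fin n) R) (S := Localization.Away rr)
      (T := Localization.Away (S'.val rr)) (Localization.awayMapₐ S'.val rr) hsurj
  -- assembling
  let e1 : R ≃ₐ[R] Localization.Away (1 : R) :=
    IsLocalization.atUnits R (Submonoid.powers (1 : R)) (by
      rintro _ ⟨m, rfl⟩
      simp)
  let ε : MvPolynomial (Fin n) (Localization.Away (1 : R)) ≃ₐ[R] MvPolynomial (Fin n) R :=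
    MvPolynomial.mapAlgEquiv (Fin n) e1.symm
  let φ1 : MvPolynomial (Fin n) R →ₐ[R] Localization.Away (S'.val rr) :=
    (IsScalarTower.toAlgHom R S (Localization.Away (S'.val rr))).comp φ0
  have hφ1 : φ1.toRingHom = algebraMap (MvPolynomial (Fin n) R) (Localization.Away (S'.val rr)) := by
    refine RingHom.ext fun x => ?_
    rw [IsScalarTower.algebraMap_apply (MvPolynomial (Fin n) R) S (Localization.Away (S'.val rr))]
    rfl
  have hεX : ∀ i : Fin n, ε (X i) = X i := by
    intro i
    simp [ε, MvPolynomial.mapAlgEquiv_apply]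
  have hεsX : ∀ i : Fin n, ε.symm (X i) = X i := by
    intro i
    rw [AlgEquiv.symm_apply_eq, hεX]
  refine ⟨1, (S'.val rr), fun h => (inferInstance : p.IsPrime).ne_top ((Ideal.eq_top_iff_one p).mpr h),
    hrq, φ1.comp ε.toAlgHom, ?_, ?_, ?_⟩
  · refine RingHom.FiniteType.of_comp_finiteType
      (f := algebraMap R (MvPolynomial (Fin n) (Localization.Away (1 : R)))) ?_
    have hc : (φ1.comp ε.toAlgHom).toRingHom.comp
        (algebraMap R (MvPolynomial (Fin n) (Localization.Away (1 : R)))) =
        algebraMap R (Localization.Away (S'.val rr)) := (φ1.comp ε.toAlgHom).comp_algebraMap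
    rw [hc, RingHom.finiteType_algebraMap]
    exact Algebra.FiniteType.trans (inferInstance : Algebra.FiniteType R S) inferInstance
  · have h1 : φ1.toRingHom.QuasiFinite := by
      rw [hφ1, RingHom.quasiFinite_algebraMap]
      exact hQF
    have h2 : (ε.toAlgHom.toRingHom).QuasiFinite :=
      RingHom.QuasiFinite.of_finite (RingHom.Finite.of_surjective _ ε.surjective)
    exact h1.comp h2
  · ext x
    rw [Ideal.mem_comap]
    have hdisj : Disjoint (Submonoid.powers (S'.val rr) : Set S) (q : Set S) :=
      (Ideal.disjoint_powers_iff_notMem_of_isPrime _).mpr hrq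
    have hcm := IsLocalization.under_map_of_isPrime_disjoint (Submonoid.powers (S'.val rr))
      (Localization.Away (S'.val rr)) (inferInstance : q.IsPrime) hdisj
    have hstep : (φ1.comp ε.toAlgHom) x ∈ q.map (algebraMap S (Localization.Away (S'.val rr))) ↔
        ε x ∈ q.comap φ0.toRingHom := by
      have h1 : (φ1.comp ε.toAlgHom) x = algebraMap S (Localization.Away (S'.val rr)) (φ0 (ε x)) := rfl
      rw [h1]
      constructor
      · intro h
        have h2 : φ0 (ε x) ∈ (q.map (algebraMap S (Localization.Away (S'.val rr)))).under S := h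
        rw [hcm] at h2
        exact h2
      · intro h
        exact Ideal.mem_map_of_mem _ h
    rw [hstep, hP]
    let JR : Ideal (MvPolynomial (Fin n) R) := p.map (algebraMap R (MvPolynomial (Fin n) R)) ⊔
      Ideal.span (Set.range fun i : {i : Fin n // r ≤ (i : ℕ)} =>
        (X (i : Fin n) : MvPolynomial (Fin n) R))
    let JL : Ideal (MvPolynomial (Fin n) (Localization.Away (1 : R))) :=
      p.map (algebraMap R (MvPolynomial (Fin n) (Localization.Away (1 : R)))) ⊔
        Ideal.span (Set.range fun i : {i : Fin n // r ≤ (i : ℕ)} =>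
          (X (i : Fin n) : MvPolynomial (Fin n) (Localization.Away (1 : R))))
    have hle1 : JR ≤ JL.comap ε.symm.toAlgHom.toRingHom := by
      apply sup_le
      · rw [Ideal.map_le_iff_le_comap]
        intro a ha
        rw [Ideal.mem_comap, Ideal.mem_comap]
        have hc : ε.symm.toAlgHom.toRingHom (algebraMap R (MvPolynomial (Fin n) R) a) =
            algebraMap R (MvPolynomial (Fin n) (Localization.Away (1 : R))) a := ε.symm.commutes a
        rw [hc]
        exact Ideal.mem_sup_left (Ideal.mem_map_of_mem _ ha)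
      · rw [Ideal.span_le]
        rintro _ ⟨i, rfl⟩
        have hc : ε.symm.toAlgHom.toRingHom (X (i : Fin n)) = X (i : Fin n) := hεsX i
        show ε.symm.toAlgHom.toRingHom (X (i : Fin n)) ∈ JL
        rw [hc]
        exact Ideal.mem_sup_right (Ideal.subset_span ⟨i, rfl⟩)
    have hle2 : JL ≤ JR.comap ε.toAlgHom.toRingHom := by
      apply sup_le
      · rw [Ideal.map_le_iff_le_comap]
        intro a ha
        rw [Ideal.mem_comap, Ideal.mem_comap]
        have hc : ε.toAlgHom.toRingHom
            (algebraMap R (MvPolynomial (Fin n) (Localization.Away (1 : R))) a) =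
            algebraMap R (MvPolynomial (Fin n) R) a := ε.commutes a
        rw [hc]
        exact Ideal.mem_sup_left (Ideal.mem_map_of_mem _ ha)
      · rw [Ideal.span_le]
        rintro _ ⟨i, rfl⟩
        have hc : ε.toAlgHom.toRingHom (X (i : Fin n)) = X (i : Fin n) := hεX i
        show ε.toAlgHom.toRingHom (X (i : Fin n)) ∈ JR
        rw [hc]
        exact Ideal.mem_sup_right (Ideal.subset_span ⟨i, rfl⟩)
    constructor
    · intro h
      have h3 : ε.symm (ε x) ∈ JL := hle1 h
      rwa [AlgEquiv.symm_apply_apply] at h3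
    · intro h
      exact hle2 h

end Groth.Agent.S9181
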