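import Groth.Statements.S9182
import Mathlib
import Groth.Agent.Lib.Helper65.SchanuelAway
-- import your own Groth.Agent.* helpers here

set_option autoImplicit false
universe u
open CAlg

namespace Groth.Agent.S9182

open TensorProduct MvPolynomial Algebra Groth.Agent.Lib.Helper65.Schanuel

set_option linter.style.haveILetI false


/-- For presentations α : R[x_1, …, x_n] → S and β : R[y_1, …, y_m] → S_g (g ∈ S) with kernels I and J,
the S_g-modules (I/I²)_g ⊕ S_g^m and J/J² ⊕ S_g^n are isomorphic. -/
theorem result (R S : Type u) [CommRing R] [CommRing S] [Algebra R S]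
    (g : S) (n m : ℕ) (α : MvPolynomial (Fin n) R →ₐ[R] S) (hα : Function.Surjective α)
    (β : MvPolynomial (Fin m) R →ₐ[R] Localization.Away g) (hβ : Function.Surjective β) :
    Nonempty ((LocalizedModule (Submonoid.powers g) (Algebra.Extension.ofSurjective α hα).Cotangent ×
        (Fin m → Localization.Away g)) ≃ₗ[Localization.Away g]
      ((Algebra.Extension.ofSurjective β hβ).Cotangent × (Fin n → Localization.Away g))) := by
  obtain ⟨e⟩ := schanuel_away (T := Localization.Away g) g (Generators.ofAlgHom α hα)
    (Generators.ofAlgHom β hβ)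
  let ψ : (Generators.ofAlgHom α hα).toExtension.Cotangent →ₗ[S]
      LocalizedModule (Submonoid.powers g) (Algebra.Extension.ofSurjective α hα).Cotangent :=
    (LocalizedModule.mkLinearMap (Submonoid.powers g)
      (Algebra.Extension.ofSurjective α hα).Cotangent) ∘ₗ
      (ofSurjectiveCotangentEquiv α hα).symm.toLinearMap
  haveI : IsLocalizedModule (Submonoid.powers g) ψ :=
    IsLocalizedModule.of_linearEquiv_right (Submonoid.powers g)
      (LocalizedModule.mkLinearMap (Submonoid.powers g)
        (Algebra.Extension.ofSurjective α hα).Cotangent) (ofSurjectiveCotangentEquiv α hα).symm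
  let e₂ : Localization.Away g ⊗[S] (Generators.ofAlgHom α hα).toExtension.Cotangent ≃ₗ[
      Localization.Away g]
      LocalizedModule (Submonoid.powers g) (Algebra.Extension.ofSurjective α hα).Cotangent :=
    (IsLocalizedModule.isBaseChange (Submonoid.powers g) (Localization.Away g) ψ).equiv
  exact ⟨(LinearEquiv.prodCongr e₂.symm
      (Finsupp.linearEquivFunOnFinite (Localization.Away g) (Localization.Away g) (Fin m)).symm).trans
    (e.trans (LinearEquiv.prodCongr (ofSurjectiveCotangentEquiv β hβ).symm
      (Finsupp.linearEquivFunOnFinite (Localization.Away g) (Localization.Away g) (Fin n))))⟩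


end Groth.Agent.S9182
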