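import Groth.Statements.S9183
import Mathlib
import Groth.Agent.Lib.Helper20.FPApprox

set_option autoImplicit false
universe u
open CategoryTheory CategoryTheory.Limits
open CAlg

namespace Groth.Agent.S9183

/-- Every R-algebra A, with no finiteness assumption, is the colimit of a filtered system of finitely
presented R-algebras. (The published statement asserts that the category of all finitely presented
R-algebras with a map to A is filtered with colimit A; this row states that some small filtered
system of finitely presented R-algebras has colimit A.) -/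
theorem result (R A : Type u) [CommRing R] [CommRing A] [Algebra R A] :
    ∃ (I : Type u) (_ : SmallCategory I) (_ : IsFiltered I) (D : I ⥤ Under (CommRingCat.of R))
      (c : Cocone D) (_ : IsColimit c),
      (∀ i, (D.obj i).hom.hom.FinitePresentation) ∧
      Nonempty (c.pt ≅ Under.mk (CommRingCat.ofHom (algebraMap R A))) := by
  let good : Groth.Agent.Lib.Helper20.FPApprox.Pres R A → Prop := fun _ => True
  have hcof : ∀ S₀ : Finset A, ∃ j : Groth.Agent.Lib.Helper20.FPApprox.Pres R A, good j ∧ S₀ ⊆ j.S := fun S₀ =>
    ⟨⟨S₀, ⊥, Submodule.fg_bot, fun x hx => by rw [(Submodule.mem_bot _).mp hx, map_zero]⟩,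
      trivial, subset_rfl⟩
  obtain ⟨hd, hn, ⟨hc⟩⟩ := Groth.Agent.Lib.Helper20.FPApprox.exists_isColimit good hcof (fun _ _ _ _ _ _ => trivial)
  refine ⟨Groth.Agent.Lib.Helper20.FPApprox.GoodPres good, inferInstance, inferInstance, Groth.Agent.Lib.Helper20.FPApprox.functor good, Groth.Agent.Lib.Helper20.FPApprox.cocone good, hc, ?_,
    ⟨Iso.refl _⟩⟩
  intro i
  change (algebraMap R i.1.Alg).FinitePresentation
  rw [RingHom.finitePresentation_algebraMap]
  exact i.1.finitePresentation

end Groth.Agent.S9183
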