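import Groth.Statements.S9184
import Mathlib
import Groth.Agent.Lib.Helper90.ExLoc3
import Groth.Agent.Lib.Helper90.ExLoc4

set_option autoImplicit false
universe u
open CAlg

namespace Groth.Agent.S9184

/-- Let R be Noetherian, R → S flat of finite type whose fibre rings are Cohen–Macaulay and
equidimensional of dimension d, and let 0 → S^{n_e} → ⋯ → S^{n_1} → S^{n_0} be a complex of finite
free S-modules, the map S^{n_{i+1}} → S^{n_i} being given by the matrix φ_i. Then the set of primes
q of S such that the complex is exact (exact at each S^{n_i} with 0 < i < e and injective at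
S^{n_e}) after base change to the fibre local ring S_q/pS_q, p = q ∩ R, is open in Spec S. (The
published statement asks only that the fibres be Cohen–Macaulay of dimension d; this row assumes
them equidimensional of dimension d, the hypothesis the printed argument uses.) -/
theorem result (R S : Type u) [CommRing R] [IsNoetherianRing R] [CommRing S]
    [Algebra R S] [Algebra.FiniteType R S] [Module.Flat R S] (d : ℕ)
    (hCM : ∀ p : PrimeSpectrum R, LocCoh.IsCohenMacaulayRing (p.asIdeal.Fiber S))
    (heq : ∀ p : PrimeSpectrum R, ∀ P ∈ minimalPrimes (p.asIdeal.Fiber S),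
      ringKrullDim (p.asIdeal.Fiber S ⧸ P) = (d : WithBot ℕ∞))
    (e : ℕ) (n : ℕ → ℕ) (φ : (i : ℕ) → Matrix (Fin (n i)) (Fin (n (i + 1))) S)
    (hφ : ∀ i, i + 2 ≤ e → φ i * φ (i + 1) = 0) :
    IsOpen {q : PrimeSpectrum S |
      (∀ i, i + 2 ≤ e →
        LinearMap.ker (Matrix.mulVecLin ((φ i).map (algebraMap S (EGA4.FibLocRing R S q.asIdeal)))) =
          LinearMap.range (Matrix.mulVecLin ((φ (i + 1)).map (algebraMap S (EGA4.FibLocRing R S q.asIdeal))))) ∧
      (1 ≤ e → Function.Injective
        (Matrix.mulVecLin ((φ (e - 1)).map (algebraMap S (EGA4.FibLocRing R S q.asIdeal)))))} := by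
  open Groth.Agent.Lib.Helper90.ExLoc Groth.Agent.Lib.Helper99.BE Groth.Agent.Lib.Helper73 in
  classical
  rcases Nat.eq_zero_or_pos e with he0 | hepos
  · subst he0
    convert isOpen_univ
    ext q
    simp
  · have key : ∀ q : PrimeSpectrum S,
        ((∀ i, i + 2 ≤ e →
          LinearMap.ker (Matrix.mulVecLin ((φ i).map (algebraMap S (EGA4.FibLocRing R S q.asIdeal)))) =
            LinearMap.range (Matrix.mulVecLin ((φ (i + 1)).map (algebraMap S (EGA4.FibLocRing R S q.asIdeal))))) ∧
        (1 ≤ e → Function.Injective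
          (Matrix.mulVecLin ((φ (e - 1)).map (algebraMap S (EGA4.FibLocRing R S q.asIdeal)))))) ↔
        Exact e n (trunc e n
          (fun i => (φ i).map (algebraMap S (EGA4.FibLocRing R S q.asIdeal)))) := by
      intro q
      rw [exact_trunc_iff e hepos n]
      constructor
      · rintro ⟨h1, h2⟩
        exact ⟨LinearMap.ker_eq_bot.2 (h2 hepos), h1⟩
      · rintro ⟨h1, h2⟩
        exact ⟨h2, fun _ => LinearMap.ker_eq_bot.1 h1⟩
    have hmul : ∀ (q : PrimeSpectrum S) (i : ℕ), i + 2 ≤ e →
        (φ i).map (algebraMap S (EGA4.FibLocRing R S q.asIdeal)) *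
          (φ (i + 1)).map (algebraMap S (EGA4.FibLocRing R S q.asIdeal)) = 0 := by
      intro q i hi
      rw [← Matrix.map_mul, hφ i hi]
      ext a b
      simp
    by_cases hk : ∃ k : ℕ → ℕ, ∀ i, i ≤ e → (k i : ℤ) = sig n e i
    · obtain ⟨k, hk⟩ := hk
      have hset : {q : PrimeSpectrum S |
          (∀ i, i + 2 ≤ e →
            LinearMap.ker (Matrix.mulVecLin ((φ i).map (algebraMap S (EGA4.FibLocRing R S q.asIdeal)))) =
              LinearMap.range (Matrix.mulVecLin ((φ (i + 1)).map (algebraMap S (EGA4.FibLocRing R S q.asIdeal))))) ∧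
          (1 ≤ e → Function.Injective
            (Matrix.mulVecLin ((φ (e - 1)).map (algebraMap S (EGA4.FibLocRing R S q.asIdeal)))))} =
          ⋂ i ∈ Finset.range e, dimLocus R S d (CAlgX.minorIdeal (φ i) (k i)) (i + 1) := by
        ext q
        rw [Set.mem_setOf_eq, key q]
        haveI : LocCoh.IsCohenMacaulayLocalRing (EGA4.FibLocRing R S q.asIdeal) :=
          isCM_fibLocRing_of_fiber' R S q.asIdeal
            (hCM ⟨q.asIdeal.comap (algebraMap R S), inferInstance⟩)
        rw [exact_iff_dim _ e n _ (trunc_mul _ (hmul q)) (fun i hi => trunc_of_le _ hi) k hk]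
        simp only [Set.mem_iInter, Finset.mem_range]
        refine forall₂_congr fun i hi => ?_
        rw [mem_dimLocus_iff R S d hCM heq, trunc_of_lt _ hi, minorIdeal_map_ringHom]
      rw [hset]
      exact isOpen_biInter_finset fun i _ => isOpen_dimLocus R S d _ _
    · convert isOpen_empty
      ext q
      simp only [Set.mem_setOf_eq, Set.mem_empty_iff_false, iff_false]
      intro hq
      have hex := (key q).1 hq
      haveI : LocCoh.IsCohenMacaulayLocalRing (EGA4.FibLocRing R S q.asIdeal) :=
        isCM_fibLocRing_of_fiber' R S q.asIdeal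
          (hCM ⟨q.asIdeal.comap (algebraMap R S), inferInstance⟩)
      exact hk (exists_rank_of_exact _ e n _ (fun i hi => trunc_of_le _ hi) hex)

end Groth.Agent.S9184
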