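import Groth.Statements.S9185
-- import your own Groth.Agent.* helpers here
import Groth.Agent.S3815

set_option autoImplicit false
universe u
open Diff16

namespace Groth.Agent.S9185

open scoped TensorProduct
open PP16

section

variable (R S : Type u) [CommRing R] [CommRing S] [Algebra R S] (M : Type u)
    [AddCommGroup M] [Module S M] [Module R M] [IsScalarTower R S M] (k : ℕ)

/-- `P^k(M)` with its first-factor `S`-module structure. -/
def PMl : Type u := PM k R S M

noncomputable instance : AddCommGroup (PMl R S M k) := inferInstanceAs (AddCommGroup (PM k R S M))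

noncomputable instance : Module (P k R S) (PMl R S M k) :=
  inferInstanceAs (Module (P k R S) (PM k R S M))

noncomputable instance instModS : Module S (PMl R S M k) :=
  Module.compHom _ (algebraMap S (P k R S))

noncomputable instance instModR : Module R (PMl R S M k) :=
  Module.compHom _ (algebraMap R (P k R S))

theorem smulS_def (s : S) (t : PMl R S M k) : s • t = algebraMap S (P k R S) s • t := rfl

theorem smulR_def (r : R) (t : PMl R S M k) : r • t = algebraMap R (P k R S) r • t := rfl

theorem algebraMap_smul_eq (r : R) (s : S) :
    algebraMap S (P k R S) (r • s) = algebraMap R (P k R S) r * algebraMap S (P k R S) s := by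
  rw [Algebra.smul_def, map_mul, ← IsScalarTower.algebraMap_apply R S (P k R S)]

instance : IsScalarTower R S (PMl R S M k) where
  smul_assoc r s t := by
    change algebraMap S (P k R S) (r • s) • t =
      algebraMap R (P k R S) r • (algebraMap S (P k R S) s • t)
    rw [algebraMap_smul_eq, mul_smul]

/-- identity `P^k(M) → PMl`. -/
noncomputable def toL : PM k R S M →+ PMl R S M k := AddMonoidHom.id _

noncomputable def ofL : PMl R S M k →+ PM k R S M := AddMonoidHom.id _

theorem ofL_toL (t : PM k R S M) : ofL R S M k (toL R S M k t) = t := rfl
theorem toL_ofL (t : PMl R S M k) : toL R S M k (ofL R S M k t) = t := rfl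

theorem toL_smul (x : P k R S) (t : PM k R S M) : toL R S M k (x • t) = x • toL R S M k t := rfl

/-- the universal operator as an `R`-linear map. -/
noncomputable def DD : M →ₗ[R] PMl R S M k where
  toFun := fun m => toL R S M k (dM k R S M m)
  map_add' := fun m m' => by rw [map_add, map_add]
  map_smul' := fun r m => by
    have h1 : r • m = algebraMap R S r • m := (algebraMap_smul S r m).symm
    rw [RingHom.id_apply, smulR_def, ← toL_smul, h1, Groth.Agent.S3815.dM_eq,
      Groth.Agent.S3815.dM_eq, Groth.Agent.S3815.tmul_smul_eq,
      Groth.Agent.S3815.alg_smul_tmul, AlgHom.commutes]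

theorem DD_apply (m : M) : DD R S M k m = toL R S M k (dM k R S M m) := rfl

theorem isDiffOp_DD : Diff16.IsDiffOpLE R S M (PMl R S M k) k (DD R S M k) := by
  have hu : ∀ (b : S) (t : PM k R S M),
      toL R S M k (algebraMap S (P k R S) b • t) = b • toL R S M k t := fun b t => rfl
  have hD : DD R S M k = Groth.Agent.S3815.Dx k (toL R S M k) hu 1 := by
    ext m
    rfl
  rw [hD]
  apply Groth.Agent.S3815.isDiffOpLE_Dx k (toL R S M k) hu k
  rw [Nat.sub_self, pow_zero, Ideal.one_eq_top, Ideal.map_top]
  trivial

theorem main :
    ∃ (P : Type u) (_ : AddCommGroup P) (_ : Module S P) (_ : Module R P) (_ : IsScalarTower R S P)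
      (D : M →ₗ[R] P), Diff16.IsDiffOpLE R S M P k D ∧
        ∀ (N : Type u) [AddCommGroup N] [Module S N] [Module R N] [IsScalarTower R S N] (D' : M →ₗ[R] N),
          Diff16.IsDiffOpLE R S M N k D' → ∃! α : P →ₗ[S] N, α.restrictScalars R ∘ₗ D = D' := by
  refine ⟨PMl R S M k, inferInstance, inferInstance, inferInstance, inferInstance, DD R S M k,
    isDiffOp_DD R S M k, ?_⟩
  intro N _ _ _ _ D' hD'
  obtain ⟨u, ⟨hu1, hu2⟩, huniq⟩ := (Groth.Agent.S3815.result k R S M N D').mp hD'
  refine ⟨{ toFun := fun t => u (ofL R S M k t)
            map_add' := fun t t' => by rw [map_add, map_add]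
            map_smul' := fun b t => by
              rw [RingHom.id_apply, ← hu1]
              rfl }, ?_, ?_⟩
  · ext m
    exact hu2 m
  · intro α hα
    have h := huniq (α.toAddMonoidHom.comp (toL R S M k)) ⟨?_, ?_⟩
    · ext t
      have := DFunLike.congr_fun h (ofL R S M k t)
      exact this
    · intro b t
      change α (toL R S M k (algebraMap S (P k R S) b • t)) = b • α (toL R S M k t)
      rw [toL_smul, ← smulS_def, map_smul]
    · intro m
      exact LinearMap.congr_fun hα m

end

/-- For a ring map R → S, an S-module M and k ≥ 0 there is an S-module P together with a differential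
operator D : M → P of order at most k (relative to R → S) such that every differential operator of
order at most k from M to an S-module N is α ∘ D for a unique S-linear map α : P → N; that is,
differential operators of order ≤ k out of M are represented by P. (Target modules N are taken in
the same universe.) -/
theorem result (R S : Type u) [CommRing R] [CommRing S] [Algebra R S] (M : Type u)
    [AddCommGroup M] [Module S M] [Module R M] [IsScalarTower R S M] (k : ℕ) :
    ∃ (P : Type u) (_ : AddCommGroup P) (_ : Module S P) (_ : Module R P) (_ : IsScalarTower R S P)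
      (D : M →ₗ[R] P), Diff16.IsDiffOpLE R S M P k D ∧
        ∀ (N : Type u) [AddCommGroup N] [Module S N] [Module R N] [IsScalarTower R S N] (D' : M →ₗ[R] N),
          Diff16.IsDiffOpLE R S M N k D' → ∃! α : P →ₗ[S] N, α.restrictScalars R ∘ₗ D = D' := by
  exact main R S M k

end Groth.Agent.S9185
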