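import Groth.Statements.S9188
import Groth.Agent.Lib.Helper50.LimDesc11
import Groth.Agent.Lib.Helper50.LimStageFP
import Mathlib.AlgebraicGeometry.Morphisms.FormallyUnramified

set_option autoImplicit false
universe u
open CategoryTheory AlgebraicGeometry
open Lim

namespace Groth.Agent.S9188

/-- Let S = lim S_i be a cofiltered limit of schemes with affine transition morphisms, S_{i₀} a
quasi-compact quasi-separated stage, f₀ : X₀ → Y₀ a morphism of quasi-compact quasi-separated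
schemes over S_{i₀}, and f : X → Y its base change along S → S_{i₀} (base changes expressed by
pullback squares). If f₀ is locally of finite type and f is unramified (formally unramified; it is
locally of finite type as a base change of f₀), then for some index i over i₀ the base change f_i :
X_i → Y_i of f₀ along S_i → S_{i₀} is unramified, i.e. formally unramified (and locally of finite
type). -/
theorem result {I : Type u} [SmallCategory I] [IsCofiltered I]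
    (D : I ⥤ Scheme.{u}) (c : Limits.Cone D) (hc : Limits.IsLimit c)
    [∀ (i j : I) (f : i ⟶ j), IsAffineHom (D.map f)] (i₀ : I) [CompactSpace (D.obj i₀)]
    [QuasiSeparatedSpace (D.obj i₀)] {X₀ Y₀ : Scheme.{u}} (f₀ : X₀ ⟶ Y₀) (g₀ : Y₀ ⟶ D.obj i₀)
    [CompactSpace X₀] [QuasiSeparatedSpace X₀] [CompactSpace Y₀] [QuasiSeparatedSpace Y₀]
    [LocallyOfFiniteType f₀]
    {X Y : Scheme.{u}} (f : X ⟶ Y) (g : Y ⟶ c.pt) (qY : Y ⟶ Y₀) (qX : X ⟶ X₀)
    (hY : IsPullback qY g g₀ (c.π.app i₀)) (hX : IsPullback qX f f₀ qY) [FormallyUnramified f] :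
    ∃ (i : I) (φ : i ⟶ i₀) (Xi Yi : Scheme.{u}) (fi : Xi ⟶ Yi) (gi : Yi ⟶ D.obj i) (pY : Yi ⟶ Y₀)
      (pX : Xi ⟶ X₀), IsPullback pY gi g₀ (D.map φ) ∧ IsPullback pX fi f₀ pY ∧ FormallyUnramified fi := by
  open Groth.Agent.Lib.Helper50 Groth.Agent.Lib.Helper50.StageSetup Limits in
  have hlft : LocallyOfFiniteType f :=
    MorphismProperty.of_isPullback (P := @LocallyOfFiniteType) hX ‹_›
  have : LocallyOfFinitePresentation (pullback.diagonal f₀) := by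
    have : LocallyOfFinitePresentation (pullback.diagonal f₀ ≫ pullback.fst f₀ f₀) := by
      rw [pullback.diagonal_fst]; infer_instance
    exact locallyOfFinitePresentation_of_comp _ (pullback.fst f₀ f₀)
  suffices H : ∃ (i : I) (φ : i ⟶ i₀) (Xi Yi : Scheme.{u}) (fi : Xi ⟶ Yi) (gi : Yi ⟶ D.obj i)
      (pY : Yi ⟶ Y₀) (pX : Xi ⟶ X₀), IsPullback pY gi g₀ (D.map φ) ∧ IsPullback pX fi f₀ pY ∧
        @IsOpenImmersion _ _ (pullback.diagonal fi) by
    obtain ⟨i, φ, Xi, Yi, fi, gi, pY, pX, h1, h2, h3⟩ := H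
    exact ⟨i, φ, Xi, Yi, fi, gi, pY, pX, h1, h2, inferInstance⟩
  refine exists_stage_diagonal D i₀ f₀ g₀ @IsOpenImmersion ?_
  have hZ := hYΔ D c i₀ f₀ g₀ f g qY qX hY hX
  have hΔ := hXΔ f₀ f qY qX hX
  have : CompactSpace ↥(pullback f₀ f₀) := compactSpace_diagonalObj f₀
  have : QuasiSeparatedSpace ↥(pullback f₀ f₀) := quasiSeparatedSpace_diagonalObj f₀
  have h1 := compactSpace_E D i₀ (gΔ₀ D i₀ f₀ g₀)
  have h2 := quasiSeparatedSpace_E D i₀ (gΔ₀ D i₀ f₀ g₀)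
  have h3 := compactSpace_F D i₀ (pullback.diagonal f₀) (gΔ₀ D i₀ f₀ g₀)
  have h5 := locallyOfFinitePresentation_τ D i₀ (pullback.diagonal f₀) (gΔ₀ D i₀ f₀ g₀)
  have hf0 : IsOpenImmersion (pullback.diagonal f) := inferInstance
  have hf' : IsOpenImmersion
      (X := (cF D c i₀ (pullback.diagonal f₀) (gΔ₀ D i₀ f₀ g₀) (pullback.diagonal f)
        (gΔ D c f g) (qΔ f₀ f qY qX hX) qX hZ hΔ).pt)
      (Y := (cE D c i₀ (gΔ₀ D i₀ f₀ g₀) (gΔ D c f g) (qΔ f₀ f qY qX hX) hZ).pt)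
      (pullback.diagonal f) := hf0
  obtain ⟨j, _, hj⟩ := exists_forall_isOpenImmersion_app
    (τ D i₀ (pullback.diagonal f₀) (gΔ₀ D i₀ f₀ g₀))
    (cF D c i₀ (pullback.diagonal f₀) (gΔ₀ D i₀ f₀ g₀) (pullback.diagonal f)
        (gΔ D c f g) (qΔ f₀ f qY qX hX) qX hZ hΔ)
    (hcF D c hc i₀ (pullback.diagonal f₀) (gΔ₀ D i₀ f₀ g₀) (pullback.diagonal f)
        (gΔ D c f g) (qΔ f₀ f qY qX hX) qX hZ hΔ)
    (cE D c i₀ (gΔ₀ D i₀ f₀ g₀) (gΔ D c f g) (qΔ f₀ f qY qX hX) hZ)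
    (hcE D c hc i₀ (gΔ₀ D i₀ f₀ g₀) (gΔ D c f g) (qΔ f₀ f qY qX hX) hZ) (pullback.diagonal f)
    (hf D c i₀ (pullback.diagonal f₀) (gΔ₀ D i₀ f₀ g₀) (pullback.diagonal f)
        (gΔ D c f g) (qΔ f₀ f qY qX hX) qX hZ hΔ)
    (fun φ ↦ isPullback_τ D i₀ (pullback.diagonal f₀) (gΔ₀ D i₀ f₀ g₀) φ) (Over.mk (𝟙 i₀))
  exact ⟨j, hj j (𝟙 j)⟩

end Groth.Agent.S9188
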