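import Groth.Statements.S9195
import Mathlib
import Groth.Agent.S0402
import Groth.Agent.S9358
import Groth.Agent.S9207

set_option autoImplicit false
universe u
open CategoryTheory AlgebraicGeometry
open Lim

namespace Groth.Agent.S9195

open CategoryTheory.Limits in
/-- `S9207` with only the stage `i₀` assumed quasi-compact and quasi-separated. -/
private lemma exists_stage_isEmpty {I : Type u} [SmallCategory I] [IsCofiltered I]
    (D : I ⥤ Scheme.{u}) (c : Limits.Cone D) (hc : Limits.IsLimit c)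
    [∀ (i j : I) (f : i ⟶ j), IsAffineHom (D.map f)] (i₀ : I) [CompactSpace (D.obj i₀)]
    [QuasiSeparatedSpace (D.obj i₀)] {T : Scheme.{u}} (a : T ⟶ D.obj i₀) [CompactSpace T]
    (h : IsEmpty ↥(pullback a (c.π.app i₀))) :
    ∃ (i : I) (φ : i ⟶ i₀), IsEmpty ↥(pullback a (D.map φ)) := by
  let D' : Over i₀ ⥤ Scheme.{u} := Over.forget i₀ ⋙ D
  let c' : Cone D' := c.whisker (Over.forget i₀)
  have hc' : IsLimit c' := (Functor.Initial.isLimitWhiskerEquiv (Over.forget i₀) c).symm hc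
  haveI : ∀ (k l : Over i₀) (f : k ⟶ l), IsAffineHom (D'.map f) := fun k l f ↦
    inferInstanceAs (IsAffineHom (D.map f.left))
  haveI : ∀ k : Over i₀, CompactSpace (D'.obj k) := fun k ↦
    QuasiCompact.compactSpace_of_compactSpace (D.map k.hom)
  haveI : ∀ k : Over i₀, QuasiSeparatedSpace (D'.obj k) := fun k ↦
    quasiSeparatedSpace_of_quasiSeparated (D.map k.hom)
  obtain ⟨i', φ, hφ⟩ := Groth.Agent.S9207.result D' c' hc' (Over.mk (𝟙 i₀)) a h
  exact ⟨i'.left, φ.left, hφ⟩

/-- Let S = lim S_i be a cofiltered limit of schemes with affine transition morphisms, S_{i₀} a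
quasi-compact quasi-separated stage, f₀ : X₀ → Y₀ a morphism of quasi-compact quasi-separated
schemes over S_{i₀}, and f : X → Y its base change along S → S_{i₀} (base changes expressed by
pullback squares). Let d be a natural number. If f₀ is locally of finite type and f has relative
dimension at most d (every fibre of f has local dimension at most d at each of its points), then for
some index i over i₀ the base change f_i : X_i → Y_i of f₀ along S_i → S_{i₀} has relative dimension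
at most d. -/
theorem result {I : Type u} [SmallCategory I] [IsCofiltered I]
    (D : I ⥤ Scheme.{u}) (c : Limits.Cone D) (hc : Limits.IsLimit c)
    [∀ (i j : I) (f : i ⟶ j), IsAffineHom (D.map f)] (i₀ : I) [CompactSpace (D.obj i₀)]
    [QuasiSeparatedSpace (D.obj i₀)] {X₀ Y₀ : Scheme.{u}} (f₀ : X₀ ⟶ Y₀) (g₀ : Y₀ ⟶ D.obj i₀)
    [CompactSpace X₀] [QuasiSeparatedSpace X₀] [CompactSpace Y₀] [QuasiSeparatedSpace Y₀]
    [LocallyOfFiniteType f₀] (d : ℕ)
    {X Y : Scheme.{u}} (f : X ⟶ Y) (g : Y ⟶ c.pt) (qY : Y ⟶ Y₀) (qX : X ⟶ X₀)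
    (hY : IsPullback qY g g₀ (c.π.app i₀)) (hX : IsPullback qX f f₀ qY) (hd : ∀ x : X, FlatMor.fibreDimAt f x ≤ d) :
    ∃ (i : I) (φ : i ⟶ i₀) (Xi Yi : Scheme.{u}) (fi : Xi ⟶ Yi) (gi : Yi ⟶ D.obj i) (pY : Yi ⟶ Y₀)
      (pX : Xi ⟶ X₀), IsPullback pY gi g₀ (D.map φ) ∧ IsPullback pX fi f₀ pY ∧ ∀ x : Xi, FlatMor.fibreDimAt fi x ≤ d := by
  open CategoryTheory.Limits in
  classical
  have hopen := Groth.Agent.S0402.result f₀ d
  let Z₀ : TopologicalSpace.Closeds X₀ := ⟨{x | FlatMor.fibreDimAt f₀ x ≤ d}ᶜ, hopen.isClosed_compl⟩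
  let ι := (Scheme.IdealSheafData.vanishingIdeal Z₀).subschemeι
  have hι : Set.range ι = {x | FlatMor.fibreDimAt f₀ x ≤ d}ᶜ := by
    rw [Scheme.IdealSheafData.range_subschemeι,
      Scheme.IdealSheafData.coe_support_vanishingIdeal]
    rfl
  haveI : CompactSpace ↥(Scheme.IdealSheafData.vanishingIdeal Z₀).subscheme :=
    QuasiCompact.compactSpace_of_compactSpace ι
  -- the big pullback square
  have hbig : IsPullback qX (f ≫ g) (f₀ ≫ g₀) (c.π.app i₀) := hX.paste_vert hY
  have hempty : IsEmpty ↥(pullback (ι ≫ f₀ ≫ g₀) (c.π.app i₀)) := by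
    refine ⟨fun z => ?_⟩
    let m : pullback (ι ≫ f₀ ≫ g₀) (c.π.app i₀) ⟶ X :=
      hbig.lift (pullback.fst _ _ ≫ ι) (pullback.snd _ _) (by
        rw [Category.assoc]; exact pullback.condition)
    have hm : m ≫ qX = pullback.fst _ _ ≫ ι := hbig.lift_fst _ _ _
    have h1 : qX.base (m.base z) ∈ Set.range ι :=
      ⟨(pullback.fst (ι ≫ f₀ ≫ g₀) (c.π.app i₀)).base z, by
        rw [← Scheme.Hom.comp_apply, ← hm, Scheme.Hom.comp_apply]⟩
    rw [hι] at h1
    apply h1
    change FlatMor.fibreDimAt f₀ (qX.base (m.base z)) ≤ d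
    rw [← (Groth.Agent.S9358.result f₀ qY qX f hX d).1]
    exact hd _
  obtain ⟨i, φ, hφ⟩ := exists_stage_isEmpty D c hc i₀ (ι ≫ f₀ ≫ g₀) hempty
  refine ⟨i, φ, pullback f₀ (pullback.fst g₀ (D.map φ)), pullback g₀ (D.map φ),
    pullback.snd _ _, pullback.snd _ _, pullback.fst _ _, pullback.fst _ _,
    IsPullback.of_hasPullback _ _, IsPullback.of_hasPullback _ _, fun x => ?_⟩
  rw [(Groth.Agent.S9358.result f₀ (pullback.fst g₀ (D.map φ))
    (pullback.fst f₀ (pullback.fst g₀ (D.map φ))) (pullback.snd f₀ (pullback.fst g₀ (D.map φ)))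
    (IsPullback.of_hasPullback _ _) d).1]
  by_contra hx
  have h2 : (pullback.fst f₀ (pullback.fst g₀ (D.map φ))).base x ∈ Set.range ι := by
    rw [hι]; exact hx
  obtain ⟨t, ht⟩ := h2
  have h3 : pullback.fst f₀ (pullback.fst g₀ (D.map φ)) ≫ f₀ ≫ g₀ =
      pullback.snd f₀ (pullback.fst g₀ (D.map φ)) ≫ pullback.snd g₀ (D.map φ) ≫ D.map φ := by
    rw [pullback.condition_assoc, pullback.condition]
  obtain ⟨w, -, -⟩ := Scheme.Pullback.exists_preimage_pullback
    (f := ι ≫ f₀ ≫ g₀) (g := D.map φ) t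
    ((pullback.snd g₀ (D.map φ)).base ((pullback.snd f₀ (pullback.fst g₀ (D.map φ))).base x)) (by
      have h4 := congrArg (fun m => m.base x) h3
      simp only [Scheme.Hom.comp_base, TopCat.hom_comp, ContinuousMap.comp_apply] at h4 ⊢
      rw [ht]
      exact h4)
  exact hφ.false w

end Groth.Agent.S9195
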