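import Groth.Statements.S9196
import Mathlib
import Groth.Agent.S0402
import Groth.Agent.S9358
import Groth.Agent.S9355
import Groth.Agent.Lib.Helper46.LimAvoid

set_option autoImplicit false
universe u
open CategoryTheory AlgebraicGeometry
open Lim

namespace Groth.Agent.S9196

/-- Let S = lim S_i be a cofiltered limit of schemes with affine transition morphisms, S_{i₀} a
quasi-compact quasi-separated stage, f₀ : X₀ → Y₀ a morphism of quasi-compact quasi-separated
schemes over S_{i₀}, and f : X → Y its base change along S → S_{i₀} (base changes expressed by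
pullback squares). Let d be a natural number. If f₀ is locally of finite presentation and f has
relative dimension d (every irreducible component of every fibre of f has dimension d), then for
some index i over i₀ the base change f_i : X_i → Y_i of f₀ along S_i → S_{i₀} has relative dimension
d. -/
theorem result {I : Type u} [SmallCategory I] [IsCofiltered I]
    (D : I ⥤ Scheme.{u}) (c : Limits.Cone D) (hc : Limits.IsLimit c)
    [∀ (i j : I) (f : i ⟶ j), IsAffineHom (D.map f)] (i₀ : I) [CompactSpace (D.obj i₀)]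
    [QuasiSeparatedSpace (D.obj i₀)] {X₀ Y₀ : Scheme.{u}} (f₀ : X₀ ⟶ Y₀) (g₀ : Y₀ ⟶ D.obj i₀)
    [CompactSpace X₀] [QuasiSeparatedSpace X₀] [CompactSpace Y₀] [QuasiSeparatedSpace Y₀]
    [LocallyOfFinitePresentation f₀] (d : ℕ)
    {X Y : Scheme.{u}} (f : X ⟶ Y) (g : Y ⟶ c.pt) (qY : Y ⟶ Y₀) (qX : X ⟶ X₀)
    (hY : IsPullback qY g g₀ (c.π.app i₀)) (hX : IsPullback qX f f₀ qY) (hd : Cyc.HasRelDim f d) :
    ∃ (i : I) (φ : i ⟶ i₀) (Xi Yi : Scheme.{u}) (fi : Xi ⟶ Yi) (gi : Yi ⟶ D.obj i) (pY : Yi ⟶ Y₀)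
      (pX : Xi ⟶ X₀), IsPullback pY gi g₀ (D.map φ) ∧ IsPullback pX fi f₀ pY ∧ Cyc.HasRelDim fi d := by
  open CategoryTheory.Limits in
  classical
  haveI : LocallyOfFiniteType f :=
    MorphismProperty.of_isPullback (P := @LocallyOfFiniteType) hX inferInstance
  have hd' := (Groth.Agent.Lib.Helper46.hasRelDim_iff_forall_fibreDimAt f d).mp hd
  have hfd : ∀ x : X, FlatMor.fibreDimAt f x = FlatMor.fibreDimAt f₀ (qX.base x) :=
    (Groth.Agent.S9358.result f₀ qY qX f hX d).1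
  -- closed part
  have hopen := Groth.Agent.S0402.result f₀ d
  let Z₀ : TopologicalSpace.Closeds X₀ :=
    ⟨{x | FlatMor.fibreDimAt f₀ x ≤ d}ᶜ, hopen.isClosed_compl⟩
  let ι := (Scheme.IdealSheafData.vanishingIdeal Z₀).subschemeι
  have hι : Set.range ι.base = {x | FlatMor.fibreDimAt f₀ x ≤ d}ᶜ := by
    rw [Scheme.IdealSheafData.range_subschemeι,
      Scheme.IdealSheafData.coe_support_vanishingIdeal]
    rfl
  haveI : CompactSpace ↥(Scheme.IdealSheafData.vanishingIdeal Z₀).subscheme :=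
    QuasiCompact.compactSpace_of_compactSpace ι
  obtain ⟨i₁, φ₁, h₁⟩ := Groth.Agent.Lib.Helper46.exists_stage_forall_not_mem_range D c hc i₀
    f₀ g₀ f g qY qX hY hX ι (fun x hx => by
      rw [hι] at hx
      exact hx (by change FlatMor.fibreDimAt f₀ (qX.base x) ≤ d; rw [← hfd]; exact (hd' x).le))
  -- open part
  have key2 : ∃ (i₂ : I) (φ₂ : i₂ ⟶ i₀), ∀ (j : I) (ψ : j ⟶ i₂) (χ : j ⟶ i₀), ψ ≫ φ₂ = χ →
      ∀ x : ↥(pullback f₀ (pullback.fst g₀ (D.map χ))),
        ¬ FlatMor.fibreDimAt f₀ ((pullback.fst f₀ (pullback.fst g₀ (D.map χ))).base x) <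
          ((d : ℕ) : WithBot ℕ∞) := by
    rcases d with _ | n
    · refine ⟨i₀, 𝟙 i₀, fun j ψ χ _ x hx => ?_⟩
      obtain ⟨m, hm⟩ := Groth.Agent.Lib.Helper73.exists_fibreDimAt_eq_natCast f₀
        ((pullback.fst f₀ (pullback.fst g₀ (D.map χ))).base x)
      rw [hm] at hx
      have : m < 0 := by exact_mod_cast hx
      omega
    · let U : X₀.Opens := ⟨{x | FlatMor.fibreDimAt f₀ x ≤ n}, Groth.Agent.S0402.result f₀ n⟩
      haveI : CompactSpace ↥U.toScheme := isCompact_iff_compactSpace.mp (by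
        have := Groth.Agent.S9355.result f₀ n isCompact_univ isOpen_univ
        rwa [Set.inter_univ] at this)
      have hU : Set.range U.ι.base = {x | FlatMor.fibreDimAt f₀ x ≤ n} := by
        rw [Scheme.Opens.range_ι]; rfl
      obtain ⟨i₂, φ₂, h₂⟩ := Groth.Agent.Lib.Helper46.exists_stage_forall_not_mem_range D c hc i₀
        f₀ g₀ f g qY qX hY hX U.ι (fun x hx => by
          rw [hU] at hx
          have h5 : FlatMor.fibreDimAt f₀ (qX.base x) ≤ n := hx
          rw [← hfd, hd' x] at h5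
          have : n + 1 ≤ n := by exact_mod_cast h5
          omega)
      refine ⟨i₂, φ₂, fun j ψ χ e x hx => h₂ j ψ χ e x ?_⟩
      rw [hU]
      obtain ⟨m, hm⟩ := Groth.Agent.Lib.Helper73.exists_fibreDimAt_eq_natCast f₀
        ((pullback.fst f₀ (pullback.fst g₀ (D.map χ))).base x)
      change FlatMor.fibreDimAt f₀ _ ≤ n
      rw [hm] at hx ⊢
      have : m < n + 1 := by exact_mod_cast hx
      have : m ≤ n := by omega
      exact_mod_cast this
  obtain ⟨i₂, φ₂, h₂⟩ := key2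
  obtain ⟨j, ψ₁, ψ₂, e⟩ := IsCofiltered.cospan φ₁ φ₂
  refine ⟨j, ψ₁ ≫ φ₁, pullback f₀ (pullback.fst g₀ (D.map (ψ₁ ≫ φ₁))),
    pullback g₀ (D.map (ψ₁ ≫ φ₁)), pullback.snd _ _, pullback.snd _ _,
    pullback.fst _ _, pullback.fst _ _,
    IsPullback.of_hasPullback _ _, IsPullback.of_hasPullback _ _, ?_⟩
  rw [Groth.Agent.Lib.Helper46.hasRelDim_iff_forall_fibreDimAt]
  intro x
  rw [(Groth.Agent.S9358.result f₀ (pullback.fst g₀ (D.map (ψ₁ ≫ φ₁)))
    (pullback.fst f₀ (pullback.fst g₀ (D.map (ψ₁ ≫ φ₁))))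
    (pullback.snd f₀ (pullback.fst g₀ (D.map (ψ₁ ≫ φ₁))))
    (IsPullback.of_hasPullback _ _) d).1 x]
  have a1 := h₁ j ψ₁ _ rfl x
  have a2 := h₂ j ψ₂ _ e.symm x
  rw [hι] at a1
  exact le_antisymm (not_not.mp a1) (not_lt.mp a2)

end Groth.Agent.S9196
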