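import Groth.Statements.S9197
import Mathlib
import Groth.Agent.Lib.Helper46.LimFlat
import Groth.Agent.Lib.Helper50.LimStage
import Groth.Agent.Lib.Helper50.LimDesc5

set_option autoImplicit false
universe u
open CategoryTheory AlgebraicGeometry
open Lim

namespace Groth.Agent.S9197

/-- Let S = lim S_i be a cofiltered limit of schemes with affine transition morphisms, S_{i₀} a
quasi-compact quasi-separated stage, f₀ : X₀ → Y₀ a morphism of quasi-compact quasi-separated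
schemes over S_{i₀}, and f : X → Y its base change along S → S_{i₀} (base changes expressed by
pullback squares). Let d be a natural number. If f₀ is locally of finite presentation and f is
finite locally free of degree d (finite, flat, locally of finite presentation, with rank function
constant equal to d), then for some index i over i₀ the base change f_i : X_i → Y_i of f₀ along S_i
→ S_{i₀} is finite locally free of degree d. -/
theorem result {I : Type u} [SmallCategory I] [IsCofiltered I]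
    (D : I ⥤ Scheme.{u}) (c : Limits.Cone D) (hc : Limits.IsLimit c)
    [∀ (i j : I) (f : i ⟶ j), IsAffineHom (D.map f)] (i₀ : I) [CompactSpace (D.obj i₀)]
    [QuasiSeparatedSpace (D.obj i₀)] {X₀ Y₀ : Scheme.{u}} (f₀ : X₀ ⟶ Y₀) (g₀ : Y₀ ⟶ D.obj i₀)
    [CompactSpace X₀] [QuasiSeparatedSpace X₀] [CompactSpace Y₀] [QuasiSeparatedSpace Y₀]
    [LocallyOfFinitePresentation f₀] (d : ℕ)
    {X Y : Scheme.{u}} (f : X ⟶ Y) (g : Y ⟶ c.pt) (qY : Y ⟶ Y₀) (qX : X ⟶ X₀)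
    (hY : IsPullback qY g g₀ (c.π.app i₀)) (hX : IsPullback qX f f₀ qY) (hf : Mor2.IsFinLocFreeOfDeg d f) :
    ∃ (i : I) (φ : i ⟶ i₀) (Xi Yi : Scheme.{u}) (fi : Xi ⟶ Yi) (gi : Yi ⟶ D.obj i) (pY : Yi ⟶ Y₀)
      (pX : Xi ⟶ X₀), IsPullback pY gi g₀ (D.map φ) ∧ IsPullback pX fi f₀ pY ∧ Mor2.IsFinLocFreeOfDeg d fi := by
  open Groth.Agent.Lib.Helper50 Groth.Agent.Lib.Helper50.StageSetup Limits in
  obtain ⟨⟨hfin, hflat, hlfpf⟩, hrank⟩ := hf
  refine exists_stage D i₀ f₀ g₀ (fun _ _ a => Mor2.IsFinLocFreeOfDeg d a) ?_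
  have h1 := compactSpace_E D i₀ g₀
  have h2 := quasiSeparatedSpace_E D i₀ g₀
  have h3 := compactSpace_F D i₀ f₀ g₀
  have h4 := quasiSeparatedSpace_F D i₀ f₀ g₀
  have hlfp : ∀ j, LocallyOfFinitePresentation ((τ D i₀ f₀ g₀).app j) := fun j =>
    inferInstanceAs (LocallyOfFinitePresentation (Limits.pullback.snd f₀ (γ D i₀ g₀ j)))
  have h5 : ∀ j, LocallyOfFiniteType ((τ D i₀ f₀ g₀).app j) := fun j => inferInstance
  have hlim : ∀ j, IsPullback ((cF D c i₀ f₀ g₀ f g qY qX hY hX).π.app j) f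
      ((τ D i₀ f₀ g₀).app j) ((cE D c i₀ g₀ g qY hY).π.app j) :=
    fun j => isPullback_bcConeπ (E D i₀ g₀) (γ D i₀ g₀) f₀ (cE D c i₀ g₀ g qY hY) qY
      (hb' D c i₀ g₀ g qY hY) qX f hX j
  have hcart := fun {j k : Over i₀} (φ : k ⟶ j) => isPullback_τ D i₀ f₀ g₀ φ
  -- finiteness
  have hf' : IsIntegralHom (X := (cF D c i₀ f₀ g₀ f g qY qX hY hX).pt)
      (Y := (cE D c i₀ g₀ g qY hY).pt) f := inferInstanceAs (IsIntegralHom f)
  obtain ⟨j₁, _, hj₁⟩ := exists_forall_isFinite_app (τ D i₀ f₀ g₀)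
    (cF D c i₀ f₀ g₀ f g qY qX hY hX) (hcF D c hc i₀ f₀ g₀ f g qY qX hY hX)
    (cE D c i₀ g₀ g qY hY) (hcE D c hc i₀ g₀ g qY hY) f
    (StageSetup.hf D c i₀ f₀ g₀ f g qY qX hY hX) (fun φ ↦ isPullback_τ D i₀ f₀ g₀ φ) (Over.mk (𝟙 i₀))
  -- flatness
  have hfl' : Flat (X := (cF D c i₀ f₀ g₀ f g qY qX hY hX).pt)
      (Y := (cE D c i₀ g₀ g qY hY).pt) f := hflat
  obtain ⟨j₂, _, hj₂⟩ := Groth.Agent.Lib.Helper46.LimFlat.exists_flat_app (τ D i₀ f₀ g₀)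
    (cF D c i₀ f₀ g₀ f g qY qX hY hX)
    (cE D c i₀ g₀ g qY hY) (hcE D c hc i₀ g₀ g qY hY) f
    (fun φ => isPullback_τ D i₀ f₀ g₀ φ) hlim (Over.mk (𝟙 i₀))
  obtain ⟨j₃, a₁, a₂, -⟩ := IsCofilteredOrEmpty.cone_objs j₁ j₂
  have hfin₃ : IsFinite ((τ D i₀ f₀ g₀).app j₃) := hj₁ j₃ a₁
  have hfl₃ : Flat ((τ D i₀ f₀ g₀).app j₃) :=
    MorphismProperty.of_isPullback (P := @Flat) (hcart a₂) hj₂
  -- the rank function at stage j₃
  have hlc := Scheme.Hom.isLocallyConstant_finrank ((τ D i₀ f₀ g₀).app j₃)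
  let Z : ((E D i₀ g₀).obj j₃).Opens :=
    ⟨{y | Scheme.Hom.finrank ((τ D i₀ f₀ g₀).app j₃) y = d}ᶜ,
      (hlc.isClopen_fiber d).compl.isOpen⟩
  have hZc : IsCompact (Z : Set ((E D i₀ g₀).obj j₃)) :=
    ((hlc.isClopen_fiber d).compl.isClosed).isCompact
  have hZ : (cE D c i₀ g₀ g qY hY).π.app j₃ ⁻¹ᵁ Z ≤
      (cE D c i₀ g₀ g qY hY).π.app j₃ ⁻¹ᵁ (⊥ : ((E D i₀ g₀).obj j₃).Opens) := by
    intro y hy
    exfalso
    apply hy
    have := Scheme.Hom.finrank_of_isPullback _ _ _ _ (hlim j₃) y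
    exact this.symm.trans (hrank y)
  obtain ⟨j₄, a₄, hj₄⟩ := exists_map_preimage_le_map_preimage (E D i₀ g₀) (cE D c i₀ g₀ g qY hY)
    (hcE D c hc i₀ g₀ g qY hY) hZc hZ
  refine ⟨j₄, ⟨?_, ?_, hlfp j₄⟩, ?_⟩
  · exact hj₁ j₄ (a₄ ≫ a₁)
  · exact MorphismProperty.of_isPullback (P := @Flat) (hcart (a₄ ≫ a₂)) hj₂
  · intro y
    have := Scheme.Hom.finrank_of_isPullback _ _ _ _ (hcart a₄) y
    by_contra hne
    exact (hj₄ (show y ∈ (E D i₀ g₀).map a₄ ⁻¹ᵁ Z from fun h => hne (this.trans h))).elim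

end Groth.Agent.S9197
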