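import Groth.Statements.S9200
import Mathlib.AlgebraicGeometry.Morphisms.QuasiSeparated
-- import your own Groth.Agent.* helpers here

set_option autoImplicit false
universe u
open CategoryTheory AlgebraicGeometry
open Lim

namespace Groth.Agent.S9200

theorem aux_exists_affine {I : Type u} [SmallCategory I] [IsCofiltered I]
    (D : I ⥤ Scheme.{u}) (c : Limits.Cone D) (hc : Limits.IsLimit c)
    [∀ (i j : I) (a : i ⟶ j), IsAffineHom (D.map a)]
    [∀ i, QuasiSeparatedSpace (D.obj i)] (i : I) (U : (D.obj i).Opens)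
    (hU' : IsCompact (U : Set (D.obj i))) (hU : IsAffineOpen (c.π.app i ⁻¹ᵁ U)) :
    ∃ (j : I) (f : j ⟶ i), IsAffineOpen (D.map f ⁻¹ᵁ U) := by
  have (j : Over i) : CompactSpace ((opensDiagram D i U).obj j) :=
    isCompact_iff_compactSpace.mp (QuasiCompact.isCompact_preimage _ U.2 hU')
  have (j : Over i) : QuasiSeparatedSpace ((opensDiagram D i U).obj j) :=
    (isQuasiSeparated_iff_quasiSeparatedSpace _ (D.map _ ⁻¹ᵁ _).2).mp (.of_quasiSeparatedSpace _)
  have : IsAffine (opensCone D c i U).pt := hU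
  obtain ⟨j, hj⟩ := Scheme.exists_isAffine_of_isLimit _ _ (isLimitOpensCone D c hc i U)
  exact ⟨j.left, j.hom, hj⟩


/-- Let S be a scheme and X = lim X_i a cofiltered limit of S-schemes X_i (a diagram with a compatible
family of structure maps to S) with affine transition morphisms, every X_i quasi-compact and
quasi-separated; the structure map X → S is the composite X → X_{i₀} → S for any index i₀. Assume S
is quasi-compact and quasi-separated. If X → S is affine, then X_i → S is affine for all i beyond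
some index i₁. -/
theorem result {I : Type u} [SmallCategory I] [IsCofiltered I] (S : Scheme.{u}) [CompactSpace S] [QuasiSeparatedSpace S]
    (D : I ⥤ Scheme.{u}) (t : D ⟶ (Functor.const I).obj S) (c : Limits.Cone D) (hc : Limits.IsLimit c)
    [∀ (i j : I) (a : i ⟶ j), IsAffineHom (D.map a)]
    [∀ i, CompactSpace (D.obj i)] [∀ i, QuasiSeparatedSpace (D.obj i)] (i₀ : I)
    [IsAffineHom (c.π.app i₀ ≫ t.app i₀)] :
    ∃ i₁ : I, ∀ (i : I) (_ : i ⟶ i₁), IsAffineHom (t.app i) := by
  classical
  have hqc : QuasiCompact (t.app i₀) := quasiCompact_of_compactSpace (Y := S) (t.app i₀)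
  obtain ⟨σ, hσ⟩ := isCompact_univ.elim_finite_subcover
    (fun V : S.affineOpens => ((V : S.Opens) : Set S)) (fun V => V.1.2)
    (fun x _ => by
      have := iSup_affineOpens_eq_top S
      have hx : x ∈ (⨆ i : S.affineOpens, (i : S.Opens)) := by rw [this]; trivial
      simpa using hx)
  have key : ∀ V : σ, ∃ (j : I) (f : j ⟶ i₀),
      IsAffineOpen (D.map f ⁻¹ᵁ (t.app i₀ ⁻¹ᵁ (V.1 : S.Opens))) := by
    intro V
    refine aux_exists_affine D c hc i₀ _ ?_ ?_
    · exact QuasiCompact.isCompact_preimage (f := t.app i₀) _ V.1.1.2 V.1.2.isCompact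
    · rw [← Scheme.Hom.comp_preimage]
      exact V.1.2.preimage _
  choose j f hj using key
  obtain ⟨i₁, fi⟩ := IsCofiltered.inf_objs_exists (Finset.univ.image j)
  replace fi : ∀ k, i₁ ⟶ j k := fun k ↦ (fi (by simp)).some
  refine ⟨i₁, fun i a => isAffineHom_of_forall_exists_isAffineOpen _ fun x => ?_⟩
  obtain ⟨V, hVσ, hxV⟩ := Set.mem_iUnion₂.mp (hσ (Set.mem_univ x))
  refine ⟨V.1, hxV, V.2, ?_⟩
  have e : t.app i = D.map (a ≫ fi ⟨V, hVσ⟩ ≫ f ⟨V, hVσ⟩) ≫ t.app i₀ := by
    rw [t.naturality]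
    exact (Category.comp_id _).symm
  rw [e, Scheme.Hom.comp_preimage, ← Category.assoc, D.map_comp, Scheme.Hom.comp_preimage]
  exact (hj ⟨V, hVσ⟩).preimage _

end Groth.Agent.S9200
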