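import Groth.Statements.S9208
import Groth.Agent.Lib.Helper50.FPSurj
import Groth.Agent.Lib.Helper50.SpecDiag
import Groth.Agent.Lib.Helper50.Lim

set_option autoImplicit false
universe u
open CategoryTheory AlgebraicGeometry
open Lim

namespace Groth.Agent.S9208


open Limits Lib.Helper50 in
attribute [local instance] IsFiltered.isConnected IsCofiltered.isConnected in
theorem lift_appLE {X S : Scheme.{u}} (f : X ⟶ S)
    (h : ∀ (J : Type u) [Preorder J] [IsDirected J (· ≤ ·)] [Nonempty J] (D : Jᵒᵖ ⥤ Scheme.{u})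
      (t : D ⟶ (Functor.const Jᵒᵖ).obj S) (c : Limits.Cone D) (_ : Limits.IsLimit c),
      (∀ j, IsAffine (D.obj j)) → ∀ (j₀ : Jᵒᵖ) (g : c.pt ⟶ X), g ≫ f = c.π.app j₀ ≫ t.app j₀ →
        ∃ (j : Jᵒᵖ) (gj : D.obj j ⟶ X), gj ≫ f = t.app j ∧ c.π.app j ≫ gj = g)
    (U : S.Opens) (hU : IsAffineOpen U)
    (V : X.Opens) (hV : IsAffineOpen V) (e : V ≤ f ⁻¹ᵁ U)
    (J : Type u) [Preorder J] [IsDirected J (· ≤ ·)] [Nonempty J] (F : J ⥤ Under Γ(S, U))
    (c : Cocone F) (hc : IsColimit c) (β : Under.mk (f.appLE U V e) ⟶ c.pt) :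
    ∃ (j : J) (g : Under.mk (f.appLE U V e) ⟶ F.obj j), g ≫ c.ι.app j = β := by
  have hlim : IsLimit (specCone hU F c) := isLimitSpecCone hU F c hc
  let D : Jᵒᵖ ⥤ Scheme.{u} := (specDiagram hU F ⋙ Over.map U.ι) ⋙ Over.forget S
  have hDaff : ∀ (i j : Jᵒᵖ) (g : i ⟶ j), IsAffineHom (D.map g) := fun i j g ↦ by
    dsimp [D, specDiagram]; infer_instance
  have hDcomp : ∀ i, CompactSpace (D.obj i) := fun i ↦
    (inferInstance : CompactSpace (Spec (F.obj i.unop).right))
  let cD : Cone D := (Over.forget S).mapCone (specCone hU F c)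
  have hcD : IsLimit cD := isLimitOfPreserves (Over.forget S) hlim
  let t : D ⟶ (Functor.const Jᵒᵖ).obj S :=
    { app := fun j ↦ ((specDiagram hU F ⋙ Over.map U.ι).obj j).hom
      naturality := fun i j g ↦ by
        have := Over.w ((specDiagram hU F ⋙ Over.map U.ι).map g)
        exact this.trans (Category.comp_id _).symm }
  have ht : ∀ j : Jᵒᵖ, t.app j = Spec.map (F.obj j.unop).hom ≫ hU.fromSpec := by
    intro j
    have : t.app j = (Spec.map (F.obj j.unop).hom ≫ hU.isoSpec.inv) ≫ U.ι := rfl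
    rw [this, Category.assoc, IsAffineOpen.isoSpec_inv_ι]
  have key : ∀ {R : CommRingCat.{u}} (β₁ β₂ : Γ(X, V) ⟶ R)
      (_ : Spec.map β₁ ≫ hV.fromSpec = Spec.map β₂ ≫ hV.fromSpec), β₁ = β₂ := by
    intro R β₁ β₂ hβ
    exact Spec.map_injective ((cancel_mono hV.fromSpec).mp hβ)
  have hβw : f.appLE U V e ≫ β.right = c.pt.hom := Under.w β
  obtain ⟨j₀⟩ : Nonempty Jᵒᵖ := inferInstance
  have hπ : ∀ j : Jᵒᵖ, cD.π.app j = Spec.map (c.ι.app j.unop).right := fun _ ↦ rfl
  have hgf : (Spec.map β.right ≫ hV.fromSpec) ≫ f = cD.π.app j₀ ≫ t.app j₀ := by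
    have h1 : (Spec.map β.right ≫ hV.fromSpec) ≫ f = Spec.map c.pt.hom ≫ hU.fromSpec := by
      rw [Category.assoc, ← IsAffineOpen.SpecMap_appLE_fromSpec f hU hV e,
        ← Spec.map_comp_assoc, hβw]
    have hw' : (F.obj j₀.unop).hom ≫ (c.ι.app j₀.unop).right = c.pt.hom := Under.w _
    have h2 : Spec.map (c.ι.app j₀.unop).right ≫ (Spec.map (F.obj j₀.unop).hom ≫ hU.fromSpec) =
        Spec.map c.pt.hom ≫ hU.fromSpec := by
      rw [← Category.assoc, ← Spec.map_comp, hw']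
    rw [h1, ← h2, ← ht]
    rfl
  obtain ⟨j, yl', hyw', hyleft'⟩ := h J D t cD hcD
    (fun j ↦ (inferInstance : IsAffine (Spec (F.obj j.unop).right))) j₀
    (Spec.map β.right ≫ hV.fromSpec) hgf
  let j1 : J := j.unop
  let yl : Spec (F.obj j1).right ⟶ X := yl'
  have hyw : yl ≫ f = Spec.map (F.obj j1).hom ≫ hU.fromSpec := by
    rw [← ht]; exact hyw'
  have hyleft : Spec.map (c.ι.app j1).right ≫ yl = Spec.map β.right ≫ hV.fromSpec := hyleft'
  have hpre : (Spec.map (c.ι.app j1).right ≫ yl) ⁻¹ᵁ V = ⊤ := by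
    rw [hyleft, Scheme.Hom.comp_preimage, hV.fromSpec_preimage_self]
    rfl
  have H : cD.π.app j ⁻¹ᵁ ⊤ ≤ cD.π.app j ⁻¹ᵁ (yl ⁻¹ᵁ V) := by
    intro x _
    have : x ∈ (Spec.map (c.ι.app j1).right ≫ yl) ⁻¹ᵁ V := by rw [hpre]; trivial
    exact this
  obtain ⟨k, g, hg⟩ := exists_map_preimage_le_map_preimage D cD hcD
    (U := ⊤) (V := yl ⁻¹ᵁ V) isCompact_univ H
  let k0 : J := k.unop
  let m : Spec (F.obj k0).right ⟶ Spec (F.obj j1).right := Spec.map (F.map g.unop).right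
  have hm : Spec.map (c.ι.app k0).right ≫ m = Spec.map (c.ι.app j1).right := by
    rw [← Spec.map_comp, ← Under.comp_right, c.w]
  have hmw : m ≫ Spec.map (F.obj j1).hom = Spec.map (F.obj k0).hom := by
    rw [← Spec.map_comp, Under.w]
  have hrange : Set.range (m ≫ yl) ⊆ Set.range hV.fromSpec := by
    rw [hV.range_fromSpec]
    rintro _ ⟨x, rfl⟩
    exact hg (show x ∈ (D.map g ⁻¹ᵁ ⊤) from trivial)
  let l : Spec (F.obj k0).right ⟶ Spec Γ(X, V) :=
    IsOpenImmersion.lift hV.fromSpec (m ≫ yl) hrange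
  have hl : l ≫ hV.fromSpec = m ≫ yl := IsOpenImmersion.lift_fac _ _ _
  let βk : Γ(X, V) ⟶ (F.obj k0).right := Spec.preimage l
  have hβk : Spec.map βk = l := Spec.map_preimage l
  have hw : f.appLE U V e ≫ βk = (F.obj k0).hom := by
    apply Spec.map_injective
    rw [← cancel_mono hU.fromSpec, Spec.map_comp, Category.assoc,
      IsAffineOpen.SpecMap_appLE_fromSpec f hU hV e, ← Category.assoc, hβk, hl, Category.assoc,
      hyw, ← Category.assoc, hmw]
  refine ⟨k0, Under.homMk βk hw, ?_⟩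
  ext1
  apply key
  show Spec.map (βk ≫ (c.ι.app k0).right) ≫ hV.fromSpec = Spec.map β.right ≫ hV.fromSpec
  rw [Spec.map_comp, Category.assoc, hβk, hl, ← Category.assoc, hm, hyleft]

/-- Let f : X → S be a morphism of schemes. Suppose that for every inverse system (T_j) of affine
schemes over S indexed by a nonempty directed preordered set, with limit T, the canonical map
colim_j Mor_S(T_j, X) → Mor_S(T, X) is surjective: every S-morphism T → X is the composite of the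
projection T → T_j with an S-morphism T_j → X for some j. Then f is locally of finite presentation
(surjectivity alone suffices; bijectivity is not required). -/
theorem result {X S : Scheme.{u}} (f : X ⟶ S)
    (h : ∀ (J : Type u) [Preorder J] [IsDirected J (· ≤ ·)] [Nonempty J] (D : Jᵒᵖ ⥤ Scheme.{u})
      (t : D ⟶ (Functor.const Jᵒᵖ).obj S) (c : Limits.Cone D) (_ : Limits.IsLimit c),
      (∀ j, IsAffine (D.obj j)) → ∀ (j₀ : Jᵒᵖ) (g : c.pt ⟶ X), g ≫ f = c.π.app j₀ ≫ t.app j₀ →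
        ∃ (j : Jᵒᵖ) (gj : D.obj j ⟶ X), gj ≫ f = t.app j ∧ c.π.app j ≫ gj = g) :
    LocallyOfFinitePresentation f := by
  rw [HasRingHomProperty.iff_appLE (P := @LocallyOfFinitePresentation)]
  intro U V e
  exact Lib.Helper50.finitePresentation_of_forall_lift (f.appLE U.1 V.1 e)
    (fun J _ _ _ F c hc φ ↦ lift_appLE f h U.1 U.2 V.1 V.2 e J F c hc φ)

end Groth.Agent.S9208
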