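import Groth.Statements.S9212
import Groth.Agent.Lib.Helper41.ValCenter
import Groth.Agent.Lib.Helper50.DvrSep

set_option autoImplicit false
universe u
open CategoryTheory CategoryTheory.Limits AlgebraicGeometry
open Lim

namespace Groth.Agent.S9212

/-- Let S be a locally Noetherian scheme and f : X → S a morphism of finite type. Then f is proper if
and only if: for every generic point η of an irreducible component of X, every discrete valuation
ring A contained in the residue field κ(η) with fraction field κ(η) (a valuation subring of κ(η)
which is a discrete valuation ring), and every morphism Spec A → S whose restriction to Spec κ(η) is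
the canonical morphism Spec κ(η) → X followed by f, there is exactly one morphism Spec A → X over S
restricting to the canonical morphism on Spec κ(η). -/
theorem result {X S : Scheme.{u}} [IsLocallyNoetherian S] (f : X ⟶ S)
    [LocallyOfFiniteType f] [QuasiCompact f] :
    IsProper f ↔ ∀ (η : X), closure {η} ∈ irreducibleComponents (X : Type u) →
      ∀ (A : ValuationSubring (X.residueField η)), IsDiscreteValuationRing A →
        ∀ y : Spec (CommRingCat.of A) ⟶ S,
          Spec.map (CommRingCat.ofHom A.subtype) ≫ y = X.fromSpecResidueField η ≫ f →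
          ∃! l : Spec (CommRingCat.of A) ⟶ X,
            l ≫ f = y ∧ Spec.map (CommRingCat.ofHom A.subtype) ≫ l = X.fromSpecResidueField η := by
  constructor
  · intro hf η _ A hA y hy
    have := hA
    have hE : (ValuativeCriterion.Existence ⊓ @QuasiCompact) f := by
      rw [← UniversallyClosed.eq_valuativeCriterion]; infer_instance
    have hU := IsSeparated.valuativeCriterion f
    have hc : CommSq (X.fromSpecResidueField η)
        (Spec.map (CommRingCat.ofHom (algebraMap A (X.residueField η)))) f y :=
      ⟨hy.symm⟩
    let Sq : ValuativeCommSq f := { R := A, K := X.residueField η, commSq := hc, .. }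
    obtain ⟨⟨l⟩⟩ := hE.1 Sq
    refine ⟨l.l, ⟨l.fac_right, l.fac_left⟩, fun l' hl' => ?_⟩
    have hsub := hU Sq
    have := hsub.elim ⟨l', hl'.2, hl'.1⟩ l
    exact congrArg CommSq.LiftStruct.l this
  · intro H
    haveI : IsSeparated f := by
      refine Groth.Agent.Lib.Helper50.isSeparated_of_forall_generic f (fun η hη w hw => ?_)
      refine Groth.Agent.Lib.Helper50.mem_range_diagonal_of_dvr_uniqueness f (𝟙 X) η w hw
        (fun A hA l₁ l₂ h h₁ h₂ => ?_)
      rw [Category.comp_id] at h₁ h₂
      obtain ⟨l, -, hl⟩ := H η hη A hA (l₁ ≫ f) (by rw [← Category.assoc, h₁])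
      rw [hl l₁ ⟨rfl, h₁⟩, hl l₂ ⟨h.symm, h₂⟩]
    refine Groth.Agent.Lib.Helper41.ValCenter.isProper_of_dvrLiftAt f (fun x₁ => ?_)
    have hirr : IsIrreducible (irreducibleComponent x₁) := isIrreducible_irreducibleComponent
    have hcl : IsClosed (irreducibleComponent x₁) := isClosed_irreducibleComponent
    obtain ⟨η, hη⟩ := QuasiSober.sober hirr hcl
    have hηc : closure {η} ∈ irreducibleComponents (X : Type u) := by
      rw [hη.def]
      exact irreducibleComponent_mem_irreducibleComponents x₁
    refine ⟨η, ?_, fun A hA y hy => ?_⟩
    · rw [specializes_iff_mem_closure, hη.def]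
      exact mem_irreducibleComponent
    · obtain ⟨l, hl, -⟩ := H η hηc A hA y hy
      exact ⟨l, hl⟩

end Groth.Agent.S9212
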