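import Groth.Statements.S9215
import Mathlib
import Groth.Agent.Lib.Helper46.IdealACC
import Groth.Agent.Lib.Helper46.LimFibre
import Groth.Agent.Lib.Helper46.FibreDimEq
import Groth.Agent.Lib.Helper73.DimFormula.IrrEq
import Groth.Agent.Lib.Helper73.DimFormula.FibreDimSemi
import Groth.Agent.S9358

set_option autoImplicit false
universe u
open CategoryTheory CategoryTheory.Limits AlgebraicGeometry
open Lim

namespace Groth.Agent.S9215

/-- Consider a system of scheme morphisms (f_i : X_i → S_i) indexed by a cofiltered category: two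
diagrams X_•, S_• with a natural transformation between them, such that all transition morphisms
S_{i'} → S_i are affine, all S_i are quasi-compact and quasi-separated, all f_i are of finite type,
and for every arrow i' → i the induced morphism X_{i'} → X_i ×_{S_i} S_{i'} is a closed immersion.
Let X = lim X_i and S = lim S_i (limit cones) and f : X → S the induced morphism. Let d be a natural
number. Suppose each fibre of f is of dimension at most d; then there is an index i for which all
fibres of f_i are of dimension at most d. -/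
theorem result {I : Type u} [SmallCategory I] [IsCofiltered I]
    (DX DS : I ⥤ Scheme.{u}) (φ : DX ⟶ DS) (cX : Limits.Cone DX) (cS : Limits.Cone DS)
    (hX : Limits.IsLimit cX) (hS : Limits.IsLimit cS)
    [∀ (i j : I) (a : i ⟶ j), IsAffineHom (DS.map a)] [∀ i, CompactSpace (DS.obj i)]
    [∀ i, QuasiSeparatedSpace (DS.obj i)] [∀ i, LocallyOfFiniteType (φ.app i)] [∀ i, QuasiCompact (φ.app i)]
    (hcl : ∀ (i j : I) (a : i ⟶ j), IsClosedImmersion (pullback.lift (DX.map a) (φ.app i) (φ.naturality a)))
    (f : cX.pt ⟶ cS.pt) (hf : ∀ i, f ≫ cS.π.app i = cX.π.app i ≫ φ.app i) (d : ℕ)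
    (hd : ∀ s : cS.pt, topologicalKrullDim ↥(f.fiber s) ≤ d) :
    ∃ i : I, ∀ s : DS.obj i, topologicalKrullDim ↥((φ.app i).fiber s) ≤ d := by
  classical
  open Groth.Agent.Lib.Helper46.LimFibre in
  haveI : Nonempty I := IsCofiltered.nonempty
  have hXaff : ∀ {i j : I} (a : i ⟶ j), IsAffineHom (DX.map a) := by
    intro i j a
    have e : DX.map a = pullback.lift (DX.map a) (φ.app i) (φ.naturality a) ≫
        pullback.fst (φ.app j) (DS.map a) := (pullback.lift_fst _ _ _).symm
    rw [e]
    have h0 := hcl i j a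
    have h1 : IsAffineHom (pullback.lift (DX.map a) (φ.app i) (φ.naturality a)) := inferInstance
    have h2 : IsAffineHom (pullback.fst (φ.app j) (DS.map a)) :=
      MorphismProperty.pullback_fst (P := @IsAffineHom) _ _ inferInstance
    exact MorphismProperty.comp_mem (W := @IsAffineHom) _ _ h1 h2
  have hXc : ∀ i, CompactSpace (DX.obj i) :=
    fun i => QuasiCompact.compactSpace_of_compactSpace (φ.app i)
  let E : ∀ i, Set (DX.obj i) := fun i => {x | ¬ FlatMor.fibreDimAt (φ.app i) x ≤ (d : WithBot ℕ∞)}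
  have hEclosed : ∀ i, IsClosed (E i) := by
    intro i
    have := Groth.Agent.Lib.Helper73.isOpen_fibreDimAt_le d _ _ (φ.app i)
    exact isOpen_compl_iff.mp (by convert this using 1; ext w; simp [E])
  have hEmaps : ∀ {i j : I} (a : i ⟶ j), Set.MapsTo (DX.map a) (E i) (E j) := by
    intro i j a x hx hcontra
    apply hx
    haveI := hcl i j a
    let ℓ := pullback.lift (DX.map a) (φ.app i) (φ.naturality a)
    have h1 := (Groth.Agent.S9358.result (φ.app j) (DS.map a) (pullback.fst _ _) (pullback.snd _ _)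
      (IsPullback.of_hasPullback _ _) d).1 (ℓ x)
    have h2 : (pullback.fst (φ.app j) (DS.map a)) (ℓ x) = DX.map a x := by
      rw [← Scheme.Hom.comp_apply, pullback.lift_fst]
    rw [h2] at h1
    have h3 := Groth.Agent.Lib.Helper73.fibreDimAt_comp_le_of_isPreimmersion ℓ
      (pullback.snd (φ.app j) (DS.map a)) x
    have h4 : FlatMor.fibreDimAt (ℓ ≫ pullback.snd (φ.app j) (DS.map a)) x =
        FlatMor.fibreDimAt (φ.app i) x := by
      rw [pullback.lift_snd]
    rw [h4, h1] at h3
    exact h3.trans hcontra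
  by_contra hcon
  have hbad : ∀ i : I, ∃ s : DS.obj i, ¬ topologicalKrullDim ↥((φ.app i).fiber s) ≤ d := by
    intro i
    by_contra h
    push_neg at h
    exact hcon ⟨i, h⟩
  have hEne : ∀ i, (E i).Nonempty := by
    intro i
    obtain ⟨s, hs⟩ := hbad i
    rw [Groth.Agent.Lib.Helper73.topologicalKrullDim_fiber_le_iff] at hs
    push_neg at hs
    obtain ⟨w, -, hw⟩ := hs
    exact ⟨w, not_le.mpr hw⟩
  obtain ⟨z, hz⟩ := exists_mem_of_isClosed_of_nonempty DX cX hX E hEclosed hEne
    (fun i => (hEclosed i).isCompact) hEmaps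
  -- the fibre through z
  let s : cS.pt := f z
  let σ := cS.pt.fromSpecResidueField s
  let F := fibDiagram DX DS φ cS σ
  have hlim := isLimitFibCone DX DS φ cX cS f hf σ hX hS
  have hFcl : ∀ {i j : I} (a : i ⟶ j), IsClosedImmersion (F.map a) := by
    intro i j a
    haveI := hcl i j a
    exact isClosedImmersion_fibDiagram_map DX DS φ cS σ a
  have hFnoeth : ∀ i, IsNoetherian (F.obj i) := by
    intro i
    let p : F.obj i ⟶ Spec (cS.pt.residueField s) := pullback.snd (φ.app i) (σ ≫ cS.π.app i)
    have h1 : LocallyOfFiniteType p :=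
      MorphismProperty.pullback_snd (P := @LocallyOfFiniteType) _ _ inferInstance
    have h2 : QuasiCompact p :=
      MorphismProperty.pullback_snd (P := @QuasiCompact) _ _ inferInstance
    have h3 : IsLocallyNoetherian (F.obj i) := LocallyOfFiniteType.isLocallyNoetherian p
    have h4 : CompactSpace (F.obj i) := QuasiCompact.compactSpace_of_compactSpace p
    exact { }
  -- ACC
  let i0 : I := Classical.arbitrary I
  let J : (Σ i : I, (i ⟶ i0)) → (F.obj i0).IdealSheafData := fun p => (F.map p.2).ker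
  haveI : Nonempty (Σ i : I, (i ⟶ i0)) := ⟨⟨i0, 𝟙 i0⟩⟩
  have hdir : Directed (· ≤ ·) J := by
    rintro ⟨i, a⟩ ⟨j, b⟩
    let k := IsCofiltered.min i j
    let a' : k ⟶ i0 := IsCofiltered.minToLeft i j ≫ a
    let b' : k ⟶ i0 := IsCofiltered.minToRight i j ≫ b
    let k' := IsCofiltered.eq a' b'
    let e : k' ⟶ k := IsCofiltered.eqHom a' b'
    have he : e ≫ a' = e ≫ b' := IsCofiltered.eq_condition a' b'
    refine ⟨⟨k', e ≫ a'⟩, ?_, ?_⟩
    · show (F.map a).ker ≤ (F.map (e ≫ a')).ker
      have : F.map (e ≫ a') = F.map (e ≫ IsCofiltered.minToLeft i j) ≫ F.map a := by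
        rw [← F.map_comp, Category.assoc]
      rw [this]
      exact Scheme.Hom.le_ker_comp _ _
    · show (F.map b).ker ≤ (F.map (e ≫ a')).ker
      have : F.map (e ≫ a') = F.map (e ≫ IsCofiltered.minToRight i j) ≫ F.map b := by
        rw [he, ← F.map_comp, Category.assoc]
      rw [this]
      exact Scheme.Hom.le_ker_comp _ _
  haveI := hFnoeth i0
  obtain ⟨⟨i1, a1⟩, h1⟩ := Groth.Agent.Lib.Helper46.IdealACC.exists_iSup_le_of_directed J hdir
  have hconst : F.IsEventuallyConstantTo i1 := by
    intro i c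
    haveI := hFcl (c ≫ a1)
    haveI := hFcl a1
    refine IsClosedImmersion.isIso_of_ker_eq (F.map (c ≫ a1)) (F.map a1) (F.map c)
      (F.map_comp c a1).symm (le_antisymm ?_ ?_)
    · exact (le_iSup J ⟨i, c ≫ a1⟩).trans h1
    · rw [F.map_comp]
      exact Scheme.Hom.le_ker_comp _ _
  have hiso : IsIso ((fibCone DX DS φ cX cS f hf σ).π.app i1) := hconst.isIso_π_of_isLimit hlim
  -- the contradiction
  let e : pullback f σ ⟶ F.obj i1 := (fibCone DX DS φ cX cS f hf σ).π.app i1
  have hiso' : IsIso e := hiso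
  let w : ↥(pullback f σ) := f.asFiber z
  let y : ↥(F.obj i1) := e w
  let p1 : F.obj i1 ⟶ DX.obj i1 := pullback.fst (φ.app i1) (σ ≫ cS.π.app i1)
  let p2 : F.obj i1 ⟶ Spec (cS.pt.residueField s) := pullback.snd (φ.app i1) (σ ≫ cS.π.app i1)
  have hep1 : e ≫ p1 = pullback.fst f σ ≫ cX.π.app i1 := fibCone_π_fst DX DS φ cX cS f hf σ i1
  have hy1 : p1 y = cX.π.app i1 z := by
    change p1 (e w) = _
    rw [← Scheme.Hom.comp_apply, hep1, Scheme.Hom.comp_apply]
    congr 1
    exact f.fiberι_asFiber z
  have hy2 : FlatMor.fibreDimAt p2 y = FlatMor.fibreDimAt (φ.app i1) (p1 y) :=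
    (Groth.Agent.S9358.result (φ.app i1) (σ ≫ cS.π.app i1) p1 p2
      (IsPullback.of_hasPullback _ _) d).1 y
  rw [hy1] at hy2
  apply hz i1
  rw [← hy2]
  refine (Groth.Agent.Lib.Helper46.fibreDimAt_le_topologicalKrullDim_fiber p2 y).trans ?_
  refine (p2.fiberι _).isEmbedding.toIsInducing.topologicalKrullDim_le.trans ?_
  have h5 : topologicalKrullDim ↥(F.obj i1) = topologicalKrullDim ↥(pullback f σ) :=
    (IsHomeomorph.topologicalKrullDim_eq _ (asIso e).hom.homeomorph.isHomeomorph).symm
  rw [h5]
  exact hd s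

end Groth.Agent.S9215
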