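import Groth.Statements.S9216
import Mathlib
import Groth.Agent.Lib.Helper46.IdealACC
import Groth.Agent.Lib.Helper73.DimFormula.IrrEq
import Groth.Agent.Lib.Helper73.DimFormula.FibreDimSemi
import Groth.Agent.S7379

set_option autoImplicit false
universe u
open CategoryTheory CategoryTheory.Limits AlgebraicGeometry
open Lim

namespace Groth.Agent.S9216

/-- Let S be a quasi-compact quasi-separated scheme, f : X → S a morphism of finite presentation and d a
natural number. Let Z be a closed subscheme of X such that every fibre of Z → S has dimension at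
most d. Then there is a closed subscheme Z' of X containing Z such that Z' → X is of finite
presentation and every fibre of Z' → S has dimension at most d. -/
theorem result {X S Z : Scheme.{u}} [CompactSpace S]
    [QuasiSeparatedSpace S] (f : X ⟶ S) [LocallyOfFinitePresentation f] [QuasiCompact f] [QuasiSeparated f]
    (d : ℕ) (ι : Z ⟶ X) [IsClosedImmersion ι] (hZ : ∀ s : S, topologicalKrullDim ↥((ι ≫ f).fiber s) ≤ d) :
    ∃ (Z' : Scheme.{u}) (ι' : Z' ⟶ X) (k : Z ⟶ Z'), IsClosedImmersion ι' ∧ LocallyOfFinitePresentation ι' ∧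
      k ≫ ι' = ι ∧ ∀ s : S, topologicalKrullDim ↥((ι' ≫ f).fiber s) ≤ d := by
  classical
  have hXc : CompactSpace X := QuasiCompact.compactSpace_of_compactSpace f
  have hXqs : QuasiSeparatedSpace X := quasiSeparatedSpace_of_quasiSeparated f
  let I0 : X.IdealSheafData := ι.ker
  let 𝓕 : Set X.IdealSheafData := {J | BlowUp.IsFiniteTypeIdeal J ∧ J ≤ I0}
  have hbot : (⊥ : X.IdealSheafData) ∈ 𝓕 :=
    ⟨fun U => by rw [Scheme.IdealSheafData.ideal_bot]; exact Submodule.fg_bot, bot_le⟩
  have hsup : ∀ J₁ ∈ 𝓕, ∀ J₂ ∈ 𝓕, J₁ ⊔ J₂ ∈ 𝓕 := by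
    intro J₁ h₁ J₂ h₂
    refine ⟨fun U => ?_, sup_le h₁.2 h₂.2⟩
    rw [Scheme.IdealSheafData.ideal_sup]
    exact Submodule.FG.sup (h₁.1 U) (h₂.1 U)
  have hlft : ∀ J : X.IdealSheafData, LocallyOfFiniteType (J.subschemeι ≫ f) := fun J => inferInstance
  -- the good case
  by_contra hcon
  have hbad : ∀ J ∈ 𝓕, ∃ s : S, ¬ topologicalKrullDim ↥((J.subschemeι ≫ f).fiber s) ≤ d := by
    intro J hJ
    by_contra h
    push_neg at h
    refine hcon ⟨J.subscheme, J.subschemeι,
      IsClosedImmersion.lift J.subschemeι ι (by rw [Scheme.IdealSheafData.ker_subschemeι]; exact hJ.2),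
      inferInstance, Groth.Agent.S7379.locallyOfFinitePresentation_subschemeι J hJ.1,
      IsClosedImmersion.lift_fac _ _ _, h⟩
  -- the bad loci
  let B : ∀ J : X.IdealSheafData, Set J.subscheme :=
    fun J => {w | ¬ FlatMor.fibreDimAt (J.subschemeι ≫ f) w ≤ (d : WithBot ℕ∞)}
  let E : 𝓕 → Set X := fun J => J.1.subschemeι '' B J.1
  have hBclosed : ∀ J : X.IdealSheafData, IsClosed (B J) := by
    intro J
    have := Groth.Agent.Lib.Helper73.isOpen_fibreDimAt_le d _ _ (J.subschemeι ≫ f)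
    exact isOpen_compl_iff.mp (by convert this using 1; ext w; simp [B])
  have hEclosed : ∀ J, IsClosed (E J) := fun J =>
    J.1.subschemeι.isClosedEmbedding.isClosedMap _ (hBclosed J.1)
  have hEne : ∀ J, (E J).Nonempty := by
    intro J
    obtain ⟨s, hs⟩ := hbad J.1 J.2
    rw [Groth.Agent.Lib.Helper73.topologicalKrullDim_fiber_le_iff] at hs
    push_neg at hs
    obtain ⟨w, -, hw⟩ := hs
    exact ⟨_, w, not_le.mpr hw, rfl⟩
  have hEmono : ∀ J J' : 𝓕, J.1 ≤ J'.1 → E J' ⊆ E J := by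
    rintro J J' hle _ ⟨w', hw', rfl⟩
    let incl := Scheme.IdealSheafData.inclusion hle
    have hincl : incl ≫ J.1.subschemeι = J'.1.subschemeι :=
      Scheme.IdealSheafData.inclusion_subschemeι hle
    refine ⟨incl w', ?_, ?_⟩
    · intro hcontra
      apply hw'
      have h1 := Groth.Agent.Lib.Helper73.fibreDimAt_comp_le_of_isPreimmersion incl
        (J.1.subschemeι ≫ f) w'
      have h2 : FlatMor.fibreDimAt (incl ≫ J.1.subschemeι ≫ f) w' =
          FlatMor.fibreDimAt (J'.1.subschemeι ≫ f) w' := by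
        rw [← Category.assoc, hincl]
      rw [h2] at h1
      exact h1.trans hcontra
    · rw [← hincl]; rfl
  have hdir : Directed (· ⊇ ·) E := by
    intro J₁ J₂
    exact ⟨⟨J₁.1 ⊔ J₂.1, hsup _ J₁.2 _ J₂.2⟩, hEmono _ _ le_sup_left, hEmono _ _ le_sup_right⟩
  haveI : Nonempty 𝓕 := ⟨⟨⊥, hbot⟩⟩
  obtain ⟨x, hx⟩ := IsCompact.nonempty_iInter_of_directed_nonempty_isCompact_isClosed E hdir hEne
    (fun J => (hEclosed J).isCompact) hEclosed
  rw [Set.mem_iInter] at hx
  -- the fibre through x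
  let s : S := f x
  let g := f.fiberι s
  have hI0 : I0 = ⨆ J : 𝓕, J.1 := by
    apply le_antisymm
    · intro V a ha
      obtain ⟨J, hJ1, hJ2, hJ3⟩ := Groth.Agent.S7379.exists_ft_ideal_le_mem I0 V a ha
      exact (le_iSup (fun J : 𝓕 => J.1) ⟨J, hJ1, hJ2⟩) V hJ3
    · exact iSup_le fun J => J.2.2
  have hcomap : I0.comap g = ⨆ J : 𝓕, J.1.comap g := by
    rw [hI0]
    exact (Scheme.IdealSheafData.map_gc g).l_iSup
  haveI : IsNoetherian (f.fiber s) := by
    have : LocallyOfFiniteType (f.fiberToSpecResidueField s) := inferInstance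
    have : IsLocallyNoetherian (f.fiber s) :=
      LocallyOfFiniteType.isLocallyNoetherian (f.fiberToSpecResidueField s)
    exact { }
  obtain ⟨J0, hJ0⟩ := Groth.Agent.Lib.Helper46.IdealACC.exists_iSup_le_of_directed
    (fun J : 𝓕 => J.1.comap g) (by
      intro J₁ J₂
      exact ⟨⟨J₁.1 ⊔ J₂.1, hsup _ J₁.2 _ J₂.2⟩,
        Scheme.IdealSheafData.comap_mono g le_sup_left,
        Scheme.IdealSheafData.comap_mono g le_sup_right⟩)
  have hJ0eq : J0.1.comap g = I0.comap g := by
    apply le_antisymm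
    · exact Scheme.IdealSheafData.comap_mono g J0.2.2
    · rw [hcomap]; exact hJ0
  have hdim : topologicalKrullDim ↥((J0.1.subschemeι ≫ f).fiber s) ≤ d := by
    rw [Groth.Agent.Lib.Helper46.IdealACC.topologicalKrullDim_fiber_eq J0.1.subschemeι ι f s
      (by rw [Scheme.IdealSheafData.ker_subschemeι]; exact hJ0eq)]
    exact hZ s
  rw [Groth.Agent.Lib.Helper73.topologicalKrullDim_fiber_le_iff] at hdim
  obtain ⟨w, hw, hwx⟩ := hx J0
  exact hw (hdim w (by
    change (J0.1.subschemeι ≫ f) w = f x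
    rw [← hwx]; rfl))

end Groth.Agent.S9216
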