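import Groth.Statements.S9220
import Mathlib
import Groth.Agent.S0591
import Groth.Agent.S9189
import Groth.Agent.Lib.Helper46.IdealFG

set_option autoImplicit false
universe u
open CategoryTheory AlgebraicGeometry
open Lim

namespace Groth.Agent.S9220

/-- Let S = lim S_i be a cofiltered limit of quasi-compact quasi-separated schemes with affine
transition morphisms, and let I be a quasi-coherent sheaf of ideals of finite type on S (its ideal
of sections on every affine open is finitely generated). Then for some index i there is a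
quasi-coherent sheaf of ideals of finite type I_i on S_i such that I = I_i · O_S, the pullback ideal
sheaf along S → S_i. -/
theorem result {I : Type u} [SmallCategory I] [IsCofiltered I]
    (D : I ⥤ Scheme.{u}) (c : Limits.Cone D) (hc : Limits.IsLimit c)
    [∀ (i j : I) (f : i ⟶ j), IsAffineHom (D.map f)] [∀ i, CompactSpace (D.obj i)]
    [∀ i, QuasiSeparatedSpace (D.obj i)] (J : c.pt.IdealSheafData)
    (hJ : ∀ U : c.pt.affineOpens, (J.ideal U).FG) :
    ∃ (i : I) (Ji : (D.obj i).IdealSheafData), (∀ U : (D.obj i).affineOpens, (Ji.ideal U).FG) ∧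
      Ji.comap (c.π.app i) = J := by
  open CategoryTheory.Limits in
  have : LocallyOfFinitePresentation J.subschemeι :=
    Groth.Agent.Lib.Helper46.locallyOfFinitePresentation_subschemeι J hJ
  obtain ⟨i, Zi, fi, g, hfp, hqc, hqs, hpb⟩ :=
    Groth.Agent.S0591.result D c hc J.subscheme J.subschemeι
  have : CompactSpace Zi := QuasiCompact.compactSpace_of_compactSpace fi
  have : QuasiSeparatedSpace Zi := quasiSeparatedSpace_of_quasiSeparated fi
  have : LocallyOfFiniteType fi := inferInstance
  have hY : IsPullback (c.π.app i) (𝟙 c.pt) (𝟙 (D.obj i)) (c.π.app i) :=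
    IsPullback.id_vert (c.π.app i)
  obtain ⟨j, φ, Xj, Yj, fj, gj, pY, pX, h1, h2, hcl⟩ :=
    Groth.Agent.S9189.result D c hc i fi (𝟙 (D.obj i)) J.subschemeι (𝟙 c.pt) (c.π.app i) g hY hpb
  have : IsIso gj := h1.isIso_snd_of_isIso
  have h3 : IsPullback pX (fj ≫ gj) fi (D.map φ) := by
    simpa using h2.paste_vert h1
  have : IsClosedImmersion (fj ≫ gj) := inferInstance
  have : LocallyOfFinitePresentation (fj ≫ gj) :=
    MorphismProperty.of_isPullback (P := @LocallyOfFinitePresentation) h3 hfp
  refine ⟨j, (fj ≫ gj).ker,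
    fun U => Groth.Agent.Lib.Helper46.ker_ideal_fg_of_locallyOfFinitePresentation (fj ≫ gj) U, ?_⟩
  have hw : c.π.app j ≫ D.map φ = c.π.app i := c.w φ
  have h4 : IsPullback g J.subschemeι fi (c.π.app j ≫ D.map φ) := by rw [hw]; exact hpb
  let q : J.subscheme ⟶ Xj := h3.lift g (J.subschemeι ≫ c.π.app j) (by rw [Category.assoc, hw]; exact hpb.w)
  have h5 : IsPullback q J.subschemeι (fj ≫ gj) (c.π.app j) := by
    refine IsPullback.of_right ?_ (h3.lift_snd _ _ _) h3
    rw [h3.lift_fst]
    exact h4
  rw [← Scheme.IdealSheafData.ker_fst_of_isClosedImmersion]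
  have h6 : (h5.flip.isoPullback).hom ≫ pullback.fst (c.π.app j) (fj ≫ gj) = J.subschemeι :=
    h5.flip.isoPullback_hom_fst
  rw [← Scheme.Hom.ker_comp_of_isIso (h5.flip.isoPullback).hom, h6, Scheme.IdealSheafData.ker_subschemeι]

end Groth.Agent.S9220
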