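import Groth.Statements.S9222
import Mathlib
import Groth.Agent.S2153
import Groth.Agent.Lib.Lead.Avoid1
import Groth.Agent.Lib.Helper93.ProjAvoid
import Groth.Agent.Lib.Helper7.CosetAvoid

set_option autoImplicit false
set_option linter.style.haveILetI false
universe u
open CategoryTheory AlgebraicGeometry
open Lim

namespace Groth.Agent.S9222


section Alg

open MvPolynomial

variable {σ : Type*} [Fintype σ]

/-- evaluation of an integer polynomial -/
noncomputable def ev {R : Type*} [CommRing R] (c : σ → R) : MvPolynomial σ ℤ →+* R :=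
  eval₂Hom (Int.castRingHom R) c

theorem ev_X {R : Type*} [CommRing R] (c : σ → R) (l : σ) : ev c (X l) = c l := by
  simp [ev]

theorem ev_map {R S : Type*} [CommRing R] [CommRing S] (φ : R →+* S) (c : σ → R)
    (P : MvPolynomial σ ℤ) : φ (ev c P) = ev (fun l => φ (c l)) P := by
  unfold ev
  rw [coe_eval₂Hom, coe_eval₂Hom, eval₂_comp_left]
  congr 1
  exact RingHom.ext_int _ _

theorem ev_eq_sum {R : Type*} [CommRing R] (c : σ → R) (P : MvPolynomial σ ℤ) :
    ev c P = ∑ a ∈ P.support, ((coeff a P : ℤ) : R) * ∏ l, c l ^ a l := by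
  unfold ev
  rw [coe_eval₂Hom, eval₂_eq']
  rfl

theorem ev_scale {R : Type*} [CommRing R] (c : σ → R) (u : R) {P : MvPolynomial σ ℤ} {d : ℕ}
    (hP : P.IsHomogeneous d) : ev (fun l => u * c l) P = u ^ d * ev c P := by
  rw [ev_eq_sum, ev_eq_sum, Finset.mul_sum]
  refine Finset.sum_congr rfl fun a ha => ?_
  have hd : ∑ l, a l = d := by
    have := hP (mem_support_iff.mp ha)
    rw [← this]
    simp [Finsupp.weight_apply, Finsupp.sum_fintype]
  simp only [mul_pow, Finset.prod_mul_distrib, Finset.prod_pow_eq_pow_sum, hd]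
  ring

theorem finite_comap {k R : Type*} [Field k] [CommRing R] [Algebra k R] [Algebra.IsIntegral k R]
    (x : σ → R) :
    {𝔭 : Ideal (MvPolynomial σ ℤ) | ∃ q : Ideal R, q.IsPrime ∧ 𝔭 = Ideal.comap (ev x) q}.Finite := by
  classical
  let B : Subalgebra k R := Algebra.adjoin k (Set.range x)
  haveI : Algebra.FiniteType k B := by
    rw [← Subalgebra.fg_iff_finiteType]
    exact ⟨(Set.finite_range x).toFinset, by simp [B]⟩
  haveI : Algebra.IsIntegral k B := Algebra.IsIntegral.of_injective B.val Subtype.val_injective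
  haveI : Module.Finite k B := Algebra.IsIntegral.finite
  haveI : IsArtinianRing B := IsArtinianRing.of_finite k B
  let x' : σ → B := fun l => ⟨x l, Algebra.subset_adjoin ⟨l, rfl⟩⟩
  refine (Set.finite_range (fun b : PrimeSpectrum B => Ideal.comap (ev x') b.asIdeal)).subset ?_
  rintro 𝔭 ⟨q, hq, rfl⟩
  refine ⟨⟨Ideal.comap B.val.toRingHom q, inferInstance⟩, ?_⟩
  ext P
  simp only [Ideal.mem_comap]
  have := ev_map B.val.toRingHom x' P
  change B.val.toRingHom (ev x' P) ∈ q ↔ _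
  rw [this]
  rfl

theorem exists_poly (PP : Set (Ideal (MvPolynomial σ ℤ))) (hfin : PP.Finite)
    (hprime : ∀ 𝔭 ∈ PP, 𝔭.IsPrime) (hX : ∀ 𝔭 ∈ PP, ∃ l, (X l : MvPolynomial σ ℤ) ∉ 𝔭) :
    ∃ (d : ℕ) (P : MvPolynomial σ ℤ), 0 < d ∧ P.IsHomogeneous d ∧ ∀ 𝔭 ∈ PP, P ∉ 𝔭 := by
  classical
  letI : GradedRing (homogeneousSubmodule σ ℤ) := MvPolynomial.gradedAlgebra (σ := σ) (R := ℤ)
  obtain ⟨P, -, d, hd, hPd, hP⟩ :=
    Groth.Agent.Lib.Helper93.ProjAvoid.exists_homogeneous_notMem (homogeneousSubmodule σ ℤ) ⊤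
      hfin.toFinset id (fun 𝔭 h𝔭 => hprime 𝔭 (hfin.mem_toFinset.mp h𝔭))
      (fun 𝔭 h𝔭 => by
        obtain ⟨l, hl⟩ := hX 𝔭 (hfin.mem_toFinset.mp h𝔭)
        exact ⟨X l, Submodule.mem_top, 1, one_pos, isHomogeneous_X ℤ l, hl⟩)
  exact ⟨d, P, hd, hPd, fun 𝔭 h𝔭 => hP 𝔭 (hfin.mem_toFinset.mpr h𝔭)⟩

end Alg


open TopologicalSpace Opposite
open Groth.Agent.Lib.Helper35.Gen Groth.Agent.Lib.Helper35.PbInv Groth.Agent.Lib.Helper35.Ample
open Groth.Agent.Lib.Helper35.GlobGen Groth.Agent.Lib.Helper35.Cocycle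
open Groth.Agent.Lib.Helper7.CosetAvoid

section Geo

variable {X : Scheme.{u}} {L : X.Modules}

/-- cocycle families of weight `m` -/
def Coc (C : GenCover L) (m : ℕ) (y : ∀ i, Γ(X, C.V i)) : Prop :=
  ∀ i j, rr X (inf_le_left : C.V i ⊓ C.V j ≤ C.V i) (y i) =
    C.u i j ^ m * rr X (inf_le_right : C.V i ⊓ C.V j ≤ C.V j) (y j)

/-- coefficient families of sections of `L^m` with affine generating locus inside `W` -/
def Good (C : GenCover L) (W : X.Opens) (m : ℕ) (x : ∀ i, Γ(X, C.V i)) : Prop :=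
  ∃ σ : Coh.structureModule X ⟶ CohB1.tensorPow L m,
    (∀ i, SecTwist.val σ (C.V i) = x i • gpow (C.e i) m) ∧
    IsAffineOpen (CohB1.genLocus _ σ) ∧ CohB1.genLocus _ σ ≤ W

theorem coc_of_val (C : GenCover L) {m : ℕ} (σ : Coh.structureModule X ⟶ CohB1.tensorPow L m)
    (x : ∀ i, Γ(X, C.V i)) (hσ : ∀ i, SecTwist.val σ (C.V i) = x i • gpow (C.e i) m) :
    Coc C m x := by
  have hcx : ∀ i, (C.pow m).c σ i = x i := by
    intro i
    have h1 : SecTwist.val σ (C.V i) =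
        (show Γ(X, C.V i) from (C.pow m).c σ i) • gpow (C.e i) m := (C.pow m).c_spec σ i
    rw [hσ i] at h1
    exact (((C.pow m).he i).smul_injective h1).symm
  intro i j
  have := ((C.pow m).data σ).hcu i j
  rw [← hcx i, ← hcx j]
  exact this

theorem Good.cast {C : GenCover L} {W : X.Opens} {m m' : ℕ} (h : m = m') {x : ∀ i, Γ(X, C.V i)}
    (hx : Good C W m x) : Good C W m' x := h ▸ hx

theorem Good.zero (hL : PicF.IsInvertible L) (C : GenCover L) (W : X.Opens) (m : ℕ) :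
    Good C W m (fun _ => 0) := by
  have h0 := Groth.Agent.Lib.Lead.Inv.genLocus_zero
    (Groth.Agent.Lib.Helper35.Gen.isInvertible_tensorPow hL m)
  refine ⟨0, fun i => ?_, ?_, ?_⟩
  · rw [zero_smul]; rfl
  · rw [h0]; exact isAffineOpen_bot X
  · rw [h0]; exact bot_le

theorem Good.add (hL : PicF.IsInvertible L) {C : GenCover L} {W : X.Opens} {m : ℕ}
    {x y : ∀ i, Γ(X, C.V i)} (hx : Good C W m x) (hy : Good C W m y) :
    Good C W m (fun i => x i + y i) := by
  obtain ⟨σ, hσ, haσ, hWσ⟩ := hx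
  obtain ⟨τ, hτ, haτ, hWτ⟩ := hy
  have hM := Groth.Agent.Lib.Helper35.Gen.isInvertible_tensorPow hL m
  refine ⟨σ + τ, fun i => ?_, ?_, ?_⟩
  · rw [add_smul, ← hσ i, ← hτ i]; rfl
  · exact Groth.Agent.Lib.Lead.Inv.isAffineOpen_genLocus_add hM σ τ haσ haτ
  · exact (Groth.Agent.Lib.Lead.Inv.genLocus_add_le hM σ τ).trans (sup_le hWσ hWτ)

theorem Good.sum (hL : PicF.IsInvertible L) {C : GenCover L} {W : X.Opens} {m : ℕ}
    {κ : Type*} (S : Finset κ) (f : κ → ∀ i, Γ(X, C.V i)) (hf : ∀ a ∈ S, Good C W m (f a)) :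
    Good C W m (fun i => ∑ a ∈ S, f a i) := by
  classical
  induction S using Finset.induction_on with
  | empty => simpa using Good.zero hL C W m
  | insert a S ha ih =>
    have h1 := Good.add hL (hf a (Finset.mem_insert_self a S))
      (ih fun b hb => hf b (Finset.mem_insert_of_mem hb))
    have : (fun i => ∑ b ∈ insert a S, f b i) = fun i => f a i + ∑ b ∈ S, f b i := by
      funext i
      rw [Finset.sum_insert ha]
    rw [this]
    exact h1

theorem Good.mul_coc (hL : PicF.IsInvertible L) {C : GenCover L} {W : X.Opens} {m m' : ℕ}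
    {x y : ∀ i, Γ(X, C.V i)} (hx : Good C W m x) (hy : Coc C m' y) :
    Good C W (m + m') (fun i => x i * y i) := by
  obtain ⟨σ, hσ, haff, hW⟩ := hx
  have hxc : Coc C m x := coc_of_val C σ x hσ
  have hxy : ∀ i j, rr X (inf_le_left : C.V i ⊓ C.V j ≤ C.V i) (x i * y i) =
      C.u i j ^ (m + m') * rr X (inf_le_right : C.V i ⊓ C.V j ≤ C.V j) (x j * y j) := by
    intro i j
    rw [map_mul, map_mul, hxc i j, hy i j, pow_add]
    ring
  obtain ⟨τ', hτ'⟩ := Groth.Agent.S2153.exists_glue_coeff C (m + m') (fun i => x i * y i) hxy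
  have hval : ∀ i, SecTwist.val (secHom (CohB1.tensorPow L (m + m')) τ') (C.V i) =
      (x i * y i) • gpow (C.e i) (m + m') := by
    intro i
    rw [val_secHom]
    exact hτ' i
  have hle : CohB1.genLocus _ (secHom (CohB1.tensorPow L (m + m')) τ') ≤ CohB1.genLocus _ σ := by
    intro z hz
    obtain ⟨i, hi⟩ := C.cover z
    have h1 : CohB1.genLocus _ (secHom (CohB1.tensorPow L (m + m')) τ') ⊓ C.V i =
        X.basicOpen (x i * y i) :=
      genLocus_inf_eq_basicOpen (secHom (CohB1.tensorPow L (m + m')) τ')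
        ((C.pow (m + m')).he i) (x i * y i) (hval i)
    have h2 : CohB1.genLocus _ σ ⊓ C.V i = X.basicOpen (x i) :=
      genLocus_inf_eq_basicOpen σ ((C.pow m).he i) (x i) (hσ i)
    have h3 : z ∈ X.basicOpen (x i * y i) := by
      rw [← h1]; exact ⟨hz, hi⟩
    rw [Scheme.basicOpen_mul] at h3
    have h4 : z ∈ CohB1.genLocus _ σ ⊓ C.V i := by
      rw [h2]; exact h3.1
    exact h4.1
  refine ⟨secHom _ τ', hval, ?_, hle.trans hW⟩
  have := Groth.Agent.Lib.Lead.Inv.isAffineOpen_inf_genLocus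
    (Groth.Agent.Lib.Helper35.Gen.isInvertible_tensorPow hL (m + m'))
    (secHom (CohB1.tensorPow L (m + m')) τ') haff
  rwa [inf_eq_right.mpr hle] at this

variable {σ : Type*} [Fintype σ]

theorem coc_ev (C : GenCover L) (n : ℕ) (c : σ → ∀ i, Γ(X, C.V i)) (hc : ∀ l, Coc C n (c l))
    {P : MvPolynomial σ ℤ} {d : ℕ} (hP : P.IsHomogeneous d) :
    Coc C (n * d) (fun i => ev (fun l => c l i) P) := by
  intro i j
  change rr X _ (ev (fun l => c l i) P) = _ * rr X _ (ev (fun l => c l j) P)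
  rw [ev_map (rr X _), ev_map (rr X _)]
  have : (fun l => rr X (inf_le_left : C.V i ⊓ C.V j ≤ C.V i) (c l i)) =
      fun l => C.u i j ^ n * rr X (inf_le_right : C.V i ⊓ C.V j ≤ C.V j) (c l j) :=
    funext fun l => hc l i j
  rw [this, ev_scale _ _ hP, pow_mul]

theorem good_ev (hL : PicF.IsInvertible L) (C : GenCover L) (W : X.Opens) (n : ℕ)
    (c : σ → ∀ i, Γ(X, C.V i)) (hc : ∀ l, Coc C n (c l)) (hg : ∀ l, Good C W n (c l))
    {P : MvPolynomial σ ℤ} {d : ℕ} (hd : 0 < d) (hP : P.IsHomogeneous d) :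
    Good C W (n * d) (fun i => ev (fun l => c l i) P) := by
  classical
  have hsum : (fun i => ev (fun l => c l i) P) =
      fun i => ∑ a ∈ P.support, ev (fun l => c l i) (MvPolynomial.monomial a (MvPolynomial.coeff a P)) := by
    funext i
    rw [← map_sum, MvPolynomial.support_sum_monomial_coeff]
  rw [hsum]
  refine Good.sum hL P.support _ fun a ha => ?_
  have hdeg : a.degree = d := by
    have := hP (MvPolynomial.mem_support_iff.mp ha)
    rw [Finsupp.degree_eq_weight_one]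
    exact this
  obtain ⟨l₀, hl₀⟩ : ∃ l₀, a l₀ ≠ 0 := by
    by_contra hcon
    push Not at hcon
    have : a = 0 := Finsupp.ext hcon
    rw [this] at hdeg
    simp at hdeg
    omega
  set a' : σ →₀ ℕ := a - Finsupp.single l₀ 1 with ha'
  have haa : Finsupp.single l₀ 1 + a' = a := by
    rw [ha']
    refine add_tsub_cancel_of_le ?_
    rw [Finsupp.single_le_iff]
    omega
  have hdeg' : a'.degree = d - 1 := by
    have := congrArg Finsupp.degree haa
    rw [map_add, Finsupp.degree_single, hdeg] at this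
    omega
  have hmon : MvPolynomial.monomial a (MvPolynomial.coeff a P) =
      MvPolynomial.X l₀ * MvPolynomial.monomial a' (MvPolynomial.coeff a P) := by
    rw [MvPolynomial.X, MvPolynomial.monomial_mul, one_mul, haa]
  have hfam : (fun i => ev (fun l => c l i) (MvPolynomial.monomial a (MvPolynomial.coeff a P))) =
      fun i => c l₀ i * ev (fun l => c l i) (MvPolynomial.monomial a' (MvPolynomial.coeff a P)) := by
    funext i
    rw [hmon, map_mul, ev_X]
  rw [hfam]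
  have h1 := Good.mul_coc hL (hg l₀)
    (coc_ev C n c hc (MvPolynomial.isHomogeneous_monomial (MvPolynomial.coeff a P) hdeg'))
  refine Good.cast ?_ h1
  obtain ⟨d', rfl⟩ : ∃ d', d = d' + 1 := ⟨d - 1, by omega⟩
  simp only [Nat.add_sub_cancel]
  ring

theorem exists_chart {Y : Scheme.{u}} [IsAffine Y] [Finite σ] (e₀ : Γ(Y, ⊤))
    (a : σ → Γ(Y, Y.basicOpen e₀)) :
    ∃ (N : ℕ) (x : σ → Γ(Y, ⊤)), ∀ l,
      rr Y (le_top : Y.basicOpen e₀ ≤ ⊤) (x l) = rr Y le_top e₀ ^ N * a l := by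
  haveI : IsLocalization.Away e₀ Γ(Y, Y.basicOpen e₀) :=
    (isAffineOpen_top Y).isLocalization_basicOpen e₀
  obtain ⟨⟨b, N, rfl⟩, hb⟩ :=
    IsLocalization.exist_integer_multiples_of_finite (Submonoid.powers e₀) a
  choose x hx using hb
  refine ⟨N, x, fun l => ?_⟩
  have := hx l
  rw [Algebra.smul_def, map_pow] at this
  exact this

theorem mem_basicOpen_chart {Y : Scheme.{u}} (g : Y ⟶ X) (V : X.Opens) (e₀ : Γ(Y, ⊤))
    (hD : Y.basicOpen e₀ ≤ g ⁻¹ᵁ V) (f : Γ(X, V)) (z : Γ(Y, ⊤)) (M : ℕ)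
    (hz : rr Y (le_top : Y.basicOpen e₀ ≤ ⊤) z =
      rr Y le_top e₀ ^ M * rr Y hD ((g.app V).hom f))
    (y : Y) (hy : y ∈ Y.basicOpen e₀) :
    g y ∈ X.basicOpen f ↔ y ∈ Y.basicOpen z := by
  have h1 : Y.basicOpen (rr Y (le_top : Y.basicOpen e₀ ≤ ⊤) z) = Y.basicOpen e₀ ⊓ Y.basicOpen z :=
    Scheme.basicOpen_res _ _ _
  have h2 : Y.basicOpen (rr Y hD ((g.app V).hom f)) =
      Y.basicOpen e₀ ⊓ Y.basicOpen ((g.app V).hom f) := Scheme.basicOpen_res _ _ _
  have hu : IsUnit (rr Y (le_top : Y.basicOpen e₀ ≤ ⊤) e₀ ^ M) :=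
    (RingedSpace.isUnit_res_basicOpen _ e₀).pow M
  have h3 : Y.basicOpen (rr Y (le_top : Y.basicOpen e₀ ≤ ⊤) e₀ ^ M) = Y.basicOpen e₀ :=
    Y.basicOpen_of_isUnit hu
  have h4 : g ⁻¹ᵁ X.basicOpen f = Y.basicOpen ((g.app V).hom f) := Scheme.preimage_basicOpen g f
  have h5 : (g y ∈ X.basicOpen f) ↔ y ∈ Y.basicOpen ((g.app V).hom f) := by
    rw [← h4]; rfl
  rw [h5]
  have h6 : Y.basicOpen e₀ ⊓ Y.basicOpen z = Y.basicOpen e₀ ⊓ Y.basicOpen ((g.app V).hom f) := by
    rw [← h1, hz, Scheme.basicOpen_mul, h3, h2, ← inf_assoc, inf_idem]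
  constructor
  · intro h
    have : y ∈ Y.basicOpen e₀ ⊓ Y.basicOpen z := by rw [h6]; exact ⟨hy, h⟩
    exact this.2
  · intro h
    have : y ∈ Y.basicOpen e₀ ⊓ Y.basicOpen ((g.app V).hom f) := by rw [← h6]; exact ⟨hy, h⟩
    exact this.2

end Geo


section Main

theorem finite_comap' {σ : Type*} [Fintype σ] {k R : Type*} [Field k] [CommRing R] (φ : k →+* R)
    (hφ : φ.IsIntegral) (x : σ → R) :
    {𝔭 : Ideal (MvPolynomial σ ℤ) | ∃ q : Ideal R, q.IsPrime ∧ 𝔭 = Ideal.comap (ev x) q}.Finite := by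
  letI := φ.toAlgebra
  haveI : Algebra.IsIntegral k R := ⟨hφ⟩
  exact finite_comap (k := k) x

end Main


/-- Let X be a scheme and L an ample invertible O_X-module. Let k be a field, A a k-algebra every
element of which is integral over k (an integral extension of k, not necessarily a domain), W an
open subset of X and g : Spec A → X a morphism whose image lies in W. Then there are an integer n ≥
1 and a global section s of the n-th tensor power of L such that the open X_s (where s generates) is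
affine, is contained in W, and contains the image of g, so that g factors through X_s. -/
theorem result {X : Scheme.{u}} (L : X.Modules) (hL : CohB1.IsAmple L)
    (k A : Type u) [Field k] [CommRing A] [Algebra k A] [Algebra.IsIntegral k A]
    (W : X.Opens) (g : Spec (CommRingCat.of A) ⟶ X) (hg : Set.range g.base ⊆ (W : Set X)) :
    ∃ (n : ℕ) (s : Coh.structureModule X ⟶ CohB1.tensorPow L (n + 1)),
      IsAffineOpen (CohB1.genLocus _ s) ∧ CohB1.genLocus _ s ≤ W ∧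
        Set.range g.base ⊆ (CohB1.genLocus _ s : Set X) := by
  classical
  have hInv := hL.1
  haveI := hL.2.1
  -- Step 0: sections
  choose n₀ t₀ hmem₀ hle₀ haff₀ using fun q : Spec (CommRingCat.of A) =>
    Groth.Agent.Lib.Lead.Inv.exists_affine_section_le hL W (g q) (hg ⟨q, rfl⟩)
  obtain ⟨F, hF⟩ := isCompact_univ.elim_finite_subcover
    (fun q : Spec (CommRingCat.of A) => ((g ⁻¹ᵁ CohB1.genLocus _ (t₀ q) :
      (Spec (CommRingCat.of A)).Opens) : Set (Spec (CommRingCat.of A))))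
    (fun q => (g ⁻¹ᵁ CohB1.genLocus _ (t₀ q)).2) (fun q _ => Set.mem_iUnion.mpr ⟨q, hmem₀ q⟩)
  let n : ℕ := ∏ q ∈ F, (n₀ q + 1)
  have hn : 0 < n := Finset.prod_pos (fun q _ => Nat.succ_pos _)
  have key : ∀ q ∈ F, ∃ s' : Coh.structureModule X ⟶ CohB1.tensorPow L n,
      CohB1.genLocus _ s' = CohB1.genLocus _ (t₀ q) := by
    intro q hq
    obtain ⟨r, hr⟩ : (n₀ q + 1) ∣ n := Finset.dvd_prod_of_mem (fun q => n₀ q + 1) hq
    have hr0 : r ≠ 0 := by
      rintro rfl
      rw [Nat.mul_zero] at hr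
      exact hn.ne' hr
    obtain ⟨r', rfl⟩ := Nat.exists_eq_succ_of_ne_zero hr0
    obtain ⟨s₁, hs₁⟩ := Groth.Agent.Lib.Lead.Inv.exists_pow_section hInv (t₀ q) r'
    obtain ⟨s₂, hs₂⟩ := Groth.Agent.Lib.Lead.Inv.exists_cast_section L hr.symm s₁
    exact ⟨s₂, hs₂.trans hs₁⟩
  let σ := {q // q ∈ F}
  choose s hs using (fun l : σ => key l.1 l.2)
  have hs_aff : ∀ l, IsAffineOpen (CohB1.genLocus _ (s l)) := fun l => by
    rw [hs]; exact haff₀ _
  have hs_le : ∀ l, CohB1.genLocus _ (s l) ≤ W := fun l => by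
    rw [hs]; exact hle₀ _
  have hs_cov : ∀ y : Spec (CommRingCat.of A), ∃ l : σ, g y ∈ CohB1.genLocus _ (s l) := by
    intro y
    have hy := hF (Set.mem_univ y)
    obtain ⟨q, hq⟩ := Set.mem_iUnion.mp hy
    obtain ⟨hqF, hyq⟩ := Set.mem_iUnion.mp hq
    refine ⟨⟨q, hqF⟩, ?_⟩
    rw [hs]
    exact hyq
  -- cover with generators
  obtain ⟨C⟩ := exists_genCover hInv
  let c : σ → ∀ i, Γ(X, C.V i) := fun l i => (C.pow n).c (s l) i
  have hc_spec : ∀ l i, SecTwist.val (s l) (C.V i) = c l i • gpow (C.e i) n :=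
    fun l i => (C.pow n).c_spec (s l) i
  have hc_good : ∀ l, Good C W n (c l) := fun l => ⟨s l, hc_spec l, hs_aff l, hs_le l⟩
  have hc_coc : ∀ l, Coc C n (c l) := fun l => coc_of_val C (s l) (c l) (hc_spec l)
  have hc_open : ∀ l i, CohB1.genLocus _ (s l) ⊓ C.V i = X.basicOpen (c l i) := fun l i =>
    genLocus_inf_eq_basicOpen (s l) ((C.pow n).he i) (c l i) (hc_spec l i)
  -- charts on `Spec A`
  have hchart : ∀ y : Spec (CommRingCat.of A), ∃ (i : C.ι)
      (e₀ : Γ(Spec (CommRingCat.of A), ⊤)), y ∈ (Spec (CommRingCat.of A)).basicOpen e₀ ∧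
        (Spec (CommRingCat.of A)).basicOpen e₀ ≤ g ⁻¹ᵁ C.V i := by
    intro y
    obtain ⟨i, hi⟩ := C.cover (g y)
    obtain ⟨e₀, h1, h2⟩ := (isAffineOpen_top (Spec (CommRingCat.of A))).exists_basicOpen_le
      (V := g ⁻¹ᵁ C.V i) ⟨y, hi⟩ (Opens.mem_top y)
    exact ⟨i, e₀, h2, h1⟩
  choose ich e₀ hye hDe using hchart
  obtain ⟨F', hF'⟩ := isCompact_univ.elim_finite_subcover
    (fun y : Spec (CommRingCat.of A) => (((Spec (CommRingCat.of A)).basicOpen (e₀ y) :
      (Spec (CommRingCat.of A)).Opens) : Set (Spec (CommRingCat.of A))))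
    (fun y => ((Spec (CommRingCat.of A)).basicOpen (e₀ y)).2)
    (fun y _ => Set.mem_iUnion.mpr ⟨y, hye y⟩)
  have hNx : ∀ y' : Spec (CommRingCat.of A), ∃ (N : ℕ)
      (x : σ → Γ(Spec (CommRingCat.of A), ⊤)), ∀ l,
      rr (Spec (CommRingCat.of A)) (le_top : (Spec (CommRingCat.of A)).basicOpen (e₀ y') ≤ ⊤) (x l) =
        rr (Spec (CommRingCat.of A)) le_top (e₀ y') ^ N *
          rr (Spec (CommRingCat.of A)) (hDe y') ((g.app (C.V (ich y'))).hom (c l (ich y'))) :=
    fun y' => exists_chart (e₀ y') _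
  choose N x hx using hNx
  -- the integral structure on global functions of `Spec A`
  let ψ : A →+* Γ(Spec (CommRingCat.of A), ⊤) := (Scheme.ΓSpecIso (CommRingCat.of A)).inv.hom
  have hψsurj : Function.Surjective ψ := by
    intro r
    refine ⟨(Scheme.ΓSpecIso (CommRingCat.of A)).hom.hom r, ?_⟩
    change ((Scheme.ΓSpecIso (CommRingCat.of A)).hom ≫ (Scheme.ΓSpecIso (CommRingCat.of A)).inv) r = r
    rw [Iso.hom_inv_id]
    rfl
  have hφint : (ψ.comp (algebraMap k A)).IsIntegral :=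
    RingHom.IsIntegral.trans _ _ (algebraMap_isIntegral_iff.mpr inferInstance)
      (RingHom.isIntegral_of_surjective ψ hψsurj)
  -- the finitely many primes
  let PP : Set (Ideal (MvPolynomial σ ℤ)) := {𝔭 | ∃ y' ∈ F', ∃ y ∈
    (Spec (CommRingCat.of A)).basicOpen (e₀ y'), 𝔭 = Ideal.comap (ev (x y')) (ptIdeal ⊤ y)}
  have hPPfin : PP.Finite := by
    refine (Set.Finite.biUnion F'.finite_toSet
      (fun y' _ => finite_comap' (ψ.comp (algebraMap k A)) hφint (x y'))).subset ?_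
    rintro 𝔭 ⟨y', hy', y, hy, rfl⟩
    exact Set.mem_biUnion hy' ⟨ptIdeal ⊤ y, ptIdeal_isPrime (Opens.mem_top y), rfl⟩
  -- the key equivalence
  have hkey : ∀ (y' y : Spec (CommRingCat.of A))
      (_ : y ∈ (Spec (CommRingCat.of A)).basicOpen (e₀ y')) (P : MvPolynomial σ ℤ) (d : ℕ)
      (_ : P.IsHomogeneous d),
      g y ∈ X.basicOpen (ev (fun l => c l (ich y')) P) ↔ ev (x y') P ∉ ptIdeal ⊤ y := by
    intro y' y hy P d hP
    rw [mem_ptIdeal, not_not]
    refine mem_basicOpen_chart g (C.V (ich y')) (e₀ y') (hDe y') _ _ (N y' * d) ?_ y hy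
    rw [ev_map (rr _ _), ev_map (g.app (C.V (ich y'))).hom, ev_map (rr _ _)]
    have : (fun l => rr (Spec (CommRingCat.of A))
        (le_top : (Spec (CommRingCat.of A)).basicOpen (e₀ y') ≤ ⊤) (x y' l)) =
        fun l => rr (Spec (CommRingCat.of A)) le_top (e₀ y') ^ N y' *
          rr (Spec (CommRingCat.of A)) (hDe y') ((g.app (C.V (ich y'))).hom (c l (ich y'))) :=
      funext fun l => hx y' l
    rw [this, ev_scale _ _ hP, pow_mul]
  have hPPprime : ∀ 𝔭 ∈ PP, 𝔭.IsPrime := by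
    rintro 𝔭 ⟨y', -, y, -, rfl⟩
    haveI := ptIdeal_isPrime (V := (⊤ : (Spec (CommRingCat.of A)).Opens)) (Opens.mem_top y)
    exact Ideal.comap_isPrime _ _
  have hPPX : ∀ 𝔭 ∈ PP, ∃ l, (MvPolynomial.X l : MvPolynomial σ ℤ) ∉ 𝔭 := by
    rintro 𝔭 ⟨y', -, y, hy, rfl⟩
    obtain ⟨l, hl⟩ := hs_cov y
    refine ⟨l, ?_⟩
    rw [Ideal.mem_comap]
    refine (hkey y' y hy (MvPolynomial.X l) 1 (MvPolynomial.isHomogeneous_X ℤ l)).mp ?_
    rw [ev_X, ← hc_open l (ich y')]
    exact ⟨hl, hDe y' hy⟩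
  obtain ⟨d, P, hd, hP, hPavoid⟩ := exists_poly PP hPPfin hPPprime hPPX
  obtain ⟨τ, hτval, hτaff, hτW⟩ := good_ev hInv C W n c hc_coc hc_good hd hP
  obtain ⟨m, hm⟩ : ∃ m, n * d = m + 1 := ⟨n * d - 1, by
    have := Nat.mul_pos hn hd
    omega⟩
  obtain ⟨τ', hτ'⟩ := Groth.Agent.Lib.Lead.Inv.exists_cast_section L hm τ
  refine ⟨m, τ', by rw [hτ']; exact hτaff, by rw [hτ']; exact hτW, ?_⟩
  rintro _ ⟨y, rfl⟩
  rw [hτ']
  have hy := hF' (Set.mem_univ y)
  obtain ⟨y', hy'⟩ := Set.mem_iUnion.mp hy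
  obtain ⟨hy'F, hyy'⟩ := Set.mem_iUnion.mp hy'
  have hopen : CohB1.genLocus _ τ ⊓ C.V (ich y') =
      X.basicOpen (ev (fun l => c l (ich y')) P) :=
    genLocus_inf_eq_basicOpen τ ((C.pow (n * d)).he (ich y')) _ (hτval (ich y'))
  have h1 : g y ∈ X.basicOpen (ev (fun l => c l (ich y')) P) := by
    refine (hkey y' y hyy' P d hP).mpr ?_
    have := hPavoid _ ⟨y', hy'F, y, hyy', rfl⟩
    rwa [Ideal.mem_comap] at this
  rw [← hopen] at h1
  exact h1.1

end Groth.Agent.S9222
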