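import Groth.Statements.S9224
import Groth.Agent.Lib.Helper50.SpreadClosed

set_option autoImplicit false
universe u
open CategoryTheory CategoryTheory.Limits AlgebraicGeometry
open Lim

namespace Groth.Agent.S9224

/-- Let f : X → S be a quasi-compact morphism, g : T → S a morphism, t a point of T and Z a closed
subset of X_T = X ×_S T which does not meet the fibre of X_T → T over t. Then there exist an affine
open neighbourhood V of t in T, an affine scheme T' with a morphism b : T' → S locally of finite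
presentation, a morphism a : V → T' whose composite with b is the restriction of g, and a closed
subset Z' of X_{T'} = X ×_S T' which does not meet the fibre over t' = a(t), such that the induced
morphism X_V → X_{T'} maps every point of X_V lying over Z (under X_V → X_T) into Z'. The morphisms
X_V → X_T and X_V → X_{T'} are the canonical ones, characterised by their projections. -/
theorem result {X S T : Scheme.{u}} (f : X ⟶ S) [QuasiCompact f] (g : T ⟶ S) (t : T)
    (Z : Set ↥(pullback f g)) (hZ : IsClosed Z) (hZt : ∀ z ∈ Z, (pullback.snd f g).base z ≠ t) :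
    ∃ (V : T.Opens) (ht : t ∈ V) (T' : Scheme.{u}) (b : T' ⟶ S) (a : (V : Scheme.{u}) ⟶ T')
      (n : pullback f (V.ι ≫ g) ⟶ pullback f g) (m : pullback f (V.ι ≫ g) ⟶ pullback f b)
      (Z' : Set ↥(pullback f b)),
      IsAffineOpen V ∧ IsAffine T' ∧ LocallyOfFinitePresentation b ∧ a ≫ b = V.ι ≫ g ∧
      n ≫ pullback.fst f g = pullback.fst f (V.ι ≫ g) ∧ n ≫ pullback.snd f g = pullback.snd f (V.ι ≫ g) ≫ V.ι ∧
      m ≫ pullback.fst f b = pullback.fst f (V.ι ≫ g) ∧ m ≫ pullback.snd f b = pullback.snd f (V.ι ≫ g) ≫ a ∧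
      IsClosed Z' ∧ (∀ z' ∈ Z', (pullback.snd f b).base z' ≠ a.base ⟨t, ht⟩) ∧
      ∀ z : ↥(pullback f (V.ι ≫ g)), n.base z ∈ Z → m.base z ∈ Z' := by
  classical
  -- affine opens
  obtain ⟨_, ⟨(U : S.Opens), hU : IsAffineOpen U, rfl⟩, hsU, -⟩ :=
    S.isBasis_affineOpens.exists_subset_of_mem_open (Set.mem_univ (g.base t)) isOpen_univ
  obtain ⟨_, ⟨(V : T.Opens), hV : IsAffineOpen V, rfl⟩, htV, hVU⟩ :=
    T.isBasis_affineOpens.exists_subset_of_mem_open
      (show t ∈ ((g ⁻¹ᵁ U : T.Opens) : Set T) from hsU) (g ⁻¹ᵁ U).2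
  have hVU' : V ≤ g ⁻¹ᵁ U := hVU
  letI : Algebra Γ(S, U) Γ(T, V) := (g.appLE U V hVU').hom.toAlgebra
  have hβ : Spec.map (CommRingCat.ofHom (algebraMap Γ(S, U) Γ(T, V))) ≫ hU.fromSpec =
      hV.fromSpec ≫ g := IsAffineOpen.SpecMap_appLE_fromSpec g hU hV hVU'
  -- transport `Z` to the pullback over `Spec B`
  let n' : pullback f (Spec.map (CommRingCat.ofHom (algebraMap Γ(S, U) Γ(T, V))) ≫ hU.fromSpec) ⟶
      pullback f g :=
    pullback.map f _ f g (𝟙 X) hV.fromSpec (𝟙 S) (by simp) (by rw [Category.comp_id]; exact hβ)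
  have hn'1 : n' ≫ pullback.fst f g = pullback.fst f _ :=
    (pullback.lift_fst _ _ _).trans (Category.comp_id _)
  have hn'2 : n' ≫ pullback.snd f g = pullback.snd f _ ≫ hV.fromSpec := pullback.lift_snd _ _ _
  have hιt : hV.fromSpec.base (hV.isoSpec.hom.base ⟨t, htV⟩) = t := by
    rw [← Scheme.Hom.comp_apply, hV.isoSpec_hom_fromSpec]
    rfl
  obtain ⟨N, ψ, m', Z', hm1, hm2, hZ'c, hZ't, hZ'C⟩ :=
    Groth.Agent.Lib.Helper50.spread_closed f hU.fromSpec (hV.isoSpec.hom.base ⟨t, htV⟩)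
      (n'.base ⁻¹' Z) (hZ.preimage n'.continuous) (by
        intro z hz hzt
        apply hZt (n'.base z) hz
        rw [← Scheme.Hom.comp_apply, hn'2, Scheme.Hom.comp_apply, hzt, hιt])
  have hab : (hV.isoSpec.hom ≫ Spec.map (CommRingCat.ofHom ψ.toRingHom)) ≫
      (Spec.map (CommRingCat.ofHom (algebraMap Γ(S, U) (MvPolynomial (Fin N) Γ(S, U)))) ≫
        hU.fromSpec) = V.ι ≫ g := by
    rw [Category.assoc, ← Category.assoc (Spec.map _), ← Spec.map_comp]
    have e : CommRingCat.ofHom (algebraMap Γ(S, U) (MvPolynomial (Fin N) Γ(S, U))) ≫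
        CommRingCat.ofHom ψ.toRingHom = CommRingCat.ofHom (algebraMap Γ(S, U) Γ(T, V)) := by
      refine CommRingCat.hom_ext (RingHom.ext fun x => ?_)
      exact ψ.commutes x
    rw [e, hβ, hV.isoSpec_hom_fromSpec_assoc]
  -- the comparison map from the pullback over `V`
  let e : pullback f (V.ι ≫ g) ⟶
      pullback f (Spec.map (CommRingCat.ofHom (algebraMap Γ(S, U) Γ(T, V))) ≫ hU.fromSpec) :=
    pullback.map f (V.ι ≫ g) f _ (𝟙 X) hV.isoSpec.hom (𝟙 S) (by simp)
      (by rw [Category.comp_id, hβ, hV.isoSpec_hom_fromSpec_assoc])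
  have he1 : e ≫ pullback.fst f _ = pullback.fst f (V.ι ≫ g) :=
    (pullback.lift_fst _ _ _).trans (Category.comp_id _)
  have he2 : e ≫ pullback.snd f _ = pullback.snd f (V.ι ≫ g) ≫ hV.isoSpec.hom :=
    pullback.lift_snd _ _ _
  refine ⟨V, htV, Spec (CommRingCat.of (MvPolynomial (Fin N) Γ(S, U))),
    Spec.map (CommRingCat.ofHom (algebraMap Γ(S, U) (MvPolynomial (Fin N) Γ(S, U)))) ≫ hU.fromSpec,
    hV.isoSpec.hom ≫ Spec.map (CommRingCat.ofHom ψ.toRingHom), e ≫ n', e ≫ m', Z',
    hV, inferInstance, ?_, hab, ?_, ?_, ?_, ?_, hZ'c, ?_, ?_⟩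
  · have h1 : LocallyOfFinitePresentation
        (Spec.map (CommRingCat.ofHom (algebraMap Γ(S, U) (MvPolynomial (Fin N) Γ(S, U))))) := by
      rw [LocallyOfFinitePresentation.SpecMap_iff]
      exact RingHom.finitePresentation_algebraMap.2 inferInstance
    infer_instance
  · rw [Category.assoc, hn'1, he1]
  · rw [Category.assoc, hn'2, ← Category.assoc, he2, Category.assoc, hV.isoSpec_hom_fromSpec]
  · rw [Category.assoc, hm1, he1]
  · rw [Category.assoc, hm2, ← Category.assoc, he2, Category.assoc]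
  · intro z' hz'
    have := hZ't z' hz'
    rwa [Scheme.Hom.comp_apply]
  · intro z hz
    rw [Scheme.Hom.comp_apply] at hz ⊢
    exact hZ'C _ hz

end Groth.Agent.S9224
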