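import Groth.Statements.S9226
import Mathlib
import Groth.Agent.S9225
import Groth.Agent.Lib.Helper76.RegularLocal
-- import your own Groth.Agent.* helpers here

set_option autoImplicit false
universe u
open CAlg

namespace Groth.Agent.S9226

open IsLocalRing RingTheory.Sequence Groth.Agent.Lib.Helper76

theorem key (m : ℕ) : ∀ (R : Type u) [CommRing R] [IsRegularLocalRing R] (f : Fin m → R),
    (∀ j, f j ∈ maximalIdeal R) →
    (∀ a : Fin m → R, ∑ j, a j * f j ∈ maximalIdeal R ^ 2 → ∀ j, a j ∈ maximalIdeal R) →
    IsRegularLocalRing (R ⧸ Ideal.span (Set.range f)) ∧ IsRegular R (List.ofFn f) := by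
  induction m with
  | zero =>
    intro R _ _ f _ _
    constructor
    · have h : Ideal.span (Set.range f) = ⊥ := by
        rw [Set.range_eq_empty, Ideal.span_empty]
      exact IsRegularLocalRing.of_ringEquiv
        ((Ideal.quotEquivOfEq h).trans (RingEquiv.quotientBot R)).symm
    · simp only [List.ofFn_zero]
      exact IsRegular.nil R R
  | succ m ih =>
    intro R _ _ f hf hP
    have hx2 : f 0 ∉ maximalIdeal R ^ 2 := by
      intro h
      have := hP (Pi.single 0 1) (by simpa [Pi.single_apply] using h) 0
      simp only [Pi.single_eq_same] at this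
      exact (maximalIdeal.isMaximal R).ne_top ((Ideal.eq_top_iff_one _).2 this)
    have hx0 : f 0 ≠ 0 := fun h => hx2 (h ▸ zero_mem _)
    have hdom : IsDomain R := isDomain_of_isRegularLocalRing R
    obtain ⟨hreg, -⟩ := isRegularLocalRing_quotient_of_notMem_sq R (f 0) (hf 0) hx2
    have hloc' : IsLocalRing (R ⧸ Ideal.span ({f 0} : Set R)) := hreg.toIsLocalRing
    set π := Ideal.Quotient.mk (Ideal.span ({f 0} : Set R)) with hπ
    have hπs : Function.Surjective π := Ideal.Quotient.mk_surjective
    have hmem' : ∀ r : R, r ∈ maximalIdeal R ↔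
        π r ∈ maximalIdeal (R ⧸ Ideal.span ({f 0} : Set R)) := by
      intro r
      have : IsLocalHom π := hπs.isLocalHom π
      rw [mem_maximalIdeal, mem_maximalIdeal, map_mem_nonunits_iff]
    have hmap : (maximalIdeal R).map π = maximalIdeal (R ⧸ Ideal.span ({f 0} : Set R)) := by
      apply le_antisymm
      · rw [Ideal.map_le_iff_le_comap]
        intro r hr
        exact (hmem' r).1 hr
      · intro y hy
        obtain ⟨r, rfl⟩ := hπs y
        exact Ideal.mem_map_of_mem π ((hmem' r).2 hy)
    have hP' : ∀ a' : Fin m → R ⧸ Ideal.span ({f 0} : Set R),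
        ∑ j, a' j * π (f j.succ) ∈ maximalIdeal (R ⧸ Ideal.span ({f 0} : Set R)) ^ 2 →
        ∀ j, a' j ∈ maximalIdeal (R ⧸ Ideal.span ({f 0} : Set R)) := by
      intro a' ha' j
      choose a haa using fun j => hπs (a' j)
      rw [← hmap, ← Ideal.map_pow] at ha'
      have h1 : ∑ j, a' j * π (f j.succ) = π (∑ j, a j * f j.succ) := by
        rw [map_sum]
        apply Finset.sum_congr rfl
        intro j _
        rw [map_mul, haa]
      rw [h1, Ideal.mem_map_iff_of_surjective π hπs] at ha'
      obtain ⟨y, hy, hyeq⟩ := ha'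
      have h2 : (∑ j, a j * f j.succ) - y ∈ Ideal.span ({f 0} : Set R) := by
        rw [← Ideal.Quotient.eq_zero_iff_mem, map_sub, ← hπ, hyeq, sub_self]
      obtain ⟨c, hc⟩ := Ideal.mem_span_singleton'.1 h2
      have h3 := hP (Fin.cons (-c) a) (by
        rw [Fin.sum_univ_succ]
        simp only [Fin.cons_zero, Fin.cons_succ]
        have : -c * f 0 + ∑ j, a j * f j.succ = y := by
          rw [neg_mul, hc]; ring
        rw [this]
        exact hy) j.succ
      simp only [Fin.cons_succ] at h3
      rw [← haa j]
      exact (hmem' _).1 h3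
    obtain ⟨ih1, ih2⟩ := ih (R ⧸ Ideal.span ({f 0} : Set R)) (fun j => π (f j.succ))
      (fun j => (hmem' _).1 (hf j.succ)) hP'
    constructor
    · have e1 : (Ideal.span (Set.range fun j : Fin m => f j.succ)).map π =
          Ideal.span (Set.range fun j : Fin m => π (f j.succ)) := by
        rw [Ideal.map_span, ← Set.range_comp]
        rfl
      have e2 : Ideal.span ({f 0} : Set R) ⊔ Ideal.span (Set.range fun j : Fin m => f j.succ) =
          Ideal.span (Set.range f) := by
        rw [← Ideal.span_union]
        congr 1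
        ext z
        simp only [Set.singleton_union, Set.mem_insert_iff, Set.mem_range]
        constructor
        · rintro (rfl | ⟨j, rfl⟩)
          · exact ⟨0, rfl⟩
          · exact ⟨j.succ, rfl⟩
        · rintro ⟨i, rfl⟩
          refine Fin.cases ?_ (fun j => ?_) i
          · exact Or.inl rfl
          · exact Or.inr ⟨j, rfl⟩
      exact IsRegularLocalRing.of_ringEquiv
        (((Ideal.quotEquivOfEq e1).symm.trans
          (DoubleQuot.quotQuotEquivQuotSup (Ideal.span ({f 0} : Set R))
            (Ideal.span (Set.range fun j : Fin m => f j.succ)))).trans (Ideal.quotEquivOfEq e2))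
    · rw [List.ofFn_succ]
      refine IsRegular.of_isWeaklyRegular_of_mem_maximalIdeal R ?_ ?_
      · intro r hr
        rw [List.mem_cons, List.mem_ofFn] at hr
        rcases hr with rfl | ⟨i, rfl⟩
        · exact hf 0
        · exact hf i.succ
      · rw [isWeaklyRegular_cons_iff']
        refine ⟨IsSMulRegular.of_ne_zero hx0, ?_⟩
        rw [(quotSMulTopEquivQuotSpan R (f 0)).isWeaklyRegular_congr]
        have : (List.ofFn fun i : Fin m => f i.succ).map
            (Ideal.Quotient.mk (Ideal.span ({f 0} : Set R))) =
            List.ofFn (fun i : Fin m => π (f i.succ)) := by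
          rw [List.map_ofFn]; rfl
        rw [this]
        exact ih2.toIsWeaklyRegular


/-- Let R be a regular local ring, m ≥ 1, f_1, ..., f_m elements of the maximal ideal, and D_1, ..., D_m
derivations of R such that the determinant of the matrix (D_i(f_j)) is a unit of R. Then R/(f_1,
..., f_m) is a regular local ring and f_1, ..., f_m is a regular sequence on R. -/
theorem result (R : Type u) [CommRing R]
    [IsRegularLocalRing R] (m : ℕ) (hm : 1 ≤ m) (f : Fin m → R)
    (hf : ∀ i, f i ∈ IsLocalRing.maximalIdeal R) (D : Fin m → Derivation ℤ R R)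
    (hdet : IsUnit (Matrix.det (Matrix.of (fun i j : Fin m => D i (f j))))) :
    IsRegularLocalRing (R ⧸ Ideal.span (Set.range f)) ∧
      RingTheory.Sequence.IsRegular R (List.ofFn f) := by
  apply key m R f hf
  intro a ha
  set M : Matrix (Fin m) (Fin m) R := Matrix.of (fun i j : Fin m => D i (f j)) with hM
  have h1 : ∀ i, M.mulVec a i ∈ maximalIdeal R := by
    intro i
    have h := Groth.Agent.S9225.derivation_sq_mem (D i) (maximalIdeal R) _ ha
    rw [map_sum] at h
    have h2 : ∑ j, D i (a j * f j) = M.mulVec a i + ∑ j, f j * D i (a j) := by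
      simp only [Matrix.mulVec, dotProduct, hM, Matrix.of_apply, ← Finset.sum_add_distrib]
      apply Finset.sum_congr rfl
      intro j _
      rw [Derivation.leibniz, smul_eq_mul, smul_eq_mul]
      ring
    rw [h2] at h
    have h3 : ∑ j, f j * D i (a j) ∈ maximalIdeal R :=
      Ideal.sum_mem _ fun j _ => Ideal.mul_mem_right _ _ (hf j)
    exact (Ideal.add_mem_iff_left _ h3).1 h
  have h4 : a = M⁻¹.mulVec (M.mulVec a) := by
    rw [Matrix.mulVec_mulVec, Matrix.nonsing_inv_mul M hdet, Matrix.one_mulVec]
  intro j
  rw [h4]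
  simp only [Matrix.mulVec, dotProduct]
  exact Ideal.sum_mem _ fun i _ => Ideal.mul_mem_left _ _ (h1 i)


end Groth.Agent.S9226
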