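import Groth.Statements.S9227
import Mathlib
import Groth.Agent.S9225
-- import your own Groth.Agent.* helpers here

set_option autoImplicit false
universe u
open CAlg

namespace Groth.Agent.S9227

open Polynomial

noncomputable def coeffDer {R : Type u} [CommRing R] (D : Derivation ℤ R R) :
    Derivation ℤ R[X] R[X] :=
  letI : Differential R := ⟨D⟩
  Differential.mapCoeffs

theorem coeff_coeffDer {R : Type u} [CommRing R] (D : Derivation ℤ R R) (q : R[X]) (i : ℕ) :
    (coeffDer D q).coeff i = D (q.coeff i) := rfl


/-- Let R be a regular ring, f an element of R and D a derivation of R with D(f) a unit of R. Then for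
every polynomial p with integer coefficients the ring R[z]/(p(z) - f) is regular; in particular
R[z]/(z^n - f) is regular for every n ≥ 1. -/
theorem result (R : Type u) [CommRing R]
    [IsRegularRing R] (f : R) (D : Derivation ℤ R R) (hD : IsUnit (D f)) (p : Polynomial ℤ) :
    IsRegularRing (Polynomial R ⧸
      Ideal.span ({Polynomial.map (Int.castRingHom R) p - Polynomial.C f} : Set (Polynomial R))) := by
  apply Groth.Agent.S9225.gen_result R[X] _ (coeffDer D)
  have h1 : coeffDer D (Polynomial.map (Int.castRingHom R) p - C f) = - C (D f) := by
    ext i
    rw [coeff_coeffDer, coeff_sub, coeff_map, map_sub, eq_intCast, Derivation.map_intCast,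
      zero_sub, coeff_neg, coeff_C, coeff_C]
    split_ifs <;> simp
  rw [h1, map_neg]
  exact ((hD.map C).map _).neg


end Groth.Agent.S9227
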