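import Mathlib
-- Template for statement S9231 (row 9230; see the milestone table for weights).
-- Copy to Groth/Agent/S9231.lean and replace the sorry. The statement below is byte-identical to the frozen
-- statement CAlg.GrothFrozen.S9231 (Groth/Statements/S9231.lean; the theorem CAlg.completion_map_flat_iff_flat);
-- the grader kernel-checks Groth.Agent.S9231.result against that frozen type. Keep the theorem IN THIS FILE
-- (a `result` declared elsewhere and merely imported here is not credited); helpers may live anywhere
-- under Groth/Agent/.
import Groth.Statements.S9231
import Groth.Agent.Lib.Helper24.ComplFlatG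

set_option autoImplicit false
universe u
open CAlg

namespace Groth.Agent.S9231

/-- For a local ring map A → B between Noetherian local rings, let ψ be the induced map from the
completion of A at its maximal ideal to that of B (here: a ring map of the completions whose
composite with A → A^ is the composite A → B → B^; since A is Noetherian such a map is unique, hence
is the canonical one). Then ψ is flat exactly when A → B is flat. -/
theorem result (A B : Type u) [CommRing A] [CommRing B] [IsLocalRing A]
    [IsLocalRing B] [IsNoetherianRing A] [IsNoetherianRing B] [Algebra A B]
    [IsLocalHom (algebraMap A B)]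
    (ψ : AdicCompletion (IsLocalRing.maximalIdeal A) A →+* AdicCompletion (IsLocalRing.maximalIdeal B) B)
    (hψ : ψ.comp (algebraMap A (AdicCompletion (IsLocalRing.maximalIdeal A) A)) =
      (algebraMap B (AdicCompletion (IsLocalRing.maximalIdeal B) B)).comp (algebraMap A B)) :
    ψ.Flat ↔ (algebraMap A B).Flat := by
  constructor
  · intro hflat
    letI algRS : Algebra (AdicCompletion (IsLocalRing.maximalIdeal A) A)
        (AdicCompletion (IsLocalRing.maximalIdeal B) B) := ψ.toAlgebra
    have t2 : IsScalarTower A (AdicCompletion (IsLocalRing.maximalIdeal A) A)
        (AdicCompletion (IsLocalRing.maximalIdeal B) B) :=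
      IsScalarTower.of_algebraMap_eq (fun b => by
        rw [IsScalarTower.algebraMap_apply A B (AdicCompletion (IsLocalRing.maximalIdeal B) B)]
        exact (RingHom.congr_fun hψ b).symm)
    have : Module.Flat (AdicCompletion (IsLocalRing.maximalIdeal A) A)
        (AdicCompletion (IsLocalRing.maximalIdeal B) B) := hflat
    have : Module.Flat A (AdicCompletion (IsLocalRing.maximalIdeal B) B) :=
      Module.Flat.trans A (AdicCompletion (IsLocalRing.maximalIdeal A) A)
        (AdicCompletion (IsLocalRing.maximalIdeal B) B)
    have : Module.FaithfullyFlat B (AdicCompletion (IsLocalRing.maximalIdeal B) B) :=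
      Module.FaithfullyFlat.of_flat_of_isLocalHom
    rw [RingHom.flat_algebraMap_iff]
    exact Groth.Agent.Lib.Helper24.ComplFlatG.flat_of_faithfullyFlat_of_flat A B
      (AdicCompletion (IsLocalRing.maximalIdeal B) B)
  · intro hflat
    refine Groth.Agent.Lib.Helper24.ComplFlatG.flat_of_compat (IsLocalRing.maximalIdeal A)
      (IsLocalRing.maximalIdeal B) (algebraMap A B) hflat ?_ ψ hψ
    exact IsLocalRing.map_maximalIdeal_le (algebraMap A B)

end Groth.Agent.S9231
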