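import Groth.Statements.S9232
import Groth.Agent.Lib.Helper61.FSAdicCompl
import Mathlib.RingTheory.Flat.FaithfullyFlat.Algebra
import Mathlib.RingTheory.LocalRing.ResidueField.Basic

set_option autoImplicit false
universe u
open CAlg

namespace Groth.Agent.S9232

theorem eq_top_of_sup_smul_top_of_pow_smul_eq_bot {R M : Type*} [CommRing R] [AddCommGroup M]
    [Module R M] (I : Ideal R) (n : ℕ) (hn : I ^ n • (⊤ : Submodule R M) = ⊥) (N : Submodule R M)
    (h : N ⊔ I • (⊤ : Submodule R M) = ⊤) : N = ⊤ := by
  have key : ∀ m : ℕ, N ⊔ (I ^ m) • (⊤ : Submodule R M) = ⊤ := by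
    intro m
    induction m with
    | zero => simp
    | succ m ih =>
      rw [eq_top_iff]
      calc (⊤ : Submodule R M) = N ⊔ (I ^ m) • (⊤ : Submodule R M) := ih.symm
        _ = N ⊔ (I ^ m) • (N ⊔ I • (⊤ : Submodule R M)) := by rw [h]
        _ = N ⊔ ((I ^ m) • N ⊔ (I ^ m) • I • (⊤ : Submodule R M)) := by rw [Submodule.smul_sup]
        _ ≤ N ⊔ (I ^ (m + 1)) • (⊤ : Submodule R M) := by
          rw [← sup_assoc]
          apply sup_le_sup
          · exact sup_le le_rfl Submodule.smul_le_right
          · rw [pow_succ, Submodule.mul_smul]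
  have := key n
  rw [hn, sup_bot_eq] at this
  exact this

/-- Suppose A → B is a flat local ring map between Noetherian local rings, the maximal ideal of A
generates that of B, and the residue field map is bijective. Then the induced map between the
completions of A and B (a ring map of the completions compatible with A → B; it is unique since A is
Noetherian) is an isomorphism. -/
theorem result (A B : Type u) [CommRing A]
    [CommRing B] [IsLocalRing A] [IsLocalRing B] [IsNoetherianRing A] [IsNoetherianRing B]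
    [Algebra A B] [IsLocalHom (algebraMap A B)] [Module.Flat A B]
    (hm : Ideal.map (algebraMap A B) (IsLocalRing.maximalIdeal A) = IsLocalRing.maximalIdeal B)
    (hk : Function.Bijective (IsLocalRing.ResidueField.map (algebraMap A B)))
    (ψ : AdicCompletion (IsLocalRing.maximalIdeal A) A →+* AdicCompletion (IsLocalRing.maximalIdeal B) B)
    (hψ : ψ.comp (algebraMap A (AdicCompletion (IsLocalRing.maximalIdeal A) A)) =
      (algebraMap B (AdicCompletion (IsLocalRing.maximalIdeal B) B)).comp (algebraMap A B)) :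
    Function.Bijective ψ := by
  classical
  open IsLocalRing AdicCompletion in
  have hfgA : (maximalIdeal A).FG := IsNoetherian.noetherian _
  have hfgB : (maximalIdeal B).FG := IsNoetherian.noetherian _
  haveI : Module.FaithfullyFlat A B := Module.FaithfullyFlat.of_flat_of_isLocalHom
  have hpow : ∀ n, (maximalIdeal A ^ n).map (algebraMap A B) = maximalIdeal B ^ n := by
    intro n
    rw [Ideal.map_pow, hm]
  -- (1) elements of `A` mapping into `𝔫 ^ n` lie in `𝔪 ^ n`
  have hinj : ∀ n (a : A), algebraMap A B a ∈ maximalIdeal B ^ n → a ∈ maximalIdeal A ^ n := by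
    intro n a ha
    rw [← hpow] at ha
    have h1 : a ∈ ((maximalIdeal A ^ n).map (algebraMap A B)).comap (algebraMap A B) := ha
    rwa [Ideal.comap_map_eq_self_of_faithfullyFlat] at h1
  -- residue fields
  have hres : ∀ b : B, ∃ a : A, b - algebraMap A B a ∈ maximalIdeal B := by
    intro b
    obtain ⟨r, hr⟩ := hk.2 (residue B b)
    obtain ⟨a, rfl⟩ := residue_surjective r
    refine ⟨a, ?_⟩
    rw [ResidueField.map_residue] at hr
    rw [← residue_eq_zero_iff, map_sub, hr, sub_self]
  -- (2) approximation
  have hsurj : ∀ n (b : B), ∃ a : A, b - algebraMap A B a ∈ maximalIdeal B ^ n := by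
    intro n b
    let N : Submodule A (B ⧸ maximalIdeal B ^ n) :=
      LinearMap.range (Algebra.linearMap A (B ⧸ maximalIdeal B ^ n))
    have h1 : maximalIdeal A ^ n • (⊤ : Submodule A (B ⧸ maximalIdeal B ^ n)) = ⊥ := by
      rw [eq_bot_iff, Submodule.smul_le]
      intro r hr x _
      obtain ⟨y, rfl⟩ := Ideal.Quotient.mk_surjective x
      rw [Submodule.mem_bot, Algebra.smul_def]
      change Ideal.Quotient.mk _ (algebraMap A B r) * _ = 0
      rw [← map_mul, Ideal.Quotient.eq_zero_iff_mem]
      apply Ideal.mul_mem_right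
      rw [← hpow]
      exact Ideal.mem_map_of_mem _ hr
    have h2 : N ⊔ maximalIdeal A • (⊤ : Submodule A (B ⧸ maximalIdeal B ^ n)) = ⊤ := by
      rw [eq_top_iff]
      intro x _
      obtain ⟨y, rfl⟩ := Ideal.Quotient.mk_surjective x
      obtain ⟨a, ha⟩ := hres y
      have h3 : Ideal.Quotient.mk (maximalIdeal B ^ n) y =
          Ideal.Quotient.mk _ (algebraMap A B a) + Ideal.Quotient.mk _ (y - algebraMap A B a) := by
        rw [← map_add]
        congr 1
        ring
      rw [h3]
      refine Submodule.add_mem_sup ⟨a, rfl⟩ ?_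
      rw [Ideal.smul_top_eq_map]
      change _ ∈ (maximalIdeal A).map (algebraMap A (B ⧸ maximalIdeal B ^ n))
      have h4 : algebraMap A (B ⧸ maximalIdeal B ^ n) =
          (Ideal.Quotient.mk (maximalIdeal B ^ n)).comp (algebraMap A B) := rfl
      rw [h4, ← Ideal.map_map, hm]
      exact Ideal.mem_map_of_mem _ ha
    have h5 := eq_top_of_sup_smul_top_of_pow_smul_eq_bot (maximalIdeal A) n h1 N h2
    have h6 : Ideal.Quotient.mk (maximalIdeal B ^ n) b ∈ N := h5 ▸ Submodule.mem_top
    obtain ⟨a, ha⟩ := h6
    refine ⟨a, ?_⟩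
    rw [← Ideal.Quotient.eq]
    exact ha.symm
  -- compatibility of `ψ` with the truncations
  have hψof : ∀ a : A, ψ (of (maximalIdeal A) A a) = of (maximalIdeal B) B (algebraMap A B a) :=
    fun a => DFunLike.congr_fun hψ a
  have hψker : ∀ n (x : AdicCompletion (maximalIdeal A) A),
      x ∈ (maximalIdeal A ^ n).map (algebraMap A (AdicCompletion (maximalIdeal A) A)) →
      evalₐ (maximalIdeal B) n (ψ x) = 0 := by
    intro n x hx
    apply Groth.Agent.Lib.Helper61.FSCompl.evalₐ_eq_zero_of_mem
    have h1 : ψ x ∈ ((maximalIdeal A ^ n).map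
        (algebraMap A (AdicCompletion (maximalIdeal A) A))).map ψ := Ideal.mem_map_of_mem _ hx
    rw [Ideal.map_map, hψ, ← Ideal.map_map, hpow] at h1
    exact h1
  have hcompat : ∀ n (x : AdicCompletion (maximalIdeal A) A) (a : A),
      evalₐ (maximalIdeal A) n x = Ideal.Quotient.mk _ a →
      evalₐ (maximalIdeal B) n (ψ x) = Ideal.Quotient.mk _ (algebraMap A B a) := by
    intro n x a hxa
    have h1 : x - of (maximalIdeal A) A a ∈
        (maximalIdeal A ^ n).map (algebraMap A (AdicCompletion (maximalIdeal A) A)) := by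
      apply Groth.Agent.Lib.Helper61.FSCompl.mem_map_of_evalₐ_eq_zero _ hfgA
      rw [map_sub, evalₐ_of, hxa, sub_self]
    have h2 := hψker n _ h1
    rw [map_sub, map_sub, hψof, evalₐ_of, sub_eq_zero] at h2
    exact h2
  constructor
  · rw [injective_iff_map_eq_zero]
    intro x hx
    apply AdicCompletion.ext_evalₐ
    intro n
    obtain ⟨a, ha⟩ := Ideal.Quotient.mk_surjective (evalₐ (maximalIdeal A) n x)
    have h1 := hcompat n x a ha.symm
    rw [hx, _root_.map_zero] at h1
    have h2 : a ∈ maximalIdeal A ^ n := hinj n a (Ideal.Quotient.eq_zero_iff_mem.mp h1.symm)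
    rw [_root_.map_zero, ← ha, Ideal.Quotient.eq_zero_iff_mem]
    exact h2
  · intro y
    obtain ⟨c, rfl⟩ := AdicCompletion.mk_surjective (maximalIdeal B) B y
    choose a ha using fun n => hsurj n (c n)
    have hcauchy : ∀ n, a n ≡ a (n + 1) [SMOD (maximalIdeal A ^ n • ⊤ : Submodule A A)] := by
      intro n
      rw [SModEq.sub_mem, smul_eq_mul, Ideal.mul_top]
      apply hinj
      have h1 : c (n + 1) - c n ∈ maximalIdeal B ^ n := by
        have := (c.property (Nat.le_succ n)).symm
        rw [SModEq.sub_mem, smul_eq_mul, Ideal.mul_top] at this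
        exact this
      have h2 : algebraMap A B (a n - a (n + 1)) =
          (c (n + 1) - algebraMap A B (a (n + 1))) - (c n - algebraMap A B (a n))
            - (c (n + 1) - c n) := by
        rw [map_sub]
        ring
      rw [h2]
      exact Ideal.sub_mem _ (Ideal.sub_mem _
        (Ideal.pow_le_pow_right (Nat.le_succ n) (ha (n + 1))) (ha n)) h1
    refine ⟨AdicCompletion.mk (maximalIdeal A) A (AdicCauchySequence.mk _ _ a hcauchy), ?_⟩
    apply AdicCompletion.ext_evalₐ
    intro n
    rw [hcompat n _ (a n) (by rw [evalₐ_mk]; rfl), evalₐ_mk, eq_comm, Ideal.Quotient.eq]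
    exact ha n

end Groth.Agent.S9232
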