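import Groth.Statements.S9233
import Groth.Agent.Lib.Helper69.HensFibre
import Groth.Agent.Lib.Helper87.HensProps
import Groth.Agent.Lib.Helper87.HensNoeth

set_option autoImplicit false
universe u
open Hensel

namespace Groth.Agent.S9233

/-- The henselization S of a Noetherian local ring R has the same depth as R. -/
theorem result (R S : Type u) [CommRing R] [IsLocalRing R] [IsNoetherianRing R]
    [CommRing S] [IsLocalRing S] [Algebra R S] [IsLocalHom (algebraMap R S)]
    [Hensel.IsHenselization R S] : LocCoh.depth S S = LocCoh.depth R R := by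
  obtain ⟨e⟩ := Groth.Agent.Lib.Helper87.Hens.nonempty_algEquiv_Hh R S
  haveI hN : IsNoetherianRing S := by
    have := Groth.Agent.Lib.Helper87.Hens.Hh.isNoetherianRing R
    exact isNoetherianRing_of_ringEquiv _ e.symm.toRingEquiv
  haveI := Groth.Agent.Lib.Helper87.Hens.flat_of_isHenselization R S
  exact Groth.Agent.Lib.Helper69.HensFibre.depth_eq_of_map_maximalIdeal R S
    (Groth.Agent.Lib.Helper87.Hens.map_maximalIdeal_of_isHenselization R S)


end Groth.Agent.S9233
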