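import Groth.Statements.S9234
import Groth.Agent.Lib.Helper69.HensFibre
import Groth.Agent.Lib.Helper87.HensStrictProps
import Groth.Agent.Lib.Helper87.HensNoethStrict

set_option autoImplicit false
universe u
open Hensel

namespace Groth.Agent.S9234

/-- A strict henselization S of a Noetherian local ring R has the same depth as R. -/
theorem result (R S : Type u) [CommRing R] [IsLocalRing R]
    [IsNoetherianRing R] [CommRing S] [IsLocalRing S] [Algebra R S] [IsLocalHom (algebraMap R S)]
    [Hensel.IsStrictHenselization R S] : LocCoh.depth S S = LocCoh.depth R R := by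
  obtain ⟨e⟩ := Groth.Agent.Lib.Helper87.Hens.nonempty_algEquiv_Hsh R S
  haveI hN : IsNoetherianRing S := by
    haveI : IsNoetherianRing (Groth.Agent.Lib.Helper87.Hens.Hsh R) :=
      Groth.Agent.Lib.Helper87.Hens.H.isNoetherianRing
    exact isNoetherianRing_of_ringEquiv _ e.symm.toRingEquiv
  haveI := Groth.Agent.Lib.Helper87.Hens.flat_of_isStrictHenselization R S
  exact Groth.Agent.Lib.Helper69.HensFibre.depth_eq_of_map_maximalIdeal R S
    (Groth.Agent.Lib.Helper87.Hens.map_maximalIdeal_of_isStrictHenselization R S)


end Groth.Agent.S9234
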