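import Groth.Statements.S9240
import Groth.Agent.Lib.Helper69.HensCompl

set_option autoImplicit false
universe u
open Brnch

namespace Groth.Agent.S9240

/-- Let A be a Noetherian local ring, S its henselization and A^ its completion, and let ψ : S → A^ be
the ring map compatible with the structure maps from A (it is unique, A^ being henselian). Then
contraction along ψ sends every minimal prime of A^ to a minimal prime of S, and every minimal prime
of S arises this way: contraction maps the minimal primes of A^ onto the minimal primes of S. -/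
theorem result (A S : Type u) [CommRing A] [IsLocalRing A]
    [IsNoetherianRing A] [CommRing S] [IsLocalRing S] [Algebra A S] [IsLocalHom (algebraMap A S)]
    [Hensel.IsHenselization A S] (ψ : S →+* AdicCompletion (IsLocalRing.maximalIdeal A) A)
    (hψ : ψ.comp (algebraMap A S) = algebraMap A (AdicCompletion (IsLocalRing.maximalIdeal A) A)) :
    Set.MapsTo (Ideal.comap ψ) (minimalPrimes (AdicCompletion (IsLocalRing.maximalIdeal A) A))
        (minimalPrimes S) ∧
      Set.SurjOn (Ideal.comap ψ) (minimalPrimes (AdicCompletion (IsLocalRing.maximalIdeal A) A))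
        (minimalPrimes S) := by
  letI := ψ.toAlgebra
  haveI hff : Module.FaithfullyFlat S (AdicCompletion (IsLocalRing.maximalIdeal A) A) :=
    Groth.Agent.Lib.Helper69.HensCompl.faithfullyFlat_toCompletion A S ψ hψ
  have hcomap : ∀ q : Ideal (AdicCompletion (IsLocalRing.maximalIdeal A) A),
      Ideal.comap ψ q = q.under S := fun q => rfl
  constructor
  · intro q hq
    haveI hqp : q.IsPrime := hq.1.1
    refine ⟨⟨Ideal.comap_isPrime ψ q, bot_le⟩, ?_⟩
    rintro p' ⟨hp', -⟩ hle
    haveI := hp'
    haveI : q.LiesOver (q.under S) := ⟨rfl⟩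
    obtain ⟨P, hPq, hPp, hPl⟩ := Ideal.exists_ideal_le_liesOver_of_le (p := p')
      (q := q.under S) q hle
    have hPeq : P = q := le_antisymm hPq (hq.2 ⟨hPp, bot_le⟩ hPq)
    rw [hcomap, ← hPeq, ← hPl.over]
  · intro p hp
    haveI hpp : p.IsPrime := hp.1.1
    obtain ⟨Q, hQ, hQl⟩ := Ideal.exists_isPrime_liesOver_of_faithfullyFlat
      (B := AdicCompletion (IsLocalRing.maximalIdeal A) A) p
    obtain ⟨q, hq, hqQ⟩ := Ideal.exists_minimalPrimes_le (I := ⊥) (J := Q) bot_le
    refine ⟨q, hq, ?_⟩
    haveI : q.IsPrime := hq.1.1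
    have h1 : Ideal.comap ψ q ≤ p := by
      rw [hQl.over]
      exact Ideal.comap_mono hqQ
    exact le_antisymm h1 (hp.2 ⟨Ideal.comap_isPrime ψ q, bot_le⟩ h1)

end Groth.Agent.S9240
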