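import Groth.Statements.S9241
import Groth.Agent.S9239
import Groth.Agent.S0543
import Groth.Agent.Lib.Helper87.HensDim
import Groth.Agent.Lib.Helper87.HensNoethStrict
import Groth.Agent.Lib.Helper56.BrDim5
import Groth.Agent.Lib.Helper56.BrDim6

set_option autoImplicit false
universe u
open Brnch

namespace Groth.Agent.S9241

/-- For a Noetherian local ring A of dimension 1, A and its completion A^ have the same number of
branches and the same number of geometric branches. -/
theorem result (A : Type u) [CommRing A] [IsLocalRing A]
    [IsNoetherianRing A] (hA : ringKrullDim A = 1) :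
    Brnch.numBranches (AdicCompletion (IsLocalRing.maximalIdeal A) A) = Brnch.numBranches A ∧
      Brnch.numGeomBranches (AdicCompletion (IsLocalRing.maximalIdeal A) A) =
        Brnch.numGeomBranches A := by
  open Groth.Agent.Lib.Helper87 Groth.Agent.Lib.Helper87.Hens IsLocalRing
    Groth.Agent.Lib.Helper56.BrDim in
  haveI hNA : IsNoetherianRing (AdicCompletion (maximalIdeal A) A) :=
    Groth.Agent.S0543.result A (maximalIdeal A)
  obtain ⟨hge1, hge2⟩ := Groth.Agent.S9239.result A
  refine ⟨le_antisymm ?_ hge1, le_antisymm ?_ hge2⟩
  · haveI := isHenselization_Hh A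
    haveI hH : HenselianLocalRing (AdicCompletion (maximalIdeal A) A) := inferInstance
    haveI := Groth.Agent.Lib.Helper69.HensQFinite.isHenselization_self (AdicCompletion (maximalIdeal A) A)
    obtain ⟨ψ, hψ, -⟩ := (isHenselization_Hh A).universal (AdicCompletion (maximalIdeal A) A)
      (algebraMap A (AdicCompletion (maximalIdeal A) A)) inferInstance
    letI := ψ.toAlgebra
    haveI hff : Module.FaithfullyFlat (Hh A) (AdicCompletion (maximalIdeal A) A) :=
      Groth.Agent.Lib.Helper69.HensCompl.faithfullyFlat_toCompletion A (Hh A) ψ hψ
    haveI : IsLocalHom (algebraMap (Hh A) (AdicCompletion (maximalIdeal A) A)) :=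
      Groth.Agent.Lib.Helper69.HensCompl.isLocalHom_toCompletion A (Hh A) ψ hψ
    haveI : HenselianLocalRing (Hh A) := (isHenselization_Hh A).henselian
    haveI : IsNoetherianRing (Hh A) := Hh.isNoetherianRing A
    have hdim : ringKrullDim (Hh A) ≤ 1 := H.ringKrullDim_le.trans hA.le
    have hm : (maximalIdeal (Hh A)).map (algebraMap (Hh A) (AdicCompletion (maximalIdeal A) A)) =
        maximalIdeal (AdicCompletion (maximalIdeal A) A) := by
      rw [← map_maximalIdeal_of_isHenselization A (Hh A), Ideal.map_map,
        AdicCompletion.maximalIdeal_eq_map]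
      congr 1
    have hres : ∀ x : AdicCompletion (maximalIdeal A) A, ∃ y : Hh A,
        x - algebraMap (Hh A) (AdicCompletion (maximalIdeal A) A) y ∈
          maximalIdeal (AdicCompletion (maximalIdeal A) A) := by
      intro x
      obtain ⟨a, ha⟩ := exists_sub_mem_of_residue_surjective
        (algebraMap A (AdicCompletion (maximalIdeal A) A))
        (AdicCompletion.residueField_map_bijective A).2 x
      refine ⟨algebraMap A (Hh A) a, ?_⟩
      have : algebraMap (Hh A) (AdicCompletion (maximalIdeal A) A) (algebraMap A (Hh A) a) =
          algebraMap A (AdicCompletion (maximalIdeal A) A) a := RingHom.congr_fun hψ a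
      rw [this]
      exact ha
    rw [← Groth.Agent.S9237.result A (Hh A),
      ← Groth.Agent.S9237.result (AdicCompletion (maximalIdeal A) A)
        (AdicCompletion (maximalIdeal A) A)]
    exact encard_minimalPrimes_le hdim hm hres
  · haveI := isStrictHenselization_Hsh A
    haveI := isStrictHenselization_Hsh (AdicCompletion (maximalIdeal A) A)
    obtain ⟨φ, hφloc, hφ⟩ := SmoothMinPrimes.exists_strict_map A
      (AdicCompletion (maximalIdeal A) A) (Hsh A) (Hsh (AdicCompletion (maximalIdeal A) A))
      (algebraMap A (AdicCompletion (maximalIdeal A) A))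
    letI : Algebra A (Hsh (AdicCompletion (maximalIdeal A) A)) :=
      ((algebraMap (AdicCompletion (maximalIdeal A) A)
        (Hsh (AdicCompletion (maximalIdeal A) A))).comp
        (algebraMap A (AdicCompletion (maximalIdeal A) A))).toAlgebra
    haveI : IsScalarTower A (AdicCompletion (maximalIdeal A) A)
        (Hsh (AdicCompletion (maximalIdeal A) A)) := IsScalarTower.of_algebraMap_eq' rfl
    letI : Algebra (Hsh A) (Hsh (AdicCompletion (maximalIdeal A) A)) := φ.toAlgebra
    haveI : IsScalarTower A (Hsh A) (Hsh (AdicCompletion (maximalIdeal A) A)) :=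
      IsScalarTower.of_algebraMap_eq' hφ.symm
    haveI : Module.Flat (AdicCompletion (maximalIdeal A) A)
        (Hsh (AdicCompletion (maximalIdeal A) A)) := flat_of_isStrictHenselization _ _
    haveI : Module.Flat A (Hsh (AdicCompletion (maximalIdeal A) A)) :=
      Module.Flat.trans A (AdicCompletion (maximalIdeal A) A) _
    haveI : Module.Flat (Hsh A) (Hsh (AdicCompletion (maximalIdeal A) A)) :=
      (FlatModule.locUnram_of_isStrictHenselization A (Hsh A)).flat _
    haveI : IsLocalHom (algebraMap (Hsh A) (Hsh (AdicCompletion (maximalIdeal A) A))) := hφloc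
    haveI : HenselianLocalRing (Hsh A) := (isStrictHenselization_Hsh A).henselian
    haveI : IsNoetherianRing (Hsh A) := H.isNoetherianRing
    haveI : IsNoetherianRing (Hsh (AdicCompletion (maximalIdeal A) A)) := H.isNoetherianRing
    have hdim : ringKrullDim (Hsh A) ≤ 1 := H.ringKrullDim_le.trans hA.le
    have hm : (maximalIdeal (Hsh A)).map
        (algebraMap (Hsh A) (Hsh (AdicCompletion (maximalIdeal A) A))) =
        maximalIdeal (Hsh (AdicCompletion (maximalIdeal A) A)) := by
      rw [← map_maximalIdeal_of_isStrictHenselization A (Hsh A), Ideal.map_map,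
        ← map_maximalIdeal_of_isStrictHenselization (AdicCompletion (maximalIdeal A) A)
          (Hsh (AdicCompletion (maximalIdeal A) A)),
        AdicCompletion.maximalIdeal_eq_map, Ideal.map_map]
      congr 1
    have hsurj : Function.Surjective (ResidueField.map φ) :=
      residueField_map_surjective_of_isSepClosure
        (isStrictHenselization_Hsh A).isSepClosure
        (isStrictHenselization_Hsh (AdicCompletion (maximalIdeal A) A)).isSepClosure
        (AdicCompletion.residueField_map_bijective A).2 φ hφ
    have hres : ∀ x : Hsh (AdicCompletion (maximalIdeal A) A), ∃ y : Hsh A,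
        x - algebraMap (Hsh A) (Hsh (AdicCompletion (maximalIdeal A) A)) y ∈
          maximalIdeal (Hsh (AdicCompletion (maximalIdeal A) A)) :=
      exists_sub_mem_of_residue_surjective φ hsurj
    rw [← Groth.Agent.S9238.result A (Hsh A),
      ← Groth.Agent.S9238.result (AdicCompletion (maximalIdeal A) A)
        (Hsh (AdicCompletion (maximalIdeal A) A))]
    exact encard_minimalPrimes_le hdim hm hres

end Groth.Agent.S9241
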