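import Groth.Statements.S9242
import Groth.Agent.Lib.Helper38.HensBranch
import Groth.Agent.S9240
import Groth.Agent.S0543
import Groth.Agent.Lib.Helper87.HensDim
import Groth.Agent.Lib.Helper87.HensNoethStrict
import Groth.Agent.Lib.Helper56.BrDim5
import Groth.Agent.Lib.Helper56.BrDim6

set_option autoImplicit false
universe u
open Brnch

namespace Groth.Agent.S9242

/-- Let A be a Noetherian local ring with henselization S and completion A^, let ψ : S → A^ be the ring
map compatible with the structure maps from A, and let q be a minimal prime of A^ with dim(A^/q) =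
1. Then q is the radical of the extension along ψ of some minimal prime of S. -/
theorem result (A S : Type u) [CommRing A]
    [IsLocalRing A] [IsNoetherianRing A] [CommRing S] [IsLocalRing S] [Algebra A S]
    [IsLocalHom (algebraMap A S)] [Hensel.IsHenselization A S]
    (ψ : S →+* AdicCompletion (IsLocalRing.maximalIdeal A) A)
    (hψ : ψ.comp (algebraMap A S) = algebraMap A (AdicCompletion (IsLocalRing.maximalIdeal A) A))
    (q : Ideal (AdicCompletion (IsLocalRing.maximalIdeal A) A))
    (hq : q ∈ minimalPrimes (AdicCompletion (IsLocalRing.maximalIdeal A) A))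
    (hdim : ringKrullDim (AdicCompletion (IsLocalRing.maximalIdeal A) A ⧸ q) = 1) :
    ∃ q' ∈ minimalPrimes S, (Ideal.map ψ q').radical = q := by
  open Groth.Agent.Lib.Helper87 Groth.Agent.Lib.Helper87.Hens IsLocalRing
    Groth.Agent.Lib.Helper56.BrDim Groth.Agent.Lib.Helper56 in
  classical
  haveI hNA : IsNoetherianRing (AdicCompletion (maximalIdeal A) A) :=
    Groth.Agent.S0543.result A (maximalIdeal A)
  letI := ψ.toAlgebra
  haveI hff : Module.FaithfullyFlat S (AdicCompletion (maximalIdeal A) A) :=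
    Groth.Agent.Lib.Helper69.HensCompl.faithfullyFlat_toCompletion A S ψ hψ
  haveI : IsLocalHom (algebraMap S (AdicCompletion (maximalIdeal A) A)) :=
    Groth.Agent.Lib.Helper69.HensCompl.isLocalHom_toCompletion A S ψ hψ
  haveI hHens : HenselianLocalRing S := (inferInstance : Hensel.IsHenselization A S).henselian
  haveI hNS : IsNoetherianRing S := by
    obtain ⟨e⟩ := nonempty_algEquiv_Hh A S
    haveI : IsNoetherianRing (Hh A) := Hh.isNoetherianRing A
    exact isNoetherianRing_of_ringEquiv (Hh A) e.symm.toRingEquiv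
  have hm : (maximalIdeal S).map (algebraMap S (AdicCompletion (maximalIdeal A) A)) =
      maximalIdeal (AdicCompletion (maximalIdeal A) A) := by
    rw [← map_maximalIdeal_of_isHenselization A S, Ideal.map_map,
      AdicCompletion.maximalIdeal_eq_map]
    congr 1
  have hres : ∀ x : AdicCompletion (maximalIdeal A) A, ∃ y : S,
      x - algebraMap S (AdicCompletion (maximalIdeal A) A) y ∈
        maximalIdeal (AdicCompletion (maximalIdeal A) A) := by
    intro x
    obtain ⟨a, ha⟩ := exists_sub_mem_of_residue_surjective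
      (algebraMap A (AdicCompletion (maximalIdeal A) A))
      (AdicCompletion.residueField_map_bijective A).2 x
    refine ⟨algebraMap A S a, ?_⟩
    have : algebraMap S (AdicCompletion (maximalIdeal A) A) (algebraMap A S a) =
        algebraMap A (AdicCompletion (maximalIdeal A) A) a := RingHom.congr_fun hψ a
    rw [this]
    exact ha
  haveI hqp : q.IsPrime := hq.1.1
  obtain ⟨p, hp⟩ : ∃ p : Ideal S, p = q.comap ψ := ⟨_, rfl⟩
  have hpmin : p ∈ minimalPrimes S := hp ▸ (Groth.Agent.S9240.result A S ψ hψ).1 hq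
  haveI hpp : p.IsPrime := hpmin.1.1
  refine ⟨p, hpmin, ?_⟩
  set G₀ := AdicCompletion (maximalIdeal A) A with hG₀
  have hle : p.map (algebraMap S G₀) ≤ q := Ideal.map_le_iff_le_comap.mpr hp.le
  have hpGne : p.map (algebraMap S G₀) ≠ ⊤ := fun htop =>
    hqp.ne_top (top_le_iff.mp (htop ▸ hle))
  haveI : Nontrivial (G₀ ⧸ p.map (algebraMap S G₀)) := Ideal.Quotient.nontrivial_iff.mpr hpGne
  haveI : IsLocalRing (G₀ ⧸ p.map (algebraMap S G₀)) :=
    IsLocalRing.of_surjective' (Ideal.Quotient.mk _) Ideal.Quotient.mk_surjective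
  haveI : Nontrivial (S ⧸ p) := Ideal.Quotient.nontrivial_iff.mpr hpp.ne_top
  haveI : IsLocalRing (S ⧸ p) :=
    IsLocalRing.of_surjective' (Ideal.Quotient.mk _) Ideal.Quotient.mk_surjective
  haveI : Algebra.IsIntegral S (S ⧸ p) :=
    Algebra.IsIntegral.of_surjective (Ideal.Quotient.mkₐ S p) (Ideal.Quotient.mkₐ_surjective S p)
  haveI : HenselianLocalRing (S ⧸ p) :=
    Groth.Agent.Lib.Helper69.HensFinite.henselianLocalRing_of_isIntegral S (S ⧸ p)
  haveI : Module.Flat (S ⧸ p) (G₀ ⧸ p.map (algebraMap S G₀)) := flat_quotient_map S G₀ p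
  haveI : IsLocalHom (algebraMap (S ⧸ p) (G₀ ⧸ p.map (algebraMap S G₀))) :=
    isLocalHom_quotient_map S G₀ p
  have hm' : (maximalIdeal (S ⧸ p)).map (algebraMap (S ⧸ p) (G₀ ⧸ p.map (algebraMap S G₀))) =
      maximalIdeal (G₀ ⧸ p.map (algebraMap S G₀)) := by
    rw [map_maximalIdeal_quotient_eq, hm, map_quotientMk_maximalIdeal]
  have hres' : ∀ x : G₀ ⧸ p.map (algebraMap S G₀), ∃ y : S ⧸ p,
      x - algebraMap (S ⧸ p) (G₀ ⧸ p.map (algebraMap S G₀)) y ∈
        maximalIdeal (G₀ ⧸ p.map (algebraMap S G₀)) := by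
    intro x
    obtain ⟨x, rfl⟩ := Ideal.Quotient.mk_surjective x
    obtain ⟨y, hy⟩ := hres x
    refine ⟨Ideal.Quotient.mk p y, ?_⟩
    have e : algebraMap (S ⧸ p) (G₀ ⧸ p.map (algebraMap S G₀)) (Ideal.Quotient.mk p y) =
        Ideal.Quotient.mk (p.map (algebraMap S G₀)) (algebraMap S G₀ y) := rfl
    rw [e, ← map_sub, ← map_quotientMk_maximalIdeal]
    exact Ideal.mem_map_of_mem _ hy
  -- the minimal prime of the quotient
  have hqmin : q ∈ (p.map (algebraMap S G₀)).minimalPrimes :=
    ⟨⟨inferInstance, hle⟩, fun P hP hPq => hq.2 ⟨hP.1, bot_le⟩ hPq⟩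
  have hqmin' := hqmin
  rw [Ideal.minimalPrimes_eq_comap] at hqmin'
  obtain ⟨Q, hQ, hQq⟩ := hqmin'
  haveI hQp : Q.IsPrime := hQ.1.1
  have hQmap : Q = q.map (Ideal.Quotient.mk (p.map (algebraMap S G₀))) := by
    rw [← hQq, Ideal.map_comap_of_surjective _ Ideal.Quotient.mk_surjective]
  have hdimQ : ringKrullDim ((G₀ ⧸ p.map (algebraMap S G₀)) ⧸ Q) = 1 := by
    rw [hQmap, ringKrullDim_eq_of_ringEquiv (DoubleQuot.quotQuotEquivQuotOfLE hle)]
    exact hdim
  obtain ⟨hQm, hco⟩ := Groth.Agent.Lib.Helper38.HensBranch.coheight_one Q hdimQ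
  have hsing := Groth.Agent.Lib.Helper38.HensBranch.minimalPrimes_eq_singleton hm' hres' Q hQ
    hQm hco
  change (Ideal.map (algebraMap S G₀) p).radical = q
  rw [← Ideal.sInf_minimalPrimes, Ideal.minimalPrimes_eq_comap, hsing, Set.image_singleton,
    sInf_singleton, hQq]

end Groth.Agent.S9242
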