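import Groth.Statements.S9243
import Groth.Agent.S9237
import Groth.Agent.Lib.Helper69.HensCompl
import Groth.Agent.Lib.Helper69.HensQFinite
import Groth.Agent.Lib.Helper87.HensNoeth
import Groth.Agent.Lib.Helper56.BranchCpl

set_option autoImplicit false
universe u
open Brnch

namespace Groth.Agent.S9243

/-- Let A be a Noetherian local ring with henselization S and completion A^, and ψ : S → A^ the ring map
compatible with the structure maps from A. Then A and A^ have the same number of branches if and
only if, for every minimal prime q of S, the radical of the extension of q along ψ is a prime ideal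
of A^. -/
theorem result (A S : Type u) [CommRing A] [IsLocalRing A]
    [IsNoetherianRing A] [CommRing S] [IsLocalRing S] [Algebra A S] [IsLocalHom (algebraMap A S)]
    [Hensel.IsHenselization A S] (ψ : S →+* AdicCompletion (IsLocalRing.maximalIdeal A) A)
    (hψ : ψ.comp (algebraMap A S) = algebraMap A (AdicCompletion (IsLocalRing.maximalIdeal A) A)) :
    Brnch.numBranches A = Brnch.numBranches (AdicCompletion (IsLocalRing.maximalIdeal A) A) ↔
      ∀ q ∈ minimalPrimes S, (Ideal.map ψ q).radical.IsPrime := by
  open Groth.Agent.Lib.Helper87 Groth.Agent.Lib.Helper87.Hens IsLocalRing in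
  haveI hH : HenselianLocalRing (AdicCompletion (maximalIdeal A) A) := inferInstance
  haveI := Groth.Agent.Lib.Helper69.HensQFinite.isHenselization_self (AdicCompletion (maximalIdeal A) A)
  haveI : IsNoetherianRing S := by
    obtain ⟨e⟩ := nonempty_algEquiv_Hh A S
    haveI : IsNoetherianRing (Hh A) := Hh.isNoetherianRing A
    exact isNoetherianRing_of_ringEquiv (Hh A) e.symm.toRingEquiv
  letI := ψ.toAlgebra
  haveI hff : Module.FaithfullyFlat S (AdicCompletion (maximalIdeal A) A) :=
    Groth.Agent.Lib.Helper69.HensCompl.faithfullyFlat_toCompletion A S ψ hψ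
  rw [← Groth.Agent.S9237.result A S,
    ← Groth.Agent.S9237.result (AdicCompletion (maximalIdeal A) A)
      (AdicCompletion (maximalIdeal A) A)]
  exact Groth.Agent.Lib.Helper56.BranchCpl.card_minimalPrimes_eq_iff S
    (AdicCompletion (maximalIdeal A) A) (minimalPrimes.finite_of_isNoetherianRing S)

end Groth.Agent.S9243
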