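import Groth.Statements.S9245
import Mathlib
-- import your own Groth.Agent.* helpers here

set_option autoImplicit false
universe u
open CAlg

namespace Groth.Agent.S9245

theorem noeth_of_faithfullyFlat (A B : Type u) [CommRing A] [CommRing B] [Algebra A B]
    [Module.FaithfullyFlat A B] [IsNoetherianRing B] : IsNoetherianRing A := by
  rw [isNoetherianRing_iff, isNoetherian_iff'] at *
  have hmono : Monotone (Ideal.map (algebraMap A B)) := fun _ _ h => Ideal.map_mono h
  have hs : StrictMono (Ideal.map (algebraMap A B)) :=
    hmono.strictMono_of_injective Ideal.map_injective_of_faithfullyFlat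
  exact hs.wellFoundedGT


/-- For an étale ring map A → B and a prime q of B with contraction p in A, the localization A_p is a
Noetherian ring exactly when the localization B_q is. -/
theorem result (A B : Type u) [CommRing A] [CommRing B]
    [Algebra A B] [Algebra.Etale A B] (q : Ideal B) [q.IsPrime] :
    IsNoetherianRing (Localization.AtPrime (Ideal.comap (algebraMap A B) q)) ↔
      IsNoetherianRing (Localization.AtPrime q) := by
  change IsNoetherianRing (Localization.AtPrime (q.under A)) ↔ _
  let := Localization.AtPrime.algebraOfLiesOver (q.under A) q
  have hloc : IsLocalHom (algebraMap (Localization.AtPrime <| q.under A) (Localization.AtPrime q)) := by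
    rw [RingHom.algebraMap_toAlgebra]
    exact Localization.isLocalHom_localRingHom (q.under A) q (algebraMap A B) Ideal.LiesOver.over
  constructor
  · intro h
    have h1 : Algebra.EssFiniteType A (Localization.AtPrime q) :=
      Algebra.EssFiniteType.comp A B (Localization.AtPrime q)
    have h2 : Algebra.EssFiniteType (Localization.AtPrime (q.under A)) (Localization.AtPrime q) :=
      .of_comp A _ _
    exact Algebra.EssFiniteType.isNoetherianRing (Localization.AtPrime (q.under A)) (Localization.AtPrime q)
  · intro h
    have : Module.Flat A B := inferInstance
    have : Module.FaithfullyFlat (Localization.AtPrime (q.under A)) (Localization.AtPrime q) :=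
      Module.FaithfullyFlat.of_flat_of_isLocalHom
    exact noeth_of_faithfullyFlat (Localization.AtPrime (q.under A)) (Localization.AtPrime q)


end Groth.Agent.S9245
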