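import Groth.Statements.S9260
import Mathlib
-- import your own Groth.Agent.* helpers here

set_option autoImplicit false
universe u
open CAlg

namespace Groth.Agent.S9260

open Polynomial in
theorem core (A R G : Type u) [CommRing A]
    [CommRing R] [Algebra A R] [Group G] [Fintype G] [MulSemiringAction G R] [SMulCommClass G A R]
    [Algebra.IsInvariant A R G] (J : Ideal A) (ι : Type u) [Fintype ι] (j : ι → A) (hj : ∀ k, j k ∈ J)
    (r : ι → R) :
    ∃ P : Polynomial A, P.Monic ∧ P.natDegree ≤ Fintype.card G ∧
      (∀ i : ℕ, i < Fintype.card G → P.coeff i ∈ J) ∧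
      Polynomial.map (algebraMap A R) P =
        ∏ σ : G, (Polynomial.X - Polynomial.C (σ • ∑ k, algebraMap A R (j k) * r k)) := by
  classical
  set n := Fintype.card G with hn
  let F : Polynomial (MvPolynomial ι R) :=
    ∏ τ : G, (X - C (∑ k, MvPolynomial.X k * MvPolynomial.C (τ • r k)))
  have hmap : ∀ {S' : Type u} [CommRing S'] (φ : MvPolynomial ι R →+* S'),
      Polynomial.map φ F =
        ∏ τ : G, (X - C (φ (∑ k, MvPolynomial.X k * MvPolynomial.C (τ • r k)))) := by
    intro S' _ φ
    simp only [F, Polynomial.map_prod, Polynomial.map_sub, Polynomial.map_X, Polynomial.map_C]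
  have hinv : ∀ (σ : G) (i : ℕ) (α : ι →₀ ℕ), σ • (F.coeff i).coeff α = (F.coeff i).coeff α := by
    intro σ i α
    have h1 : Polynomial.map (MvPolynomial.map (MulSemiringAction.toRingHom G R σ)) F = F := by
      rw [hmap]
      have h0 : ∀ τ : G, (MvPolynomial.map (MulSemiringAction.toRingHom G R σ))
          (∑ k, MvPolynomial.X k * MvPolynomial.C (τ • r k)) =
          ∑ k, MvPolynomial.X k * MvPolynomial.C ((σ * τ) • r k) := by
        intro τ
        simp only [map_sum, map_mul, MvPolynomial.map_X, MvPolynomial.map_C,
          MulSemiringAction.toRingHom_apply, smul_smul]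
      simp only [h0]
      exact Fintype.prod_equiv (Equiv.mulLeft σ) _ _ (fun τ => rfl)
    have h2 := congrArg (fun p : Polynomial (MvPolynomial ι R) => (p.coeff i).coeff α) h1
    simp only [Polynomial.coeff_map, MvPolynomial.coeff_map, MulSemiringAction.toRingHom_apply] at h2
    exact h2
  have hlift : ∀ (i : ℕ) (α : ι →₀ ℕ), ∃ a : A, algebraMap A R a = (F.coeff i).coeff α := fun i α =>
    Algebra.IsInvariant.isInvariant (A := A) (G := G) _ (fun σ => hinv σ i α)
  choose a ha using hlift
  let p : ℕ → A := fun i => ∑ α ∈ (F.coeff i).support, a i α * ∏ k, j k ^ α k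
  have hev : ∀ i, MvPolynomial.eval (fun k => algebraMap A R (j k)) (F.coeff i) = algebraMap A R (p i) := by
    intro i
    rw [MvPolynomial.eval_eq']
    simp only [p, map_sum, map_mul, map_prod, map_pow, ha]
  have hFmonic : F.Monic := Polynomial.monic_prod_of_monic _ _ (fun τ _ => Polynomial.monic_X_sub_C _)
  have hconst : ∀ i, i < n → (F.coeff i).coeff 0 = 0 := by
    intro i hi
    have h1 : Polynomial.map (MvPolynomial.constantCoeff (R := R) (σ := ι)) F = X ^ n := by
      rw [hmap]
      have h0 : ∀ τ : G, (MvPolynomial.constantCoeff (R := R) (σ := ι))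
          (∑ k, MvPolynomial.X k * MvPolynomial.C (τ • r k)) = 0 := by
        intro τ
        simp only [map_sum, map_mul, MvPolynomial.constantCoeff_X, zero_mul, Finset.sum_const_zero]
      simp only [h0, map_zero, sub_zero, Finset.prod_const, Finset.card_univ, hn]
    have h2 := congrArg (fun q : Polynomial R => q.coeff i) h1
    simp only [Polynomial.coeff_map, Polynomial.coeff_X_pow, if_neg (ne_of_lt hi)] at h2
    rw [← MvPolynomial.constantCoeff_eq]
    exact h2
  have hpJ : ∀ i, i < n → p i ∈ J := by
    intro i hi
    apply Ideal.sum_mem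
    intro α hα
    apply Ideal.mul_mem_left
    have hα0 : α ≠ 0 := by
      rintro rfl
      rw [MvPolynomial.mem_support_iff] at hα
      exact hα (hconst i hi)
    obtain ⟨k, hk⟩ : ∃ k, α k ≠ 0 := by
      by_contra hne
      push Not at hne
      exact hα0 (Finsupp.ext hne)
    apply Ideal.prod_mem J (Finset.mem_univ k)
    exact Ideal.pow_mem_of_mem J (hj k) _ (Nat.pos_of_ne_zero hk)
  have hdeg : ∀ (B : Type u) [CommRing B] (c : ℕ → B),
      (∑ i ∈ Finset.range n, C (c i) * X ^ i : Polynomial B).degree < n := by
    intro B _ c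
    refine (Polynomial.degree_sum_le _ _).trans_lt ?_
    refine (Finset.sup_lt_iff (WithBot.bot_lt_coe n)).2 ?_
    intro i hi
    refine (Polynomial.degree_C_mul_X_pow_le i (c i)).trans_lt ?_
    exact WithBot.coe_lt_coe.2 (Finset.mem_range.1 hi)
  have hcoeff : ∀ (B : Type u) [CommRing B] (c : ℕ → B) (i : ℕ), i < n →
      (X ^ n + ∑ i ∈ Finset.range n, C (c i) * X ^ i : Polynomial B).coeff i = c i := by
    intro B _ c i hi
    rw [Polynomial.coeff_add, Polynomial.coeff_X_pow, if_neg (ne_of_lt hi), zero_add,
      Polynomial.finsetSum_coeff]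
    simp only [Polynomial.coeff_C_mul_X_pow]
    rw [Finset.sum_ite_eq (Finset.range n) i, if_pos (Finset.mem_range.2 hi)]
  refine ⟨X ^ n + ∑ i ∈ Finset.range n, C (p i) * X ^ i, ?_, ?_, ?_, ?_⟩
  · exact Polynomial.monic_X_pow_add (hdeg A p)
  · refine Polynomial.natDegree_le_of_degree_le ?_
    refine (Polynomial.degree_add_le _ _).trans (max_le (Polynomial.degree_X_pow_le _) (hdeg A p).le)
  · intro i hi
    rw [hcoeff A p i hi]
    exact hpJ i hi
  · rcases subsingleton_or_nontrivial R with hR | hR
    · exact Subsingleton.elim _ _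
    have hQ : ∏ σ : G, (X - C (σ • ∑ k, algebraMap A R (j k) * r k)) =
        Polynomial.map (MvPolynomial.eval (fun k => algebraMap A R (j k))) F := by
      rw [hmap]
      apply Finset.prod_congr rfl
      intro τ _
      congr 2
      simp only [map_sum, map_mul, MvPolynomial.eval_X, MvPolynomial.eval_C, Finset.smul_sum,
        smul_mul', smul_algebraMap]
    have hQmonic : (Polynomial.map (MvPolynomial.eval (fun k => algebraMap A R (j k))) F).Monic :=
      hFmonic.map _
    have hQdeg : (Polynomial.map (MvPolynomial.eval (fun k => algebraMap A R (j k))) F).natDegree = n := by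
      rw [← hQ, Polynomial.natDegree_prod_of_monic _ _ (fun τ _ => Polynomial.monic_X_sub_C _)]
      simp [hn]
    rw [hQ, hQmonic.as_sum, hQdeg]
    simp only [Polynomial.map_add, Polynomial.map_pow, Polynomial.map_X, Polynomial.map_sum,
      Polynomial.map_mul, Polynomial.map_C, Polynomial.coeff_map, hev]


/-- Suppose a finite group G with n elements acts on a ring R by ring automorphisms, A → R is a ring map
compatible with the action whose image contains the invariants (so that A maps onto R^G), J is an
ideal of A, and x lies in JR. Then ∏_σ (T - σ(x)) is the image of a monic polynomial over A of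
degree at most n whose coefficients below degree n all lie in J. (The published statement takes A =
R^G and a polynomial of degree n; this row allows any such A mapping onto R^G and asks degree at
most n, which is the same when A is nonzero.) -/
theorem result (A R G : Type u) [CommRing A]
    [CommRing R] [Algebra A R] [Group G] [Fintype G] [MulSemiringAction G R] [SMulCommClass G A R]
    [Algebra.IsInvariant A R G] (J : Ideal A) (x : R) (hx : x ∈ Ideal.map (algebraMap A R) J) :
    ∃ P : Polynomial A, P.Monic ∧ P.natDegree ≤ Fintype.card G ∧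
      (∀ i : ℕ, i < Fintype.card G → P.coeff i ∈ J) ∧
      Polynomial.map (algebraMap A R) P = ∏ σ : G, (Polynomial.X - Polynomial.C (σ • x)) := by
  rw [Ideal.map, Ideal.span, Submodule.mem_span_image_iff_exists_fun] at hx
  obtain ⟨t, ht, c, hc⟩ := hx
  obtain ⟨P, h1, h2, h3, h4⟩ := core A R G J (↥t) (fun k => k.1) (fun k => ht k.2) c
  refine ⟨P, h1, h2, h3, ?_⟩
  rw [h4, ← hc]
  simp only [smul_eq_mul, mul_comm]


end Groth.Agent.S9260
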