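import Groth.Statements.S9261
import Mathlib
-- import your own Groth.Agent.* helpers here

set_option autoImplicit false
universe u
open CAlg

namespace Groth.Agent.S9261

open TensorProduct in

/-- Let G be a finite group acting on a ring R, S = R^G its ring of invariants (here: S → R injective
with image the invariants) and A a flat S-algebra. Then the map A → A ⊗_S R is injective with image
the invariants of G acting on A ⊗_S R through the second factor; that is, A → (A ⊗_S R)^G is an
isomorphism. -/
theorem result (S R A G : Type u) [CommRing S] [CommRing R] [Algebra S R]
    [FaithfulSMul S R] [Group G] [Finite G] [MulSemiringAction G R] [SMulCommClass G S R]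
    [Algebra.IsInvariant S R G] [CommRing A] [Algebra S A] [Module.Flat S A] :
    Function.Injective (algebraMap A (TensorProduct S A R)) ∧
      ∀ x : TensorProduct S A R,
        (∀ σ : G, Algebra.TensorProduct.map (AlgHom.id S A) (MulSemiringAction.toAlgHom S R σ) x = x) →
          x ∈ Set.range (algebraMap A (TensorProduct S A R)) := by
  classical
  have := Fintype.ofFinite G
  constructor
  · exact Algebra.TensorProduct.includeLeft_injective (S := S) (FaithfulSMul.algebraMap_injective S R)
  · intro x hx
    let d : R →ₗ[S] (G → R) :=
      LinearMap.pi (fun σ => (MulSemiringAction.toAlgHom S R σ).toLinearMap - LinearMap.id)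
    have hd : ∀ r σ, d r σ = σ • r - r := fun r σ => rfl
    have hexact : Function.Exact (Algebra.linearMap S R) d := by
      intro r
      constructor
      · intro hr
        have hinv : ∀ σ : G, σ • r = r := by
          intro σ
          have := congrFun hr σ
          rw [hd] at this
          exact sub_eq_zero.1 this
        obtain ⟨s, hs⟩ := Algebra.IsInvariant.isInvariant (A := S) (G := G) r hinv
        exact ⟨s, hs⟩
      · rintro ⟨s, rfl⟩
        ext σ
        rw [hd]
        simp [smul_algebraMap]
    have hexact' := Module.Flat.lTensor_exact A hexact
    have key : ∀ z : A ⊗[S] R, ∀ σ : G, TensorProduct.piRightHom S S A (fun _ : G => R) (d.lTensor A z) σ =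
        Algebra.TensorProduct.map (AlgHom.id S A) (MulSemiringAction.toAlgHom S R σ) z - z := by
      intro z σ
      induction z using TensorProduct.induction_on with
      | zero => simp
      | tmul a r =>
        simp only [LinearMap.lTensor_tmul, TensorProduct.piRightHom_tmul, hd,
          Algebra.TensorProduct.map_tmul, AlgHom.coe_id, id_eq, MulSemiringAction.toAlgHom_apply,
          TensorProduct.tmul_sub]
      | add z w hz hw =>
        simp only [map_add, Pi.add_apply, hz, hw]
        abel
    have hx0 : d.lTensor A x = 0 := by
      apply (TensorProduct.piRight S S A (fun _ : G => R)).injective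
      rw [map_zero]
      ext σ
      rw [TensorProduct.piRight_apply, key, hx σ, sub_self]
      rfl
    have hgen : ∀ y : A ⊗[S] S, algebraMap A (A ⊗[S] R) (TensorProduct.rid S A y) =
        (Algebra.linearMap S R).lTensor A y := by
      intro y
      induction y using TensorProduct.induction_on with
      | zero => simp
      | tmul a s =>
        simp only [TensorProduct.rid_tmul, LinearMap.lTensor_tmul, Algebra.linearMap_apply,
          Algebra.TensorProduct.algebraMap_apply, Algebra.algebraMap_self, RingHom.id_apply]
        rw [Algebra.algebraMap_eq_smul_one, TensorProduct.smul_tmul]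
      | add z w hz hw =>
        simp only [map_add, hz, hw]
    obtain ⟨y, hy⟩ := (hexact' x).1 hx0
    exact ⟨TensorProduct.rid S A y, (hgen y).trans hy⟩


end Groth.Agent.S9261
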