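import Groth.Statements.S9262
import Groth.Agent.S0513
import Groth.Agent.S2743
import Groth.Agent.S0512
import Groth.Agent.S0541
import Groth.Agent.S0558
import Groth.Agent.S0511
import Groth.Agent.S0540

set_option autoImplicit false
universe u
open Hensel

namespace Groth.Agent.S9262

/-- a Noetherian local ring is a discrete valuation ring iff it is regular of dimension one. -/
lemma dvr_iff (R : Type u) [CommRing R] [IsLocalRing R] [IsNoetherianRing R] :
    (∃ _ : IsDomain R, IsDiscreteValuationRing R) ↔
      IsRegularLocalRing R ∧ ringKrullDim R = 1 := by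
  constructor
  · rintro ⟨hd, hdvr⟩
    exact ⟨inferInstance, IsDiscreteValuationRing.ringKrullDim_eq_one R⟩
  · rintro ⟨hreg, hdim⟩
    haveI : IsDomain R := Groth.Agent.S0558.result R
    refine ⟨inferInstance, ?_⟩
    have hnf : ¬ IsField R := by
      intro hf
      have h0 := ringKrullDim_eq_zero_of_isField hf
      rw [hdim] at h0
      exact one_ne_zero h0
    apply ((IsDiscreteValuationRing.TFAE R hnf).out 0 5).mpr
    have h1 := (IsRegularLocalRing.iff_finrank_cotangentSpace R).mp hreg
    rw [hdim] at h1
    exact_mod_cast h1

/-- Let R be a Noetherian local ring with henselization S and strict henselization T. Then R is a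
discrete valuation ring exactly when S is one, and exactly when T is one. -/
theorem result (R S T : Type u)
    [CommRing R] [IsLocalRing R] [IsNoetherianRing R] [CommRing S] [IsLocalRing S] [Algebra R S]
    [IsLocalHom (algebraMap R S)] [Hensel.IsHenselization R S] [CommRing T] [IsLocalRing T]
    [Algebra R T] [IsLocalHom (algebraMap R T)] [Hensel.IsStrictHenselization R T] :
    ((∃ _ : IsDomain R, IsDiscreteValuationRing R) ↔ (∃ _ : IsDomain S, IsDiscreteValuationRing S)) ∧
      ((∃ _ : IsDomain R, IsDiscreteValuationRing R) ↔
        (∃ _ : IsDomain T, IsDiscreteValuationRing T)) := by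
  have hNS : IsNoetherianRing S := (Groth.Agent.S0511.result R S).mp inferInstance
  have hNT : IsNoetherianRing T := (Groth.Agent.S0540.result R T).mp inferInstance
  rw [dvr_iff R, dvr_iff S, dvr_iff T, Groth.Agent.S0512.result R S, Groth.Agent.S0541.result R T]
  exact ⟨Iff.and (Groth.Agent.S0513.result R S) Iff.rfl,
    Iff.and (Groth.Agent.S2743.result R T).symm Iff.rfl⟩

end Groth.Agent.S9262
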