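import Groth.Statements.S9268
-- import your own Groth.Agent.* helpers here
import Groth.Agent.Lib.Helper49.JacAdic2

set_option autoImplicit false
universe u
open CAlg

namespace Groth.Agent.S9268

open CAlg
open TensorProduct IsLocalRing Groth.Agent.Lib.Helper49.JacAdic

theorem adic_of_formallySmooth {R S : Type u} [CommRing R] [CommRing S] [Algebra R S]
    [Algebra.FormallySmooth R S] (𝔫 : Ideal S) : CAlgX.IsAdicFormallySmooth R S 𝔫 := by
  intro C _ _ J hJ ψ _
  obtain ⟨χ, hχ⟩ := Algebra.FormallySmooth.comp_surjective R S J hJ ψ
  exact ⟨χ, hχ⟩

/-- Suppose A is a Noetherian ring and B is a finitely generated A-algebra, and consider a prime q of B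
lying over p in A. Then A → B is smooth at q (meaning some g not in q makes A → B_g smooth) exactly
when the induced map A_p → B_q is formally smooth with respect to the adic topology defined by the
maximal ideal of B_q. -/
theorem result (A B : Type u) [CommRing A] [IsNoetherianRing A]
    [CommRing B] [Algebra A B] [Algebra.FiniteType A B] (q : Ideal B) [q.IsPrime] :
    (∃ g : B, g ∉ q ∧ Algebra.Smooth A (Localization.Away g)) ↔
      letI := (Localization.localRingHom (Ideal.comap (algebraMap A B) q) q (algebraMap A B) rfl).toAlgebra
      CAlgX.IsAdicFormallySmooth (Localization.AtPrime (Ideal.comap (algebraMap A B) q))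
        (Localization.AtPrime q) (IsLocalRing.maximalIdeal (Localization.AtPrime q)) := by
  letI := (Localization.localRingHom (Ideal.comap (algebraMap A B) q) q (algebraMap A B) rfl).toAlgebra
  have htower : IsScalarTower A (Localization.AtPrime (Ideal.comap (algebraMap A B) q))
      (Localization.AtPrime q) := by
    refine IsScalarTower.of_algebraMap_eq' ?_
    refine RingHom.ext fun a => ?_
    rw [RingHom.comp_apply, RingHom.algebraMap_toAlgebra, Localization.localRingHom_to_map,
      IsScalarTower.algebraMap_apply A B (Localization.AtPrime q)]
  have hfp : Algebra.FinitePresentation A B := Algebra.FinitePresentation.of_finiteType.mp inferInstance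
  constructor
  · rintro ⟨g, hg, hsm⟩
    have h1 : (PrimeSpectrum.basicOpen g : Set (PrimeSpectrum B)) ⊆ Algebra.smoothLocus A B :=
      Algebra.basicOpen_subset_smoothLocus_iff_smooth.mpr hsm
    have h2 : (⟨q, inferInstance⟩ : PrimeSpectrum B) ∈ Algebra.smoothLocus A B := h1 hg
    have h3 : Algebra.FormallySmooth A (Localization.AtPrime q) := h2
    have h4 : Algebra.FormallySmooth (Localization.AtPrime (Ideal.comap (algebraMap A B) q))
        (Localization.AtPrime q) :=
      Algebra.FormallySmooth.localization_base (Ideal.comap (algebraMap A B) q).primeCompl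
    exact adic_of_formallySmooth _
  · intro hfs
    have hNoeth : IsNoetherianRing (Localization.AtPrime (Ideal.comap (algebraMap A B) q)) :=
      IsLocalization.isNoetherianRing (Ideal.comap (algebraMap A B) q).primeCompl _ inferInstance
    have hE1 : Algebra.EssFiniteType B (Localization.AtPrime q) :=
      Algebra.EssFiniteType.of_isLocalization _ q.primeCompl
    have hE2 : Algebra.EssFiniteType A (Localization.AtPrime q) :=
      Algebra.EssFiniteType.comp A B _
    have hE3 : Algebra.EssFiniteType (Localization.AtPrime (Ideal.comap (algebraMap A B) q))
        (Localization.AtPrime q) := Algebra.EssFiniteType.of_comp A _ _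
    have h1 : Algebra.FormallySmooth (Localization.AtPrime (Ideal.comap (algebraMap A B) q))
        (Localization.AtPrime q) :=
      formallySmooth_of_isAdicFormallySmooth_of_essFiniteType hfs
    have h2 : Algebra.FormallySmooth A (Localization.AtPrime q) :=
      Algebra.FormallySmooth.comp A (Localization.AtPrime (Ideal.comap (algebraMap A B) q)) _
    have h3 : Algebra.IsSmoothAt A q := h2
    obtain ⟨f, hf, hs⟩ := Algebra.IsSmoothAt.exists_notMem_smooth A q
    exact ⟨f, hf, hs⟩

end Groth.Agent.S9268
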