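import Groth.Statements.S9289
import Groth.Agent.Lib.Helper67.QFFormal3
import Groth.Agent.Lib.Helper87.HensNoeth
import Groth.Agent.S0543

set_option autoImplicit false
universe u
open CAlg

namespace Groth.Agent.S9289

/-- Let R and R' be Noetherian rings with R' of finite type over R and quasi-finite at the prime p' of
R', lying over p. If R_p has geometrically regular formal fibres, so does R'_{p'}; stated as: if the
completion map of R_p is regular, so is that of R'_{p'}. -/
theorem result (R R' : Type u) [CommRing R]
    [CommRing R'] [IsNoetherianRing R] [IsNoetherianRing R'] [Algebra R R'] [Algebra.FiniteType R R']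
    (p' : Ideal R') [p'.IsPrime] [Algebra.QuasiFiniteAt R p']
    (h : CAlg.IsRegularHom (Localization.AtPrime (Ideal.comap (algebraMap R R') p'))
      (AdicCompletion (IsLocalRing.maximalIdeal (Localization.AtPrime (Ideal.comap (algebraMap R R') p')))
        (Localization.AtPrime (Ideal.comap (algebraMap R R') p')))) :
    CAlg.IsRegularHom (Localization.AtPrime p')
      (AdicCompletion (IsLocalRing.maximalIdeal (Localization.AtPrime p')) (Localization.AtPrime p')) := by
  classical
  let p : Ideal R := Ideal.comap (algebraMap R R') p'
  haveI hpp : p.IsPrime := Ideal.comap_isPrime _ _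
  let A := Localization.AtPrime p
  haveI hAN : IsNoetherianRing A := IsLocalization.isNoetherianRing p.primeCompl _ inferInstance
  let Ah := AdicCompletion (IsLocalRing.maximalIdeal A) A
  haveI hAhN : IsNoetherianRing Ah := Groth.Agent.S0543.result A _
  haveI : HenselianLocalRing Ah := Groth.Agent.Lib.Helper87.Hens.henselianLocalRing_adicCompletion A
  let ρ : Ah →ₐ[R] p.ResidueField :=
    { (AdicCompletion.evalOneₐ (IsLocalRing.maximalIdeal A)).toRingHom with
      commutes' := fun r => by
        show AdicCompletion.evalOneₐ (IsLocalRing.maximalIdeal A)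
          (algebraMap A Ah (algebraMap R A r)) = _
        rw [AlgHom.commutes]
        rfl }
  have hker : RingHom.ker ρ.toRingHom = IsLocalRing.maximalIdeal Ah := by
    rw [AdicCompletion.maximalIdeal_eq_map,
      ← AdicCompletion.ker_evalOneₐ_eq_map _ (IsLocalRing.maximalIdeal A).fg_of_isNoetherianRing]
    rfl
  have hm : IsLocalRing.maximalIdeal Ah = p.map (algebraMap R Ah) := by
    rw [AdicCompletion.maximalIdeal_eq_map]
    have h1 : IsLocalRing.maximalIdeal A = p.map (algebraMap R A) :=
      (Localization.AtPrime.map_eq_maximalIdeal (I := p)).symm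
    rw [congrArg (Ideal.map (algebraMap A Ah)) h1, Ideal.map_map]
    rfl
  have hreg : CAlg.IsRegularHom R Ah :=
    Groth.Agent.Lib.Helper56.isRegularHom_comp R A Ah
      (Groth.Agent.Lib.Helper56.isRegularHom_localization R p.primeCompl A) h
      (fun P _ => Groth.Agent.Lib.Helper56.isNoetherianRing_fiber R Ah P)
  exact Groth.Agent.Lib.Helper67.QFFormal.isRegularHom_cpl_atPrime (R := R) (R' := R') (p' := p')
    (Ah := Ah) (ρ := ρ) hker hm hreg

end Groth.Agent.S9289
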