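import Groth.Statements.S9274
-- import your own Groth.Agent.* helpers here
import Groth.Agent.Lib.Helper49.GRingFree1
import Groth.Agent.Lib.Helper49.GRingFree3
import Groth.Agent.Lib.Helper56.HomLoc
import Groth.Agent.S9289

set_option autoImplicit false
universe u
open CAlg

namespace Groth.Agent.S9274

open TensorProduct IsLocalRing

theorem forward (R : Type u) [CommRing R] [IsNoetherianRing R] (hG : CAlg.IsGRing R)
    (S : Type u) [CommRing S] [Algebra R S] [Module.Finite R S]
    (q : Ideal S) [q.IsPrime] (p : Ideal (Localization.AtPrime q)) [p.IsPrime] :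
    IsRegularRing (EGA4.formalFibre (Localization.AtPrime q) p) := by
  haveI : IsNoetherianRing S := IsNoetherianRing.of_finite R S
  have h := Groth.Agent.S9289.result R S q (hG.2 (Ideal.comap (algebraMap R S) q))
  have h2 := (h.2 p).2 p.ResidueField (Module.Finite.self _)
  exact IsRegularRing.of_ringEquiv
    (R := p.ResidueField ⊗[p.ResidueField] p.Fiber (EGA4.Cpl (Localization.AtPrime q)))
    (Algebra.TensorProduct.lid p.ResidueField
      (p.Fiber (EGA4.Cpl (Localization.AtPrime q)))).toRingEquiv

theorem backward (R : Type u) [CommRing R] [IsNoetherianRing R]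
    (H : ∀ (S : Type u) [CommRing S] [Algebra R S] [Module.Finite R S] [Module.Free R S]
        (q : Ideal S) [q.IsPrime] (p : Ideal (Localization.AtPrime q)) [p.IsPrime],
        IsRegularRing (EGA4.formalFibre (Localization.AtPrime q) p))
    (𝔭 : Ideal R) [𝔭.IsPrime] :
    CAlg.IsRegularHom (Localization.AtPrime 𝔭)
      (AdicCompletion (maximalIdeal (Localization.AtPrime 𝔭)) (Localization.AtPrime 𝔭)) := by
  classical
  let A := Localization.AtPrime 𝔭
  haveI hAN : IsNoetherianRing A := IsLocalization.isNoetherianRing 𝔭.primeCompl _ inferInstance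
  let Ah := AdicCompletion (maximalIdeal A) A
  haveI hAhN : IsNoetherianRing Ah := Groth.Agent.S0543.result A _
  haveI : IsScalarTower R A Ah := IsScalarTower.of_algebraMap_eq (fun _ => rfl)
  haveI : Module.Flat A Ah := AdicCompletion.flat_of_isNoetherian _
  haveI : Module.Flat R Ah := Module.Flat.trans R A Ah
  have hRAh : CAlg.IsRegularHom R Ah := by
    refine ⟨inferInstance, fun P₀ _ =>
      ⟨Groth.Agent.Lib.Helper56.isNoetherianRing_fiber R Ah P₀, ?_⟩⟩
    intro k' _ _ hfin
    let _ : Algebra R k' :=
      ((algebraMap P₀.ResidueField k').comp (algebraMap R P₀.ResidueField)).toAlgebra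
    have : IsScalarTower R P₀.ResidueField k' := IsScalarTower.of_algebraMap_eq (fun _ => rfl)
    obtain ⟨S, _, _, hfinS, hfreeS, π, hπ⟩ :=
      Groth.Agent.Lib.Helper49.GRingFree.exists_finite_free_residue R P₀ k'
    obtain ⟨Q₀, hQ₀p, hQ₀, ⟨φ⟩⟩ := Groth.Agent.Lib.Helper49.GRingFree.exists_residue_equiv π hπ
    haveI : IsNoetherianRing (Ah ⊗[R] S) := IsNoetherianRing.of_finite Ah _
    haveI : IsNoetherianRing (S ⊗[R] Ah) :=
      isNoetherianRing_of_ringEquiv _ (Algebra.TensorProduct.comm R Ah S).toRingEquiv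
    have hE : IsRegularRing (Q₀.Fiber (S ⊗[R] Ah)) :=
      Groth.Agent.Lib.Helper49.GRingFree.isRegularRing_fiber_of_fibLocRing S (S ⊗[R] Ah) Q₀
        (fun r _ _ => Groth.Agent.Lib.Helper49.GRingFree.core R 𝔭 S
          (fun 𝔮 _ p _ => H S 𝔮 p) r)
    let e1 := Algebra.TensorProduct.cancelBaseChange R P₀.ResidueField k' k' Ah
    let e2 := Algebra.TensorProduct.cancelBaseChange R S Q₀.ResidueField Q₀.ResidueField Ah
    let e3 : Q₀.ResidueField ⊗[R] Ah ≃ₐ[R] k' ⊗[R] Ah :=
      Algebra.TensorProduct.congr φ AlgEquiv.refl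
    exact IsRegularRing.of_ringEquiv (R := Q₀.Fiber (S ⊗[R] Ah))
      (e2.toRingEquiv.trans (e3.toRingEquiv.trans e1.symm.toRingEquiv))
  haveI : IsLocalization (Algebra.algebraMapSubmonoid Ah 𝔭.primeCompl) Ah := by
    apply IsLocalization.of_le_isUnit
    rintro _ ⟨s, hs, rfl⟩
    show IsUnit (algebraMap R Ah s)
    rw [IsScalarTower.algebraMap_apply R A Ah]
    exact (IsLocalization.map_units A ⟨s, hs⟩).map _
  exact Groth.Agent.Lib.Helper56.isRegularHom_of_isLocalization R Ah 𝔭.primeCompl A Ah hRAh

/-- For a Noetherian ring R, being a G-ring is equivalent to the following: whenever S is an R-algebra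
that is finite and free as an R-module, every formal fibre of every local ring of S is a regular
ring. -/
theorem result (R : Type u) [CommRing R] [IsNoetherianRing R] :
    CAlg.IsGRing R ↔
      ∀ (S : Type u) [CommRing S] [Algebra R S] [Module.Finite R S] [Module.Free R S]
        (q : Ideal S) [q.IsPrime] (p : Ideal (Localization.AtPrime q)) [p.IsPrime],
        IsRegularRing (EGA4.formalFibre (Localization.AtPrime q) p) := by
  constructor
  · intro hG S _ _ _ _ q _ p _
    exact forward R hG S q p
  · intro H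
    exact ⟨inferInstance, fun 𝔭 _ => backward R H 𝔭⟩

end Groth.Agent.S9274
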