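import Groth.Statements.S9275
import Mathlib
-- import your own Groth.Agent.* helpers here

set_option autoImplicit false
universe u
open EtAlg

namespace Groth.Agent.S9275

theorem etale_away_of_mem (A B : Type u) [CommRing A] [CommRing B] [Algebra A B]
    (g h : B) (hh : Algebra.Etale A (Localization.Away h)) :
    ∃ (T : Type u) (_ : CommRing T) (_ : Algebra (Localization.Away g) T)
      (_ : IsLocalization.Away (algebraMap B (Localization.Away g) h) T),
      RingHom.Etale ((algebraMap (Localization.Away g) T).comp (algebraMap A (Localization.Away g))) := by
  let T := Localization.Away (algebraMap B (Localization.Away h) g)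
  have hunit : IsUnit (algebraMap B T g) := by
    rw [IsScalarTower.algebraMap_apply B (Localization.Away h) T]
    exact IsLocalization.Away.algebraMap_isUnit _
  let alg : Algebra (Localization.Away g) T :=
    (IsLocalization.Away.lift (S := Localization.Away g) g (g := algebraMap B T) hunit).toAlgebra
  have hcomp : (algebraMap (Localization.Away g) T).comp (algebraMap B (Localization.Away g)) =
      algebraMap B T := IsLocalization.Away.lift_comp g hunit
  have : IsScalarTower B (Localization.Away g) T :=
    IsScalarTower.of_algebraMap_eq (fun x => (RingHom.congr_fun hcomp x).symm)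
  have : IsLocalization.Away (algebraMap B (Localization.Away g) h) T :=
    IsLocalization.Away.commutes (Localization.Away g) (Localization.Away h) T g h
  refine ⟨T, inferInstance, alg, inferInstance, ?_⟩
  have h1 : (algebraMap (Localization.Away g) T).comp (algebraMap A (Localization.Away g)) =
      algebraMap A T := by
    ext a
    simp only [RingHom.comp_apply]
    rw [IsScalarTower.algebraMap_apply A B (Localization.Away g),
      ← IsScalarTower.algebraMap_apply B (Localization.Away g) T,
      IsScalarTower.algebraMap_apply A (Localization.Away h) T,
      IsScalarTower.algebraMap_apply A B (Localization.Away h),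
      ← IsScalarTower.algebraMap_apply B (Localization.Away h) T]
  rw [h1, RingHom.etale_algebraMap]
  have : Algebra.Etale (Localization.Away h) T := Algebra.Etale.of_isLocalizationAway (algebraMap B (Localization.Away h) g)
  exact Algebra.Etale.comp A (Localization.Away h) T


/-- Let A → B be a ring map and J an ideal of B such that A → B is étale at every prime of V(J), in the
sense that every prime q ⊇ J has some h ∉ q with A → B_h étale. Then there is g ∈ B mapping to a
unit of B/J such that A → B_g is étale. -/
theorem result (A B : Type u) [CommRing A] [CommRing B]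
    [Algebra A B] (J : Ideal B)
    (h : ∀ (q : Ideal B) [q.IsPrime], J ≤ q → ∃ h : B, h ∉ q ∧ Algebra.Etale A (Localization.Away h)) :
    ∃ g : B, IsUnit (Ideal.Quotient.mk J g) ∧ Algebra.Etale A (Localization.Away g) := by
  let E : Set B := {h | Algebra.Etale A (Localization.Away h)}
  have htop : J ⊔ Ideal.span E = ⊤ := by
    by_contra hne
    obtain ⟨q, hq, hle⟩ := Ideal.exists_le_maximal _ hne
    have := hq.isPrime
    obtain ⟨h0, h0q, h0E⟩ := h q (le_trans le_sup_left hle)
    exact h0q (hle (Ideal.mem_sup_right (Ideal.subset_span h0E)))
  have h1 : (1 : B) ∈ J ⊔ Ideal.span E := by rw [htop]; trivial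
  obtain ⟨j, hj, g, hg, hjg⟩ := Submodule.mem_sup.1 h1
  refine ⟨g, ?_, ?_⟩
  · have : Ideal.Quotient.mk J g = 1 := by
      rw [← map_one (Ideal.Quotient.mk J), ← hjg, map_add, Ideal.Quotient.eq_zero_iff_mem.2 hj, zero_add]
    rw [this]
    exact isUnit_one
  · rw [← RingHom.etale_algebraMap]
    apply RingHom.Etale.ofLocalizationSpanTarget.ofIsLocalization RingHom.Etale.respectsIso
      (algebraMap A (Localization.Away g)) (algebraMap B (Localization.Away g) '' E)
    · rw [← Ideal.map_span, Ideal.eq_top_iff_one]
      have hu : IsUnit (algebraMap B (Localization.Away g) g) :=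
        IsLocalization.Away.algebraMap_isUnit g
      have hm : algebraMap B (Localization.Away g) g ∈ Ideal.map (algebraMap B (Localization.Away g)) (Ideal.span E) :=
        Ideal.mem_map_of_mem _ hg
      exact (Ideal.eq_top_of_isUnit_mem _ hm hu) ▸ Submodule.mem_top
    · rintro ⟨_, h0, hh0, rfl⟩
      exact etale_away_of_mem A B g h0 hh0


end Groth.Agent.S9275
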