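import Groth.Statements.S9276
import Mathlib
import Groth.Agent.S2047
import Groth.Agent.S0506
import Groth.Agent.Lib.Helper49.GRingLocal
import Groth.Agent.Lib.Helper67.HensFF2
import Groth.Agent.Lib.Helper58.ExcellentLoc
import Groth.Agent.Lib.Helper58.PairHensNoeth
import Groth.Agent.Lib.Helper58.PairHensProps

set_option autoImplicit false
universe u
open CAlg

namespace Groth.Agent.S9276

open IsLocalRing

section Core

variable {A : Type u} [CommRing A] {I : Ideal A} {B : Type u} [CommRing B] [Algebra A B]

/-- elements of `B` are congruent mod `IB` to elements of `A`. -/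
lemma exists_sub_mem (hB : Hens2.IsPairHenselization A I B) (x : B) :
    ∃ a : A, x - algebraMap A B a ∈ I.map (algebraMap A B) := by
  have h := (Groth.Agent.Lib.Helper58.PairHens.quotientMap_pow_bijective hB 1).2
  obtain ⟨y, hy⟩ := h (Ideal.Quotient.mk _ x)
  obtain ⟨a, rfl⟩ := Ideal.Quotient.mk_surjective y
  refine ⟨a, ?_⟩
  rw [Ideal.quotientMap_mk] at hy
  have h2 := Ideal.Quotient.eq.mp hy.symm
  rwa [pow_one] at h2

/-- The henselization `S` of the local ring `A_m` (`m = n ∩ A`, `n` a maximal ideal of the
henselization `B` of the pair `(A, I)`) is also a henselization of `B_n`; consequently the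
completion map of `B_n` is regular as soon as the one of `A_m` is. -/
theorem isRegularHom_cpl_at (hB : Hens2.IsPairHenselization A I B) [IsNoetherianRing A]
    [IsNoetherianRing B] (n : Ideal B) [n.IsMaximal] (m : Ideal A) [m.IsPrime]
    (hm : m = n.comap (algebraMap A B))
    (hreg₀ : CAlg.IsRegularHom (Localization.AtPrime m)
      (AdicCompletion (maximalIdeal (Localization.AtPrime m)) (Localization.AtPrime m))) :
    CAlg.IsRegularHom (Localization.AtPrime n)
      (AdicCompletion (maximalIdeal (Localization.AtPrime n)) (Localization.AtPrime n)) := by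
  classical
  have hHB : HenselianRing B (I.map (algebraMap A B)) := hB.1
  have hIn : I.map (algebraMap A B) ≤ n :=
    le_trans HenselianRing.jac (sInf_le ⟨bot_le, inferInstance⟩)
  have hIm : I ≤ m := fun a ha => by
    rw [hm]
    exact hIn (Ideal.mem_map_of_mem _ ha)
  have hN₀ : IsNoetherianRing (Localization.AtPrime m) :=
    IsLocalization.isNoetherianRing m.primeCompl _ inferInstance
  have hN₁ : IsNoetherianRing (Localization.AtPrime n) :=
    IsLocalization.isNoetherianRing n.primeCompl _ inferInstance
  -- the henselization of `A_m`
  obtain ⟨S, _, _, _, _, hS⟩ := Groth.Agent.S0506.result (Localization.AtPrime m)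
  have hSh : HenselianLocalRing S := hS.henselian
  have hregS : CAlg.IsRegularHom S (AdicCompletion (maximalIdeal S) S) :=
    (Groth.Agent.Lib.Helper67.HensFF.isRegularHom_cpl_iff (Localization.AtPrime m) S).mpr hreg₀
  -- the map `A → S`
  let f : A →+* S := (algebraMap (Localization.AtPrime m) S).comp
    (algebraMap A (Localization.AtPrime m))
  have hfm : ∀ a ∈ m, f a ∈ maximalIdeal S := by
    intro a ha
    apply _root_.map_nonunit (algebraMap (Localization.AtPrime m) S)
    exact (IsLocalization.AtPrime.to_map_mem_maximal_iff (Localization.AtPrime m) m a).mpr ha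
  have hIf : I.map f ≤ maximalIdeal S := by
    rw [Ideal.map_le_iff_le_comap]
    intro a ha
    exact hfm a (hIm ha)
  have hHS : HenselianRing S (maximalIdeal S) := inferInstance
  obtain ⟨g, hg, -⟩ := hB.2 S (maximalIdeal S) f hHS hIf
  have hgalg : ∀ a, g (algebraMap A B a) = f a := fun a =>
    congrArg (fun ρ : A →+* S => ρ a) hg
  have hgI : ∀ x ∈ I.map (algebraMap A B), g x ∈ maximalIdeal S := by
    intro x hx
    have := Ideal.mem_map_of_mem g hx
    rw [Ideal.map_map, hg] at this
    exact hIf this
  -- `g⁻¹(m_S) = n`
  have hgn : ∀ x, x ∈ n ↔ g x ∈ maximalIdeal S := by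
    intro x
    constructor
    · intro hx
      obtain ⟨a, ha⟩ := exists_sub_mem hB x
      have han : algebraMap A B a ∈ n := by
        have h1 : x - (x - algebraMap A B a) ∈ n := n.sub_mem hx (hIn ha)
        simpa using h1
      have ham : a ∈ m := by rw [hm]; exact han
      have h2 : g x = g (x - algebraMap A B a) + f a := by
        rw [map_sub, hgalg]; ring
      rw [h2]
      exact (maximalIdeal S).add_mem (hgI _ ha) (hfm a ham)
    · intro hx
      by_contra hxn
      obtain ⟨y, z, hz, hyz⟩ := Ideal.IsMaximal.exists_inv (inferInstance : n.IsMaximal) hxn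
      have h1 : g y * g x + g z = 1 := by
        rw [← map_mul, ← map_add, hyz, map_one]
      have hz' : g z ∈ maximalIdeal S := by
        obtain ⟨a, ha⟩ := exists_sub_mem hB z
        have han : algebraMap A B a ∈ n := by
          have h1 : z - (z - algebraMap A B a) ∈ n := n.sub_mem hz (hIn ha)
          simpa using h1
        have ham : a ∈ m := by rw [hm]; exact han
        have h2 : g z = g (z - algebraMap A B a) + f a := by
          rw [map_sub, hgalg]; ring
        rw [h2]
        exact (maximalIdeal S).add_mem (hgI _ ha) (hfm a ham)
      have h3 : (1 : S) ∈ maximalIdeal S := by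
        rw [← h1]
        exact (maximalIdeal S).add_mem ((maximalIdeal S).mul_mem_left _ hx) hz'
      exact (Ideal.ne_top_iff_one _).mp (maximalIdeal.isMaximal S).ne_top h3
  -- the induced map `B_n → S`
  have hunit : ∀ y : n.primeCompl, IsUnit (g y) := by
    intro y
    have : g y ∉ maximalIdeal S := fun h => y.2 ((hgn _).mpr h)
    exact IsLocalRing.notMem_maximalIdeal.mp this
  let g₁ : Localization.AtPrime n →+* S := IsLocalization.lift (M := n.primeCompl) hunit
  have hg₁ : ∀ b : B, g₁ (algebraMap B (Localization.AtPrime n) b) = g b := fun b =>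
    IsLocalization.lift_eq hunit b
  have hg₁loc : IsLocalHom g₁ := by
    constructor
    intro x hx
    obtain ⟨b, s, rfl⟩ := IsLocalization.exists_mk'_eq n.primeCompl x
    have h1 : g₁ (IsLocalization.mk' (Localization.AtPrime n) b s) * g s = g b := by
      rw [← hg₁ s, ← map_mul, IsLocalization.mk'_spec, hg₁]
    have h2 : IsUnit (g b) := by
      rw [← h1]
      exact hx.mul (hunit s)
    have hb : b ∉ n := fun hb => by
      have := (hgn b).mp hb
      exact (IsLocalRing.notMem_maximalIdeal.mpr h2) this
    have h3 : IsUnit (algebraMap B (Localization.AtPrime n) b) :=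
      IsLocalization.map_units (Localization.AtPrime n) (⟨b, hb⟩ : n.primeCompl)
    have h4 : IsUnit (IsLocalization.mk' (Localization.AtPrime n) b s *
        algebraMap B (Localization.AtPrime n) s) := by
      rw [IsLocalization.mk'_spec]
      exact h3
    exact isUnit_of_mul_isUnit_left h4
  -- the map `A_m → B_n`
  let lam : Localization.AtPrime m →+* Localization.AtPrime n :=
    Localization.localRingHom m n (algebraMap A B) hm
  have hlam : ∀ a : A, lam (algebraMap A (Localization.AtPrime m) a) =
      algebraMap B (Localization.AtPrime n) (algebraMap A B a) := fun a =>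
    Localization.localRingHom_to_map m n (algebraMap A B) hm a
  have hlamloc : IsLocalHom lam := Localization.isLocalHom_localRingHom m n (algebraMap A B) hm
  have hE1 : g₁.comp lam = algebraMap (Localization.AtPrime m) S := by
    apply IsLocalization.ringHom_ext m.primeCompl
    ext a
    simp only [RingHom.comp_apply]
    rw [hlam, hg₁, hgalg]
    rfl
  -- `S` is a henselization of `B_n`
  letI : Algebra (Localization.AtPrime n) S := g₁.toAlgebra
  haveI : IsLocalHom (algebraMap (Localization.AtPrime n) S) := hg₁loc
  haveI : Hensel.IsHenselization (Localization.AtPrime n) S :=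
    { henselian := hSh
      universal := by
        intro T _ _ f' hf'
        haveI : IsLocalHom f' := hf'
        let h₀ : Localization.AtPrime m →+* T := f'.comp lam
        have hh₀ : IsLocalHom h₀ := inferInstance
        obtain ⟨k, hk, hkuniq⟩ := hS.universal T h₀ hh₀
        have hHT : HenselianRing T (maximalIdeal T) := inferInstance
        let F : A →+* T := h₀.comp (algebraMap A (Localization.AtPrime m))
        have hIF : I.map F ≤ maximalIdeal T := by
          rw [Ideal.map_le_iff_le_comap]
          intro a ha
          apply _root_.map_nonunit h₀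
          exact (IsLocalization.AtPrime.to_map_mem_maximal_iff (Localization.AtPrime m) m a).mpr
            (hIm ha)
        obtain ⟨g', -, hg'uniq⟩ := hB.2 T (maximalIdeal T) F hHT hIF
        have e1 : k.comp g = g' := by
          apply hg'uniq
          ext a
          simp only [RingHom.comp_apply, F]
          rw [hgalg]
          exact congrArg (fun ρ : Localization.AtPrime m →+* T =>
            ρ (algebraMap A (Localization.AtPrime m) a)) hk
        have e2 : f'.comp (algebraMap B (Localization.AtPrime n)) = g' := by
          apply hg'uniq
          ext a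
          simp only [RingHom.comp_apply, F, h₀]
          rw [hlam]
        refine ⟨k, ?_, ?_⟩
        · apply IsLocalization.ringHom_ext n.primeCompl
          ext b
          simp only [RingHom.comp_apply]
          rw [RingHom.algebraMap_toAlgebra, hg₁]
          have := congrArg (fun ρ : B →+* T => ρ b) (e1.trans e2.symm)
          exact this
        · intro k' hk'
          apply hkuniq
          rw [← hE1, ← RingHom.comp_assoc]
          have : k'.comp g₁ = f' := hk'
          rw [this] }
  exact (Groth.Agent.Lib.Helper67.HensFF.isRegularHom_cpl_iff (Localization.AtPrime n) S).mp hregS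

end Core

/-- Let A be a G-ring, I an ideal of A and B the henselization of the pair (A, I). Then B is a G-ring. -/
theorem result (A : Type u) [CommRing A] (hA : CAlg.IsGRing A) (I : Ideal A)
    (B : Type u) [CommRing B] [Algebra A B] (hB : Hens2.IsPairHenselization A I B) :
    CAlg.IsGRing B := by
  haveI hAN : IsNoetherianRing A := hA.1
  haveI hBN : IsNoetherianRing B :=
    Groth.Agent.Lib.Helper58.PairHens.isNoetherianRing_of_isPairHenselization hB
  rw [Groth.Agent.S2047.result]
  intro n _
  have hG₀ : CAlg.IsGRing (Localization.AtPrime (n.comap (algebraMap A B))) :=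
    Groth.Agent.Lib.Helper58.ExcellentLoc.isGRing_localization A hA
      (n.comap (algebraMap A B)).primeCompl _
  have hreg₀ := Groth.Agent.Lib.Helper49.GRingLocal.isRegularHom_cpl_of_isGRing
    (Localization.AtPrime (n.comap (algebraMap A B))) hG₀
  exact isRegularHom_cpl_at hB n (n.comap (algebraMap A B)) rfl hreg₀

end Groth.Agent.S9276
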