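import Groth.Statements.S9278
import Groth.Agent.Lib.Helper8.McCoy

set_option autoImplicit false
universe u
open CAlgX

namespace Groth.Agent.S9278

theorem annihilator_eq_bot_iff {R : Type u} [CommRing R] [IsNoetherianRing R] (I : Ideal R) :
    I.annihilator = ⊥ ↔ (I = ⊤ ∨ ∃ a ∈ I, IsRegular a) := by
  constructor
  · intro h
    right
    by_contra hcon
    push Not at hcon
    have hdisj : Disjoint (I : Set R) (nonZeroDivisors R) := by
      rw [Set.disjoint_left]
      intro a ha hnz
      apply hcon a ha
      rw [isRegular_iff_mem_nonZeroDivisors]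
      exact hnz
    have := Ideal.bot_lt_annihilator_of_disjoint_nonZeroDivisors hdisj
    change ⊥ < I.annihilator at this
    rw [h] at this
    exact lt_irrefl _ this
  · rintro (h | ⟨a, ha, hreg⟩)
    · rw [eq_bot_iff]
      intro x hx
      have := Submodule.mem_annihilator.mp hx 1 (h ▸ Submodule.mem_top)
      rw [Submodule.mem_bot]
      simpa using this
    · rw [eq_bot_iff]
      intro x hx
      have := Submodule.mem_annihilator.mp hx a ha
      rw [Submodule.mem_bot]
      rw [smul_eq_mul] at this
      apply hreg.right
      change x * a = 0 * a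
      rw [this, zero_mul]

/-- Let R be a Noetherian local ring and φ : R^m → R^n a map of finite free modules with matrix M. Then
φ is injective if and only if the rank of M is m and the determinantal ideal I(M) is the unit ideal
or contains a nonzerodivisor. -/
theorem result (R : Type u) [CommRing R]
    [IsLocalRing R] [IsNoetherianRing R] (m n : ℕ) (M : Matrix (Fin n) (Fin m) R) :
    Function.Injective (Matrix.mulVecLin M) ↔
      CAlgX.matrixRank M = m ∧ (CAlgX.detIdeal M = ⊤ ∨ ∃ a ∈ CAlgX.detIdeal M, IsRegular a) := by
  rw [Groth.Agent.Lib.Helper8.McCoy.injective_iff M, annihilator_eq_bot_iff]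

end Groth.Agent.S9278
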