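import Groth.Statements.S9279
import Groth.Agent.Lib.Helper38.PunctDisc
import Groth.Agent.S0543
import Groth.Agent.Lib.Helper69.HensCompl
import Groth.Agent.Lib.Helper87.HensDim
import Groth.Agent.Lib.Helper87.HensNoethStrict
import Groth.Agent.Lib.Helper56.BrDim5
import Groth.Agent.Lib.Helper56.BrDim6

set_option autoImplicit false
universe u
open Brnch

namespace Groth.Agent.S9279

/-- For a Noetherian local ring A with henselization S and completion A^ at its maximal ideal, the
spectrum of A^ with its closed point removed is preconnected exactly when the spectrum of S with its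
closed point removed is (the two sets are empty together, namely when A has dimension zero). Stated
as: the complement of the closed point in Spec A^ is preconnected iff the complement of the closed
point in Spec S is. -/
theorem result (A S : Type u) [CommRing A]
    [IsLocalRing A] [IsNoetherianRing A] [CommRing S] [IsLocalRing S] [Algebra A S]
    [IsLocalHom (algebraMap A S)] [Hensel.IsHenselization A S] :
    IsPreconnected
        ({IsLocalRing.closedPoint (AdicCompletion (IsLocalRing.maximalIdeal A) A)}ᶜ :
          Set (PrimeSpectrum (AdicCompletion (IsLocalRing.maximalIdeal A) A))) ↔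
      IsPreconnected ({IsLocalRing.closedPoint S}ᶜ : Set (PrimeSpectrum S)) := by
  open Groth.Agent.Lib.Helper87 Groth.Agent.Lib.Helper87.Hens IsLocalRing
    Groth.Agent.Lib.Helper56.BrDim Groth.Agent.Lib.Helper56
    Groth.Agent.Lib.Helper38.PunctDisc in
  classical
  haveI hNA : IsNoetherianRing (AdicCompletion (maximalIdeal A) A) :=
    Groth.Agent.S0543.result A (maximalIdeal A)
  haveI hH : HenselianLocalRing (AdicCompletion (maximalIdeal A) A) := inferInstance
  obtain ⟨ψ, hψ, -⟩ := (inferInstance : Hensel.IsHenselization A S).universal
    (AdicCompletion (maximalIdeal A) A)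
    (algebraMap A (AdicCompletion (maximalIdeal A) A)) inferInstance
  letI := ψ.toAlgebra
  haveI hff : Module.FaithfullyFlat S (AdicCompletion (maximalIdeal A) A) :=
    Groth.Agent.Lib.Helper69.HensCompl.faithfullyFlat_toCompletion A S ψ hψ
  haveI : IsLocalHom (algebraMap S (AdicCompletion (maximalIdeal A) A)) :=
    Groth.Agent.Lib.Helper69.HensCompl.isLocalHom_toCompletion A S ψ hψ
  haveI hHens : HenselianLocalRing S := (inferInstance : Hensel.IsHenselization A S).henselian
  haveI hNS : IsNoetherianRing S := by
    obtain ⟨e⟩ := nonempty_algEquiv_Hh A S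
    haveI : IsNoetherianRing (Hh A) := Hh.isNoetherianRing A
    exact isNoetherianRing_of_ringEquiv (Hh A) e.symm.toRingEquiv
  have hm : (maximalIdeal S).map (algebraMap S (AdicCompletion (maximalIdeal A) A)) =
      maximalIdeal (AdicCompletion (maximalIdeal A) A) := by
    rw [← map_maximalIdeal_of_isHenselization A S, Ideal.map_map,
      AdicCompletion.maximalIdeal_eq_map]
    congr 1
  have hres : ∀ x : AdicCompletion (maximalIdeal A) A, ∃ y : S,
      x - algebraMap S (AdicCompletion (maximalIdeal A) A) y ∈
        maximalIdeal (AdicCompletion (maximalIdeal A) A) := by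
    intro x
    obtain ⟨a, ha⟩ := exists_sub_mem_of_residue_surjective
      (algebraMap A (AdicCompletion (maximalIdeal A) A))
      (AdicCompletion.residueField_map_bijective A).2 x
    refine ⟨algebraMap A S a, ?_⟩
    have : algebraMap S (AdicCompletion (maximalIdeal A) A) (algebraMap A S a) =
        algebraMap A (AdicCompletion (maximalIdeal A) A) a := RingHom.congr_fun hψ a
    rw [this]
    exact ha
  rw [← not_iff_not, not_isPreconnected_iff, not_isPreconnected_iff]
  exact ⟨punctDisc_descent hm hres, punctDisc_of_faithfullyFlat hm⟩

end Groth.Agent.S9279
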