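import Groth.Statements.S9280
import Groth.Agent.Lib.Helper67.RegLocus9

set_option autoImplicit false
universe u
open EGA4

namespace Groth.Agent.S9280

/-- A Nagata ring of dimension 1 is J-2, that is, every finite type algebra over it has open regular
locus. -/
theorem result (R : Type u) [CommRing R] (hR : CAlg.IsNagata R)
    (hdim : ringKrullDim R = 1) : EGA4.IsJ2 R := by
  exact Groth.Agent.Lib.Helper67.RegLocus.isJ2_of_nagata_dim_one R hR hdim

end Groth.Agent.S9280
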