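import Groth.Statements.S9282
import Mathlib.RingTheory.Ideal.Cotangent
import Mathlib.RingTheory.Extension.Generators

set_option autoImplicit false
universe u
open CAlg

namespace Groth.Agent.S9282


open Algebra IsLocalRing

/-- the key ring-theoretic statement: an element of the kernel of `A[K] → K` whose image in `B[K]`
lies in the square of the kernel of `B[K] → K` lies in the square of the kernel. -/
theorem mem_sq_of_map_mem_sq (A B K : Type u) [CommRing A] [CommRing B] [CommRing K]
    [Algebra A B] [Algebra A K] [Algebra B K] [IsScalarTower A B K]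
    (𝔫 : Ideal B) (h𝔫 : ∀ x ∈ 𝔫, algebraMap B K x = 0)
    (hfs : CAlgX.IsAdicFormallySmooth A B 𝔫)
    (a : MvPolynomial K A)
    (ha : MvPolynomial.aeval (R := A) (S₁ := MvPolynomial K B)
        (fun k => MvPolynomial.X k) a ∈
      RingHom.ker (MvPolynomial.aeval (R := B) (S₁ := K) (fun k => k)) ^ 2) :
    a ∈ RingHom.ker (MvPolynomial.aeval (R := A) (S₁ := K) (fun k => k)) ^ 2 := by
  classical
  let π : MvPolynomial K A →ₐ[A] K := MvPolynomial.aeval (fun k => k)
  have hπ : Function.Surjective π := fun k => ⟨MvPolynomial.X k, MvPolynomial.aeval_X _ k⟩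
  let I : Ideal (MvPolynomial K A) := RingHom.ker π.toRingHom
  let q : (MvPolynomial K A ⧸ I ^ 2) →ₐ[A] K := π.kerSquareLift
  have hq : Function.Surjective q := fun k => by
    obtain ⟨r, rfl⟩ := hπ k
    exact ⟨Ideal.Quotient.mk _ r, rfl⟩
  let J : Ideal (MvPolynomial K A ⧸ I ^ 2) := RingHom.ker q
  have hJ : J = I.cotangentIdeal := π.ker_kerSquareLift
  have hJ2 : J ^ 2 = ⊥ := by rw [hJ, Ideal.cotangentIdeal_square]
  let ψ : B →ₐ[A] (MvPolynomial K A ⧸ I ^ 2) ⧸ J :=
    (Ideal.quotientKerAlgEquivOfSurjective hq).symm.toAlgHom.comp (IsScalarTower.toAlgHom A B K)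
  obtain ⟨χ, hχ⟩ := hfs (MvPolynomial K A ⧸ I ^ 2) J hJ2 ψ ⟨1, fun x hx => by
    rw [pow_one] at hx
    have : algebraMap B K x = 0 := h𝔫 x hx
    simp [ψ, this]⟩
  have hqχ : ∀ b, q (χ b) = algebraMap B K b := fun b => by
    have h1 : (Ideal.Quotient.mkₐ A J) (χ b) = ψ b := by rw [← hχ]; rfl
    have h2 : q (χ b) = (Ideal.quotientKerAlgEquivOfSurjective hq) (ψ b) :=
      congrArg (Ideal.quotientKerAlgEquivOfSurjective hq) h1
    rw [h2]
    exact AlgEquiv.apply_symm_apply _ _
  letI : Algebra B (MvPolynomial K A ⧸ I ^ 2) := χ.toRingHom.toAlgebra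
  have hBE : ∀ b, algebraMap B (MvPolynomial K A ⧸ I ^ 2) b = χ b := fun _ => rfl
  let χ' : MvPolynomial K B →ₐ[B] (MvPolynomial K A ⧸ I ^ 2) :=
    MvPolynomial.aeval (fun k => Ideal.Quotient.mk (I ^ 2) (MvPolynomial.X k))
  let f : MvPolynomial K A →ₐ[A] MvPolynomial K B := MvPolynomial.aeval (fun k => MvPolynomial.X k)
  -- (i)
  have h_i : ∀ r : MvPolynomial K A, χ' (f r) = Ideal.Quotient.mk (I ^ 2) r := by
    intro r
    have : (χ'.toRingHom.comp f.toRingHom) = Ideal.Quotient.mk (I ^ 2) := by
      apply MvPolynomial.ringHom_ext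
      · intro c
        change χ' (f (MvPolynomial.C c)) = _
        have h1 : f (MvPolynomial.C c) = MvPolynomial.C (algebraMap A B c) := by
          simp only [f, MvPolynomial.aeval_C]
          rw [IsScalarTower.algebraMap_apply A B (MvPolynomial K B), MvPolynomial.algebraMap_eq]
        rw [h1]
        have h2 : χ' (MvPolynomial.C (algebraMap A B c)) = χ (algebraMap A B c) := by
          simp only [χ', MvPolynomial.aeval_C, hBE]
        rw [h2, AlgHom.commutes]
        rfl
      · intro k
        change χ' (f (MvPolynomial.X k)) = _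
        simp only [f, χ', MvPolynomial.aeval_X]
    exact congrArg (fun g => g r) this
  -- (ii)
  have h_ii : ∀ z : MvPolynomial K B, q (χ' z) = MvPolynomial.aeval (R := B) (fun k : K => k) z := by
    intro z
    have : (q.toRingHom.comp χ'.toRingHom) =
        (MvPolynomial.aeval (R := B) (fun k : K => k)).toRingHom := by
      apply MvPolynomial.ringHom_ext
      · intro c
        change q (χ' (MvPolynomial.C c)) = MvPolynomial.aeval (R := B) (fun k : K => k) (MvPolynomial.C c)
        simp only [χ', MvPolynomial.aeval_C, hBE, hqχ]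
      · intro k
        change q (χ' (MvPolynomial.X k)) = MvPolynomial.aeval (R := B) (fun k : K => k) (MvPolynomial.X k)
        simp only [χ', MvPolynomial.aeval_X]
        change π (MvPolynomial.X k) = k
        exact MvPolynomial.aeval_X _ k
    exact congrArg (fun g => g z) this
  have h_iii : RingHom.ker (MvPolynomial.aeval (R := B) (S₁ := K) (fun k => k)) ≤
      J.comap χ'.toRingHom := by
    intro z hz
    rw [Ideal.mem_comap]
    change q (χ' z) = 0
    rw [h_ii]
    exact hz
  have h_iv : χ' (f a) = 0 := by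
    have h1 : RingHom.ker (MvPolynomial.aeval (R := B) (S₁ := K) (fun k => k)) ^ 2 ≤
        (J ^ 2).comap χ'.toRingHom :=
      (Ideal.pow_right_mono h_iii 2).trans (Ideal.le_comap_pow _ _)
    have h2 := h1 ha
    rw [hJ2, Ideal.mem_comap] at h2
    exact h2
  rw [h_i] at h_iv
  exact Ideal.Quotient.eq_zero_iff_mem.mp h_iv

theorem ker_self (R S : Type u) [CommRing R] [CommRing S] [Algebra R S] :
    ((Generators.self R S).toExtension.ker : Ideal (MvPolynomial S R)) =
      RingHom.ker (MvPolynomial.aeval (R := R) (S₁ := S) (fun k => k)) := by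
  ext z
  rw [RingHom.mem_ker]
  change algebraMap (Generators.self R S).Ring S z = 0 ↔ _
  rw [Generators.algebraMap_apply]
  rfl

theorem mem_sq_of_eq {R : Type u} [CommRing R] (a : R) (I I' : Ideal R) (h : I = I')
    (ha : a ∈ I' ^ 2) : a ∈ I ^ 2 := h ▸ ha

/-- Let A → B be a local ring map between Noetherian local rings that is formally smooth for the adic
topology of the maximal ideal of B, and write K for the residue field of B. In the Jacobi–Zariski
sequence attached to A → B → K, the map from H_1(NL_{K/A}) to H_1(NL_{K/B}), which is m_B/m_B^2, is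
injective; the remaining terms are exact in general, so that sequence starts with a zero. -/
theorem result (A B : Type u) [CommRing A]
    [CommRing B] [IsLocalRing A] [IsLocalRing B] [IsNoetherianRing A] [IsNoetherianRing B]
    [Algebra A B] [IsLocalHom (algebraMap A B)]
    (hfs : CAlgX.IsAdicFormallySmooth A B (IsLocalRing.maximalIdeal B)) :
    Function.Injective
      (Algebra.H1Cotangent.map A B (IsLocalRing.ResidueField B) (IsLocalRing.ResidueField B)) := by
  rw [injective_iff_map_eq_zero]
  intro x hx
  obtain ⟨⟨a, ha⟩, hxa⟩ := Extension.Cotangent.mk_surjective x.1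
  have h1 := congrArg Subtype.val hx
  rw [Algebra.H1Cotangent.map, Extension.H1Cotangent.map_apply_coe, ← hxa,
    Extension.Cotangent.map_mk, Extension.H1Cotangent.val_zero,
    Extension.Cotangent.mk_eq_zero_iff] at h1
  have h2 := mem_sq_of_map_mem_sq A B (IsLocalRing.ResidueField B) (IsLocalRing.maximalIdeal B)
    (fun x hx => (IsLocalRing.residue_eq_zero_iff x).mpr hx) hfs a ?_
  · apply Subtype.ext
    rw [← hxa, Extension.H1Cotangent.val_zero, Extension.Cotangent.mk_eq_zero_iff]
    exact mem_sq_of_eq a _ _ (ker_self A (ResidueField B)) h2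
  · exact mem_sq_of_eq _ _ _ (ker_self B (ResidueField B)).symm h1

end Groth.Agent.S9282
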