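import Groth.Statements.S9283
import Mathlib
-- import your own Groth.Agent.* helpers here

set_option autoImplicit false
universe u
open CAlg

namespace Groth.Agent.S9283

theorem aux (R : Type u) [CommRing R] [IsLocalRing R]
    (h : ∃ x : R, x ≠ 0 ∧ ∀ f ∈ IsLocalRing.maximalIdeal R, ∃ n : ℕ, f ^ n * x = 0)
    (s : Finset R) (hs : ∀ f ∈ s, f ∈ IsLocalRing.maximalIdeal R) :
    ∃ y : R, y ≠ 0 ∧ (∀ f ∈ IsLocalRing.maximalIdeal R, ∃ n : ℕ, f ^ n * y = 0) ∧
      ∀ f ∈ s, f * y = 0 := by
  classical
  induction s using Finset.induction_on with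
  | empty =>
    obtain ⟨x, hx0, hx⟩ := h
    exact ⟨x, hx0, hx, by simp⟩
  | insert a s ha ih =>
    obtain ⟨y, hy0, hy, hys⟩ := ih (fun f hf => hs f (Finset.mem_insert_of_mem hf))
    have hex := hy a (hs a (Finset.mem_insert_self a s))
    have hn0 : Nat.find hex ≠ 0 := by
      intro h0
      have := Nat.find_spec hex
      rw [h0, pow_zero, one_mul] at this
      exact hy0 this
    obtain ⟨k, hk⟩ := Nat.exists_eq_succ_of_ne_zero hn0
    have hk1 : a ^ k * y ≠ 0 := by
      have := Nat.find_min hex (m := k) (by omega)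
      exact this
    have hk2 : a * (a ^ k * y) = 0 := by
      have := Nat.find_spec hex
      rw [hk, Nat.succ_eq_add_one, pow_succ'] at this
      rw [← mul_assoc]
      exact this
    refine ⟨a ^ k * y, hk1, ?_, ?_⟩
    · intro f hf
      obtain ⟨n, hn⟩ := hy f hf
      refine ⟨n, ?_⟩
      rw [mul_left_comm, hn, mul_zero]
    · intro f hf
      rcases Finset.mem_insert.1 hf with rfl | hf'
      · exact hk2
      · rw [mul_left_comm, hys f hf', mul_zero]


/-- Let R be an auto-associated ring, that is, a local ring whose maximal ideal is weakly associated to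
R: some nonzero x ∈ R is killed by a power of every element of the maximal ideal. Then every proper
finitely generated ideal of R has a nonzero annihilator. -/
theorem result (R : Type u) [CommRing R] [IsLocalRing R]
    (h : ∃ x : R, x ≠ 0 ∧ ∀ f ∈ IsLocalRing.maximalIdeal R, ∃ n : ℕ, f ^ n * x = 0)
    (I : Ideal R) (hI : I.FG) (hI' : I ≠ ⊤) : I.annihilator ≠ ⊥ := by
  obtain ⟨s, rfl⟩ := hI
  have hle := IsLocalRing.le_maximalIdeal hI'
  obtain ⟨y, hy0, -, hys⟩ := aux R h s (fun f hf => hle (Ideal.subset_span hf))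
  intro hbot
  have : y ∈ (Ideal.span (s : Set R)).annihilator := by
    rw [Ideal.span, Submodule.mem_annihilator_span]
    rintro ⟨f, hf⟩
    rw [smul_eq_mul, mul_comm]
    exact hys f hf
  rw [hbot] at this
  exact hy0 (by simpa using this)


end Groth.Agent.S9283
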