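import Groth.Statements.S9284
import Groth.Agent.Lib.Helper8.McCoy
import Mathlib.LinearAlgebra.TensorProduct.Finiteness
import Mathlib.Algebra.Module.Projective

set_option autoImplicit false
universe u
open CAlgX

namespace Groth.Agent.S9284

open Groth.Agent.Lib.Helper8.McCoy Matrix

section Mat
variable {R : Type u} [CommRing R] {m n : ℕ}

def leftInvIdeal (A : Matrix (Fin m) (Fin n) R) : Ideal R where
  carrier := {d | ∃ W : Matrix (Fin n) (Fin m) R, W * A = d • (1 : Matrix (Fin n) (Fin n) R)}
  zero_mem' := ⟨0, by simp⟩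
  add_mem' := by
    rintro a b ⟨W₁, h₁⟩ ⟨W₂, h₂⟩
    exact ⟨W₁ + W₂, by rw [Matrix.add_mul, h₁, h₂, add_smul]⟩
  smul_mem' := by
    rintro c a ⟨W, h⟩
    exact ⟨c • W, by rw [Matrix.smul_mul, h, smul_smul, smul_eq_mul]⟩

theorem minorIdeal_le_leftInvIdeal (A : Matrix (Fin m) (Fin n) R) :
    minorIdeal A n ≤ leftInvIdeal A := by
  unfold minorIdeal
  rw [Ideal.span_le]
  rintro _ ⟨⟨f, g⟩, rfl⟩
  have h1 : A.submatrix f g = (A.submatrix f id) * (1 : Matrix (Fin n) (Fin n) R).submatrix id g := by
    have := Matrix.mul_submatrix_one (Equiv.refl (Fin n)) g (A.submatrix f id)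
    rw [Equiv.coe_refl] at this
    rw [this]
    simp [Matrix.submatrix_submatrix]
  have h2 : A.submatrix f id = (1 : Matrix (Fin m) (Fin m) R).submatrix f id * A := by
    have := Matrix.one_submatrix_mul f (Equiv.refl (Fin m)) A
    rw [Equiv.coe_refl] at this
    rw [this]
    simp
  change (A.submatrix f g).det ∈ leftInvIdeal A
  rw [h1, Matrix.det_mul]
  apply Ideal.mul_mem_right
  refine ⟨(A.submatrix f id).adjugate * (1 : Matrix (Fin m) (Fin m) R).submatrix f id, ?_⟩
  rw [Matrix.mul_assoc, ← h2, Matrix.adjugate_mul]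

theorem exists_leftInverse_of_injective
    (hP : (∀ I : Ideal R, I.FG → I ≠ ⊤ → I.annihilator ≠ ⊥))
    (f : (Fin n → R) →ₗ[R] (Fin m → R)) (hf : Function.Injective f) :
    ∃ w : (Fin m → R) →ₗ[R] (Fin n → R), w ∘ₗ f = LinearMap.id := by
  set A : Matrix (Fin m) (Fin n) R := LinearMap.toMatrix' f with hA
  have hfA : Matrix.mulVecLin A = f := by
    rw [← Matrix.toLin'_apply', hA, Matrix.toLin'_toMatrix']
  have hann : (minorIdeal A n).annihilator = ⊥ := by
    apply annihilator_eq_bot_of_injective
    rw [hfA]
    exact hf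
  have htop : minorIdeal A n = ⊤ := by
    by_contra hne
    exact hP _ (Submodule.fg_span (Set.finite_range _)) hne hann
  have h1 : (1 : R) ∈ leftInvIdeal A := by
    apply minorIdeal_le_leftInvIdeal
    rw [htop]
    exact Submodule.mem_top
  obtain ⟨W, hW⟩ := h1
  refine ⟨Matrix.mulVecLin W, ?_⟩
  rw [← hfA, ← Matrix.mulVecLin_mul, hW, one_smul, Matrix.mulVecLin_one]

end Mat

section Free
variable {R : Type u} [CommRing R]

theorem exists_finite_summand {β : Type u} (T : Finset β) :
    ∃ (m : ℕ) (c : (Fin m → R) →ₗ[R] (β →₀ R)) (c' : (β →₀ R) →ₗ[R] (Fin m → R)),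
      c' ∘ₗ c = LinearMap.id ∧ ∀ g : β →₀ R, g.support ⊆ T → c (c' g) = g := by
  classical
  let e : Fin T.card ≃ T := T.equivFin.symm
  let c : (Fin T.card → R) →ₗ[R] (β →₀ R) :=
    Fintype.linearCombination R (fun k => Finsupp.single (e k : β) (1 : R))
  let c' : (β →₀ R) →ₗ[R] (Fin T.card → R) :=
    LinearMap.pi (fun k => Finsupp.lapply (e k : β))
  have hc : ∀ x : Fin T.card → R, c x = ∑ k, x k • Finsupp.single (e k : β) (1 : R) := by
    intro x
    simp [c, Fintype.linearCombination_apply]
  have hc' : ∀ (g : β →₀ R) k, c' g k = g (e k) := by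
    intro g k
    simp [c']
  refine ⟨T.card, c, c', ?_, ?_⟩
  · ext k l
    simp only [LinearMap.coe_comp, Function.comp_apply, LinearMap.coe_single, LinearMap.id_coe,
      id_eq]
    rw [hc', hc]
    simp only [Finsupp.coe_finsetSum, Finsupp.coe_smul, Finset.sum_apply, Pi.smul_apply,
      smul_eq_mul]
    rw [Finset.sum_eq_single k]
    · rw [Pi.single_eq_same, one_mul, Finsupp.single_apply, Pi.single_apply]
      by_cases h : l = k
      · subst h
        simp
      · rw [if_neg h, if_neg]
        intro h2
        exact h (e.injective (Subtype.ext h2)).symm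
    · intro b _ hb
      rw [Pi.single_eq_of_ne hb, zero_mul]
    · intro h
      exact absurd (Finset.mem_univ k) h
  · intro g hg
    rw [hc]
    ext b
    simp only [hc', Finsupp.coe_finsetSum, Finsupp.coe_smul, Finset.sum_apply, Pi.smul_apply,
      smul_eq_mul, Finsupp.single_apply]
    by_cases hb : b ∈ T
    · rw [Finset.sum_eq_single (e.symm ⟨b, hb⟩)]
      · simp
      · intro k _ hk
        have : (e k : β) ≠ b := by
          intro h
          apply hk
          apply e.injective
          rw [Equiv.apply_symm_apply]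
          exact Subtype.ext h
        rw [if_neg this, mul_zero]
      · intro h
        exact absurd (Finset.mem_univ _) h
    · have hgb : g b = 0 := by
        by_contra h
        exact hb (hg (Finsupp.mem_support_iff.mpr h))
      rw [hgb]
      apply Finset.sum_eq_zero
      intro k _
      have : (e k : β) ≠ b := by
        intro h
        apply hb
        rw [← h]
        exact (e k).2
      rw [if_neg this, mul_zero]

theorem free_case (hP : (∀ I : Ideal R, I.FG → I ≠ ⊤ → I.annihilator ≠ ⊥))
    {α β : Type u} (v : (α →₀ R) →ₗ[R] (β →₀ R)) (hv : Function.Injective v)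
    (Q : Type u) [AddCommGroup Q] [Module R Q] : Function.Injective (v.rTensor Q) := by
  classical
  rw [injective_iff_map_eq_zero]
  intro y hy
  obtain ⟨P, hPy⟩ := TensorProduct.exists_finset y
  obtain ⟨n, a, a', haa, ha⟩ := exists_finite_summand (R := R)
    (P.biUnion (fun p => p.1.support))
  have hy0 : y = (a.rTensor Q) (∑ p ∈ P, (a' p.1) ⊗ₜ[R] p.2) := by
    rw [map_sum, hPy]
    apply Finset.sum_congr rfl
    intro p hp
    rw [LinearMap.rTensor_tmul, ha]
    intro x hx
    exact Finset.mem_biUnion.mpr ⟨p, hp, hx⟩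
  set y₀ := ∑ p ∈ P, (a' p.1) ⊗ₜ[R] p.2 with hy₀
  set b : (Fin n → R) →ₗ[R] (β →₀ R) := v ∘ₗ a with hb
  obtain ⟨m, c, c', hcc, hc⟩ := exists_finite_summand (R := R)
    (Finset.univ.biUnion (fun k : Fin n => (b (Pi.single k 1)).support))
  have hcb : c ∘ₗ c' ∘ₗ b = b := by
    apply LinearMap.pi_ext'
    intro k
    ext
    simp only [LinearMap.coe_comp, Function.comp_apply, LinearMap.coe_single]
    rw [hc]
    intro x hx
    exact Finset.mem_biUnion.mpr ⟨k, Finset.mem_univ k, hx⟩
  have ha_inj : Function.Injective a := by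
    intro x x' h
    have := congrArg a' h
    rwa [← LinearMap.comp_apply, ← LinearMap.comp_apply, haa] at this
  have hinj : Function.Injective (c' ∘ₗ b) := by
    intro x x' h
    have h2 := congrArg c h
    rw [← LinearMap.comp_apply, ← LinearMap.comp_apply, hcb] at h2
    exact ha_inj (hv h2)
  obtain ⟨w, hw⟩ := exists_leftInverse_of_injective hP (c' ∘ₗ b) hinj
  have h0 : ((c' ∘ₗ b).rTensor Q) y₀ = 0 := by
    rw [hb, ← LinearMap.comp_assoc, LinearMap.rTensor_comp_apply, LinearMap.rTensor_comp_apply,
      ← hy0, hy, map_zero]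
  have h1 : y₀ = 0 := by
    have := congrArg (w.rTensor Q) h0
    rwa [← LinearMap.rTensor_comp_apply, hw, LinearMap.rTensor_id_apply, map_zero] at this
  rw [hy0, h1, map_zero]

end Free

theorem main (R : Type u) [CommRing R]
    (hP : (∀ I : Ideal R, I.FG → I ≠ ⊤ → I.annihilator ≠ ⊥))
    (N M : Type u) [AddCommGroup N] [Module R N] [Module.Projective R N] [AddCommGroup M]
    [Module R M] [Module.Projective R M] (u : N →ₗ[R] M) :
    CAlgX.UniversallyInjective R u ↔ Function.Injective u := by
  constructor
  · intro h x x' hxx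
    have h1 := h R
    have h2 : (u.rTensor R) (x ⊗ₜ[R] (1 : R)) = (u.rTensor R) (x' ⊗ₜ[R] (1 : R)) := by
      rw [LinearMap.rTensor_tmul, LinearMap.rTensor_tmul, hxx]
    have h3 := congrArg (TensorProduct.rid R N) (h1 h2)
    simpa using h3
  · intro hu Q _ _
    obtain ⟨i, hi⟩ := Module.projective_def'.mp (inferInstance : Module.Projective R N)
    obtain ⟨j, hj⟩ := Module.projective_def'.mp (inferInstance : Module.Projective R M)
    set r : (N →₀ R) →ₗ[R] N := Finsupp.linearCombination R id with hr
    have hj_inj : Function.Injective j := by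
      intro x x' h
      have := congrArg (Finsupp.linearCombination R id) h
      rwa [← LinearMap.comp_apply, ← LinearMap.comp_apply, hj] at this
    have hri : ∀ x, r (i x) = x := fun x => by
      rw [← LinearMap.comp_apply, hi, LinearMap.id_apply]
    let v₀ : (N →₀ R) →ₗ[R] (M →₀ R) × (N →₀ R) :=
      (j ∘ₗ u ∘ₗ r).prod (LinearMap.id - i ∘ₗ r)
    have hv₀ : Function.Injective v₀ := by
      rw [injective_iff_map_eq_zero]
      intro g hg
      have h1 : j (u (r g)) = 0 := congrArg Prod.fst hg
      have h2 : g - i (r g) = 0 := congrArg Prod.snd hg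
      have h3 : r g = 0 := by
        apply hu
        rw [map_zero]
        apply hj_inj
        rw [map_zero, h1]
      rw [h3, map_zero, sub_zero] at h2
      exact h2
    let E := (Finsupp.sumFinsuppLEquivProdFinsupp (M := R) R (α := M) (β := N)).symm
    let v : (N →₀ R) →ₗ[R] (M ⊕ N →₀ R) := E.toLinearMap ∘ₗ v₀
    have hv : Function.Injective v := E.injective.comp hv₀
    have hvQ := free_case hP v hv Q
    have hvi : v ∘ₗ i = (E.toLinearMap ∘ₗ LinearMap.inl R (M →₀ R) (N →₀ R) ∘ₗ j) ∘ₗ u := by
      ext x : 1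
      simp only [LinearMap.coe_comp, Function.comp_apply, v, LinearEquiv.coe_coe]
      congr 1
      apply Prod.ext
      · change j (u (r (i x))) = j (u x)
        rw [hri]
      · change i x - i (r (i x)) = 0
        rw [hri, sub_self]
    rw [injective_iff_map_eq_zero]
    intro x hx
    have h1 : (v.rTensor Q) ((i.rTensor Q) x) = 0 := by
      rw [← LinearMap.rTensor_comp_apply, hvi, LinearMap.rTensor_comp_apply, hx, map_zero]
    have h2 : (i.rTensor Q) x = 0 := by
      apply hvQ
      rw [h1, map_zero]
    have h3 := congrArg (r.rTensor Q) h2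
    rwa [← LinearMap.rTensor_comp_apply, hi, LinearMap.rTensor_id_apply, map_zero] at h3


/-- Let R be a ring such that every proper finitely generated ideal of R has a nonzero annihilator, and
let u : N → M be an R-linear map between projective R-modules. Then u stays injective after
tensoring with every R-module exactly when u is injective. -/
theorem result (R : Type u) [CommRing R]
    (hP : (∀ I : Ideal R, I.FG → I ≠ ⊤ → I.annihilator ≠ ⊥))
    (N M : Type u) [AddCommGroup N] [Module R N] [Module.Projective R N] [AddCommGroup M]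
    [Module R M] [Module.Projective R M] (u : N →ₗ[R] M) :
    CAlgX.UniversallyInjective R u ↔ Function.Injective u := by
  exact main R hP N M u

end Groth.Agent.S9284
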