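import Groth.Statements.S9285
import Mathlib.RingTheory.Ideal.Operations
import Mathlib.RingTheory.Finiteness.Basic
import Mathlib.LinearAlgebra.StdBasis

set_option autoImplicit false
universe u
open CAlg

namespace Groth.Agent.S9285

/-- A ring R has the property that every proper finitely generated ideal has a nonzero annihilator if
and only if every injective linear map R → R^n admits a retraction. -/
theorem result (R : Type u) [CommRing R] :
    (∀ I : Ideal R, I.FG → I ≠ ⊤ → I.annihilator ≠ ⊥) ↔
      ∀ (n : ℕ) (u : R →ₗ[R] (Fin n → R)), Function.Injective u →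
        ∃ v : (Fin n → R) →ₗ[R] R, v.comp u = LinearMap.id := by
  constructor
  · intro hP n u hu
    set a : Fin n → R := u 1 with ha
    have hur : ∀ r : R, u r = fun i => r * a i := by
      intro r
      have : u r = r • u 1 := by rw [← map_smul, smul_eq_mul, mul_one]
      rw [this]; rfl
    have hI : Ideal.span (Set.range a) = ⊤ := by
      by_contra h
      have hfg : (Ideal.span (Set.range a)).FG :=
        Submodule.fg_span (Set.finite_range a)
      obtain ⟨r, hr, hr0⟩ := (Submodule.ne_bot_iff _).mp (hP _ hfg h)
      apply hr0
      apply hu
      rw [map_zero, hur]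
      funext i
      have := (Submodule.mem_annihilator.mp hr) (a i) (Ideal.subset_span ⟨i, rfl⟩)
      simpa using this
    have h1 : (1 : R) ∈ Ideal.span (Set.range a) := hI ▸ Submodule.mem_top
    obtain ⟨c, hc⟩ := (Ideal.mem_span_range_iff_exists_fun).mp h1
    refine ⟨∑ i, c i • LinearMap.proj i, ?_⟩
    apply LinearMap.ext
    intro r
    simp only [LinearMap.comp_apply, LinearMap.id_apply, LinearMap.sum_apply,
      LinearMap.smul_apply, LinearMap.proj_apply, hur, smul_eq_mul]
    calc ∑ i, c i * (r * a i) = r * ∑ i, c i * a i := by
          rw [Finset.mul_sum]; exact Finset.sum_congr rfl fun i _ => by ring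
      _ = r := by rw [hc, mul_one]
  · intro hS I hfg hI hann
    obtain ⟨n, a, ha⟩ := Submodule.fg_iff_exists_fin_generating_family.mp hfg
    let u : R →ₗ[R] (Fin n → R) := LinearMap.toSpanSingleton R (Fin n → R) a
    have hu : Function.Injective u := by
      rw [injective_iff_map_eq_zero]
      intro r hr
      have hr' : ∀ i, r * a i = 0 := fun i => by
        have := congr_fun hr i
        simpa [u, LinearMap.toSpanSingleton_apply] using this
      have : r ∈ I.annihilator := by
        rw [← ha, Submodule.mem_annihilator_span]
        rintro ⟨_, i, rfl⟩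
        simpa using hr' i
      rw [hann] at this
      simpa using this
    obtain ⟨v, hv⟩ := hS n u hu
    apply hI
    rw [Ideal.eq_top_iff_one]
    have h1 : v a = 1 := by
      have := LinearMap.congr_fun hv 1
      simpa [u, LinearMap.toSpanSingleton_apply] using this
    rw [← h1, LinearMap.pi_apply_eq_sum_univ v a]
    refine Submodule.sum_mem _ fun i _ => ?_
    rw [smul_eq_mul]
    refine Ideal.mul_mem_right _ _ ?_
    rw [← ha]
    exact Submodule.subset_span ⟨i, rfl⟩

end Groth.Agent.S9285
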