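import Groth.Statements.S9286
import Groth.Agent.S9285
import Mathlib.RingTheory.Finiteness.Projective
import Mathlib.Algebra.Module.Projective
import Mathlib.LinearAlgebra.Pi
import Mathlib.RingTheory.Finiteness.Prod

set_option autoImplicit false
universe u
open CAlg

namespace Groth.Agent.S9286


section helpers

variable {R : Type u} [CommRing R]

/-- Every injective map out of `N` into a finite projective module admits a retraction. -/
def Good (R : Type u) [CommRing R] (N : Type u) [AddCommGroup N] [Module R N] : Prop :=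
  ∀ (M : Type u) [AddCommGroup M] [Module R M] [Module.Finite R M] [Module.Projective R M]
    (u : N →ₗ[R] M), Function.Injective u → ∃ r : M →ₗ[R] N, r.comp u = LinearMap.id

lemma exists_functional (hP : ∀ I : Ideal R, I.FG → I ≠ ⊤ → I.annihilator ≠ ⊥)
    (M : Type u) [AddCommGroup M] [Module R M] [Module.Finite R M] [Module.Projective R M]
    (m₀ : M) (h : Function.Injective (LinearMap.toSpanSingleton R M m₀)) :
    ∃ l : M →ₗ[R] R, l m₀ = 1 := by
  obtain ⟨n, f, g, -, ginj, -⟩ := Module.Finite.exists_comp_eq_id_of_projective R M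
  obtain ⟨v, hv⟩ := (Groth.Agent.S9285.result R).mp hP n
    (g.comp (LinearMap.toSpanSingleton R M m₀)) (ginj.comp h)
  refine ⟨v.comp g, ?_⟩
  have := LinearMap.congr_fun hv 1
  simpa [LinearMap.toSpanSingleton_apply] using this

lemma good_of_equiv {N N₂ : Type u} [AddCommGroup N] [Module R N] [AddCommGroup N₂] [Module R N₂]
    (e : N ≃ₗ[R] N₂) (h : Good R N₂) : Good R N := by
  intro M _ _ _ _ u hu
  obtain ⟨r₂, hr₂⟩ := h M (u.comp e.symm.toLinearMap) (hu.comp e.symm.injective)
  refine ⟨e.symm.toLinearMap.comp r₂, ?_⟩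
  apply LinearMap.ext
  intro x
  have := LinearMap.congr_fun hr₂ (e x)
  simp only [LinearMap.comp_apply, LinearEquiv.coe_coe, LinearEquiv.symm_apply_apply,
    LinearMap.id_apply] at this ⊢
  rw [this, LinearEquiv.symm_apply_apply]

lemma good_prod (hP : ∀ I : Ideal R, I.FG → I ≠ ⊤ → I.annihilator ≠ ⊥)
    {N' : Type u} [AddCommGroup N'] [Module R N'] (h : Good R N') : Good R (R × N') := by
  intro M _ _ _ _ u hu
  set m₀ : M := u (1, 0) with hm₀
  have hinj : Function.Injective (LinearMap.toSpanSingleton R M m₀) := by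
    rw [injective_iff_map_eq_zero]
    intro t ht
    rw [LinearMap.toSpanSingleton_apply, hm₀, ← map_smul] at ht
    have := hu (ht.trans (map_zero u).symm)
    simpa using congrArg Prod.fst this
  obtain ⟨l, hl⟩ := exists_functional hP M m₀ hinj
  -- the projection onto `ker l`
  let π : M →ₗ[R] LinearMap.ker l :=
    LinearMap.codRestrict (LinearMap.ker l) (LinearMap.id - (LinearMap.toSpanSingleton R M m₀).comp l)
      (by
        intro m
        simp [LinearMap.mem_ker, LinearMap.toSpanSingleton_apply, hl])
  have hπ : ∀ m, ((π m : LinearMap.ker l) : M) = m - l m • m₀ := by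
    intro m
    simp [π, LinearMap.toSpanSingleton_apply]
  have hπι : π.comp (LinearMap.ker l).subtype = LinearMap.id := by
    apply LinearMap.ext
    intro x
    apply Subtype.ext
    rw [LinearMap.comp_apply, hπ]
    have : l (x : M) = 0 := x.2
    simp [this]
  haveI : Module.Projective R (LinearMap.ker l) :=
    Module.Projective.of_split (LinearMap.ker l).subtype π hπι
  haveI : Module.Finite R (LinearMap.ker l) :=
    Module.Finite.of_surjective π (fun x => ⟨x, by
      have := LinearMap.congr_fun hπι x
      simpa using this⟩)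
  let u' : N' →ₗ[R] LinearMap.ker l := π.comp (u.comp (LinearMap.inr R R N'))
  have hu' : Function.Injective u' := by
    rw [injective_iff_map_eq_zero]
    intro x hx
    have h1 : ((u' x : LinearMap.ker l) : M) = 0 := by rw [hx]; rfl
    have h2 : u (0, x) = l (u (0, x)) • m₀ := by
      have : ((u' x : LinearMap.ker l) : M) = u (0, x) - l (u (0, x)) • m₀ := by
        simp only [u', LinearMap.comp_apply, hπ, LinearMap.inr_apply]
      rw [this] at h1
      exact sub_eq_zero.mp h1
    rw [hm₀, ← map_smul] at h2
    have := hu h2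
    simpa using (congrArg Prod.snd this)
  obtain ⟨r', hr'⟩ := h (LinearMap.ker l) u' hu'
  let ρ : M →ₗ[R] N' := r'.comp π
  refine ⟨(l - (l.comp (u.comp ((LinearMap.inr R R N').comp ρ)))).prod ρ, ?_⟩
  apply LinearMap.ext
  rintro ⟨t, x⟩
  have hdecomp : u (t, x) = t • m₀ + u (0, x) := by
    rw [hm₀, ← map_smul, ← map_add]
    simp
  have hπm₀ : π m₀ = 0 := by
    apply Subtype.ext
    rw [hπ, hl, one_smul, sub_self]; rfl
  have hρ : ρ (u (t, x)) = x := by
    have h1 : π (u (t, x)) = u' x := by
      rw [hdecomp, map_add, map_smul, hπm₀, smul_zero, zero_add]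
      rfl
    simp only [ρ, LinearMap.comp_apply, h1]
    exact LinearMap.congr_fun hr' x
  have hgoal : ((l - (l.comp (u.comp ((LinearMap.inr R R N').comp ρ)))).prod ρ) (u (t, x)) =
      (l (u (t, x)) - l (u (0, ρ (u (t, x)))), ρ (u (t, x))) := rfl
  rw [LinearMap.comp_apply, hgoal, hρ, LinearMap.id_apply]
  apply Prod.ext
  · show l (u (t, x)) - l (u (0, x)) = t
    rw [hdecomp, map_add, map_smul, hl]
    simp
  · rfl

lemma good_fin (hP : ∀ I : Ideal R, I.FG → I ≠ ⊤ → I.annihilator ≠ ⊥) (a : ℕ) :
    Good R (Fin a → R) := by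
  induction a with
  | zero =>
    intro M _ _ _ _ u hu
    refine ⟨0, ?_⟩
    apply LinearMap.ext
    intro x
    exact Subsingleton.elim _ _
  | succ a ih =>
    exact good_of_equiv (Fin.consLinearEquiv R (fun _ : Fin (a + 1) => R)).symm (good_prod hP ih)

lemma good_of_projective (hP : ∀ I : Ideal R, I.FG → I ≠ ⊤ → I.annihilator ≠ ⊥)
    (N : Type u) [AddCommGroup N] [Module R N] [Module.Finite R N] [Module.Projective R N] :
    Good R N := by
  intro M _ _ _ _ u hu
  obtain ⟨a, p, i, -, -, hpi⟩ := Module.Finite.exists_comp_eq_id_of_projective R N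
  have hpi' : ∀ n, p (i n) = n := fun n => LinearMap.congr_fun hpi n
  let uh : (Fin a → R) →ₗ[R] M × (Fin a → R) :=
    (u.comp p).prod (LinearMap.id - i.comp p)
  have huh : Function.Injective uh := by
    rw [injective_iff_map_eq_zero]
    intro x hx
    have h1 : u (p x) = 0 := congrArg Prod.fst hx
    have h2 : x - i (p x) = 0 := congrArg Prod.snd hx
    have h3 : p x = 0 := hu (h1.trans (map_zero u).symm)
    rw [h3, map_zero, sub_zero] at h2
    exact h2
  obtain ⟨rh, hrh⟩ := good_fin hP a (M × (Fin a → R)) uh huh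
  refine ⟨p.comp (rh.comp (LinearMap.inl R M (Fin a → R))), ?_⟩
  apply LinearMap.ext
  intro n
  have h1 : uh (i n) = (u n, 0) := by
    simp [uh, hpi']
  have h2 := LinearMap.congr_fun hrh (i n)
  simp only [LinearMap.comp_apply, LinearMap.id_apply, h1] at h2
  simp only [LinearMap.comp_apply, LinearMap.id_apply, LinearMap.inl_apply, h2, hpi']

end helpers

/-- Let R be a ring in which every proper finitely generated ideal has a nonzero annihilator. Given an
injective R-linear map u : N → M, where both N and M are finite and projective over R, the quotient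
Coker(u) = M/u(N) is again projective as an R-module. -/
theorem result (R : Type u) [CommRing R]
    (hP : (∀ I : Ideal R, I.FG → I ≠ ⊤ → I.annihilator ≠ ⊥))
    (N M : Type u) [AddCommGroup N] [Module R N] [Module.Finite R N] [Module.Projective R N]
    [AddCommGroup M] [Module R M] [Module.Finite R M] [Module.Projective R M]
    (u : N →ₗ[R] M) (hu : Function.Injective u) :
    Module.Projective R (M ⧸ LinearMap.range u) := by
  obtain ⟨r, hr⟩ := good_of_projective hP N M u hu
  have hr' : ∀ n, r (u n) = n := fun n => LinearMap.congr_fun hr n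
  let sec : (M ⧸ LinearMap.range u) →ₗ[R] M :=
    Submodule.liftQ (LinearMap.range u) (LinearMap.id - u.comp r) (by
      rintro _ ⟨n, rfl⟩
      simp [hr'])
  refine Module.Projective.of_split sec (Submodule.mkQ (LinearMap.range u)) ?_
  apply LinearMap.ext
  intro y
  obtain ⟨m, rfl⟩ := Submodule.mkQ_surjective _ y
  simp only [LinearMap.comp_apply, LinearMap.id_apply, sec, Submodule.mkQ_apply,
    Submodule.liftQ_apply, LinearMap.sub_apply]
  rw [Submodule.Quotient.eq]
  have : m - u (r m) - m = - u (r m) := by abel
  rw [this]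
  exact neg_mem ⟨r m, rfl⟩

end Groth.Agent.S9286
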