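import Groth.Statements.S9290
import Groth.Agent.Lib.Helper67.QFFormal4
import Groth.Agent.Lib.Helper87.HensNoeth
import Groth.Agent.S0543

set_option autoImplicit false
universe u
open CAlg

namespace Groth.Agent.S9290

/-- Let R' be a Noetherian algebra of finite type over the Noetherian ring R, quasi-finite at the prime
p' over p, and let Q' ⊆ R'_{p'} and Q ⊆ R_p be primes with the same contraction to R (that is, a
prime q' ⊆ p' of R' lying over the prime q ⊆ p of R). If the formal fibre of R_p at Q is
geometrically regular over κ(Q), then the formal fibre of R'_{p'} at Q' is geometrically regular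
over κ(Q'). -/
theorem result (R R' : Type u) [CommRing R] [CommRing R']
    [IsNoetherianRing R] [IsNoetherianRing R'] [Algebra R R'] [Algebra.FiniteType R R']
    (p' : Ideal R') [p'.IsPrime] [Algebra.QuasiFiniteAt R p']
    (Q' : Ideal (Localization.AtPrime p')) [Q'.IsPrime]
    (Q : Ideal (Localization.AtPrime (Ideal.comap (algebraMap R R') p'))) [Q.IsPrime]
    (hQ : Ideal.comap (algebraMap R (Localization.AtPrime (Ideal.comap (algebraMap R R') p'))) Q =
      Ideal.comap (algebraMap R (Localization.AtPrime p')) Q')
    (h : CAlg.IsGeometricallyRegular Q.ResidueField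
      (EGA4.formalFibre (Localization.AtPrime (Ideal.comap (algebraMap R R') p')) Q)) :
    CAlg.IsGeometricallyRegular Q'.ResidueField (EGA4.formalFibre (Localization.AtPrime p') Q') := by
  classical
  let p : Ideal R := Ideal.comap (algebraMap R R') p'
  haveI hpp : p.IsPrime := Ideal.comap_isPrime _ _
  let A := Localization.AtPrime p
  haveI hAN : IsNoetherianRing A := IsLocalization.isNoetherianRing p.primeCompl _ inferInstance
  let Ah := AdicCompletion (IsLocalRing.maximalIdeal A) A
  haveI hAhN : IsNoetherianRing Ah := Groth.Agent.S0543.result A _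
  haveI : HenselianLocalRing Ah := Groth.Agent.Lib.Helper87.Hens.henselianLocalRing_adicCompletion A
  let ρ : Ah →ₐ[R] p.ResidueField :=
    { (AdicCompletion.evalOneₐ (IsLocalRing.maximalIdeal A)).toRingHom with
      commutes' := fun r => by
        show AdicCompletion.evalOneₐ (IsLocalRing.maximalIdeal A)
          (algebraMap A Ah (algebraMap R A r)) = _
        rw [AlgHom.commutes]
        rfl }
  have hker : RingHom.ker ρ.toRingHom = IsLocalRing.maximalIdeal Ah := by
    rw [AdicCompletion.maximalIdeal_eq_map,
      ← AdicCompletion.ker_evalOneₐ_eq_map _ (IsLocalRing.maximalIdeal A).fg_of_isNoetherianRing]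
    rfl
  have hm : IsLocalRing.maximalIdeal Ah = p.map (algebraMap R Ah) := by
    rw [AdicCompletion.maximalIdeal_eq_map]
    have h1 : IsLocalRing.maximalIdeal A = p.map (algebraMap R A) :=
      (Localization.AtPrime.map_eq_maximalIdeal (I := p)).symm
    rw [congrArg (Ideal.map (algebraMap A Ah)) h1, Ideal.map_map]
    rfl
  haveI hflatA : Module.Flat R A := IsLocalization.flat A p.primeCompl
  have hflat : Module.Flat R Ah := Module.Flat.trans R A Ah
  -- the fibre of `R → Ah` at `q0`
  let q0 : Ideal R := Q.comap (algebraMap R A)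
  haveI hq0p : q0.IsPrime := Ideal.comap_isPrime _ _
  haveI hlocAh : IsLocalization (Algebra.algebraMapSubmonoid Ah p.primeCompl) Ah := by
    apply IsLocalization.self
    rintro _ ⟨s, hs, rfl⟩
    show IsUnit (algebraMap R Ah s)
    rw [IsScalarTower.algebraMap_apply R A Ah]
    exact (IsLocalization.map_units A ⟨s, hs⟩).map _
  have hG : CAlg.IsGeometricallyRegular q0.ResidueField (q0.Fiber Ah) :=
    (Groth.Agent.Lib.Helper67.FibreGR.geomReg_fibre_iff_of_isLocalization R Ah p.primeCompl A Ah
      Q q0 rfl).mp h
  have hq0 : q0 = (Q'.comap (algebraMap R' (Localization.AtPrime p'))).comap (algebraMap R R') := by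
    show Q.comap (algebraMap R A) = _
    rw [hQ, Ideal.comap_comap, ← IsScalarTower.algebraMap_eq]
  exact Groth.Agent.Lib.Helper67.QFFormal.isGeometricallyRegular_formalFibre (R := R) (R' := R')
    (p' := p') (Ah := Ah) (ρ := ρ) hker hm hflat Q' q0 hq0 hG

end Groth.Agent.S9290
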