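import Groth.Statements.S9291
import Mathlib.RingTheory.Localization.Ideal
import Mathlib.RingTheory.Localization.Away.Basic

set_option autoImplicit false
universe u
open EtAlg

namespace Groth.Agent.S9291

/-- Let A be a ring, I an ideal and u a unit of A/I. Then there is an étale ring map A → A' such that
A/I → A'/IA' is an isomorphism, together with a unit of A' mapping to the image of u. -/
theorem result (A : Type u) [CommRing A] (I : Ideal A) (u : (A ⧸ I)ˣ) :
    ∃ (A' : Type u) (_ : CommRing A') (_ : Algebra A A'), Algebra.Etale A A' ∧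
      Function.Bijective (Ideal.quotientMap (Ideal.map (algebraMap A A') I) (algebraMap A A')
        Ideal.le_comap_map) ∧
      ∃ u' : A'ˣ, Ideal.Quotient.mk (Ideal.map (algebraMap A A') I) (u' : A') =
        Ideal.quotientMap (Ideal.map (algebraMap A A') I) (algebraMap A A') Ideal.le_comap_map
          (u : A ⧸ I) := by
  obtain ⟨a, ha⟩ := Ideal.Quotient.mk_surjective (u : A ⧸ I)
  obtain ⟨b, hb⟩ := Ideal.Quotient.mk_surjective ((u⁻¹ : (A ⧸ I)ˣ) : A ⧸ I)
  have hab : ∀ n : ℕ, 1 - (a * b) ^ n ∈ I := by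
    intro n
    rw [← Ideal.Quotient.eq_zero_iff_mem]
    simp [ha, hb]
  have hunit : IsUnit (algebraMap A (Localization.Away a) a) :=
    IsLocalization.Away.algebraMap_isUnit a
  refine ⟨Localization.Away a, inferInstance, inferInstance,
    Algebra.Etale.of_isLocalizationAway a, ⟨?_, ?_⟩, ?_⟩
  · apply Ideal.quotientMap_injective'
    intro x hx
    rw [Ideal.mem_comap, IsLocalization.mem_map_algebraMap_iff (Submonoid.powers a)] at hx
    obtain ⟨⟨i, ⟨_, k, rfl⟩⟩, hik⟩ := hx
    simp only at hik
    rw [← map_mul, IsLocalization.eq_iff_exists (Submonoid.powers a)] at hik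
    obtain ⟨⟨_, m, rfl⟩, hm⟩ := hik
    simp only at hm
    have h1 : a ^ m * (x * a ^ k) ∈ I := by rw [hm]; exact Ideal.mul_mem_left _ _ i.2
    rw [← Ideal.Quotient.eq_zero_iff_mem] at h1 ⊢
    simp only [map_mul, map_pow, ha] at h1
    have hu : IsUnit ((u : A ⧸ I) ^ m) := (u.isUnit).pow m
    have hu' : IsUnit ((u : A ⧸ I) ^ k) := (u.isUnit).pow k
    have h2 := (hu.mul_right_eq_zero).mp h1
    exact (hu'.mul_left_eq_zero).mp h2
  · intro y
    obtain ⟨y, rfl⟩ := Ideal.Quotient.mk_surjective y
    obtain ⟨n, x, hx⟩ := IsLocalization.Away.surj a y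
    refine ⟨Ideal.Quotient.mk I (x * b ^ n), ?_⟩
    rw [Ideal.quotientMap_mk, Ideal.Quotient.eq]
    have hun : IsUnit (algebraMap A (Localization.Away a) a ^ n) := hunit.pow n
    rw [← Ideal.mul_unit_mem_iff_mem _ hun]
    have : (algebraMap A (Localization.Away a) (x * b ^ n) - y) *
        algebraMap A (Localization.Away a) a ^ n =
        - algebraMap A (Localization.Away a) (x * (1 - (a * b) ^ n)) := by
      rw [sub_mul, hx]
      simp only [map_mul, map_sub, map_one, map_pow]
      ring
    rw [this]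
    exact neg_mem (Ideal.mem_map_of_mem _ (Ideal.mul_mem_left _ _ (hab n)))
  · refine ⟨hunit.unit, ?_⟩
    rw [← ha, Ideal.quotientMap_mk]
    rfl

end Groth.Agent.S9291
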