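import Groth.Statements.S9292
import Mathlib.RingTheory.Etale.Pi
import Mathlib.RingTheory.Localization.Ideal
import Mathlib.RingTheory.Localization.Away.Basic

set_option autoImplicit false
universe u
open EtAlg

namespace Groth.Agent.S9292


section helpers

variable {A : Type u} [CommRing A] (I : Ideal A) {n : ℕ} (a : Fin n → A)

/-- The product of the localizations. -/
abbrev Prd : Type u := ∀ j : Fin n, Localization.Away (a j)

lemma map_le_pi (z : Prd a) (hz : z ∈ I.map (algebraMap A (Prd a))) (j : Fin n) :
    z j ∈ I.map (algebraMap A (Localization.Away (a j))) := by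
  have h1 : (Pi.evalRingHom (fun j => Localization.Away (a j)) j) z ∈
      (I.map (algebraMap A (Prd a))).map (Pi.evalRingHom (fun j => Localization.Away (a j)) j) :=
    Ideal.mem_map_of_mem _ hz
  rw [Ideal.map_map] at h1
  exact h1

lemma single_mem (i : Fin n) (w : Localization.Away (a i))
    (hw : w ∈ I.map (algebraMap A (Localization.Away (a i)))) :
    (Pi.single i w : Prd a) ∈ I.map (algebraMap A (Prd a)) := by
  induction hw using Submodule.span_induction with
  | mem w hw =>
    obtain ⟨t, ht, rfl⟩ := hw
    have : (Pi.single i (algebraMap A (Localization.Away (a i)) t) : Prd a) =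
        algebraMap A (Prd a) t * Pi.single i 1 := by
      ext k
      by_cases hk : k = i
      · subst hk; simp
      · simp [Pi.single_eq_of_ne hk]
    rw [this]
    exact Ideal.mul_mem_right _ _ (Ideal.mem_map_of_mem _ ht)
  | zero => simp
  | add x y _ _ hx hy =>
    rw [Pi.single_add]; exact add_mem hx hy
  | smul c x _ hx =>
    have : (Pi.single i (c • x) : Prd a) = Pi.single i c * Pi.single i x := by
      rw [smul_eq_mul, Pi.single_mul]
    rw [this]
    exact Ideal.mul_mem_left _ _ hx

lemma pi_le_map (z : Prd a)
    (hz : ∀ j, z j ∈ I.map (algebraMap A (Localization.Away (a j)))) :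
    z ∈ I.map (algebraMap A (Prd a)) := by
  have : z = ∑ j, (Pi.single j (z j) : Prd a) := (Finset.univ_sum_single z).symm
  rw [this]
  exact Submodule.sum_mem _ fun j _ => single_mem I a j (z j) (hz j)

lemma mem_of_mul_mem (i : Fin n) (t : A) (ht : t * a i ∈ I) :
    algebraMap A (Localization.Away (a i)) t ∈ I.map (algebraMap A (Localization.Away (a i))) := by
  have hunit : IsUnit (algebraMap A (Localization.Away (a i)) (a i)) :=
    IsLocalization.Away.algebraMap_isUnit (a i)
  rw [← Ideal.mul_unit_mem_iff_mem _ hunit, ← map_mul]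
  exact Ideal.mem_map_of_mem _ ht

lemma mul_eq_zero_of_mem (e : Fin n → A ⧸ I) (he : CompleteOrthogonalIdempotents e)
    (ha : ∀ j, Ideal.Quotient.mk I (a j) = e j) (j : Fin n) (x : A)
    (hx : algebraMap A (Localization.Away (a j)) x ∈
      I.map (algebraMap A (Localization.Away (a j)))) :
    e j * Ideal.Quotient.mk I x = 0 := by
  rw [IsLocalization.mem_map_algebraMap_iff (Submonoid.powers (a j))] at hx
  obtain ⟨⟨i, ⟨_, k, rfl⟩⟩, hik⟩ := hx
  simp only at hik
  rw [← map_mul, IsLocalization.eq_iff_exists (Submonoid.powers (a j))] at hik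
  obtain ⟨⟨_, m, rfl⟩, hm⟩ := hik
  simp only at hm
  have h1 : a j ^ m * (x * a j ^ k) ∈ I := by rw [hm]; exact Ideal.mul_mem_left _ _ i.2
  rw [← Ideal.Quotient.eq_zero_iff_mem] at h1
  simp only [map_mul, map_pow, ha] at h1
  have h2 : e j * (e j ^ m * (Ideal.Quotient.mk I x * e j ^ k)) = 0 := by rw [h1, mul_zero]
  have h3 : e j * (e j ^ m * (Ideal.Quotient.mk I x * e j ^ k)) =
      (e j ^ (m + k + 1)) * Ideal.Quotient.mk I x := by ring
  rw [h3, (he.idem j).pow_succ_eq] at h2
  exact h2

end helpers

/-- Let A be a ring, I an ideal, and e_1, ..., e_n a complete system of orthogonal idempotents of A/I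
(equivalently a finite disjoint open covering of Spec(A/I)). Then one can find an A-algebra A' that
is étale over A, such that the induced map A/I → A'/IA' is bijective, together with a complete
system of orthogonal idempotents of A' lifting the e_j. -/
theorem result (A : Type u) [CommRing A] (I : Ideal A)
    (n : ℕ) (e : Fin n → A ⧸ I) (he : CompleteOrthogonalIdempotents e) :
    ∃ (A' : Type u) (_ : CommRing A') (_ : Algebra A A'), Algebra.Etale A A' ∧
      Function.Bijective (Ideal.quotientMap (Ideal.map (algebraMap A A') I) (algebraMap A A')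
        Ideal.le_comap_map) ∧
      ∃ e' : Fin n → A', CompleteOrthogonalIdempotents e' ∧
        ∀ j, Ideal.Quotient.mk (Ideal.map (algebraMap A A') I) (e' j) =
          Ideal.quotientMap (Ideal.map (algebraMap A A') I) (algebraMap A A') Ideal.le_comap_map
            (e j) := by
  classical
  choose a ha using fun j => Ideal.Quotient.mk_surjective (e j)
  have hortho : ∀ i j, i ≠ j → a j * a i ∈ I := by
    intro i j hij
    rw [← Ideal.Quotient.eq_zero_iff_mem, map_mul, ha, ha]
    exact he.ortho (Ne.symm hij)
  have hidem : ∀ i, (a i - 1) * a i ∈ I := by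
    intro i
    rw [← Ideal.Quotient.eq_zero_iff_mem, map_mul, map_sub, map_one, ha, sub_mul, one_mul,
      (he.idem i).eq, sub_self]
  refine ⟨Prd a, inferInstance, inferInstance, inferInstance, ⟨?_, ?_⟩, ?_⟩
  · apply Ideal.quotientMap_injective'
    intro x hx
    rw [Ideal.mem_comap] at hx
    have h1 : ∀ j, e j * Ideal.Quotient.mk I x = 0 := fun j =>
      mul_eq_zero_of_mem I a e he ha j x (map_le_pi I a _ hx j)
    rw [← Ideal.Quotient.eq_zero_iff_mem]
    calc Ideal.Quotient.mk I x = (∑ j, e j) * Ideal.Quotient.mk I x := by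
          rw [he.complete, one_mul]
      _ = 0 := by rw [Finset.sum_mul]; exact Finset.sum_eq_zero fun j _ => h1 j
  · intro y
    obtain ⟨y, rfl⟩ := Ideal.Quotient.mk_surjective y
    choose k x hx using fun j => IsLocalization.Away.surj (a j) (y j)
    refine ⟨Ideal.Quotient.mk I (∑ j, x j * a j), ?_⟩
    rw [Ideal.quotientMap_mk, Ideal.Quotient.eq]
    apply pi_le_map
    intro i
    have hunit : IsUnit (algebraMap A (Localization.Away (a i)) (a i) ^ k i) :=
      (IsLocalization.Away.algebraMap_isUnit (a i)).pow (k i)
    rw [← Ideal.mul_unit_mem_iff_mem _ hunit]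
    have h1 : (algebraMap A (Prd a) (∑ j, x j * a j) - y) i *
        algebraMap A (Localization.Away (a i)) (a i) ^ k i =
        algebraMap A (Localization.Away (a i)) ((∑ j, x j * a j) * a i ^ k i - x i) := by
      rw [Pi.sub_apply, sub_mul, hx i, map_sub, map_mul, map_pow]
      rfl
    rw [h1]
    apply mem_of_mul_mem
    rw [← Ideal.Quotient.eq_zero_iff_mem]
    simp only [map_mul, map_sub, map_sum, map_pow, ha]
    have h2 : (∑ j, Ideal.Quotient.mk I (x j) * e j) * e i ^ k i * e i =
        Ideal.Quotient.mk I (x i) * e i := by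
      rw [mul_assoc, ← pow_succ, (he.idem i).pow_succ_eq, Finset.sum_mul]
      rw [Finset.sum_eq_single i]
      · rw [mul_assoc, (he.idem i).eq]
      · intro j _ hji
        rw [mul_assoc, he.ortho hji, mul_zero]
      · intro h; exact absurd (Finset.mem_univ i) h
    rw [sub_mul, h2, sub_self]
  · refine ⟨fun j => Pi.single j 1, CompleteOrthogonalIdempotents.single _, fun j => ?_⟩
    rw [← ha j, Ideal.quotientMap_mk, Ideal.Quotient.eq]
    apply pi_le_map
    intro i
    by_cases hij : i = j
    · subst hij
      have : ((Pi.single i 1 : Prd a) - algebraMap A (Prd a) (a i)) i =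
          - algebraMap A (Localization.Away (a i)) (a i - 1) := by
        rw [Pi.sub_apply, Pi.single_eq_same, map_sub, map_one]
        show 1 - algebraMap A (Localization.Away (a i)) (a i) = _
        ring
      rw [this]
      exact neg_mem (mem_of_mul_mem I a i _ (hidem i))
    · have : ((Pi.single j 1 : Prd a) - algebraMap A (Prd a) (a j)) i =
          - algebraMap A (Localization.Away (a i)) (a j) := by
        rw [Pi.sub_apply, Pi.single_eq_of_ne hij]
        show 0 - algebraMap A (Localization.Away (a i)) (a j) = _
        ring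
      rw [this]
      exact neg_mem (mem_of_mul_mem I a i _ (hortho i j hij))

end Groth.Agent.S9292
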