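import Groth.Statements.S9297
import Groth.Agent.Lib.Helper56.FlatRk

set_option autoImplicit false
universe u
open EGA4

namespace Groth.Agent.S9297

open Groth.Agent.Lib.Helper56

theorem dim_quot_add (B : Type u) [CommRing B] [IsNoetherianRing B] [IsLocalRing B]
    (hcat : CAlg.IsCatenary B) (heq : EGA4.IsEquidim B) (I : Ideal B) (n : ℕ)
    (hI : ∀ Q ∈ I.minimalPrimes, Q.height = n)
    (P' : Ideal (B ⧸ I)) (hP' : P' ∈ minimalPrimes (B ⧸ I)) :
    ringKrullDim ((B ⧸ I) ⧸ P') + (n : WithBot ℕ∞) = ringKrullDim B := by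
  have hP'p : P'.IsPrime := hP'.1.1
  have hQp : (P'.comap (Ideal.Quotient.mk I)).IsPrime := Ideal.comap_isPrime _ _
  have hIQ : I ≤ P'.comap (Ideal.Quotient.mk I) := by
    intro x hx
    rw [Ideal.mem_comap, Ideal.Quotient.eq_zero_iff_mem.mpr hx]
    exact P'.zero_mem
  have hQmin : P'.comap (Ideal.Quotient.mk I) ∈ I.minimalPrimes := by
    have h2 := Ideal.comap_minimalPrimes_eq_of_surjective
      (f := Ideal.Quotient.mk I) Ideal.Quotient.mk_surjective ⊥
    rw [← RingHom.ker_eq_comap_bot, Ideal.mk_ker] at h2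
    rw [h2]
    exact ⟨P', hP', rfl⟩
  have hht := hI _ hQmin
  have hPQ : P' = (P'.comap (Ideal.Quotient.mk I)).map (Ideal.Quotient.mk I) :=
    (Ideal.map_comap_of_surjective _ Ideal.Quotient.mk_surjective P').symm
  have e : ((B ⧸ I) ⧸ P') ≃+* (B ⧸ P'.comap (Ideal.Quotient.mk I)) :=
    (Ideal.quotEquivOfEq hPQ).trans (DoubleQuot.quotQuotEquivQuotOfLE hIQ)
  rw [ringKrullDim_eq_of_ringEquiv e]
  have h1 := coheight_add_height_eq hcat heq n ⟨_, hQp⟩
    (by rw [← PrimeSpectrum.height_eq_orderHeight, hht])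
  rw [← h1, ← coheight_eq_ringKrullDim_quotient ⟨_, hQp⟩]
  rfl

/-- Let A → B be a flat local homomorphism of Noetherian local rings with B catenary and Spec(B)
equidimensional. Then Spec(B/pB) is equidimensional for every prime p of A. -/
theorem result (A B : Type u) [CommRing A] [CommRing B]
    [IsNoetherianRing A] [IsNoetherianRing B] [IsLocalRing A] [IsLocalRing B] [Algebra A B]
    [IsLocalHom (algebraMap A B)] [Module.Flat A B] (hcat : CAlg.IsCatenary B) (heq : EGA4.IsEquidim B)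
    (p : Ideal A) [p.IsPrime] : EGA4.IsEquidim (B ⧸ Ideal.map (algebraMap A B) p) := by
  intro P hP
  obtain ⟨n, hn⟩ := ENat.ne_top_iff_exists.mp
    (Ideal.height_ne_top (I := p) (Ideal.IsPrime.ne_top inferInstance))
  have hall := dim_quot_add B hcat heq (Ideal.map (algebraMap A B) p) n
    (fun Q hQ => by rw [height_eq_of_mem_minimalPrimes_map p Q hQ, hn])
  refine le_antisymm (ringKrullDim_quotient_le P) ?_
  have hPp : P.IsPrime := hP.1.1
  have : Nonempty (PrimeSpectrum (B ⧸ Ideal.map (algebraMap A B) p)) := ⟨⟨P, hPp⟩⟩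
  rw [ringKrullDim, Order.krullDim_eq_iSup_coheight_of_nonempty]
  have hle : ∀ x : PrimeSpectrum (B ⧸ Ideal.map (algebraMap A B) p),
      Order.coheight x ≤ Order.coheight (⟨P, hPp⟩ : PrimeSpectrum (B ⧸ Ideal.map (algebraMap A B) p)) := by
    intro x
    obtain ⟨P0, hP0, hP0x⟩ := Ideal.exists_minimalPrimes_le (I := ⊥) (J := x.asIdeal) bot_le
    have hP0p : P0.IsPrime := hP0.1.1
    have h1 : Order.coheight x ≤ Order.coheight (⟨P0, hP0p⟩ : PrimeSpectrum (B ⧸ Ideal.map (algebraMap A B) p)) :=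
      Order.coheight_anti (show (⟨P0, hP0p⟩ : PrimeSpectrum _) ≤ x from hP0x)
    refine h1.trans (le_of_eq ?_)
    have h2 := hall P0 hP0
    rw [← hall P hP, ← coheight_eq_ringKrullDim_quotient ⟨P0, hP0p⟩, ← coheight_eq_ringKrullDim_quotient ⟨P, hPp⟩] at h2
    have h3 : (Order.coheight (⟨P0, hP0p⟩ : PrimeSpectrum (B ⧸ Ideal.map (algebraMap A B) p)) + (n : ℕ∞)) =
        Order.coheight (⟨P, hPp⟩ : PrimeSpectrum (B ⧸ Ideal.map (algebraMap A B) p)) + (n : ℕ∞) := by
      exact_mod_cast h2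
    exact (WithTop.add_right_inj (ENat.natCast_ne_top n)).mp h3
  rw [← coheight_eq_ringKrullDim_quotient ⟨P, hPp⟩]
  exact_mod_cast iSup_le hle

end Groth.Agent.S9297
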