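import Groth.Statements.S9299
-- import your own Groth.Agent.* helpers here
import Groth.Agent.Lib.Helper49.GRingFT
import Groth.Agent.Lib.Helper49.FSRegular
import Groth.Agent.S0598

set_option autoImplicit false
universe u
open CAlg

namespace Groth.Agent.S9299


/-- Let k be a field of characteristic p, A = k[[x_1, ..., x_n]][y_1, ..., y_m] with fraction field K,
and P a prime of A. Then A_P^ ⊗_A K, the generic formal fibre of the local ring A_P, is
geometrically regular over K. (The ring A is a domain; this is recorded as an instance hypothesis.) -/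
theorem result (p : ℕ) [Fact p.Prime]
    (k : Type u) [Field k] [CharP k p] (n m : ℕ)
    [IsDomain (MvPolynomial (Fin m) (MvPowerSeries (Fin n) k))]
    (P : Ideal (MvPolynomial (Fin m) (MvPowerSeries (Fin n) k))) [P.IsPrime] :
    CAlg.IsGeometricallyRegular (@Ideal.ResidueField (Localization.AtPrime P) _ ⊥ _)
      (EGA4.formalFibre (Localization.AtPrime P) (⊥ : Ideal (Localization.AtPrime P))) := by
  haveI := Groth.Agent.Lib.Helper49.FSRegular.isAdicComplete_mvPowerSeries k n
  have hG : CAlg.IsGRing (MvPolynomial (Fin m) (MvPowerSeries (Fin n) k)) :=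
    Groth.Agent.Lib.Helper49.GRingFT.isGRing_mvPolynomial _
      (Groth.Agent.S0598.result (MvPowerSeries (Fin n) k)) m
  exact ((hG.2 P).2 ⊥).2

end Groth.Agent.S9299
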