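import Groth.Statements.S9300
import Mathlib.RingTheory.Ideal.Maximal
import Mathlib.Algebra.GroupWithZero.NonZeroDivisors

set_option autoImplicit false
universe u
open CAlg

namespace Groth.Agent.S9300

/-- Let A and B be domains and A → B a ring map for which the generic point of Spec(A) has a unique
preimage in Spec(B). Then every nonzero ideal of B has nonzero preimage in A. -/
theorem result (A B : Type u) [CommRing A] [IsDomain A]
    [CommRing B] [IsDomain B] (φ : A →+* B)
    (h : ∃! q : PrimeSpectrum B, Ideal.comap φ q.asIdeal = ⊥) (J : Ideal B) (hJ : J ≠ ⊥) :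
    Ideal.comap φ J ≠ ⊥ := by
  obtain ⟨q, hq, hquniq⟩ := h
  have hker : ∀ a : A, φ a = 0 → a = 0 := by
    intro a ha
    have : a ∈ Ideal.comap φ q.asIdeal := by
      rw [Ideal.mem_comap, ha]; exact zero_mem _
    rw [hq] at this
    exact this
  have hbot : (⟨⊥, Ideal.isPrime_bot⟩ : PrimeSpectrum B) = q := by
    apply hquniq
    rw [eq_bot_iff]
    intro a ha
    exact hker a ha
  intro hJ0
  let S : Submonoid B := (nonZeroDivisors A).map φ
  have hdisj : Disjoint (J : Set B) S := by
    rw [Set.disjoint_left]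
    rintro _ hb ⟨a, ha, rfl⟩
    have : a ∈ Ideal.comap φ J := hb
    rw [hJ0] at this
    exact (nonZeroDivisors.ne_zero ha) this
  obtain ⟨P, hP, hJP, hPS⟩ := Ideal.exists_le_prime_disjoint J S hdisj
  have hPcomap : Ideal.comap φ P = ⊥ := by
    rw [eq_bot_iff]
    intro a ha
    by_contra ha0
    exact Set.disjoint_left.mp hPS ha ⟨a, mem_nonZeroDivisors_of_ne_zero ha0, rfl⟩
  have h1 : (⟨P, hP⟩ : PrimeSpectrum B) = q := hquniq ⟨P, hP⟩ hPcomap
  have h2 : P = ⊥ := by
    have := congrArg PrimeSpectrum.asIdeal (h1.trans hbot.symm)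
    exact this
  apply hJ
  rw [eq_bot_iff]
  exact hJP.trans (le_of_eq h2)

end Groth.Agent.S9300
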