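import Groth.Statements.S9301
import Groth.Agent.S9300
import Mathlib.RingTheory.Flat.TorsionFree
import Mathlib.RingTheory.Localization.Ideal

set_option autoImplicit false
universe u
open CAlg

namespace Groth.Agent.S9301

/-- Let A and B be domains and A → B a flat ring map which is the localization of a quasi-finite ring
map A → B₀ (of finite type with finite fibres). Then every nonzero ideal of B has nonzero preimage
in A. -/
theorem result (A B₀ B : Type u) [CommRing A] [IsDomain A]
    [CommRing B₀] [CommRing B] [IsDomain B] [Algebra A B₀] [Algebra.FiniteType A B₀]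
    [Algebra.QuasiFinite A B₀] (S : Submonoid B₀) [Algebra B₀ B] [IsLocalization S B] [Algebra A B]
    [IsScalarTower A B₀ B] [Module.Flat A B] (J : Ideal B) (hJ : J ≠ ⊥) :
    Ideal.comap (algebraMap A B) J ≠ ⊥ := by
  have hinj : ∀ a : A, algebraMap A B a = 0 → a = 0 := by
    intro a ha
    by_contra ha0
    have hreg : IsSMulRegular B a :=
      Module.Flat.isSMulRegular_of_isRegular (isRegular_of_ne_zero ha0)
    have h1 : a • (1 : B) = a • (0 : B) := by
      rw [Algebra.smul_def, mul_one, ha, smul_zero]
    exact one_ne_zero (hreg h1)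
  have hbot : Ideal.comap (algebraMap A B) (⊥ : Ideal B) = ⊥ := by
    rw [eq_bot_iff]
    intro a ha
    exact hinj a ha
  refine Groth.Agent.S9300.result A B (algebraMap A B) ?_ J hJ
  refine ⟨⟨⊥, Ideal.isPrime_bot⟩, hbot, ?_⟩
  rintro ⟨q, hq⟩ hqc
  simp only at hqc
  apply PrimeSpectrum.ext
  show q = ⊥
  have hP : (Ideal.under B₀ (⊥ : Ideal B)).IsPrime := Ideal.IsPrime.under B₀ ⊥
  have hQ : (Ideal.under B₀ q).IsPrime := Ideal.IsPrime.under B₀ q
  have hle : Ideal.under B₀ (⊥ : Ideal B) ≤ Ideal.under B₀ q :=
    Ideal.comap_mono bot_le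
  have hu : (Ideal.under B₀ (⊥ : Ideal B)).under A = (Ideal.under B₀ q).under A := by
    rw [Ideal.under_under, Ideal.under_under]
    exact hbot.trans hqc.symm
  have heq := Algebra.QuasiFinite.eq_of_le_of_under_eq (R := A) _ _ hle hu
  rw [← IsLocalization.map_under S B q, ← heq, IsLocalization.map_under S B]

end Groth.Agent.S9301
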