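import Groth.Statements.S9302
import Mathlib.CategoryTheory.Limits.ConcreteCategory.Basic
import Mathlib.CategoryTheory.Limits.Types.Limits
import Mathlib.Algebra.Polynomial.Identities
import Mathlib.Algebra.Polynomial.Div
import Mathlib.RingTheory.Jacobson.Ideal

set_option autoImplicit false
universe u
open CategoryTheory
open EtAlg

namespace Groth.Agent.S9302


section helpers

open Polynomial

lemma eval_map_hom {R S : Type*} [CommRing R] [CommRing S] (φ : R →+* S) (f : R[X]) (a : R) :
    (f.map φ).eval (φ a) = φ (f.eval a) := by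
  rw [Polynomial.eval_map, Polynomial.eval₂_hom]

lemma isUnit_of_isUnit_mk {R : Type*} [CommRing R] {I : Ideal R} (hI : I ≤ Ideal.jacobson ⊥)
    (z : R) (hz : IsUnit (Ideal.Quotient.mk I z)) : IsUnit z := by
  obtain ⟨w', hw'⟩ := hz.exists_right_inv
  obtain ⟨w, rfl⟩ := Ideal.Quotient.mk_surjective w'
  have h1 : z * w - 1 ∈ I := by
    rw [← Ideal.Quotient.eq, map_mul, hw', map_one]
  have h2 := Ideal.mem_jacobson_bot.mp (hI h1) 1
  have h3 : (z * w - 1) * 1 + 1 = z * w := by ring
  rw [h3] at h2
  exact isUnit_of_mul_isUnit_left h2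

lemma hensel_unique {R : Type*} [CommRing R] {I : Ideal R} (hI : I ≤ Ideal.jacobson ⊥)
    (f : R[X]) (a₀ : R) (hu : IsUnit (Ideal.Quotient.mk I (f.derivative.eval a₀)))
    (a b : R) (ha : f.IsRoot a) (hb : f.IsRoot b) (ha₀ : a - a₀ ∈ I) (hb₀ : b - a₀ ∈ I) :
    a = b := by
  obtain ⟨k, hk⟩ := Polynomial.binomExpansion f a (b - a)
  have hba : b - a ∈ I := by
    have : b - a = (b - a₀) - (a - a₀) := by ring
    rw [this]; exact sub_mem hb₀ ha₀
  rw [add_sub_cancel, hb.eq_zero, ha.eq_zero, zero_add] at hk
  have hfac : (f.derivative.eval a + k * (b - a)) * (b - a) = 0 := by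
    rw [hk]; ring
  have hmk : Ideal.Quotient.mk I (f.derivative.eval a + k * (b - a)) =
      Ideal.Quotient.mk I (f.derivative.eval a₀) := by
    rw [Ideal.Quotient.eq]
    have h1 : f.derivative.eval a - f.derivative.eval a₀ ∈ I := by
      obtain ⟨c, hc⟩ := Polynomial.sub_dvd_eval_sub a a₀ f.derivative
      rw [hc]; exact Ideal.mul_mem_right _ _ ha₀
    have : f.derivative.eval a + k * (b - a) - f.derivative.eval a₀ =
        (f.derivative.eval a - f.derivative.eval a₀) + k * (b - a) := by ring
    rw [this]
    exact add_mem h1 (Ideal.mul_mem_left _ _ hba)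
  have hunit : IsUnit (f.derivative.eval a + k * (b - a)) :=
    isUnit_of_isUnit_mk hI _ (hmk ▸ hu)
  have := (hunit.mul_right_eq_zero).mp hfac
  exact (sub_eq_zero.mp this).symm

variable {J : Type u} [Preorder J] (F : J ⥤ CommRingCat.{u})

lemma lim_ext (x y : ((Limits.limit F : CommRingCat.{u}) : Type u))
    (h : ∀ j, (Limits.limit.π F j).hom x = (Limits.limit.π F j).hom y) : x = y :=
  Limits.Concrete.limit_ext F x y h

lemma lim_compat {i j : J} (φ : i ⟶ j) (x : ((Limits.limit F : CommRingCat.{u}) : Type u)) :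
    (F.map φ).hom ((Limits.limit.π F i).hom x) = (Limits.limit.π F j).hom x := by
  have := Limits.limit.w F φ
  rw [← this]
  rfl

lemma lim_exists (x : ∀ j, F.obj j)
    (hx : ∀ (i j : J) (φ : i ⟶ j), (F.map φ).hom (x i) = x j) :
    ∃ y : ((Limits.limit F : CommRingCat.{u}) : Type u),
      ∀ j, (Limits.limit.π F j).hom y = x j := by
  let hE := Limits.isLimitOfPreserves (forget CommRingCat.{u}) (Limits.limit.isLimit F)
  let e := Limits.Types.isLimitEquivSections hE
  let sx : (F ⋙ forget CommRingCat.{u}).sections := ⟨x, fun {i j} φ => hx i j φ⟩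
  refine ⟨e.symm sx, fun j => ?_⟩
  exact Limits.Types.isLimitEquivSections_symm_apply hE sx j

lemma lim_isUnit (z : ((Limits.limit F : CommRingCat.{u}) : Type u))
    (hz : ∀ j, IsUnit ((Limits.limit.π F j).hom z)) : IsUnit z := by
  choose v hv using fun j => (hz j).exists_right_inv
  obtain ⟨w, hw⟩ := lim_exists F v (by
    intro i j φ
    have h1 : (Limits.limit.π F j).hom z * (F.map φ).hom (v i) = 1 := by
      rw [← lim_compat F φ z, ← map_mul, hv i, map_one]
    have h2 := hv j
    calc (F.map φ).hom (v i) = (v j * (Limits.limit.π F j).hom z) * (F.map φ).hom (v i) := by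
          rw [mul_comm (v j), h2, one_mul]
      _ = v j := by rw [mul_assoc, h1, mul_one])
  refine IsUnit.of_mul_eq_one w ?_
  apply lim_ext
  intro j
  rw [map_mul, hw j, hv j, map_one]

end helpers

/-- Henselian pairs are preserved under limits: for an inverse system (A_j, I_j) of henselian pairs over
a preordered set J, the limit A = lim A_j with the ideal I = lim I_j (elements all of whose
projections lie in the I_j) is a henselian pair. -/
theorem result (J : Type u) [Preorder J] (F : J ⥤ CommRingCat.{u})
    (I : ∀ j : J, Ideal (F.obj j))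
    (hI : ∀ (i j : J) (φ : i ⟶ j), Ideal.map (F.map φ).hom (I i) ≤ I j)
    (h : ∀ j : J, HenselianRing (F.obj j) (I j)) :
    HenselianRing ((Limits.limit F : CommRingCat.{u}) : Type u)
      (⨅ j : J, Ideal.comap (Limits.limit.π F j).hom (I j)) := by
  have hmem : ∀ x : ((Limits.limit F : CommRingCat.{u}) : Type u),
      x ∈ (⨅ j : J, Ideal.comap (Limits.limit.π F j).hom (I j)) ↔
        ∀ j, (Limits.limit.π F j).hom x ∈ I j := by
    intro x
    simp [Ideal.mem_iInf, Ideal.mem_comap]
  have hIcompat : ∀ (i j : J) (φ : i ⟶ j) (x : F.obj i), x ∈ I i → (F.map φ).hom x ∈ I j :=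
    fun i j φ x hx => hI i j φ (Ideal.mem_map_of_mem _ hx)
  constructor
  · intro x hx
    rw [Ideal.mem_jacobson_bot]
    intro y
    apply lim_isUnit
    intro j
    have := Ideal.mem_jacobson_bot.mp ((h j).jac ((hmem x).mp hx j)) ((Limits.limit.π F j).hom y)
    simpa using this
  · intro f hf a₀ ha₀ hu
    obtain ⟨w', hw'⟩ := hu.exists_right_inv
    obtain ⟨w, rfl⟩ := Ideal.Quotient.mk_surjective w'
    have hw : ∀ j, (Limits.limit.π F j).hom (f.derivative.eval a₀) *
        (Limits.limit.π F j).hom w - 1 ∈ I j := by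
      have h1 : f.derivative.eval a₀ * w - 1 ∈
          (⨅ j : J, Ideal.comap (Limits.limit.π F j).hom (I j)) := by
        rw [← Ideal.Quotient.eq, map_mul, hw', map_one]
      intro j
      have := (hmem _).mp h1 j
      simpa using this
    have huj : ∀ j, IsUnit (Ideal.Quotient.mk (I j)
        ((f.map (Limits.limit.π F j).hom).derivative.eval ((Limits.limit.π F j).hom a₀))) := by
      intro j
      rw [Polynomial.derivative_map, eval_map_hom]
      refine IsUnit.of_mul_eq_one (Ideal.Quotient.mk (I j) ((Limits.limit.π F j).hom w)) ?_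
      rw [← map_mul, ← map_one (Ideal.Quotient.mk (I j)), Ideal.Quotient.eq]
      exact hw j
    have hex : ∀ j, ∃ a : F.obj j, (f.map (Limits.limit.π F j).hom).IsRoot a ∧
        a - (Limits.limit.π F j).hom a₀ ∈ I j := by
      intro j
      refine (h j).is_henselian (f.map (Limits.limit.π F j).hom) (hf.map _)
        ((Limits.limit.π F j).hom a₀) ?_ (huj j)
      rw [eval_map_hom]
      exact (hmem _).mp ha₀ j
    choose a ha ha' using hex
    obtain ⟨b, hb⟩ := lim_exists F a (by
      intro i j φ
      refine hensel_unique (h j).jac (f.map (Limits.limit.π F j).hom)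
        ((Limits.limit.π F j).hom a₀) (huj j) _ _ ?_ (ha j) ?_ (ha' j)
      · have hmap : f.map (Limits.limit.π F j).hom =
            (f.map (Limits.limit.π F i).hom).map (F.map φ).hom := by
          rw [Polynomial.map_map]
          congr 1
          ext x
          exact (lim_compat F φ x).symm
        rw [Polynomial.IsRoot.def, hmap, eval_map_hom, (ha i).eq_zero, map_zero]
      · rw [← lim_compat F φ a₀, ← map_sub]
        exact hIcompat i j φ _ (ha' i))
    refine ⟨b, ?_, ?_⟩
    · rw [Polynomial.IsRoot.def]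
      apply lim_ext
      intro j
      rw [← eval_map_hom, hb j, (ha j).eq_zero, map_zero]
    · rw [hmem]
      intro j
      rw [map_sub, hb j]
      exact ha' j

end Groth.Agent.S9302
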