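import Groth.Statements.S9303
import Mathlib

set_option autoImplicit false
set_option linter.style.haveILetI false
universe u
open CAlg

namespace Groth.Agent.S9303

open CAlg

section Gen
variable {R S : Type*} [CommRing R] [CommRing S] [Algebra R S]

theorem map_eq_zero_iff_of_away (e : R) (he : IsIdempotentElem e) [IsLocalization.Away e S]
    (z : R) : algebraMap R S z = 0 ↔ e * z = 0 := by
  rw [IsLocalization.map_eq_zero_iff (Submonoid.powers e) S z]
  constructor
  · rintro ⟨⟨_, k, rfl⟩, hk⟩
    have h1 : e ^ (k + 1) * z = 0 := by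
      rw [pow_succ', mul_assoc]
      simp only at hk
      rw [hk, mul_zero]
    rwa [he.pow_succ_eq] at h1
  · intro h
    exact ⟨⟨e, 1, pow_one e⟩, h⟩

theorem map_eq_one_of_away (e : R) (he : IsIdempotentElem e) [IsLocalization.Away e S] :
    algebraMap R S e = 1 := by
  have hu : IsUnit (algebraMap R S e) := IsLocalization.Away.algebraMap_isUnit e
  have hi : algebraMap R S e * algebraMap R S e = algebraMap R S e * 1 := by
    rw [mul_one, ← map_mul, he.eq]
  exact hu.mul_left_cancel hi

theorem surjective_of_away (e : R) (he : IsIdempotentElem e) [IsLocalization.Away e S] :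
    Function.Surjective (algebraMap R S) := by
  intro c
  obtain ⟨⟨z, ⟨_, k, rfl⟩⟩, hz⟩ := IsLocalization.surj (Submonoid.powers e) c
  simp only at hz
  rw [map_pow, map_eq_one_of_away e he, one_pow, mul_one] at hz
  exact ⟨z, hz.symm⟩

end Gen

section Main
variable {A : Type u} [CommRing A] {C : Type u} [CommRing C] [Algebra A C]

/-- `C_f`. -/
abbrev Cl (C : Type u) [CommRing C] [Algebra A C] (f : A) : Type u :=
  Localization (Algebra.algebraMapSubmonoid C (Submonoid.powers f))

theorem tower (f a : A) :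
    algebraMap (Localization.Away f) (Cl C f) (algebraMap A (Localization.Away f) a) =
      algebraMap C (Cl C f) (algebraMap A C a) := by
  rw [← IsScalarTower.algebraMap_apply, ← IsScalarTower.algebraMap_apply]

/-- vanishing in `A_f`. -/
theorem away_eq_zero (f a : A) (h : algebraMap A (Localization.Away f) a = 0) :
    ∃ n : ℕ, f ^ n * a = 0 := by
  obtain ⟨⟨_, n, rfl⟩, hn⟩ := (IsLocalization.map_eq_zero_iff (Submonoid.powers f) _ a).1 h
  exact ⟨n, hn⟩

theorem away_eq_zero' (f a : A) (n : ℕ) (h : f ^ n * a = 0) :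
    algebraMap A (Localization.Away f) a = 0 :=
  (IsLocalization.map_eq_zero_iff (Submonoid.powers f) _ a).2 ⟨⟨_, n, rfl⟩, h⟩

theorem isUnit_away (f : A) (n : ℕ) : IsUnit (algebraMap A (Localization.Away f) (f ^ n)) := by
  rw [map_pow]
  exact (IsLocalization.Away.algebraMap_isUnit f).pow n

/-- vanishing in `C_f`. -/
theorem cl_eq_zero (f : A) (c : C) (h : algebraMap C (Cl C f) c = 0) :
    ∃ n : ℕ, algebraMap A C (f ^ n) * c = 0 := by
  obtain ⟨⟨_, _, ⟨n, rfl⟩, rfl⟩, hn⟩ := (IsLocalization.map_eq_zero_iff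
    (Algebra.algebraMapSubmonoid C (Submonoid.powers f)) _ c).1 h
  exact ⟨n, hn⟩

variable (C) in
/-- Lemma 1. -/
theorem lem1 (f : A) (e : Localization.Away f) (he : IsIdempotentElem e)
    [IsLocalization.Away e (Cl C f)] (j : A) (hj : algebraMap A C j = 0) :
    e * algebraMap A (Localization.Away f) j = 0 := by
  rw [← map_eq_zero_iff_of_away (S := Cl C f) e he, tower, hj, map_zero]

variable (C) in
/-- Lemma 2. -/
theorem lem2 (f : A) (e : Localization.Away f) (he : IsIdempotentElem e)
    [IsLocalization.Away e (Cl C f)] :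
    ∃ (j₀ : A) (k : ℕ), algebraMap A C j₀ = 0 ∧
      (1 - e) * algebraMap A (Localization.Away f) (f ^ k) =
        algebraMap A (Localization.Away f) j₀ := by
  obtain ⟨⟨a, ⟨_, k, rfl⟩⟩, ha⟩ := IsLocalization.surj (Submonoid.powers f) (1 - e)
  simp only at ha
  have h0 : algebraMap (Localization.Away f) (Cl C f) (1 - e) = 0 := by
    rw [map_eq_zero_iff_of_away (S := Cl C f) e he, mul_sub, mul_one, he.eq, sub_self]
  have h1 : algebraMap C (Cl C f) (algebraMap A C a) = 0 := by
    rw [← tower, ← ha, map_mul, h0, zero_mul]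
  obtain ⟨m, hm⟩ := cl_eq_zero f _ h1
  refine ⟨f ^ m * a, k + m, by rw [map_mul, hm], ?_⟩
  rw [pow_add, map_mul, ← mul_assoc, ha, map_mul, mul_comm]

/-- The ideal `K`. -/
def K (I : Ideal A) (C : Type u) [CommRing C] [Algebra A C] : Ideal A where
  carrier := {x | ∀ g ∈ I, ∀ j : A, algebraMap A C j = 0 → ∃ n : ℕ, g ^ n * x * j = 0}
  add_mem' := by
    intro x y hx hy g hg j hj
    obtain ⟨n, hn⟩ := hx g hg j hj
    obtain ⟨m, hm⟩ := hy g hg j hj
    refine ⟨n + m, ?_⟩
    have e1 : g ^ (n + m) * (x + y) * j = g ^ m * (g ^ n * x * j) + g ^ n * (g ^ m * y * j) := by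
      ring
    rw [e1, hn, hm, mul_zero, mul_zero, add_zero]
  zero_mem' := by
    intro g _ j _
    exact ⟨0, by simp⟩
  smul_mem' := by
    intro c x hx g hg j hj
    obtain ⟨n, hn⟩ := hx g hg j hj
    refine ⟨n, ?_⟩
    have e1 : g ^ n * (c • x) * j = c * (g ^ n * x * j) := by
      rw [smul_eq_mul]; ring
    rw [e1, hn, mul_zero]

theorem mem_K {I : Ideal A} {x : A} :
    x ∈ K I C ↔ ∀ g ∈ I, ∀ j : A, algebraMap A C j = 0 → ∃ n : ℕ, g ^ n * x * j = 0 :=
  Iff.rfl

/-- Lemma 3. -/
theorem lem3 (I : Ideal A) (f : A) (hf : f ∈ I) (e : Localization.Away f)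
    (he : IsIdempotentElem e) [IsLocalization.Away e (Cl C f)] (x : A) (hx : x ∈ K I C) :
    (1 - e) * algebraMap A (Localization.Away f) x = 0 := by
  obtain ⟨j₀, k, hj₀, hk⟩ := lem2 C f e he
  obtain ⟨n, hn⟩ := hx f hf j₀ hj₀
  have h1 : algebraMap A (Localization.Away f) (f ^ (n + k)) *
      ((1 - e) * algebraMap A (Localization.Away f) x) = 0 := by
    have : algebraMap A (Localization.Away f) (f ^ (n + k)) *
        ((1 - e) * algebraMap A (Localization.Away f) x) =
        algebraMap A (Localization.Away f) (f ^ n) * algebraMap A (Localization.Away f) x *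
          ((1 - e) * algebraMap A (Localization.Away f) (f ^ k)) := by
      rw [pow_add, map_mul]; ring
    rw [this, hk, ← map_mul, ← map_mul, hn, map_zero]
  exact (isUnit_away f (n + k)).mul_right_eq_zero.1 h1

/-- Lemma 4a. -/
theorem lem4a (f : A) (e : Localization.Away f) (he : IsIdempotentElem e)
    [IsLocalization.Away e (Cl C f)] (g : A) (e' : Localization.Away g)
    (he' : IsIdempotentElem e') [IsLocalization.Away e' (Cl C g)] (y : A)
    (hy : (1 - e) * algebraMap A (Localization.Away f) y = 0) :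
    ∃ N : ℕ, ∀ N' : ℕ, N ≤ N' → ∀ j : A, algebraMap A C j = 0 →
      ∃ n : ℕ, g ^ n * (f ^ N' * y) * j = 0 := by
  obtain ⟨j₁, k, hj₁, hk⟩ := lem2 C g e' he'
  have h1 := lem1 C f e he j₁ hj₁
  have h2 : algebraMap A (Localization.Away f) (y * j₁) = 0 := by
    have e1 : algebraMap A (Localization.Away f) (y * j₁) =
        (1 - e) * algebraMap A (Localization.Away f) y * algebraMap A (Localization.Away f) j₁ +
        algebraMap A (Localization.Away f) y * (e * algebraMap A (Localization.Away f) j₁) := by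
      rw [map_mul]; ring
    rw [e1, hy, h1, zero_mul, mul_zero, add_zero]
  obtain ⟨N, hN⟩ := away_eq_zero f _ h2
  refine ⟨N, fun N' hN' j hj => ?_⟩
  have hN'' : f ^ N' * (y * j₁) = 0 := by
    obtain ⟨d, rfl⟩ := Nat.exists_eq_add_of_le hN'
    rw [pow_add, mul_comm (f ^ N), mul_assoc, hN, mul_zero]
  have h3 := lem1 C g e' he' j hj
  have h4 : algebraMap A (Localization.Away g) (g ^ k * (f ^ N' * y) * j) = 0 := by
    have e1 : algebraMap A (Localization.Away g) (g ^ k * (f ^ N' * y) * j) =
        algebraMap A (Localization.Away g) (f ^ N' * y) *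
          ((1 - e') * algebraMap A (Localization.Away g) (g ^ k)) *
            algebraMap A (Localization.Away g) j +
        algebraMap A (Localization.Away g) (f ^ N' * y) *
          algebraMap A (Localization.Away g) (g ^ k) *
            (e' * algebraMap A (Localization.Away g) j) := by
      rw [map_mul, map_mul]; ring
    rw [e1, h3, mul_zero, add_zero, hk, ← map_mul, mul_assoc, hN'', map_zero, zero_mul]
  obtain ⟨n, hn⟩ := away_eq_zero g _ h4
  refine ⟨n + k, ?_⟩
  rw [pow_add]
  rw [← hn]; ring

/-- Lemma 4. -/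
theorem lem4 (I : Ideal A) (hI : I.FG)
    (h : ∀ f ∈ I, ∃ e : Localization.Away f, IsIdempotentElem e ∧
      IsLocalization.Away e (Cl C f))
    (f : A) (e : Localization.Away f) (he : IsIdempotentElem e)
    [IsLocalization.Away e (Cl C f)] (y : A)
    (hy : (1 - e) * algebraMap A (Localization.Away f) y = 0) :
    ∃ N : ℕ, f ^ N * y ∈ K I C := by
  classical
  obtain ⟨s, hs⟩ := hI
  have hsI : ∀ g ∈ s, g ∈ I := fun g hg => hs ▸ Ideal.subset_span hg
  have key : ∀ g : s, ∃ N : ℕ, ∀ N' : ℕ, N ≤ N' → ∀ j : A, algebraMap A C j = 0 →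
      ∃ n : ℕ, (g : A) ^ n * (f ^ N' * y) * j = 0 := by
    intro g
    obtain ⟨e', he', hloc'⟩ := h g (hsI g g.2)
    haveI := hloc'
    exact lem4a f e he g e' he' y hy
  choose N hN using key
  refine ⟨s.attach.sup N, ?_⟩
  intro g' hg' j hj
  set t : A := f ^ s.attach.sup N * y * j with ht
  let Ann : Ideal A := LinearMap.ker (LinearMap.mulRight A t)
  have hle : I ≤ Ann.radical := by
    rw [← hs, Ideal.span_le]
    intro g hg
    obtain ⟨n, hn⟩ := hN ⟨g, hg⟩ (s.attach.sup N) (Finset.le_sup (f := N) (Finset.mem_attach s ⟨g, hg⟩))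
      j hj
    refine ⟨n, ?_⟩
    show (LinearMap.mulRight A t) (g ^ n) = 0
    rw [LinearMap.mulRight_apply, ht, ← mul_assoc]
    exact hn
  obtain ⟨n, hn⟩ := hle hg'
  refine ⟨n, ?_⟩
  have : (LinearMap.mulRight A t) (g' ^ n) = 0 := hn
  rw [LinearMap.mulRight_apply, ht, ← mul_assoc] at this
  exact this

theorem eq_zero_of_parts (f : A) (e z : Localization.Away f) (h1 : e * z = 0)
    (h2 : (1 - e) * z = 0) : z = 0 := by
  have : z = e * z + (1 - e) * z := by ring
  rw [this, h1, h2, add_zero]

end Main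


/-- Let A be a ring, I a finitely generated ideal and A → C a ring map such that for every f ∈ I the map
A_f → C_f is the localization of A_f at an idempotent. Then there is a surjection A → C' (C' = A/K
for an ideal K) such that A_f → (C × C')_f is an isomorphism for every f ∈ I. -/
theorem result (A : Type u) [CommRing A]
    (I : Ideal A) (hI : I.FG) (C : Type u) [CommRing C] [Algebra A C]
    (h : ∀ f ∈ I, ∃ e : Localization.Away f, IsIdempotentElem e ∧
      IsLocalization.Away e (Localization (Algebra.algebraMapSubmonoid C (Submonoid.powers f)))) :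
    ∃ K : Ideal A, ∀ f ∈ I, Function.Bijective
      (algebraMap (Localization.Away f)
        (Localization (Algebra.algebraMapSubmonoid (C × (A ⧸ K)) (Submonoid.powers f)))) := by
  refine ⟨K I C, fun f hf => ?_⟩
  obtain ⟨e, he, hloc⟩ := h f hf
  haveI : IsLocalization.Away e (Cl C f) := hloc
  set P := C × (A ⧸ K I C) with hP
  have hT : ∀ a : A, algebraMap (Localization.Away f) (Cl P f)
      (algebraMap A (Localization.Away f) a) = algebraMap P (Cl P f) (algebraMap A P a) :=
    fun a => tower (C := P) f a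
  have hunitP : ∀ n : ℕ, IsUnit (algebraMap P (Cl P f) (algebraMap A P (f ^ n))) := fun n =>
    IsLocalization.map_units (Cl P f)
      (⟨algebraMap A P (f ^ n), ⟨f ^ n, ⟨n, rfl⟩, rfl⟩⟩ :
        Algebra.algebraMapSubmonoid P (Submonoid.powers f))
  constructor
  · -- injective
    rw [injective_iff_map_eq_zero]
    intro z hz
    obtain ⟨⟨a, ⟨_, n, rfl⟩⟩, ha⟩ := IsLocalization.surj (Submonoid.powers f) z
    simp only at ha
    have h1 : algebraMap P (Cl P f) (algebraMap A P a) = 0 := by
      rw [← hT, ← ha, map_mul, hz, zero_mul]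
    obtain ⟨m, hm⟩ := cl_eq_zero (C := P) f _ h1
    rw [← map_mul] at hm
    have hm1 : algebraMap A C (f ^ m * a) = 0 := congrArg Prod.fst hm
    have hm2 : f ^ m * a ∈ K I C := by
      have : algebraMap A (A ⧸ K I C) (f ^ m * a) = 0 := congrArg Prod.snd hm
      exact Ideal.Quotient.eq_zero_iff_mem.1 this
    have h2 := lem1 C f e he _ hm1
    have h3 := lem3 I f hf e he _ hm2
    have h4 := eq_zero_of_parts f e _ h2 h3
    rw [map_mul] at h4
    have h5 : algebraMap A (Localization.Away f) a = 0 :=
      (isUnit_away f m).mul_right_eq_zero.1 h4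
    rw [h5] at ha
    exact (isUnit_away f n).mul_left_eq_zero.1 ha
  · -- surjective
    intro p
    obtain ⟨⟨⟨c, b'⟩, ⟨_, _, ⟨n, rfl⟩, rfl⟩⟩, hq⟩ :=
      IsLocalization.surj (Algebra.algebraMapSubmonoid P (Submonoid.powers f)) p
    simp only at hq
    obtain ⟨b, rfl⟩ := Ideal.Quotient.mk_surjective b'
    obtain ⟨α, hα⟩ := surjective_of_away (S := Cl C f) e he (algebraMap C (Cl C f) c)
    set β : Localization.Away f := e * α + (1 - e) * algebraMap A (Localization.Away f) b with hβ
    obtain ⟨⟨a', ⟨_, m, rfl⟩⟩, ha'⟩ := IsLocalization.surj (Submonoid.powers f) β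
    simp only at ha'
    -- first component
    have hφe : algebraMap (Localization.Away f) (Cl C f) e = 1 :=
      map_eq_one_of_away (S := Cl C f) e he
    have hφβ : algebraMap (Localization.Away f) (Cl C f) β = algebraMap C (Cl C f) c := by
      rw [hβ, map_add, map_mul, map_mul, map_sub, map_one, hφe, sub_self, zero_mul, add_zero,
        one_mul, hα]
    have hc1 : algebraMap C (Cl C f) (algebraMap A C a' - c * algebraMap A C (f ^ m)) = 0 := by
      rw [map_sub, map_mul, ← tower, ← tower, ← ha', map_mul, hφβ, sub_self]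
    obtain ⟨N₁, hN₁⟩ := cl_eq_zero f _ hc1
    -- second component
    have hy : (1 - e) * algebraMap A (Localization.Away f) (a' - b * f ^ m) = 0 := by
      have e1 : algebraMap A (Localization.Away f) (a' - b * f ^ m) =
          e * ((α - algebraMap A (Localization.Away f) b) *
            algebraMap A (Localization.Away f) (f ^ m)) := by
        rw [map_sub, map_mul, ← ha', hβ]; ring
      rw [e1, ← mul_assoc, sub_mul, one_mul, he.eq, sub_self, zero_mul]
    obtain ⟨N₂, hN₂⟩ := lem4 I hI h f e he _ hy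
    have hψβ : algebraMap (Localization.Away f) (Cl P f) β =
        algebraMap P (Cl P f) (c, Ideal.Quotient.mk (K I C) b) := by
      have h1 : algebraMap (Localization.Away f) (Cl P f) β *
            algebraMap P (Cl P f) (algebraMap A P (f ^ m)) =
          algebraMap P (Cl P f) (c, Ideal.Quotient.mk (K I C) b) *
            algebraMap P (Cl P f) (algebraMap A P (f ^ m)) := by
        have e2 : algebraMap (Localization.Away f) (Cl P f) β *
            algebraMap P (Cl P f) (algebraMap A P (f ^ m)) =
            algebraMap P (Cl P f) (algebraMap A P a') := by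
          rw [← hT (f ^ m), ← map_mul, ha', hT]
        rw [e2, ← map_mul]
        rw [IsLocalization.eq_iff_exists (Algebra.algebraMapSubmonoid P (Submonoid.powers f))]
        refine ⟨⟨algebraMap A P (f ^ (N₁ + N₂)), ⟨f ^ (N₁ + N₂), ⟨_, rfl⟩, rfl⟩⟩, ?_⟩
        simp only
        refine Prod.ext ?_ ?_
        · show algebraMap A C (f ^ (N₁ + N₂)) * algebraMap A C a' =
            algebraMap A C (f ^ (N₁ + N₂)) * (c * algebraMap A C (f ^ m))
          rw [← sub_eq_zero, ← mul_sub, pow_add, map_mul, mul_comm (algebraMap A C (f ^ N₁)),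
            mul_assoc, hN₁, mul_zero]
        · show Ideal.Quotient.mk (K I C) (f ^ (N₁ + N₂)) * Ideal.Quotient.mk (K I C) a' =
            Ideal.Quotient.mk (K I C) (f ^ (N₁ + N₂)) *
              (Ideal.Quotient.mk (K I C) b * Ideal.Quotient.mk (K I C) (f ^ m))
          rw [← map_mul, ← map_mul, ← map_mul, ← sub_eq_zero, ← map_sub,
            Ideal.Quotient.eq_zero_iff_mem]
          have : f ^ (N₁ + N₂) * a' - f ^ (N₁ + N₂) * (b * f ^ m) =
              f ^ N₁ * (f ^ N₂ * (a' - b * f ^ m)) := by ring
          rw [this]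
          exact Ideal.mul_mem_left _ _ hN₂
      exact (hunitP m).mul_left_injective h1
    obtain ⟨u, hu⟩ := (isUnit_away f n).exists_right_inv
    refine ⟨β * u, ?_⟩
    apply (hunitP n).mul_left_injective
    show algebraMap (Localization.Away f) (Cl P f) (β * u) *
      algebraMap P (Cl P f) (algebraMap A P (f ^ n)) = p * algebraMap P (Cl P f) (algebraMap A P (f ^ n))
    rw [hq, ← hT, ← map_mul, mul_assoc, mul_comm u, hu, mul_one, hψβ]

end Groth.Agent.S9303
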