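import Mathlib
import Groth.Statements.S9307
import Groth.Agent.Lib.Helper9.DvrTameBCApp

set_option autoImplicit false
universe u
open EtRam

namespace Groth.Agent.S9307

open TensorProduct in
/-- Let A → B be an injective local homomorphism of discrete valuation rings with fraction fields K ⊆ L,
and let K' be a finite separable extension of K that is tamely ramified relative to A. Then every
field F onto which K' ⊗_K L surjects is, as an extension of L, tamely ramified relative to B. (The
published statement also records that K' ⊗_K L is a finite product of fields, whose factors are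
these F; this row does not state that part.) -/
theorem result (A B K L K' : Type u) [CommRing A] [IsDomain A]
    [IsDiscreteValuationRing A] [CommRing B] [IsDomain B] [IsDiscreteValuationRing B] [Algebra A B]
    [IsLocalHom (algebraMap A B)] (hinj : Function.Injective (algebraMap A B))
    [Field K] [Field L] [Field K'] [Algebra A K] [IsFractionRing A K] [Algebra B L] [IsFractionRing B L]
    [Algebra K L] [Algebra A L] [IsScalarTower A K L] [IsScalarTower A B L]
    [Algebra K K'] [FiniteDimensional K K'] [Algebra.IsSeparable K K']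
    (h : EtRam.IsTamelyRamified A ((algebraMap K K').comp (algebraMap A K)))
    (F : Type u) [Field F] [Algebra (K' ⊗[K] L) F] (hF : Function.Surjective (algebraMap (K' ⊗[K] L) F)) :
    EtRam.IsTamelyRamified B ((algebraMap (K' ⊗[K] L) F).comp
      ((Algebra.TensorProduct.includeRight : L →ₐ[K] K' ⊗[K] L).toRingHom.comp (algebraMap B L))) := by
  classical
  intro W hW hloc
  letI algLF : Algebra L F := ((algebraMap (K' ⊗[K] L) F).comp
    (Algebra.TensorProduct.includeRight : L →ₐ[K] K' ⊗[K] L).toRingHom).toAlgebra
  letI algK'F : Algebra K' F := ((algebraMap (K' ⊗[K] L) F).comp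
    (Algebra.TensorProduct.includeLeft : K' →ₐ[K] K' ⊗[K] L).toRingHom).toAlgebra
  letI algKF : Algebra K F := ((algebraMap L F).comp (algebraMap K L)).toAlgebra
  haveI : IsScalarTower K L F := IsScalarTower.of_algebraMap_eq fun _ => rfl
  haveI : IsScalarTower K K' F := IsScalarTower.of_algebraMap_eq fun k => by
    change algebraMap (K' ⊗[K] L) F ((1 : K') ⊗ₜ[K] algebraMap K L k) =
      algebraMap (K' ⊗[K] L) F (algebraMap K K' k ⊗ₜ[K] (1 : L))
    refine congrArg _ ?_
    rw [Algebra.algebraMap_eq_smul_one k, Algebra.algebraMap_eq_smul_one k, TensorProduct.smul_tmul]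
  have hgen : Algebra.adjoin L (Set.range (algebraMap K' F)) = ⊤ := by
    rw [eq_top_iff]
    intro x _
    obtain ⟨t, rfl⟩ := hF x
    induction t using TensorProduct.induction_on with
    | zero => rw [map_zero]; exact Subalgebra.zero_mem _
    | tmul a b =>
      have : algebraMap (K' ⊗[K] L) F (a ⊗ₜ[K] b) = algebraMap L F b * algebraMap K' F a := by
        change _ = algebraMap (K' ⊗[K] L) F ((1 : K') ⊗ₜ[K] b) *
          algebraMap (K' ⊗[K] L) F (a ⊗ₜ[K] (1 : L))
        rw [← map_mul, Algebra.TensorProduct.tmul_mul_tmul, one_mul, mul_one]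
      rw [this]
      exact Subalgebra.mul_mem _ (Subalgebra.algebraMap_mem _ _)
        (Algebra.subset_adjoin ⟨a, rfl⟩)
    | add x y hx hy => rw [map_add]; exact Subalgebra.add_mem _ (hx Algebra.mem_top) (hy Algebra.mem_top)
  have hgen₁ : Algebra.adjoin K' (Set.range (algebraMap L F)) = ⊤ := by
    rw [eq_top_iff]
    intro x _
    obtain ⟨t, rfl⟩ := hF x
    induction t using TensorProduct.induction_on with
    | zero => rw [map_zero]; exact Subalgebra.zero_mem _
    | tmul a b =>
      have : algebraMap (K' ⊗[K] L) F (a ⊗ₜ[K] b) = algebraMap K' F a * algebraMap L F b := by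
        change _ = algebraMap (K' ⊗[K] L) F (a ⊗ₜ[K] (1 : L)) *
          algebraMap (K' ⊗[K] L) F ((1 : K') ⊗ₜ[K] b)
        rw [← map_mul, Algebra.TensorProduct.tmul_mul_tmul, one_mul, mul_one]
      rw [this]
      exact Subalgebra.mul_mem _ (Subalgebra.algebraMap_mem _ _)
        (Algebra.subset_adjoin ⟨b, rfl⟩)
    | add x y hx hy => rw [map_add]; exact Subalgebra.add_mem _ (hx Algebra.mem_top) (hy Algebra.mem_top)
  exact @Groth.Agent.Lib.Helper9.DvrTameBCApp.tameBC_local A B K L _ _ _ _ _ _ _ _ hinj _ _ _ _ _ _ _ _
    _ _ K' _ _ _ h F _ _ _ _ _ _ hgen hgen₁ W hW hloc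

end Groth.Agent.S9307
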