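import Groth.Statements.S9309
import Mathlib
import Groth.Agent.S2045
import Groth.Agent.S0599
import Groth.Agent.Lib.Helper87.HensUP
import Groth.Agent.Lib.Helper67.GRingDed
import Groth.Agent.Lib.Helper58.ExcellentLoc
import Groth.Agent.Lib.Helper58.HenselPairColim

set_option autoImplicit false
set_option linter.unusedSectionVars false
set_option linter.overlappingInstances false
universe u
open CAlg

namespace Groth.Agent.S9309

open IsLocalRing Groth.Agent.Lib.Helper87.Hens Groth.Agent.Lib.Helper58.HenselPair

/-! ### Direct limits of (henselian) local rings along local homomorphisms -/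

section DL

variable {ι : Type u} [Preorder ι] [IsDirectedOrder ι] [Nonempty ι]
  (G : ι → Type u) [∀ i, CommRing (G i)] (f : ∀ i j : ι, i ≤ j → (G i →+* G j))
  [DirectedSystem G (fun i j h => f i j h)] [∀ i, IsLocalRing (G i)]
  (hloc : ∀ i j h, IsLocalHom (f i j h))

include hloc in
lemma isUnit_of_isUnit_of (i : ι) (x : G i) (hx : IsUnit (DirectLimit.Ring.of G f i x)) :
    IsUnit x := by
  obtain ⟨w, hw⟩ := hx.exists_right_inv
  obtain ⟨j, y, rfl⟩ := directLimit_exists_of G f w
  obtain ⟨k, hik, hjk⟩ := exists_ge_ge i j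
  have h1 : DirectLimit.Ring.of G f k (f i k hik x * f j k hjk y) =
      DirectLimit.Ring.of G f k 1 := by
    rw [map_mul, DirectLimit.Ring.of_f, DirectLimit.Ring.of_f, hw, map_one]
  obtain ⟨l, hkl, hkl', h2⟩ := (directLimit_of_eq_of_iff G f _ _).mp h1
  rw [map_mul, map_one] at h2
  have h3 : IsUnit (f k l hkl (f i k hik x)) := IsUnit.of_mul_eq_one _ h2
  haveI := hloc k l hkl
  haveI := hloc i k hik
  exact isUnit_of_map_unit (f i k hik) x (isUnit_of_map_unit (f k l hkl) _ h3)

include hloc in
lemma isLocalRing_directLimit : IsLocalRing (DirectLimit G f) := by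
  haveI : Nontrivial (DirectLimit G f) := by
    refine ⟨⟨0, 1, fun h => ?_⟩⟩
    obtain ⟨i⟩ := ‹Nonempty ι›
    have h1 : DirectLimit.Ring.of G f i 0 = DirectLimit.Ring.of G f i 1 := by
      rw [map_zero, map_one]; exact h
    obtain ⟨k, hik, hik', h2⟩ := (directLimit_of_eq_of_iff G f _ _).mp h1
    rw [map_zero, map_one] at h2
    exact zero_ne_one h2
  refine IsLocalRing.of_isUnit_or_isUnit_one_sub_self fun z => ?_
  obtain ⟨i, x, rfl⟩ := directLimit_exists_of G f z
  rcases IsLocalRing.isUnit_or_isUnit_one_sub_self x with h | h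
  · exact Or.inl (h.map _)
  · right
    have := h.map (DirectLimit.Ring.of G f i)
    rwa [map_sub, map_one] at this

include hloc in
lemma henselianLocalRing_directLimit [∀ i, HenselianLocalRing (G i)] :
    HenselianLocalRing (DirectLimit G f) := by
  haveI hL : IsLocalRing (DirectLimit G f) := isLocalRing_directLimit G f hloc
  have hK : ∀ (i j : ι) (h : i ≤ j), (maximalIdeal (G i)).map (f i j h) ≤ maximalIdeal (G j) := by
    intro i j h
    rw [Ideal.map_le_iff_le_comap]
    intro x hx
    haveI := hloc i j h
    exact _root_.map_nonunit (f i j h) x hx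
  have hH := henselian_directLimit G f (fun i => maximalIdeal (G i)) hK
  set J : Ideal (DirectLimit G f) :=
    ⨆ i, (maximalIdeal (G i)).map (DirectLimit.Ring.of G f i) with hJ
  have hJle : J ≤ maximalIdeal (DirectLimit G f) := by
    have := hH.jac
    rwa [IsLocalRing.jacobson_eq_maximalIdeal ⊥ bot_ne_top] at this
  have hleJ : maximalIdeal (DirectLimit G f) ≤ J := by
    intro z hz
    obtain ⟨i, x, rfl⟩ := directLimit_exists_of G f z
    have hx : x ∈ maximalIdeal (G i) := by
      rw [IsLocalRing.mem_maximalIdeal, mem_nonunits_iff]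
      intro hx
      exact hz (hx.map _)
    exact (le_iSup (fun i => (maximalIdeal (G i)).map (DirectLimit.Ring.of G f i)) i)
      (Ideal.mem_map_of_mem _ hx)
  refine { hL with is_henselian := ?_ }
  intro p hp a₀ h₁ h₂
  obtain ⟨a, ha, ha'⟩ := hH.is_henselian p hp a₀ (hleJ h₁) (h₂.map _)
  exact ⟨a, ha, hJle ha'⟩

end DL

/-! ### The system of henselizations of localized finitely generated subrings -/

attribute [local instance] ULift.algebra'

section System

variable (A : Type u) [CommRing A] [HenselianLocalRing A]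

/-- the subring generated by a finite set -/
def Asub (s : Finset A) : Subalgebra (ULift.{u} ℤ) A := Algebra.adjoin (ULift.{u} ℤ) (s : Set A)

lemma Asub_mono {s t : Finset A} (h : s ≤ t) : Asub A s ≤ Asub A t :=
  Algebra.adjoin_mono (Finset.coe_subset.mpr h)

/-- the inclusions -/
def incl {s t : Finset A} (h : s ≤ t) : Asub A s →+* Asub A t :=
  (Subalgebra.inclusion (Asub_mono A h)).toRingHom

lemma incl_val {s t : Finset A} (h : s ≤ t) (a : Asub A s) : ((incl A h a : Asub A t) : A) = a :=
  rfl

/-- the prime under the maximal ideal -/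
def pS (s : Finset A) : Ideal (Asub A s) := (maximalIdeal A).comap (Asub A s).val.toRingHom

instance (s : Finset A) : (pS A s).IsPrime := Ideal.comap_isPrime _ _

lemma pS_comap {s t : Finset A} (h : s ≤ t) : pS A s = (pS A t).comap (incl A h) := rfl

/-- the local ring of the subring -/
abbrev Bl (s : Finset A) : Type u := Localization.AtPrime (pS A s)

/-- transition maps between the local rings -/
noncomputable def tau {s t : Finset A} (h : s ≤ t) : Bl A s →+* Bl A t :=
  Localization.localRingHom (pS A s) (pS A t) (incl A h) (pS_comap A h)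

lemma tau_alg {s t : Finset A} (h : s ≤ t) (a : Asub A s) :
    tau A h (algebraMap (Asub A s) (Bl A s) a) = algebraMap (Asub A t) (Bl A t) (incl A h a) :=
  Localization.localRingHom_to_map (pS A s) (pS A t) (incl A h) (pS_comap A h) a

instance tau_local {s t : Finset A} (h : s ≤ t) : IsLocalHom (tau A h) :=
  Localization.isLocalHom_localRingHom (pS A s) (pS A t) (incl A h) (pS_comap A h)

lemma isUnit_val (s : Finset A) (y : (pS A s).primeCompl) :
    IsUnit ((Asub A s).val.toRingHom y) := by
  have : ((y : Asub A s) : A) ∉ maximalIdeal A := y.2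
  exact IsLocalRing.notMem_maximalIdeal.mp this

/-- the map to `A` -/
noncomputable def beta (s : Finset A) : Bl A s →+* A :=
  IsLocalization.lift (M := (pS A s).primeCompl) (g := (Asub A s).val.toRingHom) (isUnit_val A s)

lemma beta_alg (s : Finset A) (a : Asub A s) :
    beta A s (algebraMap (Asub A s) (Bl A s) a) = (a : A) :=
  IsLocalization.lift_eq (isUnit_val A s) a

instance beta_local (s : Finset A) : IsLocalHom (beta A s) := by
  constructor
  intro x hx
  obtain ⟨b, y, rfl⟩ := IsLocalization.exists_mk'_eq (pS A s).primeCompl x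
  have h1 : beta A s (IsLocalization.mk' (Bl A s) b y) * ((y : Asub A s) : A) = (b : A) := by
    rw [← beta_alg A s y, ← map_mul, IsLocalization.mk'_spec, beta_alg]
  have h2 : IsUnit ((b : Asub A s) : A) := by
    rw [← h1]
    exact hx.mul (isUnit_val A s y)
  have hb : b ∉ pS A s := fun hb => (IsLocalRing.notMem_maximalIdeal.mpr h2) hb
  have h3 : IsUnit (algebraMap (Asub A s) (Bl A s) b) :=
    IsLocalization.map_units (Bl A s) (⟨b, hb⟩ : (pS A s).primeCompl)
  have h4 : IsUnit (IsLocalization.mk' (Bl A s) b y *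
      algebraMap (Asub A s) (Bl A s) (y : Asub A s)) := by
    rw [IsLocalization.mk'_spec]
    exact h3
  exact isUnit_of_mul_isUnit_left h4

/-- the henselization of the local ring of the subring -/
abbrev Gh (s : Finset A) : Type u := Hh (Bl A s)

/-- the subring maps to the henselization -/
noncomputable def alpha (s : Finset A) : Asub A s →+* Gh A s :=
  (algebraMap (Bl A s) (Gh A s)).comp (algebraMap (Asub A s) (Bl A s))

lemma exists_unique_ext (s : Finset A) (T : Type u) [CommRing T] [HenselianLocalRing T]
    (θ : Bl A s →+* T) (hθ : IsLocalHom θ) :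
    ∃! k : Gh A s →+* T, k.comp (algebraMap (Bl A s) (Gh A s)) = θ :=
  (isHenselization_Hh (Bl A s)).universal T θ hθ

/-- the extension to the henselization -/
noncomputable def ext (s : Finset A) (T : Type u) [CommRing T] [HenselianLocalRing T]
    (θ : Bl A s →+* T) (hθ : IsLocalHom θ) : Gh A s →+* T :=
  Classical.choose (exists_unique_ext A s T θ hθ).exists

lemma ext_comp (s : Finset A) (T : Type u) [CommRing T] [HenselianLocalRing T]
    (θ : Bl A s →+* T) (hθ : IsLocalHom θ) :
    (ext A s T θ hθ).comp (algebraMap (Bl A s) (Gh A s)) = θ :=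
  Classical.choose_spec (exists_unique_ext A s T θ hθ).exists

lemma ext_alg (s : Finset A) (T : Type u) [CommRing T] [HenselianLocalRing T]
    (θ : Bl A s →+* T) (hθ : IsLocalHom θ) (x : Bl A s) :
    ext A s T θ hθ (algebraMap (Bl A s) (Gh A s) x) = θ x :=
  congrArg (fun ρ : Bl A s →+* T => ρ x) (ext_comp A s T θ hθ)

/-- a ring map out of the henselization whose restriction to the local ring is local is local -/
lemma isLocalHom_of_comp (s : Finset A) (T : Type u) [CommRing T] [IsLocalRing T]
    (k : Gh A s →+* T) (hk : IsLocalHom (k.comp (algebraMap (Bl A s) (Gh A s)))) :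
    IsLocalHom k := by
  have hle := maximalIdeal_le_comap_of_comp_eq (R := Bl A s) (S := Gh A s) H.map_maximalIdeal
    (k.comp (algebraMap (Bl A s) (Gh A s))) k rfl
  exact ((IsLocalRing.local_hom_TFAE k).out 0 3 rfl rfl).mpr hle

/-- uniqueness of maps from the henselization into a henselian local ring -/
lemma ext_unique (s : Finset A) (T : Type u) [CommRing T] [HenselianLocalRing T]
    (k₁ k₂ : Gh A s →+* T) (hk₂ : IsLocalHom k₂)
    (h : ∀ a : Asub A s, k₁ (alpha A s a) = k₂ (alpha A s a)) : k₁ = k₂ := by
  have hθ : k₁.comp (algebraMap (Bl A s) (Gh A s)) = k₂.comp (algebraMap (Bl A s) (Gh A s)) := by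
    apply IsLocalization.ringHom_ext (pS A s).primeCompl
    ext a
    exact h a
  have hloc : IsLocalHom (k₂.comp (algebraMap (Bl A s) (Gh A s))) :=
    RingHom.isLocalHom_comp _ _
  obtain ⟨k, -, huniq⟩ := exists_unique_ext A s T (k₂.comp (algebraMap (Bl A s) (Gh A s))) hloc
  rw [huniq k₁ hθ, huniq k₂ rfl]

/-- the transition maps of the system -/
noncomputable def fE (s t : Finset A) (h : s ≤ t) : Gh A s →+* Gh A t :=
  ext A s (Gh A t) ((algebraMap (Bl A t) (Gh A t)).comp (tau A h)) (RingHom.isLocalHom_comp _ _)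

lemma fE_alpha (s t : Finset A) (h : s ≤ t) (a : Asub A s) :
    fE A s t h (alpha A s a) = alpha A t (incl A h a) := by
  show ext A s (Gh A t) _ _ (algebraMap (Bl A s) (Gh A s) (algebraMap (Asub A s) (Bl A s) a)) =
    algebraMap (Bl A t) (Gh A t) (algebraMap (Asub A t) (Bl A t) (incl A h a))
  rw [ext_alg, RingHom.comp_apply, tau_alg]

lemma fE_local (s t : Finset A) (h : s ≤ t) : IsLocalHom (fE A s t h) := by
  apply isLocalHom_of_comp
  unfold fE
  rw [ext_comp]
  exact RingHom.isLocalHom_comp _ _

instance directedSystem : DirectedSystem (Gh A) (fun s t h => fE A s t h) where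
  map_self s x := by
    have : fE A s s le_rfl = RingHom.id _ := by
      refine ext_unique A s _ _ _ ?_ fun a => ?_
      · exact ⟨fun a ha => ha⟩
      · rw [fE_alpha]
        rfl
    exact congrArg (fun ρ : Gh A s →+* Gh A s => ρ x) this
  map_map r t s hst htr x := by
    have : (fE A t r htr).comp (fE A s t hst) = fE A s r (hst.trans htr) := by
      refine ext_unique A s _ _ _ (fE_local A s r _) fun a => ?_
      rw [RingHom.comp_apply, fE_alpha, fE_alpha, fE_alpha]
      rfl
    exact congrArg (fun ρ : Gh A s →+* Gh A r => ρ x) this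

/-- the maps to `A` -/
noncomputable def gamma (s : Finset A) : Gh A s →+* A := ext A s A (beta A s) (beta_local A s)

lemma gamma_alpha (s : Finset A) (a : Asub A s) : gamma A s (alpha A s a) = (a : A) := by
  show ext A s A _ _ (algebraMap (Bl A s) (Gh A s) (algebraMap (Asub A s) (Bl A s) a)) = (a : A)
  rw [ext_alg, beta_alg]

lemma gamma_local (s : Finset A) : IsLocalHom (gamma A s) := by
  apply isLocalHom_of_comp
  unfold gamma
  rw [ext_comp]
  exact beta_local A s

lemma gamma_fE (s t : Finset A) (h : s ≤ t) (x : Gh A s) :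
    gamma A t (fE A s t h x) = gamma A s x := by
  have : (gamma A t).comp (fE A s t h) = gamma A s := by
    refine ext_unique A s _ _ _ (gamma_local A s) fun a => ?_
    rw [RingHom.comp_apply, fE_alpha, gamma_alpha, gamma_alpha]
    rfl
  exact congrArg (fun ρ : Gh A s →+* A => ρ x) this

end System

/-! ### The colimit is `A` -/

section Main

variable (A : Type u) [CommRing A] [HenselianLocalRing A]

lemma isGRing_ulift_int : CAlg.IsGRing (ULift.{u} ℤ) := by
  haveI : IsDomain (ULift.{u} ℤ) :=
    MulEquiv.isDomain ℤ (ULift.ringEquiv : ULift.{u} ℤ ≃+* ℤ).toMulEquiv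
  haveI : IsPrincipalIdealRing (ULift.{u} ℤ) :=
    IsPrincipalIdealRing.of_surjective (ULift.ringEquiv : ULift.{u} ℤ ≃+* ℤ).symm.toRingHom
      (ULift.ringEquiv : ULift.{u} ℤ ≃+* ℤ).symm.surjective
  haveI : CharZero (ULift.{u} ℤ) :=
    charZero_of_injective_ringHom (f := (ULift.ringEquiv : ULift.{u} ℤ ≃+* ℤ).symm.toRingHom)
      (ULift.ringEquiv : ULift.{u} ℤ ≃+* ℤ).symm.injective
  exact Groth.Agent.Lib.Helper67.RegLocus.isGRing_of_dedekind_charZero _

lemma isGRing_Gh (s : Finset A) : CAlg.IsGRing (Gh A s) := by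
  haveI : Algebra.FiniteType (ULift.{u} ℤ) (Asub A s) :=
    (Subalgebra.fg_iff_finiteType _).mp (Subalgebra.fg_adjoin_finset s)
  have h1 : CAlg.IsGRing (Asub A s) :=
    Groth.Agent.S0599.result (ULift.{u} ℤ) isGRing_ulift_int (Asub A s)
  have h2 : CAlg.IsGRing (Bl A s) :=
    Groth.Agent.Lib.Helper58.ExcellentLoc.isGRing_localization (Asub A s) h1
      (pS A s).primeCompl (Bl A s)
  haveI : IsNoetherianRing (Bl A s) := h2.1
  haveI := isHenselization_Hh (Bl A s)
  exact Groth.Agent.S2045.result h2

open Classical in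
/-- the colimit -/
abbrev Cl : Type u := DirectLimit (Gh A) (fE A)

open Classical in
/-- the map from the colimit to `A` -/
noncomputable def psi : Cl A →+* A :=
  DirectLimit.Ring.lift (Gh A) (fE A) A (gamma A) (fun s t h x => gamma_fE A s t h x)

open Classical in
lemma psi_of (s : Finset A) (x : Gh A s) :
    psi A (DirectLimit.Ring.of (Gh A) (fE A) s x) = gamma A s x := rfl

open Classical in
lemma of_alpha_eq {s t : Finset A} (a : A) (hs : a ∈ Asub A s) (ht : a ∈ Asub A t) :
    DirectLimit.Ring.of (Gh A) (fE A) s (alpha A s ⟨a, hs⟩) =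
      DirectLimit.Ring.of (Gh A) (fE A) t (alpha A t ⟨a, ht⟩) := by
  have hs' : s ≤ s ∪ t := Finset.subset_union_left
  have ht' : t ≤ s ∪ t := Finset.subset_union_right
  rw [← DirectLimit.Ring.of_f hs', ← DirectLimit.Ring.of_f ht', fE_alpha, fE_alpha]
  rfl

open Classical in
lemma mem_self (a : A) : a ∈ Asub A {a} :=
  Algebra.subset_adjoin (by simp)

open Classical in
/-- the inverse map, as a function -/
noncomputable def phiFun (a : A) : Cl A :=
  DirectLimit.Ring.of (Gh A) (fE A) {a} (alpha A {a} ⟨a, mem_self A a⟩)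

open Classical in
lemma phiFun_eq (a : A) (s : Finset A) (hs : a ∈ Asub A s) :
    phiFun A a = DirectLimit.Ring.of (Gh A) (fE A) s (alpha A s ⟨a, hs⟩) :=
  of_alpha_eq A a _ hs

open Classical in
/-- the inverse map -/
noncomputable def phi : A →+* Cl A where
  toFun := phiFun A
  map_one' := by
    rw [phiFun_eq A 1 ∅ (one_mem _)]
    have : (⟨1, one_mem _⟩ : Asub A ∅) = 1 := rfl
    rw [this, map_one, map_one]
  map_mul' a b := by
    have ha : a ∈ Asub A {a, b} := Algebra.subset_adjoin (by simp)
    have hb : b ∈ Asub A {a, b} := Algebra.subset_adjoin (by simp)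
    rw [phiFun_eq A a _ ha, phiFun_eq A b _ hb, phiFun_eq A (a * b) _ (mul_mem ha hb),
      ← map_mul, ← map_mul]
    rfl
  map_zero' := by
    rw [phiFun_eq A 0 ∅ (zero_mem _)]
    have : (⟨0, zero_mem _⟩ : Asub A ∅) = 0 := rfl
    rw [this, map_zero, map_zero]
  map_add' a b := by
    have ha : a ∈ Asub A {a, b} := Algebra.subset_adjoin (by simp)
    have hb : b ∈ Asub A {a, b} := Algebra.subset_adjoin (by simp)
    rw [phiFun_eq A a _ ha, phiFun_eq A b _ hb, phiFun_eq A (a + b) _ (add_mem ha hb),
      ← map_add, ← map_add]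
    rfl

open Classical in
lemma psi_phi (a : A) : psi A (phi A a) = a := by
  show psi A (phiFun A a) = a
  unfold phiFun
  rw [psi_of, gamma_alpha]

open Classical in
lemma phi_psi : (phi A).comp (psi A) = RingHom.id (Cl A) := by
  haveI hH : HenselianLocalRing (Cl A) :=
    henselianLocalRing_directLimit (Gh A) (fE A) (fE_local A)
  apply DirectLimit.Ring.hom_ext
  intro s
  refine ext_unique A s (Cl A) _ _ ?_ fun a => ?_
  · rw [RingHom.id_comp]
    exact ⟨fun x hx => isUnit_of_isUnit_of (Gh A) (fE A) (fE_local A) s x hx⟩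
  · simp only [RingHom.comp_apply, RingHom.id_apply]
    rw [psi_of, gamma_alpha]
    show phiFun A (a : A) = _
    rw [phiFun_eq A (a : A) s a.2]

open Classical in
/-- the isomorphism -/
noncomputable def equiv : A ≃+* Cl A :=
  RingEquiv.ofRingHom (phi A) (psi A) (phi_psi A) (RingHom.ext fun a => psi_phi A a)

end Main

/-- Every henselian local ring A is the colimit of a directed system of henselian local G-rings whose
transition maps are local homomorphisms; that is, there is such a system whose direct limit is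
isomorphic to A. -/
theorem result (A : Type u) [CommRing A]
    [HenselianLocalRing A] :
    ∃ (ι : Type u) (_ : Preorder ι) (_ : IsDirectedOrder ι) (_ : Nonempty ι) (G : ι → Type u)
      (_ : ∀ i, CommRing (G i)) (f : ∀ i j : ι, i ≤ j → (G i →+* G j))
      (_ : DirectedSystem G (fun i j h => f i j h)),
      (∀ i, HenselianLocalRing (G i) ∧ CAlg.IsGRing (G i)) ∧
      (∀ (i j : ι) (h : i ≤ j), IsLocalHom (f i j h)) ∧
      Nonempty (A ≃+* DirectLimit G f) := by
  classical
  exact ⟨Finset A, inferInstance, inferInstance, inferInstance, Gh A, inferInstance, fE A,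
    directedSystem A, fun s => ⟨inferInstance, isGRing_Gh A s⟩, fE_local A, ⟨equiv A⟩⟩

end Groth.Agent.S9309
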