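import Groth.Statements.S9310
import Groth.Agent.S10826

set_option autoImplicit false
universe u
open CAlg

namespace Groth.Agent.S9310

open MvPowerSeries in
theorem coeff_single_mul {R : Type*} [CommRing R] {n : ℕ} (k : Fin n)
    (f g : MvPowerSeries (Fin n) R) :
    coeff (Finsupp.single k 1) (f * g) =
      constantCoeff f * coeff (Finsupp.single k 1) g +
        coeff (Finsupp.single k 1) f * constantCoeff g := by
  classical
  rw [coeff_mul, Finsupp.antidiagonal_single, Finset.sum_map]
  have h : Finset.antidiagonal 1 = {((0 : ℕ), 1), (1, 0)} := by decide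
  rw [h, Finset.sum_pair (by decide)]
  simp

/-- Let K be a field, A = K[[x_1, ..., x_n]], and y_1, ..., y_n ∈ A a regular system of parameters (n
elements generating the maximal ideal). Then the substitution map K[[y_1, ..., y_n]] → A is an
isomorphism: f ↦ f(y_1, ..., y_n) is a bijection of K[[x_1, ..., x_n]] onto itself. -/
theorem result (K : Type u) [Field K] (n : ℕ)
    (y : Fin n → MvPowerSeries (Fin n) K)
    (hy : Ideal.span (Set.range y) = IsLocalRing.maximalIdeal (MvPowerSeries (Fin n) K)) :
    Function.Bijective (MvPowerSeries.subst y : MvPowerSeries (Fin n) K → MvPowerSeries (Fin n) K) := by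
  classical
  have h0 : ∀ i, MvPowerSeries.constantCoeff (y i) = 0 := by
    intro i
    have h1 : y i ∈ IsLocalRing.maximalIdeal (MvPowerSeries (Fin n) K) := by
      rw [← hy]
      exact Ideal.subset_span ⟨i, rfl⟩
    rw [IsLocalRing.mem_maximalIdeal, mem_nonunits_iff, MvPowerSeries.isUnit_iff_constantCoeff,
      isUnit_iff_ne_zero, not_not] at h1
    exact h1
  have ha : MvPowerSeries.HasSubst y := MvPowerSeries.hasSubst_of_constantCoeff_zero h0
  rw [← MvPowerSeries.coe_substAlgHom ha]
  rcases Nat.eq_zero_or_pos n with hn | hn
  · subst hn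
    exact Groth.Agent.S10826.bijective_of_jac_one _ (fun i => i.elim0)
  · refine Groth.Agent.S10826.result K n hn (MvPowerSeries.substAlgHom ha) ?_ ?_
    · intro i
      rw [MvPowerSeries.substAlgHom_X]
      exact h0 i
    · have hX : ∀ j : Fin n, ∃ c : Fin n → MvPowerSeries (Fin n) K,
          ∑ i, c i * y i = MvPowerSeries.X j := by
        intro j
        have h1 : (MvPowerSeries.X j : MvPowerSeries (Fin n) K) ∈ Ideal.span (Set.range y) := by
          rw [hy, IsLocalRing.mem_maximalIdeal, mem_nonunits_iff,
            MvPowerSeries.isUnit_iff_constantCoeff, MvPowerSeries.constantCoeff_X]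
          exact not_isUnit_zero
        exact Ideal.mem_span_range_iff_exists_fun.mp h1
      choose c hc using hX
      apply Matrix.isUnit_det_of_left_inverse
        (B := Matrix.of fun j i : Fin n => MvPowerSeries.constantCoeff (c j i))
      ext j k
      rw [Matrix.mul_apply]
      simp only [Matrix.of_apply, MvPowerSeries.substAlgHom_X]
      have h2 := congrArg (MvPowerSeries.coeff (Finsupp.single k 1)) (hc j)
      rw [map_sum] at h2
      simp only [coeff_single_mul, h0, mul_zero, add_zero] at h2
      rw [h2, MvPowerSeries.coeff_index_single_X, Matrix.one_apply]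
      by_cases hjk : j = k
      · subst hjk; simp
      · rw [if_neg hjk, if_neg (Ne.symm hjk)]

end Groth.Agent.S9310
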