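import Groth.Statements.S9311
import Groth.Agent.Lib.Helper76.PowEval

set_option autoImplicit false
universe u
open CAlg

namespace Groth.Agent.S9311

/-- Let Λ be a Cohen ring (a complete discrete valuation ring whose maximal ideal is generated by a
prime number p), B = Λ[[x_1, ..., x_n]], and y_1, ..., y_n ∈ B with zero constant terms such that p,
y_1, ..., y_n is a regular system of parameters of B (these n + 1 elements generate the maximal
ideal). Then the substitution map Λ[[y_1, ..., y_n]] → B is an isomorphism: f ↦ f(y_1, ..., y_n) is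
a bijection of Λ[[x_1, ..., x_n]] onto itself. (The published statement allows the y_i to have
constant terms in pΛ, the substitution being defined through the (p, x)-adic topology of B; this row
asks the constant terms to vanish, the case in which substitution is defined coefficientwise with no
topology on Λ.) -/
theorem result (Λ : Type u) [CommRing Λ] [IsDomain Λ]
    [IsDiscreteValuationRing Λ] [IsAdicComplete (IsLocalRing.maximalIdeal Λ) Λ] (p : ℕ) (hp : p.Prime)
    (hm : IsLocalRing.maximalIdeal Λ = Ideal.span {(p : Λ)}) (n : ℕ)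
    (y : Fin n → MvPowerSeries (Fin n) Λ) (hy0 : ∀ i, MvPowerSeries.constantCoeff (y i) = 0)
    (hy : Ideal.span (insert (p : MvPowerSeries (Fin n) Λ) (Set.range y)) =
      IsLocalRing.maximalIdeal (MvPowerSeries (Fin n) Λ)) :
    Function.Bijective (MvPowerSeries.subst y : MvPowerSeries (Fin n) Λ → MvPowerSeries (Fin n) Λ) := by
  classical
  have hys : MvPowerSeries.HasSubst y := MvPowerSeries.hasSubst_of_constantCoeff_zero hy0
  let φ : MvPowerSeries (Fin n) Λ →ₐ[Λ] MvPowerSeries (Fin n) Λ := MvPowerSeries.substAlgHom hys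
  have hφ : ⇑φ = MvPowerSeries.subst y := MvPowerSeries.coe_substAlgHom hys
  rw [← hφ]
  have hm0 : IsLocalRing.maximalIdeal (MvPowerSeries (Fin n) Λ) =
      Groth.Agent.Lib.Helper76.coeffIdeal (IsLocalRing.maximalIdeal Λ) 1 := by
    ext f
    rw [IsLocalRing.mem_maximalIdeal, mem_nonunits_iff, MvPowerSeries.isUnit_iff_constantCoeff,
      Groth.Agent.Lib.Helper76.mem_coeffIdeal]
    constructor
    · intro hf α
      by_cases hα : α = 0
      · subst hα
        simpa using (IsLocalRing.mem_maximalIdeal _).2 hf
      · have : 1 - α.degree = 0 := by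
          have : α.degree ≠ 0 := fun h => hα ((Finsupp.degree_eq_zero_iff α).1 h)
          omega
        rw [this, pow_zero, Ideal.one_eq_top]
        exact Submodule.mem_top
    · intro hf
      have := hf 0
      simpa using this
  have hm1 : IsLocalRing.maximalIdeal (MvPowerSeries (Fin n) Λ) =
      Groth.Agent.Lib.Helper76.bigIdeal (IsLocalRing.maximalIdeal Λ) := by
    rw [hm0, ← Groth.Agent.Lib.Helper76.pow_bigIdeal_eq, pow_one]
  haveI hcomplete : IsAdicComplete (IsLocalRing.maximalIdeal (MvPowerSeries (Fin n) Λ))
      (MvPowerSeries (Fin n) Λ) := by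
    rw [hm1]
    exact Groth.Agent.Lib.Helper76.isAdicComplete_bigIdeal _
  have hmgen : IsLocalRing.maximalIdeal (MvPowerSeries (Fin n) Λ) =
      Ideal.span (insert (p : MvPowerSeries (Fin n) Λ)
        (Set.range (MvPowerSeries.X : Fin n → MvPowerSeries (Fin n) Λ))) := by
    rw [hm1, Groth.Agent.Lib.Helper76.bigIdeal, hm, Ideal.map_span, Set.image_singleton,
      Ideal.span_insert, map_natCast]
  have hmap : (IsLocalRing.maximalIdeal (MvPowerSeries (Fin n) Λ)).map φ.toRingHom =
      IsLocalRing.maximalIdeal (MvPowerSeries (Fin n) Λ) := by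
    conv_lhs => rw [hmgen]
    rw [Ideal.map_span, Set.image_insert_eq, ← Set.range_comp]
    have h1 : φ.toRingHom (p : MvPowerSeries (Fin n) Λ) = p := map_natCast φ.toRingHom p
    have h2 : (⇑φ.toRingHom ∘ (MvPowerSeries.X : Fin n → MvPowerSeries (Fin n) Λ)) = y := by
      funext i
      exact MvPowerSeries.substAlgHom_X hys i
    rw [h1, h2]
    exact hy
  have hsurj : Function.Surjective φ.toRingHom := by
    haveI : IsHausdorff ((IsLocalRing.maximalIdeal (MvPowerSeries (Fin n) Λ)).map φ.toRingHom)
        (MvPowerSeries (Fin n) Λ) := by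
      rw [hmap]
      infer_instance
    apply surjective_of_mk_map_comp_surjective
      (I := IsLocalRing.maximalIdeal (MvPowerSeries (Fin n) Λ)) φ.toRingHom
    intro c
    obtain ⟨b, rfl⟩ := Ideal.Quotient.mk_surjective c
    refine ⟨MvPowerSeries.C (MvPowerSeries.constantCoeff b), ?_⟩
    have h3 : φ.toRingHom (MvPowerSeries.C (MvPowerSeries.constantCoeff b)) =
        MvPowerSeries.C (MvPowerSeries.constantCoeff b) :=
      φ.commutes (MvPowerSeries.constantCoeff b)
    rw [RingHom.comp_apply, h3, Ideal.Quotient.eq, hmap, IsLocalRing.mem_maximalIdeal,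
      mem_nonunits_iff, MvPowerSeries.isUnit_iff_constantCoeff, map_sub,
      MvPowerSeries.constantCoeff_C, sub_self]
    exact not_isUnit_zero
  have hinj := Groth.Agent.Lib.Helper76.injective_of_surjective_ringEnd' φ.toRingHom hsurj
  exact ⟨hinj, hsurj⟩

end Groth.Agent.S9311
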