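import Groth.Statements.S9312
import Groth.Agent.Lib.Helper29.NormPolyC

set_option autoImplicit false
universe u
open CAlg

namespace Groth.Agent.S9312

open Groth.Agent.Lib.Helper29.NormPoly
open scoped TensorProduct
open Polynomial


/-- Let a finite group G with n elements act on a ring R by ring automorphisms, with invariant ring R^G,
and let A be an algebra over R^G; G acts on A ⊗ R through the factor R. (1) For every G-invariant b
∈ A ⊗ R there is a monic polynomial over A whose image in (A ⊗ R)[T] is (T - b)^n. (2) For every a
in the kernel of A → A ⊗ R, all coefficients of (T - a)^n below degree n vanish, that is (T - a)^n =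
T^n in A[T]. -/
theorem result (R G A : Type u) [CommRing R] [Group G] [Fintype G]
    [MulSemiringAction G R] [CommRing A] [Algebra (FixedPoints.subring R G) A] :
    (∀ b : TensorProduct (FixedPoints.subring R G) A R,
      (∀ σ : G, Algebra.TensorProduct.map (AlgHom.id (FixedPoints.subring R G) A)
        (MulSemiringAction.toAlgHom (FixedPoints.subring R G) R σ) b = b) →
      ∃ P : Polynomial A, P.Monic ∧
        Polynomial.map (algebraMap A (TensorProduct (FixedPoints.subring R G) A R)) P =
          (Polynomial.X - Polynomial.C b) ^ Fintype.card G) ∧
    (∀ a : A, algebraMap A (TensorProduct (FixedPoints.subring R G) A R) a = 0 →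
      ∀ i : ℕ, i < Fintype.card G → ((Polynomial.X - Polynomial.C a) ^ Fintype.card G).coeff i = 0) := by
  have hinj : Function.Injective (algebraMap (FixedPoints.subring R G) R) := Subtype.val_injective
  have hfix : ∀ r : R, (∀ σ : G, σ • r = r) → r ∈ (algebraMap (FixedPoints.subring R G) R).range :=
    fun r hr => ⟨⟨r, hr⟩, rfl⟩
  exact ⟨fun b hb => main1 (S := FixedPoints.subring R G) hinj hfix b hb,
    fun a ha i hi => main2 (S := FixedPoints.subring R G) (R := R) hinj hfix a ha i hi⟩

end Groth.Agent.S9312
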