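import Groth.Statements.S9315
import Groth.Agent.Lib.Helper61.FSLocalTest

set_option autoImplicit false
universe u
open CAlg

namespace Groth.Agent.S9315

open IsLocalRing in
/-- Let `R → S` be a local homomorphism of local rings (no Noetherian hypothesis). Then `R → S` is
formally smooth for the adic topology of the maximal ideal of `S` if and only if the following
lifting property holds: for every local ring `A` with a local structure map `R → A`, every ideal `J`
of `A` of square zero such that some power of the maximal ideal of `A` is zero, and every local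
`R`-algebra homomorphism `ψ : S → A/J` inducing a bijection on residue fields, there is an
`R`-algebra homomorphism `S → A` lifting `ψ`. -/
theorem result {R S : Type u} [CommRing R] [CommRing S]
    [IsLocalRing R] [IsLocalRing S] [Algebra R S] [IsLocalHom (algebraMap R S)] :
    CAlgX.IsAdicFormallySmooth R S (maximalIdeal S) ↔
      ∀ (A : Type u) [CommRing A] [IsLocalRing A] [Algebra R A] [IsLocalHom (algebraMap R A)]
        (J : Ideal A), J ^ 2 = ⊥ → (∃ n : ℕ, maximalIdeal A ^ n = ⊥) →
        ∀ [IsLocalRing (A ⧸ J)] (ψ : S →ₐ[R] A ⧸ J) [IsLocalHom ψ.toRingHom],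
          Function.Bijective (ResidueField.map ψ.toRingHom) →
          ∃ χ : S →ₐ[R] A, (Ideal.Quotient.mkₐ R J).comp χ = ψ := by
  constructor
  · intro h A _ _ _ _ J hJ hnil _ ψ _ _
    obtain ⟨n, hn⟩ := hnil
    apply h A J hJ ψ
    refine ⟨n, fun x hx => ?_⟩
    have h1 : maximalIdeal S ≤ (maximalIdeal (A ⧸ J)).comap ψ.toRingHom := by
      intro s hs
      rw [Ideal.mem_comap, mem_maximalIdeal, mem_nonunits_iff]
      intro hu
      exact hs (IsLocalHom.map_nonunit (f := ψ.toRingHom) s hu)
    have h2 : maximalIdeal (A ⧸ J) ≤ (maximalIdeal A).map (Ideal.Quotient.mk J) := by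
      intro y hy
      obtain ⟨a, rfl⟩ := Ideal.Quotient.mk_surjective y
      apply Ideal.mem_map_of_mem
      rw [mem_maximalIdeal, mem_nonunits_iff]
      intro ha
      exact hy (ha.map _)
    have h3 : maximalIdeal (A ⧸ J) ^ n = ⊥ := by
      rw [eq_bot_iff]
      calc maximalIdeal (A ⧸ J) ^ n
          ≤ ((maximalIdeal A).map (Ideal.Quotient.mk J)) ^ n := Ideal.pow_right_mono h2 _
        _ = ⊥ := by rw [← Ideal.map_pow, hn, Ideal.map_bot]
    have h4 : x ∈ (maximalIdeal (A ⧸ J) ^ n).comap ψ.toRingHom :=
      ((Ideal.pow_right_mono h1 n).trans (Ideal.le_comap_pow _ n)) hx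
    rw [h3, Ideal.mem_comap, Ideal.mem_bot] at h4
    exact h4
  · intro h C _ _ J hJ u hu
    obtain ⟨k, hk⟩ := hu
    refine Groth.Agent.Lib.Helper61.FSLocalTest.exists_lift_of_local_test C J hJ u k hk ?_
    intro A _ _ _ _ J' hJ' hnil _ ψ _ _ _ hres
    exact h A J' hJ' hnil ψ hres

end Groth.Agent.S9315
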