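import Groth.Statements.S9320
import Groth.Agent.Lib.Helper97.GenCartier

set_option autoImplicit false
universe u
open CAlg

namespace Groth.Agent.S9320

open TensorProduct in
/-- Consider a commutative square of fields with maps `k → K`, `k → k'`, `k' → K'` and `K → K'`, where
`k'` is a finitely generated field extension of `k` and `K'` is a finitely generated field extension
of `K`. Let `α : Ω_{K/k} ⊗_K K' → Ω_{K'/k'}` and `β : H_1(L_{K/k}) ⊗_K K' → H_1(L_{K'/k'})` be the
comparison maps (`H_1(L)` the first homology of the naive cotangent complex). Then the kernels and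
cokernels of `α` and `β` are finite-dimensional `K'`-vector spaces, and the difference of
transcendence degrees trdeg_k(k') − trdeg_K(K') equals (dim Ker α + dim Coker β) − (dim Coker α +
dim Ker β). -/
theorem result {k k' K K' : Type u} [Field k] [Field k']
    [Field K] [Field K'] [Algebra k k'] [Algebra k K] [Algebra k K'] [Algebra k' K'] [Algebra K K']
    [IsScalarTower k k' K'] [IsScalarTower k K K']
    [Algebra.EssFiniteType k k'] [Algebra.EssFiniteType K K'] :
    Module.Finite K' (LinearMap.ker ((KaehlerDifferential.map k k' K K').liftBaseChange K')) ∧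
      Module.Finite K' (Ω[K'⁄k'] ⧸ LinearMap.range ((KaehlerDifferential.map k k' K K').liftBaseChange K')) ∧
      Module.Finite K' (LinearMap.ker ((Algebra.H1Cotangent.map k k' K K').liftBaseChange K')) ∧
      Module.Finite K' (Algebra.H1Cotangent k' K' ⧸ LinearMap.range ((Algebra.H1Cotangent.map k k' K K').liftBaseChange K')) ∧
      ((Module.finrank K' (LinearMap.ker ((KaehlerDifferential.map k k' K K').liftBaseChange K')) : ℤ)
          - Module.finrank K' (Ω[K'⁄k'] ⧸ LinearMap.range ((KaehlerDifferential.map k k' K K').liftBaseChange K'))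
          - Module.finrank K' (LinearMap.ker ((Algebra.H1Cotangent.map k k' K K').liftBaseChange K'))
          + Module.finrank K' (Algebra.H1Cotangent k' K' ⧸ LinearMap.range ((Algebra.H1Cotangent.map k k' K K').liftBaseChange K'))
        = (Cardinal.toNat (Algebra.trdeg k k') : ℤ) - Cardinal.toNat (Algebra.trdeg K K')) := by
  have hα : (KaehlerDifferential.map k k' K K').liftBaseChange K' =
      (KaehlerDifferential.map k k' K' K') ∘ₗ (KaehlerDifferential.mapBaseChange k K K') := by
    ext x
    simp
  have hβ : (Algebra.H1Cotangent.map k k' K K').liftBaseChange K' =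
      (Algebra.H1Cotangent.map k k' K' K') ∘ₗ
        ((Algebra.H1Cotangent.map k k K K').liftBaseChange K') := by
    rw [LinearMap.liftBaseChange_comp]
    congr 1
    unfold Algebra.H1Cotangent.map
    rw [← Algebra.Extension.H1Cotangent.map_comp, Algebra.Extension.H1Cotangent.map_eq]
  obtain ⟨a1, a2, a3, a4, a5⟩ := Groth.Agent.Lib.Helper97.GenCartier.part1 k K K'
  obtain ⟨b1, b2, b3, b4, b5⟩ := Groth.Agent.Lib.Helper97.GenCartier.part2 k k' K'
  have iα := LinearMap.index_comp (f := KaehlerDifferential.mapBaseChange k K K')
    (KaehlerDifferential.map k k' K' K')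
  have iβ := LinearMap.index_comp (f := (Algebra.H1Cotangent.map k k K K').liftBaseChange K')
    (Algebra.H1Cotangent.map k k' K' K')
  rw [hα, hβ]
  refine ⟨by rw [LinearMap.ker_comp]; infer_instance, by rw [LinearMap.range_comp]; infer_instance,
    by rw [LinearMap.ker_comp]; infer_instance, by rw [LinearMap.range_comp]; infer_instance, ?_⟩
  rw [LinearMap.index_eq_finrank_sub] at iα iβ
  lia

end Groth.Agent.S9320
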