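import Groth.Statements.S9322
import Groth.Agent.Lib.Helper49.PBasisField
import Groth.Agent.Lib.Helper61.PBasisLift
import Groth.Agent.S4533
import Mathlib

set_option autoImplicit false
open CAlg

namespace Groth.Agent.S9322

/-- Let `p` be a prime, `L` a field of characteristic `p` (given as an algebra over `ℤ/p`) and `n ≥ 0`.
Then `𝔽_p → L[[x_1, …, x_n]]` is formally smooth for the adic topology of the maximal ideal of the
power series ring. (`L` is taken in the lowest universe, where `ℤ/p` lives.) -/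
theorem result (p : ℕ) [Fact p.Prime] (L : Type) [Field L]
    [Algebra (ZMod p) L] (n : ℕ) :
    CAlgX.IsAdicFormallySmooth (ZMod p) (MvPowerSeries (Fin n) L)
      (IsLocalRing.maximalIdeal (MvPowerSeries (Fin n) L)) := by
  open Groth.Agent.Lib.Helper61.FSAdic in
  haveI : CharP L p := charP_of_injective_algebraMap (algebraMap (ZMod p) L).injective p
  obtain ⟨B, -, -, hB⟩ := Groth.Agent.Lib.Helper49.PBasis.exists_pBasis_between
    (k := ZMod p) (K := L) (p := p) Set.univ ∅ (Set.empty_subset _)
    ((Groth.Agent.Lib.Helper49.PBasis.gen_set_iff _).mpr (by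
      rw [Set.union_univ, IntermediateField.adjoin_univ]))
    ((Groth.Agent.Lib.Helper49.PBasis.indep_set_iff _).mpr (by simp))
  have hfs : Algebra.FormallySmooth (ZMod p) L :=
    Groth.Agent.Lib.Helper61.PBasis.formallySmooth p _ hB
  have h1 : Lifts (⊥ : Ideal (ZMod p)) (algebraMap (ZMod p) L) (⊥ : Ideal L) := by
    intro C _ J hJ φ _ u hu _
    letI : Algebra (ZMod p) C := φ.toAlgebra
    let u' : L →ₐ[ZMod p] C ⧸ J := { u with commutes' := fun a => DFunLike.congr_fun hu a }
    obtain ⟨v, hv⟩ := Algebra.FormallySmooth.exists_lift J hJ u'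
    refine ⟨v.toRingHom, RingHom.ext fun a => v.commutes a, RingHom.ext fun b => ?_⟩
    exact DFunLike.congr_fun hv b
  have hmax : (⊥ : Ideal L).map (MvPowerSeries.C : L →+* MvPowerSeries (Fin n) L) ⊔
      RingHom.ker (MvPowerSeries.constantCoeff : MvPowerSeries (Fin n) L →+* L) =
      IsLocalRing.maximalIdeal (MvPowerSeries (Fin n) L) := by
    rw [Ideal.map_bot, bot_sup_eq]
    ext f
    rw [RingHom.mem_ker, IsLocalRing.mem_maximalIdeal, mem_nonunits_iff,
      MvPowerSeries.isUnit_iff_constantCoeff, isUnit_iff_ne_zero, not_not]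
  have h2 := Groth.Agent.S4533.result L (⊥ : Ideal L) n
  rw [ega_iff, hmax] at h2
  have h3 := Lifts.comp (f := algebraMap (ZMod p) L)
    (g := algebraMap L (MvPowerSeries (Fin n) L)) ⟨1, by simp⟩ h1 h2
  rw [calgx_iff]
  rw [IsScalarTower.algebraMap_eq (ZMod p) L (MvPowerSeries (Fin n) L)]
  exact liftsSq_of_lifts h3

end Groth.Agent.S9322
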