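import Groth.Statements.S9323
import Groth.Agent.Lib.Helper38.CohenUnique
import Groth.Agent.Lib.Helper38.CohenLift2
import Groth.Agent.Lib.Helper61.PSEval2

set_option autoImplicit false
open CAlg

namespace Groth.Agent.S9323

/-- Let `Λ` be a Cohen ring (a complete discrete valuation ring whose maximal ideal is generated by a
prime number) and `n ≥ 0`. Then `ℤ → Λ[[x_1, …, x_n]]` is formally smooth for the adic topology of
the maximal ideal of the power series ring. (`Λ` is taken in the lowest universe, where `ℤ` lives.) -/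
theorem result (Λ : Type) [CommRing Λ] [IsLocalRing Λ]
    (hΛ : CAlg.IsCohenRing Λ) (n : ℕ) :
    CAlgX.IsAdicFormallySmooth ℤ (MvPowerSeries (Fin n) Λ)
      (IsLocalRing.maximalIdeal (MvPowerSeries (Fin n) Λ)) := by
  open IsLocalRing MvPowerSeries in
  intro A _ _ J hJ ψ ⟨k, hk⟩
  obtain ⟨hD, p, hDVR, hc, hp, hmax, hp0, hchar⟩ :=
    Groth.Agent.Lib.Helper38.CohenUnique.cohen_data hΛ
  have : Fact p.Prime := ⟨hp⟩
  -- elements of the maximal ideal of the power series ring
  have hmemC : (C (p : Λ) : MvPowerSeries (Fin n) Λ) ∈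
      maximalIdeal (MvPowerSeries (Fin n) Λ) := by
    intro hu
    have h1 := (MvPowerSeries.isUnit_iff_constantCoeff).mp hu
    rw [constantCoeff_C] at h1
    have h2 : (p : Λ) ∈ maximalIdeal Λ := by
      rw [hmax]; exact Ideal.mem_span_singleton_self _
    exact h2 h1
  have hmemX : ∀ i : Fin n, (X i : MvPowerSeries (Fin n) Λ) ∈
      maximalIdeal (MvPowerSeries (Fin n) Λ) := by
    intro i hu
    have h1 := (MvPowerSeries.isUnit_iff_constantCoeff).mp hu
    rw [constantCoeff_X] at h1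
    exact not_isUnit_zero h1
  have hpowC : ψ (C (p : Λ)) ^ k = 0 := by
    rw [← map_pow]; exact hk _ (Ideal.pow_mem_pow hmemC k)
  have hpowX : ∀ i, ψ (X i) ^ k = 0 := fun i => by
    rw [← map_pow]; exact hk _ (Ideal.pow_mem_pow (hmemX i) k)
  -- `p` is nilpotent in `A`
  have hpA : (p : A) ^ (2 * k) = 0 := by
    have hCp : ψ (C (p : Λ)) = (p : A ⧸ J) := by rw [map_natCast C, map_natCast ψ]
    have h1 : Ideal.Quotient.mk J ((p : A) ^ k) = 0 := by
      rw [map_pow, map_natCast, ← hCp]; exact hpowC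
    have h2 : (p : A) ^ k ∈ J := Ideal.Quotient.eq_zero_iff_mem.mp h1
    have h3 : (p : A) ^ k * (p : A) ^ k ∈ J ^ 2 := by
      rw [pow_two]; exact Ideal.mul_mem_mul h2 h2
    rw [hJ, Ideal.mem_bot] at h3
    rw [two_mul, pow_add]; exact h3
  -- lift the coefficient map
  obtain ⟨γ, hγ⟩ := Groth.Agent.Lib.Helper38.CohenLift.exists_lift_of_sqZero_of_nilpotent p
    (residue Λ) residue_surjective
    (by
      intro b hb
      rw [residue_eq_zero_iff, hmax, Ideal.mem_span_singleton] at hb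
      exact hb)
    (fun b hb => (mul_eq_zero.mp hb).resolve_left hp0) J hJ (2 * k) hpA
    (ψ.toRingHom.comp C)
  have hγ' : ∀ c : Λ, Ideal.Quotient.mk J (γ c) = ψ (C c) := fun c => DFunLike.congr_fun hγ c
  let _ : Algebra Λ A := γ.toAlgebra
  -- lifts of the images of the variables
  choose a ha using fun i : Fin n => Ideal.Quotient.mk_surjective (ψ (X i))
  have hanil : ∀ i, a i ^ (2 * k) = 0 := by
    intro i
    have h1 : Ideal.Quotient.mk J (a i ^ k) = 0 := by rw [map_pow, ha, hpowX]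
    have h2 : a i ^ k ∈ J := Ideal.Quotient.eq_zero_iff_mem.mp h1
    have h3 : a i ^ k * a i ^ k ∈ J ^ 2 := by
      rw [pow_two]; exact Ideal.mul_mem_mul h2 h2
    rw [hJ, Ideal.mem_bot] at h3
    rw [two_mul, pow_add]; exact h3
  have hnilA : ∃ N : ℕ, (Ideal.span (Set.range a)) ^ N = ⊥ := by
    have hfg : (Ideal.span (Set.range a)).FG := Submodule.fg_span (Set.finite_range a)
    have hle : Ideal.span (Set.range a) ≤ nilradical A := by
      rw [Ideal.span_le]
      rintro _ ⟨i, rfl⟩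
      exact ⟨2 * k, hanil i⟩
    exact (Ideal.FG.isNilpotent_iff_le_nilradical hfg).mpr hle
  obtain ⟨N, hN⟩ := hnilA
  have : IsAdicComplete (Ideal.span (Set.range a)) A :=
    Groth.Agent.Lib.Helper38.CohenLift.isAdicComplete_of_pow_eq_bot _ hN
  obtain ⟨χ₀, hχ₀⟩ := Groth.Agent.Lib.Helper61.PSEval.exists_eval Λ A a
  -- `ψ` as a `Λ`-algebra map
  let ψΛ : MvPowerSeries (Fin n) Λ →ₐ[Λ] A ⧸ J :=
    { ψ.toRingHom with commutes' := fun c => (hγ' c).symm }
  let φ : MvPowerSeries (Fin n) Λ →ₐ[Λ] A ⧸ J := (Ideal.Quotient.mkₐ Λ J).comp χ₀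
  have hφX : ∀ i, φ (X i) = ψΛ (X i) := by
    intro i
    change Ideal.Quotient.mk J (χ₀ (X i)) = ψ (X i)
    rw [hχ₀, ha]
  have hnilI : (Ideal.span (Set.range fun i => ψ (X i))) ^ N = ⊥ := by
    have : Ideal.span (Set.range fun i => ψ (X i)) =
        (Ideal.span (Set.range a)).map (Ideal.Quotient.mk J) := by
      rw [Ideal.map_span, ← Set.range_comp]
      congr 2
      ext i
      exact (ha i).symm
    rw [this, ← Ideal.map_pow, hN, Ideal.map_bot]
  have : IsHausdorff (Ideal.span (Set.range fun i => ψ (X i))) (A ⧸ J) :=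
    (Groth.Agent.Lib.Helper38.CohenLift.isAdicComplete_of_pow_eq_bot _ hnilI).toIsHausdorff
  have heq : φ = ψΛ := Groth.Agent.Lib.Helper61.PSEval2.algHom_ext
    (Ideal.span (Set.range fun i => ψ (X i))) φ ψΛ
    (fun i => by rw [hφX]; exact Ideal.subset_span ⟨i, rfl⟩) hφX
  refine ⟨{ χ₀.toRingHom with
    commutes' := fun z => by
      change χ₀ (algebraMap ℤ (MvPowerSeries (Fin n) Λ) z) = algebraMap ℤ A z
      rw [eq_intCast (algebraMap ℤ (MvPowerSeries (Fin n) Λ)) z, map_intCast,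
        eq_intCast (algebraMap ℤ A) z] }, ?_⟩
  ext x
  exact DFunLike.congr_fun heq x

end Groth.Agent.S9323
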