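import Groth.Statements.S9324
-- import your own Groth.Agent.* helpers here
import Groth.Agent.Lib.Helper58.HenselPairUniq
import Groth.Agent.S1971

set_option autoImplicit false
universe u
open Hensel

namespace Groth.Agent.S9324

open TensorProduct in
/-- Let `(A, I) → (B, J)` be a map of pairs, i.e. `I B ⊆ J`, such that `J` and `I B` have the same
radical, and suppose `A → B` is integral. Let `A^h` be a henselization of the pair `(A, I)`, `B^h` a
henselization of the pair `(B, J)`, and `φ : A^h → B^h` an `A`-algebra homomorphism (there is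
exactly one, by the universal property of `A^h`). Then the induced map `A^h ⊗_A B → B^h` is
bijective: henselization commutes with integral base change. -/
theorem result {A B Ah Bh : Type u} [CommRing A]
    [CommRing B] [CommRing Ah] [CommRing Bh] [Algebra A B] (I : Ideal A) (J : Ideal B)
    (hIJ : I.map (algebraMap A B) ≤ J) (hrad : J.radical = (I.map (algebraMap A B)).radical)
    [Algebra.IsIntegral A B] [Algebra A Ah] (hA : Hens2.IsPairHenselization A I Ah)
    [Algebra B Bh] [Algebra A Bh] [IsScalarTower A B Bh] (hB : Hens2.IsPairHenselization B J Bh)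
    (φ : Ah →ₐ[A] Bh) :
    Function.Bijective (Algebra.TensorProduct.productMap φ (IsScalarTower.toAlgHom A B Bh)) := by
  let ιB : B →+* Ah ⊗[A] B :=
    (Algebra.TensorProduct.includeRight : B →ₐ[A] Ah ⊗[A] B).toRingHom
  let ιA : Ah →ₐ[A] Ah ⊗[A] B := Algebra.TensorProduct.includeLeft
  have hιB : ιB.comp (algebraMap A B) = algebraMap A (Ah ⊗[A] B) := by
    ext a
    exact (Algebra.TensorProduct.includeRight : B →ₐ[A] Ah ⊗[A] B).commutes a
  have hTI : HenselianRing (Ah ⊗[A] B) (I.map (algebraMap A (Ah ⊗[A] B))) := by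
    have h1 : HenselianRing Ah (I.map (algebraMap A Ah)) := hA.1
    have h2 := Groth.Agent.Lib.Helper58.HenselPair.henselian_of_isIntegral
      (A := Ah) (I := I.map (algebraMap A Ah)) (Ah ⊗[A] B)
    rwa [Ideal.map_map, ← IsScalarTower.algebraMap_eq A Ah (Ah ⊗[A] B)] at h2
  have hTJ : HenselianRing (Ah ⊗[A] B) (J.map ιB) := by
    refine (Groth.Agent.S1971.hens_of_radical_eq _ (J.map ιB)
      (I.map (algebraMap A (Ah ⊗[A] B))) ?_).2 hTI
    rw [← hιB, ← Ideal.map_map]
    exact Groth.Agent.S1971.radical_map_eq ιB J (I.map (algebraMap A B)) hrad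
  obtain ⟨Ψ, hΨ, -⟩ := hB.2 (Ah ⊗[A] B) (J.map ιB) ιB hTJ le_rfl
  have hΨb : ∀ b : B, Ψ (algebraMap B Bh b) = ιB b := fun b => RingHom.congr_fun hΨ b
  set Φ := Algebra.TensorProduct.productMap φ (IsScalarTower.toAlgHom A B Bh) with hΦ
  have hΦB : ∀ b : B, Φ (ιB b) = algebraMap B Bh b := fun b => by
    change Φ ((1 : Ah) ⊗ₜ[A] b) = _
    simp [hΦ]
  have hΦΨ : ∀ x : Bh, Φ (Ψ x) = x := by
    obtain ⟨g, -, hguniq⟩ := hB.2 Bh (J.map (algebraMap B Bh)) (algebraMap B Bh) hB.1 le_rfl
    have h1 : (Φ.toRingHom.comp Ψ) = g := hguniq _ (by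
      ext b
      change Φ (Ψ (algebraMap B Bh b)) = _
      rw [hΨb, hΦB])
    have h2 : RingHom.id Bh = g := hguniq _ (by ext b; rfl)
    intro x
    have := RingHom.congr_fun (h1.trans h2.symm) x
    exact this
  have hΨφ : ∀ a : Ah, Ψ (φ a) = ιA a := by
    obtain ⟨g, -, hguniq⟩ := hA.2 (Ah ⊗[A] B) (I.map (algebraMap A (Ah ⊗[A] B)))
      (algebraMap A (Ah ⊗[A] B)) hTI le_rfl
    have h1 : Ψ.comp φ.toRingHom = g := hguniq _ (by
      ext a
      change Ψ (φ (algebraMap A Ah a)) = _
      rw [φ.commutes, IsScalarTower.algebraMap_apply A B Bh, hΨb]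
      exact RingHom.congr_fun hιB a)
    have h2 : ιA.toRingHom = g := hguniq _ (by
      ext a
      exact ιA.commutes a)
    intro a
    exact RingHom.congr_fun (h1.trans h2.symm) a
  have hΨΦ : ∀ t : Ah ⊗[A] B, Ψ (Φ t) = t := by
    intro t
    induction t using TensorProduct.induction_on with
    | zero => simp
    | tmul a b =>
      have : Φ (a ⊗ₜ[A] b) = φ a * algebraMap B Bh b := by simp [hΦ]
      rw [this, map_mul, hΨφ, hΨb]
      change (a ⊗ₜ[A] (1 : B)) * ((1 : Ah) ⊗ₜ[A] b) = _
      simp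
    | add x y hx hy => rw [map_add, map_add, hx, hy]
  exact Function.bijective_iff_has_inverse.2 ⟨Ψ, hΨΦ, hΦΨ⟩

end Groth.Agent.S9324
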