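import Groth.Statements.S9325
import Mathlib

set_option autoImplicit false
universe u
open CAlg

namespace Groth.Agent.S9325

/-- the sum depends only on the class of the coefficient vector -/
theorem sum_mem_of_ker {A' L : Type u} [CommRing A'] [CommRing L] (ρ : A' →+* L)
    {c : ℕ} (g : Fin c → A') (a : Fin c → A') (ha : ∀ i, ρ (a i) = 0) :
    ∑ i, a i * g i ∈ RingHom.ker ρ * Ideal.span (Set.range g) :=
  Ideal.sum_mem _ fun i _ => Ideal.mul_mem_mul (ha i) (Ideal.subset_span ⟨i, rfl⟩)

theorem stepOne {A' L : Type u} [CommRing A'] [CommRing L] (ρ : A' →+* L)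
    (hρ : Function.Surjective ρ) {c : ℕ} (g : Fin c → A')
    (hreg : CAlgX.IsH1Regular (fun i => ρ (g i))) :
    RingHom.ker ρ ⊓ Ideal.span (Set.range g) ≤ RingHom.ker ρ * Ideal.span (Set.range g) := by
  classical
  rintro x ⟨hx1, hx2⟩
  obtain ⟨a, rfl⟩ := (Ideal.mem_span_range_iff_exists_fun).mp hx2
  have h0 : ∑ i, (fun i => ρ (a i)) i * (fun i => ρ (g i)) i = 0 := by
    have : ρ (∑ i, a i * g i) = 0 := hx1
    simpa [map_sum, map_mul] using this
  have hmem := hreg (fun i => ρ (a i)) h0
  -- the general claim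
  have key : ∀ ab : Fin c → L, ab ∈ Submodule.span L {v : Fin c → L | ∃ i j : Fin c,
        v = Pi.single i (ρ (g j)) - Pi.single j (ρ (g i))} →
      ∀ a : Fin c → A', (∀ i, ρ (a i) = ab i) →
        ∑ i, a i * g i ∈ RingHom.ker ρ * Ideal.span (Set.range g) := by
    intro ab hab
    refine Submodule.span_induction ?_ ?_ ?_ ?_ hab
    · rintro v ⟨p, q, rfl⟩ a ha
      -- the canonical lift
      have hlift : ∑ i, (Pi.single p (g q) - Pi.single q (g p) : Fin c → A') i * g i = 0 := by
        simp only [Pi.sub_apply, sub_mul, Finset.sum_sub_distrib, Pi.single_apply, ite_mul, zero_mul,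
          Finset.sum_ite_eq', Finset.mem_univ, if_true]
        ring
      have h2 : ∑ i, a i * g i = ∑ i, (a i - (Pi.single p (g q) - Pi.single q (g p) : Fin c → A') i) * g i := by
        rw [← sub_zero (∑ i, a i * g i), ← hlift, ← Finset.sum_sub_distrib]
        refine Finset.sum_congr rfl fun i _ => by ring
      rw [h2]
      apply sum_mem_of_ker ρ g
      intro i
      rw [map_sub, ha i]
      simp only [Pi.sub_apply, Pi.single_apply]
      split_ifs <;> simp
    · intro a ha
      exact sum_mem_of_ker ρ g a (by simpa using ha)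
    · intro ab1 ab2 _ _ h1 h2 a ha
      choose a1 ha1 using fun i => hρ (ab1 i)
      have e : ∑ i, a i * g i = ∑ i, a1 i * g i + ∑ i, (a i - a1 i) * g i := by
        rw [← Finset.sum_add_distrib]
        refine Finset.sum_congr rfl fun i _ => by ring
      rw [e]
      refine Ideal.add_mem _ (h1 a1 ha1) (h2 _ ?_)
      intro i
      rw [map_sub, ha i, ha1 i]
      simp
    · intro rb ab _ h1 a ha
      obtain ⟨r, rfl⟩ := hρ rb
      choose a1 ha1 using fun i => hρ (ab i)
      have e : ∑ i, a i * g i = r * ∑ i, a1 i * g i + ∑ i, (a i - r * a1 i) * g i := by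
        rw [Finset.mul_sum, ← Finset.sum_add_distrib]
        refine Finset.sum_congr rfl fun i _ => by ring
      rw [e]
      refine Ideal.add_mem _ (Ideal.mul_mem_left _ _ (h1 a1 ha1)) (sum_mem_of_ker ρ g _ ?_)
      intro i
      rw [map_sub, map_mul, ha i, ha1 i]
      simp
  exact key _ hmem a fun i => rfl

theorem lemmaA {A' L : Type u} [CommRing A'] [CommRing L] (ρ : A' →+* L)
    (hρ : Function.Surjective ρ) (J' : Ideal A') (hIJ : RingHom.ker ρ ≤ J') {c : ℕ} (f : Fin c → L)
    (hreg : CAlgX.IsH1Regular f) (hspan : Ideal.span (Set.range f) = J'.map ρ) :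
    RingHom.ker ρ ⊓ J' ^ 2 ≤ RingHom.ker ρ * J' := by
  classical
  choose g hg using fun i => hρ (f i)
  have hf : f = fun i => ρ (g i) := funext fun i => (hg i).symm
  subst hf
  have hmapG : (Ideal.span (Set.range g)).map ρ = J'.map ρ := by
    rw [Ideal.map_span, ← Set.range_comp]
    exact hspan
  have hcomap : ∀ K : Ideal A', (K.map ρ).comap ρ = K ⊔ RingHom.ker ρ := fun K => by
    rw [Ideal.comap_map_of_surjective ρ hρ, RingHom.ker_eq_comap_bot]
  have hGJ : Ideal.span (Set.range g) ≤ J' := by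
    have h1 : Ideal.span (Set.range g) ≤ ((Ideal.span (Set.range g)).map ρ).comap ρ := Ideal.le_comap_map
    rw [hmapG, hcomap] at h1
    exact h1.trans (sup_le le_rfl hIJ)
  have hJ : J' ≤ RingHom.ker ρ ⊔ Ideal.span (Set.range g) := by
    have h1 : J' ≤ (J'.map ρ).comap ρ := Ideal.le_comap_map
    rw [← hmapG, hcomap, sup_comm] at h1
    exact h1
  have hJ2 : J' ^ 2 ≤ RingHom.ker ρ * J' ⊔ Ideal.span (Set.range g) ^ 2 := by
    rw [pow_two, pow_two]
    calc J' * J' ≤ (RingHom.ker ρ ⊔ Ideal.span (Set.range g)) * J' := Ideal.mul_mono_left hJ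
      _ = RingHom.ker ρ * J' ⊔ Ideal.span (Set.range g) * J' := Ideal.sup_mul _ _ _
      _ ≤ RingHom.ker ρ * J' ⊔ Ideal.span (Set.range g) * (RingHom.ker ρ ⊔ Ideal.span (Set.range g)) :=
          sup_le_sup_left (Ideal.mul_mono_right hJ) _
      _ = RingHom.ker ρ * J' ⊔ (Ideal.span (Set.range g) * RingHom.ker ρ ⊔
            Ideal.span (Set.range g) * Ideal.span (Set.range g)) := by rw [Ideal.mul_sup]
      _ ≤ RingHom.ker ρ * J' ⊔ Ideal.span (Set.range g) * Ideal.span (Set.range g) := by
          refine sup_le le_sup_left (sup_le ?_ le_sup_right)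
          rw [mul_comm]
          exact (Ideal.mul_mono_right hGJ).trans le_sup_left
  rintro x ⟨hx1, hx2⟩
  obtain ⟨y, hy, z, hz, hxyz⟩ := Submodule.mem_sup.mp (hJ2 hx2)
  have hyI : y ∈ RingHom.ker ρ := Ideal.mul_le_right (I := J') (by rw [mul_comm]; exact hy)
  have hzI : z ∈ RingHom.ker ρ := by
    have hz2 : z = x - y := by rw [← hxyz]; ring
    rw [hz2]
    exact Ideal.sub_mem _ hx1 hyI
  have hzG : z ∈ Ideal.span (Set.range g) := Ideal.pow_le_self (by norm_num) hz
  have hz' := stepOne ρ hρ g hreg ⟨hzI, hzG⟩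
  rw [← hxyz]
  exact Ideal.add_mem _ hy (Ideal.mul_mono_right hGJ hz')

theorem core {A : Type u} [CommRing A] (I J : Ideal A) (hIJ : I ≤ J) (gt : A) {c : ℕ}
    (f : Fin c → Localization.Away (Ideal.Quotient.mk I gt)) (hreg : CAlgX.IsH1Regular f)
    (hspan : Ideal.span (Set.range f) =
      (J.map (Ideal.Quotient.mk I)).map (algebraMap (A ⧸ I) (Localization.Away (Ideal.Quotient.mk I gt))))
    (x : A) (hx : x ∈ I ⊓ J ^ 2) : ∃ N : ℕ, gt ^ N * x ∈ I * J := by
  obtain ⟨ρ, hρdef⟩ : ∃ ρ, ρ = Localization.awayMap (Ideal.Quotient.mk I) gt := ⟨_, rfl⟩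
  have hsurj : Function.Surjective ρ := by
    rw [hρdef]
    have : IsLocalization (Submonoid.map (Ideal.Quotient.mk I) (Submonoid.powers gt))
        (Localization.Away (Ideal.Quotient.mk I gt)) := by
      simp only [Submonoid.map_powers]
      infer_instance
    exact IsLocalization.map_surjective_of_surjective _ _ _ Ideal.Quotient.mk_surjective
  have hker : RingHom.ker ρ = I.map (algebraMap A (Localization.Away gt)) := by
    rw [hρdef]
    have := IsLocalization.ker_map (S := Localization.Away gt) (Localization.Away (Ideal.Quotient.mk I gt))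
      (Ideal.Quotient.mk I) (Submonoid.map_powers (Ideal.Quotient.mk I) gt)
    rw [Ideal.mk_ker] at this
    exact this
  have hcomp : ρ.comp (algebraMap A (Localization.Away gt)) =
      (algebraMap (A ⧸ I) (Localization.Away (Ideal.Quotient.mk I gt))).comp (Ideal.Quotient.mk I) := by
    rw [hρdef]
    exact IsLocalization.map_comp _
  have hJmap : (J.map (algebraMap A (Localization.Away gt))).map ρ =
      (J.map (Ideal.Quotient.mk I)).map (algebraMap (A ⧸ I) (Localization.Away (Ideal.Quotient.mk I gt))) := by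
    rw [Ideal.map_map, Ideal.map_map, hcomp]
  have hle : RingHom.ker ρ ≤ J.map (algebraMap A (Localization.Away gt)) := by
    rw [hker]
    exact Ideal.map_mono hIJ
  have hA := lemmaA ρ hsurj (J.map (algebraMap A (Localization.Away gt))) hle f hreg (hspan.trans hJmap.symm)
  have hxm : algebraMap A (Localization.Away gt) x ∈
      RingHom.ker ρ ⊓ (J.map (algebraMap A (Localization.Away gt))) ^ 2 := by
    refine ⟨?_, ?_⟩
    · rw [hker]
      exact Ideal.mem_map_of_mem _ hx.1
    · rw [← Ideal.map_pow]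
      exact Ideal.mem_map_of_mem _ hx.2
  have h2 := hA hxm
  rw [hker, ← Ideal.map_mul,
    IsLocalization.algebraMap_mem_map_algebraMap_iff (Submonoid.powers gt)] at h2
  obtain ⟨m, ⟨N, rfl⟩, hm⟩ := h2
  exact ⟨N, hm⟩

/-- the colon ideal -/
def colon {A : Type u} [CommRing A] (K : Ideal A) (x : A) : Ideal A where
  carrier := {a | a * x ∈ K}
  zero_mem' := by simp
  add_mem' := by
    intro a b ha hb
    show (a + b) * x ∈ K
    rw [add_mul]
    exact K.add_mem ha hb
  smul_mem' := by
    intro r a ha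
    show (r * a) * x ∈ K
    rw [mul_assoc]
    exact K.mul_mem_left _ ha

theorem main {A : Type u} [CommRing A] (I J : Ideal A)
    (hIJ : I ≤ J)
    (h : ∀ (𝔮 : Ideal (A ⧸ I)) [𝔮.IsPrime], J.map (Ideal.Quotient.mk I) ≤ 𝔮 →
      ∃ g : A ⧸ I, g ∉ 𝔮 ∧ ∃ (c : ℕ) (f : Fin c → Localization.Away g),
        CAlgX.IsH1Regular f ∧
          Ideal.span (Set.range f) =
            (J.map (Ideal.Quotient.mk I)).map (algebraMap (A ⧸ I) (Localization.Away g))) :
    I ⊓ J ^ 2 = I * J := by
  apply le_antisymm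
  · intro x hx
    by_contra hcon
    have hne : colon (I * J) x ≠ ⊤ := by
      intro htop
      have : (1 : A) ∈ colon (I * J) x := by rw [htop]; trivial
      apply hcon
      have h1 : 1 * x ∈ I * J := this
      rwa [one_mul] at h1
    obtain ⟨m, hm, hCm⟩ := Ideal.exists_le_maximal _ hne
    have hIC : I ≤ colon (I * J) x := by
      intro a ha
      show a * x ∈ I * J
      exact Ideal.mul_mem_mul ha (Ideal.pow_le_self (by norm_num) hx.2)
    have hIm : I ≤ m := hIC.trans hCm
    have hprime : m.IsPrime := hm.isPrime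
    have hqprime : (m.map (Ideal.Quotient.mk I)).IsPrime :=
      Ideal.map_isPrime_of_surjective Ideal.Quotient.mk_surjective (by rwa [Ideal.mk_ker])
    have hcomap : (m.map (Ideal.Quotient.mk I)).comap (Ideal.Quotient.mk I) = m := by
      rw [Ideal.comap_map_of_surjective _ Ideal.Quotient.mk_surjective, ← RingHom.ker_eq_comap_bot,
        Ideal.mk_ker]
      exact sup_eq_left.mpr hIm
    by_cases hJm : J ≤ m
    · obtain ⟨g, hg, c, f, hreg, hspan⟩ := h (m.map (Ideal.Quotient.mk I)) (Ideal.map_mono hJm)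
      obtain ⟨gt, rfl⟩ := Ideal.Quotient.mk_surjective g
      have hgt : gt ∉ m := fun hmem => hg (Ideal.mem_map_of_mem _ hmem)
      obtain ⟨N, hN⟩ := core I J hIJ gt f hreg hspan x hx
      have : gt ^ N ∈ m := hCm hN
      exact hgt (hprime.mem_of_pow_mem _ this)
    · obtain ⟨j, hjJ, hjm⟩ := Set.not_subset.mp hJm
      apply hjm
      apply hCm
      show j * x ∈ I * J
      rw [mul_comm j x]
      exact Ideal.mul_mem_mul hx.1 hjJ
  · refine le_inf Ideal.mul_le_left ?_
    · rw [pow_two]
      exact Ideal.mul_mono_left hIJ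

end Groth.Agent.S9325

namespace Groth.Agent.S9325

/-- Let `A` be a ring and `I ⊆ J` ideals of `A` such that the ideal `J/I` of `A/I` is `H_1`-regular: for
every prime `𝔮` of `A/I` containing `J/I` there is `g ∉ 𝔮` such that the extension of `J/I` to
`(A/I)_g` is generated by an `H_1`-regular sequence (a finite sequence all of whose linear relations
are combinations of the trivial ones). Then `I ∩ J² = I J`. -/
theorem result {A : Type u} [CommRing A] (I J : Ideal A)
    (hIJ : I ≤ J)
    (h : ∀ (𝔮 : Ideal (A ⧸ I)) [𝔮.IsPrime], J.map (Ideal.Quotient.mk I) ≤ 𝔮 →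
      ∃ g : A ⧸ I, g ∉ 𝔮 ∧ ∃ (c : ℕ) (f : Fin c → Localization.Away g),
        CAlgX.IsH1Regular f ∧
          Ideal.span (Set.range f) =
            (J.map (Ideal.Quotient.mk I)).map (algebraMap (A ⧸ I) (Localization.Away g))) :
    I ⊓ J ^ 2 = I * J := by
  exact main I J hIJ h

end Groth.Agent.S9325
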