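import Groth.Statements.S9331
import Mathlib

set_option autoImplicit false
universe u
open QFin

namespace Groth.Agent.S9331

section Aux
open AlgebraicGeometry CategoryTheory


lemma ker_isMaximal {k B K : Type u} [Field k] [CommRing B] [Field K] (φ : k →+* K) (ψ : k →+* B)
    (θ : B →+* K) (hcomp : θ.comp ψ = φ) (halg : @Algebra.IsAlgebraic k K _ _ φ.toAlgebra) :
    (RingHom.ker θ).IsMaximal := by
  letI := φ.toAlgebra
  letI := ψ.toAlgebra
  let θ' : B →ₐ[k] K := { θ with commutes' := fun r => RingHom.congr_fun hcomp r }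
  have hf : IsField θ'.range := Subalgebra.isField_of_algebraic _
  have e : B ⧸ RingHom.ker θ ≃+* θ.range := RingHom.quotientKerEquivRange θ
  have hf' : IsField θ.range := hf
  exact Ideal.Quotient.maximal_of_isField _ (e.toMulEquiv.isField hf')

theorem main {X S : Scheme.{u}} (f : X ⟶ S) (x : X)
    (halg : @Algebra.IsAlgebraic (S.residueField (f.base x)) (X.residueField x) _ _ (f.residueFieldMap x).hom.toAlgebra) :
    IsClosed ({f.asFiber x} : Set ↑(f.fiber (f.base x))) ∧
      (IsClosed ({f.base x} : Set ↑S) → IsClosed ({x} : Set ↑X)) := by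
  have part1 : IsClosed ({f.asFiber x} : Set ↑(f.fiber (f.base x))) := by
    rw [← closure_eq_iff_isClosed]
    refine subset_antisymm ?_ subset_closure
    intro z hz
    rw [← specializes_iff_mem_closure] at hz
    obtain ⟨_, ⟨U, hU, rfl⟩, hzU, -⟩ :=
      ((f.fiber (f x)).isBasis_affineOpens).exists_subset_of_mem_open (Set.mem_univ z) isOpen_univ
    have hU' : IsAffineOpen U := hU
    have hyU : f.asFiber x ∈ U := hz.mem_open U.2 hzU
    have hrange : Set.range (f.asFiberHom x) ⊆ Set.range hU'.fromSpec := by
      rw [Scheme.Hom.range_asFiberHom, hU'.range_fromSpec]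
      simpa using hyU
    let h' := IsOpenImmersion.lift hU'.fromSpec (f.asFiberHom x) hrange
    have hh' : h' ≫ hU'.fromSpec = f.asFiberHom x := IsOpenImmersion.lift_fac _ _ _
    obtain ⟨θ, hθ⟩ := Spec.map_surjective h'
    obtain ⟨ψ, hψ⟩ := Spec.map_surjective (hU'.fromSpec ≫ f.fiberToSpecResidueField (f x))
    have hcomp : ψ ≫ θ = f.residueFieldMap x := by
      apply Spec.map_injective
      rw [Spec.map_comp, hθ, hψ, reassoc_of% hh', Scheme.Hom.asFiberHom_fiberToSpecResidueField]
    have hmax : (RingHom.ker θ.hom).IsMaximal :=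
      ker_isMaximal (f.residueFieldMap x).hom ψ.hom θ.hom (by rw [← hcomp]; rfl) halg
    -- the point
    let pt : Spec (X.residueField x) := IsLocalRing.closedPoint _
    let y' : Spec Γ(f.fiber (f x), U) := h' pt
    have hy' : hU'.fromSpec y' = f.asFiber x := by
      rw [← Scheme.Hom.comp_apply, hh', Scheme.Hom.asFiberHom_apply]
    have hy'cl : IsClosed ({y'} : Set (Spec Γ(f.fiber (f x), U))) := by
      have : (y' : PrimeSpectrum Γ(f.fiber (f x), U)).asIdeal = RingHom.ker θ.hom := by
        change (h' pt).asIdeal = _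
        rw [← hθ]
        change (pt.asIdeal).comap θ.hom = _
        rw [RingHom.ker_eq_comap_bot]
        congr 1
        exact Ideal.eq_bot_of_prime _
      refine (PrimeSpectrum.isClosed_singleton_iff_isMaximal
        (y' : PrimeSpectrum Γ(f.fiber (f x), U))).mpr ?_
      rw [this]
      exact hmax
    obtain ⟨z', hz'⟩ : z ∈ Set.range hU'.fromSpec := by rw [hU'.range_fromSpec]; exact hzU
    have hspec : y' ⤳ z' := by
      rw [← hU'.fromSpec.isOpenEmbedding.isInducing.specializes_iff, hy', hz']
      exact hz
    have : z' = y' := by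
      have := hspec.mem_closed hy'cl rfl
      simpa using this
    rw [Set.mem_singleton_iff, ← hz', this, hy']
  refine ⟨part1, fun hs => ?_⟩
  have hce : Topology.IsClosedEmbedding (f.fiberι (f x)) := by
    refine ⟨(f.fiberι (f x)).isEmbedding, ?_⟩
    rw [Scheme.Hom.range_fiberι]
    exact hs.preimage f.continuous
  have := hce.isClosedMap _ part1
  rwa [Set.image_singleton, Scheme.Hom.fiberι_asFiber] at this


end Aux

open AlgebraicGeometry CategoryTheory in
/-- Let f : X → S be a morphism of schemes, x ∈ X, s = f x. If κ(x) is algebraic over κ(s) (through the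
residue field map of f at x), then x is a closed point of the fibre X_s, and if in addition s is
closed in S then x is closed in X. -/
theorem result {X S : Scheme.{u}} (f : X ⟶ S) (x : X)
    (halg : @Algebra.IsAlgebraic (S.residueField (f.base x)) (X.residueField x) _ _ (f.residueFieldMap x).hom.toAlgebra) :
    IsClosed ({f.asFiber x} : Set ↑(f.fiber (f.base x))) ∧
      (IsClosed ({f.base x} : Set ↑S) → IsClosed ({x} : Set ↑X)) := by
  exact main f x halg

end Groth.Agent.S9331
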