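import Groth.Statements.S9333
import Mathlib
import Groth.Agent.S9332

set_option autoImplicit false
universe u
open QFin

namespace Groth.Agent.S9333

section Aux
open AlgebraicGeometry CategoryTheory CategoryTheory.Limits


instance lqf_fromSpecStalk (X : Scheme.{u}) (x : X) : LocallyQuasiFinite (X.fromSpecStalk x) := by
  have h : LocallyQuasiFinite (X.fromSpecStalk x ≫ 𝟙 X) :=
    Scheme.Hom.quasiFiniteAt_iff.mp (Scheme.Hom.quasiFiniteAt (𝟙 X) x)
  simpa using h

instance lqf_fromSpecResidueField (X : Scheme.{u}) (x : X) :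
    LocallyQuasiFinite (X.fromSpecResidueField x) := by
  haveI : IsClosedImmersion (Spec.map (X.residue x)) :=
    IsClosedImmersion.spec_of_surjective _ (X.residue_surjective x)
  dsimp only [Scheme.fromSpecResidueField]
  infer_instance

lemma eq_of_specializes_of_isDiscrete {W : Type*} [TopologicalSpace W] {D : Set W}
    (hD : IsDiscrete D) {a b : W} (ha : a ∈ D) (hb : b ∈ D) (h : a ⤳ b) : a = b := by
  haveI : DiscreteTopology D := isDiscrete_iff_discreteTopology.mp hD
  have h' : (⟨a, ha⟩ : D) ⤳ ⟨b, hb⟩ :=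
    (Topology.IsInducing.subtypeVal.specializes_iff (x := (⟨a, ha⟩ : D)) (y := ⟨b, hb⟩)).mp h
  exact congrArg Subtype.val h'.eq

theorem main {X S X' S' : Scheme.{u}} (f : X ⟶ S) [LocallyOfFiniteType f] (g : S' ⟶ S)
    (g' : X' ⟶ X) (f' : X' ⟶ S') (hsq : IsPullback g' f' f g) (x' : X')
    (hx : IsClosed ({f.asFiber (g'.base x')} : Set ↑(f.fiber (f.base (g'.base x'))))) :
    IsClosed ({f'.asFiber x'} : Set ↑(f'.fiber (f'.base x'))) := by
  set x := g' x' with hxdef
  -- Step A
  have hfin : (f.residueFieldMap x).hom.Finite := (Groth.Agent.S9332.result f x).mp hx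
  -- Step B
  haveI : IsFinite (Spec.map (f.residueFieldMap x)) := (IsFinite.SpecMap_iff _).mpr hfin
  haveI hB : LocallyQuasiFinite (X.fromSpecResidueField x ≫ f) := by
    rw [← Scheme.Hom.SpecMap_residueFieldMap_fromSpecResidueField]
    infer_instance
  -- Step C
  let p₁ := pullback.fst (X.fromSpecResidueField x) g'
  let p₂ := pullback.snd (X.fromSpecResidueField x) g'
  have hbig : IsPullback p₁ (p₂ ≫ f') (X.fromSpecResidueField x ≫ f) g :=
    (IsPullback.of_hasPullback (X.fromSpecResidueField x) g').paste_vert hsq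
  haveI hC : LocallyQuasiFinite (p₂ ≫ f') :=
    MorphismProperty.of_isPullback (P := @LocallyQuasiFinite) hbig hB
  have hrange : Set.range p₂ = g' ⁻¹' {x} := by
    rw [Scheme.Pullback.range_snd, Scheme.range_fromSpecResidueField]
  -- Step D
  rw [← closure_eq_iff_isClosed]
  refine subset_antisymm ?_ subset_closure
  intro z hz
  rw [← specializes_iff_mem_closure] at hz
  have hι' := (f'.fiberι (f' x')).isEmbedding
  have hι := (f.fiberι (f x)).isEmbedding
  have h1 : x' ⤳ f'.fiberι (f' x') z := by
    have := hz.map (f'.fiberι (f' x')).continuous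
    rwa [Scheme.Hom.fiberι_asFiber] at this
  set z' := f'.fiberι (f' x') z with hz'def
  have hz's : f' z' = f' x' := by
    have : z' ∈ Set.range (f'.fiberι (f' x')) := ⟨z, rfl⟩
    rw [Scheme.Hom.range_fiberι] at this
    exact this
  have h2 : x ⤳ g' z' := h1.map g'.continuous
  have h3 : f (g' z') = f x := by
    have pt_comm : ∀ a : X', f (g' a) = g (f' a) := by
      intro a
      have := congrArg (fun φ : X' ⟶ S => φ a) hsq.w
      simpa only [Scheme.Hom.comp_apply] using this
    rw [pt_comm z', hxdef, pt_comm x', hz's]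
  have h4 : g' z' = x := by
    have : g' z' ∈ Set.range (f.fiberι (f x)) := by
      rw [Scheme.Hom.range_fiberι]; exact h3
    obtain ⟨w₀, hw₀⟩ := this
    have h5 : f.asFiber x ⤳ w₀ := by
      rw [← hι.isInducing.specializes_iff, Scheme.Hom.fiberι_asFiber, hw₀]
      exact h2
    have h6 : w₀ = f.asFiber x := by
      have := h5.mem_closed hx rfl
      simpa using this
    rw [← hw₀, h6, Scheme.Hom.fiberι_asFiber]
  obtain ⟨wz, hwz⟩ : z' ∈ Set.range p₂ := by rw [hrange]; exact h4
  obtain ⟨w, hw⟩ : x' ∈ Set.range p₂ := by rw [hrange]; rfl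
  have h7 : w ⤳ wz := by
    rw [← p₂.isEmbedding.isInducing.specializes_iff, hw, hwz]
    exact h1
  have hD := (p₂ ≫ f').isDiscrete_preimage_singleton (f' x')
  have h8 : w = wz := by
    refine eq_of_specializes_of_isDiscrete hD ?_ ?_ h7
    · simp only [Set.mem_preimage, Set.mem_singleton_iff, Scheme.Hom.comp_apply, hw]
    · simp only [Set.mem_preimage, Set.mem_singleton_iff, Scheme.Hom.comp_apply, hwz, hz's]
  have h9 : z' = x' := by rw [← hwz, ← h8, hw]
  rw [Set.mem_singleton_iff]
  apply hι'.injective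
  rw [Scheme.Hom.fiberι_asFiber]
  exact h9


end Aux

open AlgebraicGeometry CategoryTheory in
/-- Let f : X → S be locally of finite type, g : S' → S any morphism and X' = X ×_S S' with projections
g' : X' → X and f' : X' → S'. If x' ∈ X' maps to x ∈ X and x is closed in the fibre X_{f x}, then x'
is closed in the fibre X'_{f' x'}. -/
theorem result {X S X' S' : Scheme.{u}} (f : X ⟶ S) [LocallyOfFiniteType f] (g : S' ⟶ S)
    (g' : X' ⟶ X) (f' : X' ⟶ S') (hsq : IsPullback g' f' f g) (x' : X')
    (hx : IsClosed ({f.asFiber (g'.base x')} : Set ↑(f.fiber (f.base (g'.base x'))))) :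
    IsClosed ({f'.asFiber x'} : Set ↑(f'.fiber (f'.base x'))) := by
  exact main f g g' f' hsq x' hx

end Groth.Agent.S9333
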