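import Groth.Statements.S9334
import Mathlib

set_option autoImplicit false
universe u
open QFin

namespace Groth.Agent.S9334

section Aux
open AlgebraicGeometry CategoryTheory


lemma isOpen_singleton_iff (F : Scheme.{u}) [IsLocallyNoetherian F] [JacobsonSpace F] (y : F) :
    IsOpen ({y} : Set F) ↔ (IsClosed ({y} : Set F) ∧ ∀ x' : F, x' ⤳ y → x' = y) := by
  constructor
  · intro ho
    exact ⟨isClosed_singleton_of_isLocallyClosed_singleton ho.isLocallyClosed,
      fun x' h => h.mem_open ho rfl⟩
  · rintro ⟨hc, hg⟩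
    obtain ⟨_, ⟨U, hU, rfl⟩, hyU, -⟩ :=
      (F.isBasis_affineOpens).exists_subset_of_mem_open (Set.mem_univ y) isOpen_univ
    have hU' : IsAffineOpen U := hU
    haveI : IsNoetherianRing Γ(F, U) := IsLocallyNoetherian.component_noetherian ⟨U, hU'⟩
    haveI : JacobsonSpace (Spec Γ(F, U)) :=
      JacobsonSpace.of_isOpenEmbedding hU'.fromSpec.isOpenEmbedding
    haveI : IsJacobsonRing Γ(F, U) := PrimeSpectrum.isJacobsonRing_iff_jacobsonSpace.mpr
      (inferInstanceAs (JacobsonSpace (Spec Γ(F, U))))
    let y' : PrimeSpectrum Γ(F, U) := hU'.primeIdealOf ⟨y, hyU⟩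
    have hy' : hU'.fromSpec y' = y := hU'.fromSpec_primeIdealOf ⟨y, hyU⟩
    have h3 : IsClosed ({y'} : Set (PrimeSpectrum Γ(F, U))) ∧
        StableUnderGeneralization ({y'} : Set (PrimeSpectrum Γ(F, U))) := by
      constructor
      · have : ({y'} : Set (PrimeSpectrum Γ(F, U))) = hU'.fromSpec ⁻¹' {y} := by
          ext z
          simp only [Set.mem_singleton_iff, Set.mem_preimage]
          constructor
          · rintro rfl; exact hy'
          · intro hz
            exact hU'.fromSpec.isOpenEmbedding.injective (hz.trans hy'.symm)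
        rw [this]
        exact hc.preimage hU'.fromSpec.continuous
      · intro a b hba ha
        rw [Set.mem_singleton_iff] at ha ⊢
        rw [ha] at hba
        have h1 : hU'.fromSpec b ⤳ hU'.fromSpec y' := hba.map hU'.fromSpec.continuous
        rw [hy'] at h1
        have h2 := hg _ h1
        exact hU'.fromSpec.isOpenEmbedding.injective (h2.trans hy'.symm)
    have h1 : IsOpen ({y'} : Set (PrimeSpectrum Γ(F, U))) :=
      ((PrimeSpectrum.isOpen_singleton_tfae_of_isNoetherian_of_isJacobsonRing y').out 2 0).mp h3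
    have h2 := hU'.fromSpec.isOpenEmbedding.isOpenMap _ h1
    have h4 : (hU'.fromSpec '' ({y'} : Set (PrimeSpectrum Γ(F, U)))) = {y} := by
      rw [← hy']; exact Set.image_singleton
    rwa [h4] at h2

theorem main {X S : Scheme.{u}} (f : X ⟶ S) [LocallyOfFiniteType f] (x : X) :
    f.QuasiFiniteAt x ↔
      (IsClosed ({f.asFiber x} : Set ↑(f.fiber (f.base x))) ∧
        ∀ x' : ↑(f.fiber (f.base x)), x' ⤳ f.asFiber x → x' = f.asFiber x) := by
  rw [Scheme.Hom.quasiFiniteAt_iff_isOpen_singleton_asFiber]
  have hLOFTg : LocallyOfFiniteType (f.fiberToSpecResidueField (f x)) :=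
    MorphismProperty.pullback_snd _ _ inferInstance
  haveI : IsLocallyNoetherian (f.fiber (f x)) :=
    LocallyOfFiniteType.isLocallyNoetherian (f.fiberToSpecResidueField (f x))
  exact isOpen_singleton_iff (f.fiber (f x)) (f.asFiber x)


end Aux

open AlgebraicGeometry CategoryTheory in
/-- Let f : X → S be locally of finite type, x ∈ X, and write s = f x. The morphism f is quasi-finite at
x exactly when x is a closed point of the fibre X_s and no point x' ≠ x of X_s specializes to x. -/
theorem result {X S : Scheme.{u}} (f : X ⟶ S) [LocallyOfFiniteType f] (x : X) :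
    f.QuasiFiniteAt x ↔
      (IsClosed ({f.asFiber x} : Set ↑(f.fiber (f.base x))) ∧
        ∀ x' : ↑(f.fiber (f.base x)), x' ⤳ f.asFiber x → x' = f.asFiber x) := by
  exact main f x

end Groth.Agent.S9334
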