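import Groth.Statements.S9335
import Mathlib.AlgebraicGeometry.Noetherian
import Mathlib.AlgebraicGeometry.Fiber

set_option autoImplicit false
universe u
open QFin

namespace Groth.Agent.S9335

open AlgebraicGeometry CategoryTheory in
theorem finite_isOpen_singleton {T : Type*} [TopologicalSpace T] [TopologicalSpace.NoetherianSpace T] :
    {z : T | IsOpen ({z} : Set T)}.Finite := by
  have hc : IsCompact {z : T | IsOpen ({z} : Set T)} := TopologicalSpace.NoetherianSpace.isCompact _
  obtain ⟨t, ht⟩ := hc.elim_finite_subcover (fun z : {z : T | IsOpen ({z} : Set T)} => ({z.1} : Set T))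
    (fun z => z.2) (fun z hz => Set.mem_iUnion.mpr ⟨⟨z, hz⟩, rfl⟩)
  refine (t.finite_toSet.image Subtype.val).subset ?_
  intro z hz
  have := ht hz
  simp only [Set.mem_iUnion, Set.mem_singleton_iff] at this
  obtain ⟨w, hw, rfl⟩ := this
  exact ⟨w, hw, rfl⟩

open AlgebraicGeometry CategoryTheory in
/-- If f : X → S is of finite type and s ∈ S, then f is quasi-finite at only finitely many points of the
fibre over s. -/
theorem result {X S : Scheme.{u}} (f : X ⟶ S) [LocallyOfFiniteType f] [QuasiCompact f] (s : S) :
    {x : ↑X | f.base x = s ∧ f.QuasiFiniteAt x}.Finite := by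
  have hLN : IsLocallyNoetherian (f.fiber s) := by
    unfold Scheme.Hom.fiber
    infer_instance
  have : IsNoetherian (f.fiber s) := { }
  have hfin : {z : f.fiber s | IsOpen ({z} : Set (f.fiber s))}.Finite := finite_isOpen_singleton
  refine (hfin.image (f.fiberι s).base).subset ?_
  rintro x ⟨rfl, hx⟩
  rw [Scheme.Hom.quasiFiniteAt_iff_isOpen_singleton_asFiber] at hx
  exact ⟨f.asFiber x, hx, f.fiberι_asFiber x⟩

end Groth.Agent.S9335
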