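import Groth.Statements.S9336
import Mathlib.AlgebraicGeometry.Artinian
import Mathlib.AlgebraicGeometry.Fiber
import Mathlib.AlgebraicGeometry.Morphisms.Finite

set_option autoImplicit false
universe u
open QFin

namespace Groth.Agent.S9336

open AlgebraicGeometry CategoryTheory in
theorem discreteTopology_of_forall_isClosed_singleton (Y : Scheme.{u}) [IsLocallyNoetherian Y]
    (h : ∀ y : Y, IsClosed ({y} : Set Y)) : DiscreteTopology Y := by
  have : IsLocallyArtinian Y := by
    apply IsLocallyArtinian.of_topologicalKrullDim_le_zero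
    refine Order.krullDim_nonpos_iff_forall_isMax.mpr fun Z W hZW ↦ ?_
    obtain ⟨w, hw⟩ := QuasiSober.sober W.2 W.3
    have hW : W.carrier = {w} := by
      rw [← hw.def, (h w).closure_eq]
    obtain ⟨z, hz⟩ := Z.2.nonempty
    have hzw : z = w := by
      have h3 : z ∈ W.carrier := hZW hz
      rw [hW] at h3
      exact h3
    intro x hx
    have hxw : x = w := by
      have h3 : x ∈ W.carrier := hx
      rw [hW] at h3
      exact h3
    rw [hxw, ← hzw]
    exact hz
  infer_instance

open AlgebraicGeometry CategoryTheory Limits in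
theorem discreteTopology_fiber {X Y S : Scheme.{u}} (f : X ⟶ Y) (g : Y ⟶ S) [Surjective f]
    [LocallyQuasiFinite (f ≫ g)] [LocallyOfFiniteType (f ≫ g)] [LocallyOfFiniteType g] (s : S) :
    DiscreteTopology (g.fiber s) := by
  let fs : (f ≫ g).fiber s ⟶ g.fiber s :=
    pullback.map (f ≫ g) (S.fromSpecResidueField s) g (S.fromSpecResidueField s) f (𝟙 _) (𝟙 _)
      (by simp) (by simp)
  have hfs1 : fs ≫ g.fiberι s = (f ≫ g).fiberι s ≫ f :=
    pullback.lift_fst _ _ _
  have hfs2 : fs ≫ g.fiberToSpecResidueField s = (f ≫ g).fiberToSpecResidueField s :=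
    (pullback.lift_snd _ _ _).trans (Category.comp_id _)
  have hpb : IsPullback fs ((f ≫ g).fiberι s) (g.fiberι s) f := by
    have h1 : IsPullback (g.fiberToSpecResidueField s) (g.fiberι s) (S.fromSpecResidueField s) g :=
      (IsPullback.of_hasPullback g (S.fromSpecResidueField s)).flip
    have h2 : IsPullback (fs ≫ g.fiberToSpecResidueField s) ((f ≫ g).fiberι s)
        (S.fromSpecResidueField s) (f ≫ g) := by
      rw [hfs2]
      exact (IsPullback.of_hasPullback (f ≫ g) (S.fromSpecResidueField s)).flip
    exact IsPullback.of_right h2 hfs1 h1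
  have hsurj : Surjective fs := MorphismProperty.of_isPullback hpb.flip ‹Surjective f›
  have hLFT0 : LocallyOfFiniteType ((f ≫ g).fiberToSpecResidueField s) :=
    MorphismProperty.pullback_snd _ _ inferInstance
  have hLFT : LocallyOfFiniteType fs := by
    rw [← hfs2] at hLFT0
    exact locallyOfFiniteType_of_comp fs (g.fiberToSpecResidueField s)
  have hLN : IsLocallyNoetherian (g.fiber s) := by
    unfold Scheme.Hom.fiber
    infer_instance
  apply discreteTopology_of_forall_isClosed_singleton
  intro y
  obtain ⟨x, rfl⟩ := fs.surjective y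
  exact fs.closePoints_subset_preimage_closedPoints (isClosed_discrete {x})

open AlgebraicGeometry CategoryTheory in
/-- Let f : X → Y be surjective and g : Y → S locally of finite type. If g ∘ f is locally quasi-finite
(and locally of finite type), then g is locally quasi-finite. -/
theorem result {X Y S : Scheme.{u}} (f : X ⟶ Y) (g : Y ⟶ S) [Surjective f]
    [LocallyQuasiFinite (f ≫ g)] [LocallyOfFiniteType (f ≫ g)] [LocallyOfFiniteType g] :
    LocallyQuasiFinite g := by
  rw [locallyQuasiFinite_iff_isDiscrete_preimage_singleton]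
  intro s
  have := discreteTopology_fiber f g s
  simpa [Scheme.Hom.range_fiberι] using
    (isDiscrete_univ_iff.mpr inferInstance).image (g.fiberι s).isEmbedding.toIsInducing

end Groth.Agent.S9336
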