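import Groth.Statements.S9338
import Groth.Agent.Lib.Helper41.NilpFT
import Mathlib.RingTheory.HopkinsLevitzki
import Mathlib.AlgebraicGeometry.Properties

set_option autoImplicit false
universe u
open FtPts

namespace Groth.Agent.S9338

theorem finiteType_of_residue {R A : Type*} [CommRing R] [CommRing A] [IsArtinianRing A]
    [IsLocalRing A] (ψ : R →+* A) (h : ((IsLocalRing.residue A).comp ψ).FiniteType) :
    ψ.FiniteType := by
  algebraize [ψ]
  have hnil : IsNilpotent (IsLocalRing.maximalIdeal A) :=
    (isArtinianRing_iff_isNilpotent_maximalIdeal A).mp inferInstance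
  have hfg : (IsLocalRing.maximalIdeal A).FG := IsNoetherian.noetherian _
  have hq : Algebra.FiniteType R (A ⧸ IsLocalRing.maximalIdeal A) := h
  exact Groth.Agent.Lib.Helper41.finiteType_of_quotient_nilpotent R A
    (IsLocalRing.maximalIdeal A) hfg hnil

open AlgebraicGeometry CategoryTheory in
theorem eq_closedPoint {A : Type u} [CommRing A] [IsArtinianRing A] [IsLocalRing A]
    (x : Spec (CommRingCat.of A)) : x = IsLocalRing.closedPoint A := by
  apply PrimeSpectrum.ext
  have : x.asIdeal.IsMaximal := IsArtinianRing.isMaximal_of_isPrime x.asIdeal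
  exact IsLocalRing.eq_maximalIdeal this

open AlgebraicGeometry CategoryTheory in
/-- For an Artinian local ring A with residue field κ, a morphism f : Spec A → S is (locally) of finite
type exactly when the composite Spec κ → Spec A → S is. -/
theorem result (S : Scheme.{u}) (A : Type u) [CommRing A] [IsArtinianRing A] [IsLocalRing A]
    (f : Spec (CommRingCat.of A) ⟶ S) :
    LocallyOfFiniteType f ↔
      LocallyOfFiniteType (Spec.map (CommRingCat.ofHom (IsLocalRing.residue A)) ≫ f) := by
  have hres : LocallyOfFiniteType (Spec.map (CommRingCat.ofHom (IsLocalRing.residue A))) := by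
    rw [HasRingHomProperty.Spec_iff (P := @LocallyOfFiniteType)]
    exact RingHom.FiniteType.of_surjective _ IsLocalRing.residue_surjective
  constructor
  · intro h
    infer_instance
  · intro h
    obtain ⟨_, ⟨U : S.Opens, hU : IsAffineOpen U, rfl⟩, hxU, -⟩ :=
      S.isBasis_affineOpens.exists_subset_of_mem_open
        (Set.mem_univ (f.base (IsLocalRing.closedPoint A))) isOpen_univ
    have hrange : Set.range f.base ⊆ Set.range U.ι.base := by
      rintro _ ⟨x, rfl⟩
      rw [eq_closedPoint x, Scheme.Opens.range_ι]
      exact hxU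
    let g : Spec (CommRingCat.of A) ⟶ U := IsOpenImmersion.lift U.ι f hrange
    have hg : g ≫ U.ι = f := IsOpenImmersion.lift_fac _ _ _
    let g' : Spec (CommRingCat.of A) ⟶ Spec Γ(S, U) := g ≫ hU.isoSpec.hom
    obtain ⟨ψ, hψ⟩ := Spec.map_surjective g'
    have h1 : LocallyOfFiniteType
        ((Spec.map (CommRingCat.ofHom (IsLocalRing.residue A)) ≫ g) ≫ U.ι) := by
      rw [Category.assoc, hg]; exact h
    have h2 : LocallyOfFiniteType (Spec.map (CommRingCat.ofHom (IsLocalRing.residue A)) ≫ g) :=
      locallyOfFiniteType_of_comp _ U.ι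
    have h3 : LocallyOfFiniteType (Spec.map (ψ ≫ CommRingCat.ofHom (IsLocalRing.residue A))) := by
      rw [Spec.map_comp, hψ]
      have : Spec.map (CommRingCat.ofHom (IsLocalRing.residue A)) ≫ g' =
          (Spec.map (CommRingCat.ofHom (IsLocalRing.residue A)) ≫ g) ≫ hU.isoSpec.hom := by
        simp [g']
      rw [this]
      infer_instance
    have h4 := (HasRingHomProperty.Spec_iff (P := @LocallyOfFiniteType)).mp h3
    have h5 : ψ.hom.FiniteType := finiteType_of_residue ψ.hom h4
    have h6 : LocallyOfFiniteType g' := by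
      rw [← hψ]
      exact (HasRingHomProperty.Spec_iff (P := @LocallyOfFiniteType)).mpr h5
    have h7 : f = (g' ≫ hU.isoSpec.inv) ≫ U.ι := by
      simp [g', hg]
    rw [h7]
    infer_instance

end Groth.Agent.S9338
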