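import Groth.Statements.S9340
import Groth.Agent.Lib.Helper41.FtPts
import Mathlib.AlgebraicGeometry.Fiber

set_option autoImplicit false
universe u
open FtPts

namespace Groth.Agent.S9340

open AlgebraicGeometry CategoryTheory in
/-- A surjective morphism locally of finite type maps the set of finite type points of the source onto
the set of finite type points of the target. -/
theorem result {T S : Scheme.{u}} (f : T ⟶ S) [LocallyOfFiniteType f] [Surjective f] :
    f.base '' {t : ↑T | LocallyOfFiniteType (T.fromSpecResidueField t)} =
      {s : ↑S | LocallyOfFiniteType (S.fromSpecResidueField s)} := by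
  apply subset_antisymm
  · rintro _ ⟨t, ht, rfl⟩
    change LocallyOfFiniteType _ at ht
    change LocallyOfFiniteType _
    rw [Groth.Agent.Lib.Helper41.locallyOfFiniteType_fromSpecResidueField_iff]
    have h1 := Groth.Agent.Lib.Helper41.isLocallyClosed_singleton_of_locallyOfFiniteType
      (K := T.residueField t) (T.fromSpecResidueField t ≫ f)
    rwa [Scheme.Hom.comp_apply, Scheme.fromSpecResidueField_apply] at h1
  · intro s hs
    change LocallyOfFiniteType _ at hs
    rw [Groth.Agent.Lib.Helper41.locallyOfFiniteType_fromSpecResidueField_iff] at hs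
    obtain ⟨t0, ht0⟩ := f.surjective s
    have hne : (Set.univ : Set (f.fiber s)).Nonempty :=
      ⟨(f.fiberHomeo s).symm ⟨t0, ht0⟩, trivial⟩
    obtain ⟨t', -, ht'⟩ := nonempty_inter_closedPoints hne isOpen_univ.isLocallyClosed
    have hrange : IsLocallyClosed (Set.range (f.fiberι s).base) := by
      rw [Scheme.Hom.range_fiberι]
      exact hs.preimage f.continuous
    have h1 : IsLocallyClosed ((f.fiberι s).base '' {t'}) :=
      (IsClosed.isLocallyClosed ht').image (f.fiberι s).isEmbedding.isInducing hrange
    rw [Set.image_singleton] at h1
    refine ⟨(f.fiberι s).base t', ?_, ?_⟩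
    · change LocallyOfFiniteType _
      rw [Groth.Agent.Lib.Helper41.locallyOfFiniteType_fromSpecResidueField_iff]
      exact h1
    · have : (f.fiberι s).base t' ∈ Set.range (f.fiberι s).base := ⟨t', rfl⟩
      rw [Scheme.Hom.range_fiberι] at this
      exact this

end Groth.Agent.S9340
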