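import Groth.Statements.S9345
import Mathlib.AlgebraicGeometry.Properties
import Mathlib.Topology.Sober

set_option autoImplicit false
universe u
open Dom

namespace Groth.Agent.S9345

theorem topo {X S : Type*} [TopologicalSpace X] [TopologicalSpace S] [QuasiSober X] [QuasiSober S]
    [T0Space S] (f : X → S) (hf : Continuous f) (hX : (irreducibleComponents X).Finite) :
    (DenseRange f ↔ ∀ s : S, closure {s} ∈ irreducibleComponents S → s ∈ Set.range f) ∧
      (DenseRange f → (irreducibleComponents S).Finite) := by
  set T : Set (Set S) := (fun Z => closure (f '' Z)) '' irreducibleComponents X with hT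
  have hTfin : T.Finite := hX.image _
  have hTclosed : ∀ z ∈ T, IsClosed z := by
    rintro _ ⟨Z, -, rfl⟩
    exact isClosed_closure
  have hrange : Set.range f ⊆ ⋃₀ T := by
    rintro _ ⟨x, rfl⟩
    exact ⟨_, ⟨_, irreducibleComponent_mem_irreducibleComponents x, rfl⟩,
      subset_closure ⟨x, mem_irreducibleComponent, rfl⟩⟩
  have hUclosed : IsClosed (⋃₀ T) := by
    rw [Set.sUnion_eq_biUnion]
    exact hTfin.isClosed_biUnion hTclosed
  have key : DenseRange f → ∀ W ∈ irreducibleComponents S,
      ∃ Z ∈ irreducibleComponents X, W = closure (f '' Z) := by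
    intro hd W hW
    have h1 : W ⊆ ⋃₀ (↑hTfin.toFinset : Set (Set S)) := by
      rw [Set.Finite.coe_toFinset]
      intro w _
      have : w ∈ closure (Set.range f) := hd w
      exact (hUclosed.closure_subset_iff.mpr hrange) this
    obtain ⟨z, hz, hWz⟩ := isIrreducible_iff_sUnion_isClosed.mp hW.1 hTfin.toFinset
      (fun z hz => hTclosed z (hTfin.mem_toFinset.mp hz)) h1
    obtain ⟨Z, hZ, rfl⟩ := hTfin.mem_toFinset.mp hz
    refine ⟨Z, hZ, le_antisymm hWz ?_⟩
    exact hW.2 ((hZ.1.image f hf.continuousOn).closure) hWz
  refine ⟨⟨fun hd s hs => ?_, fun h => ?_⟩, fun hd => ?_⟩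
  · obtain ⟨Z, hZ, hWZ⟩ := key hd _ hs
    have hZc : IsClosed Z := isClosed_of_mem_irreducibleComponents Z hZ
    have hgen : closure {hZ.1.genericPoint} = Z := hZ.1.closure_genericPoint hZc
    rw [← hgen, closure_image_closure hf, Set.image_singleton] at hWZ
    exact ⟨_, ((inseparable_iff_closure_eq.mpr hWZ).eq).symm⟩
  · intro t
    have hW := irreducibleComponent_mem_irreducibleComponents t
    have hWc : IsClosed (irreducibleComponent t) := isClosed_irreducibleComponent
    have hgen : closure {hW.1.genericPoint} = irreducibleComponent t :=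
      hW.1.closure_genericPoint hWc
    have hmem : hW.1.genericPoint ∈ Set.range f := h _ (by rw [hgen]; exact hW)
    have h2 : t ∈ closure {hW.1.genericPoint} := by rw [hgen]; exact mem_irreducibleComponent
    exact closure_mono (Set.singleton_subset_iff.mpr hmem) h2
  · refine hTfin.subset ?_
    intro W hW
    obtain ⟨Z, hZ, rfl⟩ := key hd W hW
    exact ⟨Z, hZ, rfl⟩

open AlgebraicGeometry CategoryTheory in
/-- For a morphism f : X → S whose source has only finitely many irreducible components, the image of f
is dense exactly when it contains the generic point of each irreducible component of S, and then S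
too has finitely many. -/
theorem result {X S : Scheme.{u}} (f : X ⟶ S)
    (hX : (irreducibleComponents (↑X : Type u)).Finite) :
    (IsDominant f ↔ ∀ s : ↑S, closure {s} ∈ irreducibleComponents (↑S : Type u) → s ∈ Set.range f.base) ∧
      (IsDominant f → (irreducibleComponents (↑S : Type u)).Finite) := by
  have := topo f.base f.continuous hX
  rw [isDominant_iff]
  exact this

end Groth.Agent.S9345
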