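import Groth.Statements.S9346
import Mathlib.AlgebraicGeometry.FunctionField
import Mathlib.AlgebraicGeometry.Stalk

set_option autoImplicit false
set_option linter.style.haveILetI false
set_option linter.unusedSectionVars false
universe u
open Dom

namespace Groth.Agent.S9346


section helpers

open AlgebraicGeometry CategoryTheory

variable {X Y : Scheme.{u}} [AlgebraicGeometry.IsIntegral X] [AlgebraicGeometry.IsIntegral Y]
  (f : X ⟶ Y)

theorem h12 (h : IsDominant f) : f.base (genericPoint ↑X) = genericPoint ↑Y := by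
  apply IsGenericPoint.eq _ (genericPoint_spec Y)
  rw [isGenericPoint_def, ← Set.univ_subset_iff]
  have h1 : closure (Set.range f.base) = Set.univ := f.denseRange.closure_range
  rw [← h1]
  apply closure_minimal _ isClosed_closure
  rintro _ ⟨x, rfl⟩
  have : genericPoint ↑X ⤳ x := genericPoint_specializes x
  exact (this.map f.continuous).mem_closure

theorem h21 (h : f.base (genericPoint ↑X) = genericPoint ↑Y) : IsDominant f := by
  constructor
  intro y
  have h1 : y ∈ closure ({genericPoint ↑Y} : Set Y) := by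
    rw [genericPoint_closure]; trivial
  have h2 : ({genericPoint ↑Y} : Set Y) ⊆ Set.range f.base := by
    rw [Set.singleton_subset_iff]
    exact ⟨genericPoint ↑X, h⟩
  exact closure_mono h2 h1

theorem stalkSpecializes_injective (Z : Scheme.{u}) [AlgebraicGeometry.IsIntegral Z] {y y' : Z}
    (h : y' ⤳ y) : Function.Injective (Z.presheaf.stalkSpecializes h) := by
  have hg : genericPoint ↑Z ⤳ y' := genericPoint_specializes y'
  have h1 : Function.Injective (Z.presheaf.stalkSpecializes (hg.trans h)) :=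
    IsFractionRing.injective (Z.presheaf.stalk y) Z.functionField
  rw [← TopCat.Presheaf.stalkSpecializes_comp Z.presheaf hg h] at h1
  exact Function.Injective.of_comp (f := Z.presheaf.stalkSpecializes hg) h1

theorem stalkMap_genericPoint_injective (h : f.base (genericPoint ↑X) = genericPoint ↑Y) :
    Function.Injective (f.stalkMap (genericPoint ↑X)) := by
  have hF : IsField (Y.presheaf.stalk (f.base (genericPoint ↑X))) := by
    apply isField_stalk_of_closure_mem_irreducibleComponents
    rw [h, genericPoint_closure, irreducibleComponents_eq_singleton]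
    rfl
  rw [injective_iff_map_eq_zero]
  intro a ha
  by_contra hne
  obtain ⟨b, hb⟩ := hF.mul_inv_cancel hne
  have := congrArg (f.stalkMap (genericPoint ↑X)) hb
  rw [map_mul, ha, zero_mul, map_one] at this
  exact zero_ne_one this

theorem h26 (h : f.base (genericPoint ↑X) = genericPoint ↑Y) (x : X) :
    Function.Injective (f.stalkMap x) := by
  have hξ : genericPoint ↑X ⤳ x := genericPoint_specializes x
  have h1 : Function.Injective (fun a => f.stalkMap (genericPoint ↑X)
      (Y.presheaf.stalkSpecializes (f.base.hom.map_specializes hξ) a)) :=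
    (stalkMap_genericPoint_injective f h).comp (stalkSpecializes_injective Y _)
  have h2 : (fun a => f.stalkMap (genericPoint ↑X)
      (Y.presheaf.stalkSpecializes (f.base.hom.map_specializes hξ) a)) =
      fun a => X.presheaf.stalkSpecializes hξ (f.stalkMap x a) := by
    funext a
    exact f.stalkSpecializes_stalkMap_apply (genericPoint ↑X) x hξ a
  rw [h2] at h1
  exact Function.Injective.of_comp (f := X.presheaf.stalkSpecializes hξ) h1

theorem genericPoint_mem (U : X.Opens) (hne : (U : Set ↑X).Nonempty) : genericPoint ↑X ∈ U := by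
  rw [← SetLike.mem_coe, (genericPoint_spec X).mem_open_set_iff U.isOpen]
  simpa using hne

theorem germ_appLE (U : X.Opens) (V : Y.Opens) (hUV : U ≤ f ⁻¹ᵁ V) (x : X) (hx : x ∈ U)
    (s : Γ(Y, V)) :
    X.presheaf.germ U x hx (f.appLE V U hUV s) =
      f.stalkMap x (Y.presheaf.germ V (f.base x) (hUV hx) s) := by
  rw [Scheme.Hom.germ_stalkMap_apply, Scheme.Hom.appLE, CommRingCat.comp_apply,
    TopCat.Presheaf.germ_res_apply]

theorem h24 (h : f.base (genericPoint ↑X) = genericPoint ↑Y) (U : X.Opens) (V : Y.Opens)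
    (hUV : U ≤ f ⁻¹ᵁ V) (hne : (U : Set ↑X).Nonempty) :
    Function.Injective (f.appLE V U hUV) := by
  have hx := genericPoint_mem U hne
  have h1 : Function.Injective
      (fun s => X.presheaf.germ U (genericPoint ↑X) hx (f.appLE V U hUV s)) := by
    have : (fun s => X.presheaf.germ U (genericPoint ↑X) hx (f.appLE V U hUV s)) =
        fun s => f.stalkMap (genericPoint ↑X)
          (Y.presheaf.germ V (f.base (genericPoint ↑X)) (hUV hx) s) := by
      funext s
      exact germ_appLE f U V hUV _ hx s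
    rw [this]
    exact (stalkMap_genericPoint_injective f h).comp (germ_injective_of_isIntegral Y _ _)
  exact Function.Injective.of_comp (f := X.presheaf.germ U (genericPoint ↑X) hx) h1

theorem h43 (h : ∀ (U : X.Opens) (V : Y.Opens) (hUV : U ≤ f ⁻¹ᵁ V), IsAffineOpen U →
    IsAffineOpen V → (U : Set ↑X).Nonempty → Function.Injective (f.appLE V U hUV)) :
    ∃ (U : X.Opens) (V : Y.Opens) (hUV : U ≤ f ⁻¹ᵁ V), IsAffineOpen U ∧ IsAffineOpen V ∧
      (U : Set ↑X).Nonempty ∧ Function.Injective (f.appLE V U hUV) := by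
  obtain ⟨x⟩ : Nonempty X := inferInstance
  obtain ⟨_, ⟨V : Y.Opens, hV : IsAffineOpen V, rfl⟩, hxV, -⟩ :=
    Y.isBasis_affineOpens.exists_subset_of_mem_open (Set.mem_univ (f.base x)) isOpen_univ
  obtain ⟨_, ⟨U : X.Opens, hU : IsAffineOpen U, rfl⟩, hxU, hUV⟩ :=
    X.isBasis_affineOpens.exists_subset_of_mem_open (show x ∈ (f ⁻¹ᵁ V : Set X) from hxV)
      (f ⁻¹ᵁ V).isOpen
  exact ⟨U, V, hUV, hU, hV, ⟨x, hxU⟩, h U V hUV hU hV ⟨x, hxU⟩⟩

theorem h35 (h : ∃ (U : X.Opens) (V : Y.Opens) (hUV : U ≤ f ⁻¹ᵁ V), IsAffineOpen U ∧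
    IsAffineOpen V ∧ (U : Set ↑X).Nonempty ∧ Function.Injective (f.appLE V U hUV)) :
    ∃ x : ↑X, Function.Injective (f.stalkMap x) := by
  obtain ⟨U, V, hUV, hU, hV, hne, hinj⟩ := h
  have hx := genericPoint_mem U hne
  refine ⟨genericPoint ↑X, ?_⟩
  let y : V := ⟨f.base (genericPoint ↑X), hUV hx⟩
  letI := TopCat.Presheaf.algebra_section_stalk Y.presheaf y
  haveI := hV.isLocalization_stalk y
  rw [injective_iff_map_eq_zero]
  intro a ha
  obtain ⟨⟨a', s'⟩, hs⟩ := IsLocalization.surj (hV.primeIdealOf y).asIdeal.primeCompl a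
  have hs' : a * Y.presheaf.germ V (f.base (genericPoint ↑X)) (hUV hx) s'.1 =
      Y.presheaf.germ V (f.base (genericPoint ↑X)) (hUV hx) a' := hs
  have h1 := congrArg (f.stalkMap (genericPoint ↑X)) hs'
  rw [map_mul, ha, zero_mul, ← germ_appLE f U V hUV _ hx] at h1
  have h2 : f.appLE V U hUV a' = 0 := by
    apply germ_injective_of_isIntegral X _ hx
    rw [← h1, map_zero]
  have h3 : a' = 0 := hinj (by rw [h2, map_zero])
  rw [h3, map_zero] at hs'
  have hu : IsUnit (Y.presheaf.germ V (f.base (genericPoint ↑X)) (hUV hx) s'.1) :=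
    IsLocalization.map_units (M := (hV.primeIdealOf y).asIdeal.primeCompl)
      (Y.presheaf.stalk (f.base (genericPoint ↑X))) s'
  exact (hu.mul_left_eq_zero).mp hs'

theorem fromSpecStalk_bot (Z : Scheme.{u}) [AlgebraicGeometry.IsIntegral Z] (z : Z) :
    (Z.fromSpecStalk z).base ⟨⊥, Ideal.isPrime_bot⟩ = genericPoint ↑Z := by
  have hmem : genericPoint ↑Z ∈ Set.range (Z.fromSpecStalk z).base := by
    rw [Scheme.range_fromSpecStalk]
    exact genericPoint_specializes z
  obtain ⟨p, hp⟩ := hmem
  have h1 : (⟨⊥, Ideal.isPrime_bot⟩ : PrimeSpectrum (Z.presheaf.stalk z)) ⤳ p :=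
    (PrimeSpectrum.le_iff_specializes _ _).mp bot_le
  have h2 := h1.map (Z.fromSpecStalk z).continuous
  rw [hp] at h2
  exact (h2.antisymm (genericPoint_specializes _)).eq

theorem h52 (h : ∃ x : ↑X, Function.Injective (f.stalkMap x)) :
    f.base (genericPoint ↑X) = genericPoint ↑Y := by
  obtain ⟨x, hx⟩ := h
  have h1 := Scheme.SpecMap_stalkMap_fromSpecStalk f (x := x)
  have h2 : (Spec.map (f.stalkMap x)).base ⟨⊥, Ideal.isPrime_bot⟩ =
      (⟨⊥, Ideal.isPrime_bot⟩ : PrimeSpectrum (Y.presheaf.stalk (f.base x))) := by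
    apply PrimeSpectrum.ext
    change Ideal.comap (f.stalkMap x).hom ⊥ = ⊥
    rw [← RingHom.ker_eq_comap_bot]
    exact (RingHom.injective_iff_ker_eq_bot _).mp hx
  rw [← fromSpecStalk_bot X x, ← fromSpecStalk_bot Y (f.base x), ← Scheme.Hom.comp_apply, ← h1,
    Scheme.Hom.comp_apply, h2]

end helpers

open AlgebraicGeometry CategoryTheory in
/-- For a morphism f : X → Y between integral schemes, these six conditions coincide: (1) f is dominant;
(2) f sends the generic point of X to that of Y; (3) there exist affine opens U ⊆ X, V ⊆ Y with U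
nonempty and U ⊆ f⁻¹V such that the induced ring map on sections is injective; (4) the same for all
such pairs; (5) for some x ∈ X the map of local rings O_{Y,f x} → O_{X,x} is injective; (6) the same
for all x. -/
theorem result {X Y : Scheme.{u}} [AlgebraicGeometry.IsIntegral X] [AlgebraicGeometry.IsIntegral Y] (f : X ⟶ Y) :
    [IsDominant f,
      f.base (genericPoint ↑X) = genericPoint ↑Y,
      ∃ (U : X.Opens) (V : Y.Opens) (hUV : U ≤ f ⁻¹ᵁ V), IsAffineOpen U ∧ IsAffineOpen V ∧ (U : Set ↑X).Nonempty ∧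
        Function.Injective (f.appLE V U hUV),
      ∀ (U : X.Opens) (V : Y.Opens) (hUV : U ≤ f ⁻¹ᵁ V), IsAffineOpen U → IsAffineOpen V → (U : Set ↑X).Nonempty →
        Function.Injective (f.appLE V U hUV),
      ∃ x : ↑X, Function.Injective (f.stalkMap x),
      ∀ x : ↑X, Function.Injective (f.stalkMap x)].TFAE := by
  tfae_have 1 → 2 := h12 f
  tfae_have 2 → 1 := h21 f
  tfae_have 2 → 6 := h26 f
  tfae_have 6 → 5 := fun h => ⟨genericPoint ↑X, h _⟩
  tfae_have 5 → 2 := h52 f
  tfae_have 2 → 4 := fun h U V hUV _ _ hne => h24 f h U V hUV hne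
  tfae_have 4 → 3 := h43 f
  tfae_have 3 → 5 := h35 f
  tfae_finish

end Groth.Agent.S9346
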