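import Groth.Statements.S9347
import Groth.Agent.Lib.Helper41.QCClosure
import Mathlib.AlgebraicGeometry.Properties

set_option autoImplicit false
universe u
open Dom

namespace Groth.Agent.S9347

open AlgebraicGeometry CategoryTheory in
/-- Let f : X → S be quasi-compact and let η ∈ S be a point whose closure is an irreducible component of
S (a maximal point of S). If η is not in the image of f, then η has an open neighbourhood V with
f⁻¹(V) empty. -/
theorem result {X S : Scheme.{u}} (f : X ⟶ S) [QuasiCompact f]
    (η : ↑S) (hη : closure {η} ∈ irreducibleComponents (↑S : Type u)) (hnot : η ∉ Set.range f.base) :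
    ∃ V : S.Opens, η ∈ V ∧ f ⁻¹ᵁ V = ⊥ := by
  have hη' : η ∉ closure (Set.range f.base) := by
    intro h
    obtain ⟨x, hx⟩ := Groth.Agent.Lib.Helper41.exists_specializes_of_mem_closure_range f η h
    have h1 : closure {η} ⊆ closure {f.base x} := Specializes.closure_subset hx
    have h2 : closure {f.base x} ≤ closure {η} :=
      hη.2 (isIrreducible_singleton.closure) h1
    have h3 : Inseparable (f.base x) η :=
      inseparable_iff_closure_eq.mpr (le_antisymm h2 h1)
    exact hnot ⟨x, h3.eq⟩
  refine ⟨⟨(closure (Set.range f.base))ᶜ, isClosed_closure.isOpen_compl⟩, hη', ?_⟩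
  rw [eq_bot_iff]
  intro x hx
  exact (hx (subset_closure ⟨x, rfl⟩)).elim

end Groth.Agent.S9347
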