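import Groth.Statements.S9348
import Mathlib.AlgebraicGeometry.PullbackCarrier

set_option autoImplicit false
universe u
open Dom

namespace Groth.Agent.S9348

open AlgebraicGeometry CategoryTheory in
/-- Let f : X → Y be a morphism and g : Y' → Y open and surjective. If the base change f' : X ×_Y Y' →
Y' of f is quasi-compact, then so is f. -/
theorem result {X Y X' Y' : Scheme.{u}} (f : X ⟶ Y) (g : Y' ⟶ Y) [Surjective g]
    (hg : IsOpenMap g.base) (g' : X' ⟶ X) (f' : X' ⟶ Y') (hsq : IsPullback g' f' f g) [QuasiCompact f'] :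
    QuasiCompact f := by
  rw [quasiCompact_iff_forall_isAffineOpen]
  intro V hV
  let ι := {W : Y'.Opens // IsAffineOpen W ∧ (W : Set Y') ⊆ g.base ⁻¹' (V : Set Y)}
  have hcov : (V : Set Y) ⊆ ⋃ W : ι, g.base '' (W.1 : Set Y') := by
    intro v hv
    obtain ⟨y', rfl⟩ := g.surjective v
    obtain ⟨_, ⟨W, hW, rfl⟩, hy', hWV⟩ := Y'.isBasis_affineOpens.exists_subset_of_mem_open
      (show y' ∈ (g ⁻¹ᵁ V : Set Y') from hv) (g ⁻¹ᵁ V).isOpen
    exact Set.mem_iUnion.mpr ⟨⟨W, hW, hWV⟩, ⟨y', hy', rfl⟩⟩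
  obtain ⟨t, ht⟩ := hV.isCompact.elim_finite_subcover (fun W : ι => g.base '' (W.1 : Set Y'))
    (fun W => hg _ W.1.isOpen) hcov
  have key : ∀ W : ι, g'.base '' (f'.base ⁻¹' (W.1 : Set Y')) = f.base ⁻¹' (g.base '' (W.1 : Set Y')) :=
    fun W => Scheme.image_preimage_eq_of_isPullback hsq.flip (W.1 : Set Y')
  have : (f ⁻¹ᵁ V : Set X) = ⋃ W ∈ t, g'.base '' (f'.base ⁻¹' (W.1 : Set Y')) := by
    apply subset_antisymm
    · intro x hx
      have := ht hx
      simp only [Set.mem_iUnion] at this ⊢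
      obtain ⟨W, hWt, hW⟩ := this
      exact ⟨W, hWt, by rw [key]; exact hW⟩
    · intro x hx
      simp only [Set.mem_iUnion] at hx
      obtain ⟨W, hWt, hW⟩ := hx
      rw [key] at hW
      obtain ⟨y', hy', hy'x⟩ := hW
      show f.base x ∈ V
      rw [← hy'x]
      exact W.2.2 hy'
  rw [this]
  exact t.isCompact_biUnion fun W _ =>
    (f'.isCompact_preimage (U := W.1) W.2.1.isCompact).image g'.continuous

end Groth.Agent.S9348
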