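import Groth.Statements.S9349
import Groth.Agent.Lib.Lead.QCohAff7

set_option autoImplicit false
universe u
open FlatMod

namespace Groth.Agent.S9349

open AlgebraicGeometry CategoryTheory Groth.Agent.Lib.Lead.QCohAff in
theorem exists_affines {Y S : Scheme.{u}} (q : Y ⟶ S) (y : Y) :
    ∃ (V : S.Opens) (W : Y.Opens), IsAffineOpen V ∧ IsAffineOpen W ∧ y ∈ W ∧ W ≤ q ⁻¹ᵁ V := by
  obtain ⟨_, ⟨V, hV : IsAffineOpen V, rfl⟩, hyV, -⟩ :=
    (S.isBasis_affineOpens).exists_subset_of_mem_open (Set.mem_univ (q y)) isOpen_univ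
  obtain ⟨_, ⟨W, hW : IsAffineOpen W, rfl⟩, hyW, hWV⟩ :=
    (Y.isBasis_affineOpens).exists_subset_of_mem_open (show y ∈ (q ⁻¹ᵁ V : Set Y) from hyV)
      (q ⁻¹ᵁ V).isOpen
  exact ⟨V, W, hV, hW, hyW, hWV⟩

open AlgebraicGeometry CategoryTheory Groth.Agent.Lib.Lead.QCohAff in
theorem aux {X Y S : Scheme.{u}} (f : X ⟶ Y) [IsAffineHom f] (q : Y ⟶ S)
    (F : X.Modules) (hF : Coh.IsQCoh F) :
    FlatMod.IsFlatOver (f ≫ q) F ↔ FlatMod.IsFlatOver q ((Coh.push f).obj F) := by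
  haveI : F.IsQuasicoherent := hF
  have key : ∀ (V : S.Opens) (W : Y.Opens), IsAffineOpen V → IsAffineOpen W → W ≤ q ⁻¹ᵁ V →
      ((∀ (x : X) (_ : x ∈ f ⁻¹ᵁ W), FlatMod.IsFlatOverAt (f ≫ q) F x) ↔
        (∀ (y : Y) (_ : y ∈ W), FlatMod.IsFlatOverAt q ((Coh.push f).obj F) y)) := by
    intro V W hV hW hWV
    have hU : IsAffineOpen (f ⁻¹ᵁ W) := hW.preimage f
    have hUV : f ⁻¹ᵁ W ≤ (f ≫ q) ⁻¹ᵁ V := fun _ hx => hWV hx
    rw [← flat_sections_iff_of_locOn (f ≫ q) F hU (LocOn.of_isQuasicoherent F hU) hV hUV,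
      ← flat_sections_iff_of_locOn q ((Scheme.Modules.pushforward f).obj F) hW
        (LocOn.pushforward f F (LocOn.of_isQuasicoherent F hU)) hV hWV]
    exact (flat_sections_pushforward_iff f q F hWV).symm
  constructor
  · intro h y
    obtain ⟨V, W, hV, hW, hyW, hWV⟩ := exists_affines q y
    exact (key V W hV hW hWV).1 (fun x _ => h x) y hyW
  · intro h x
    obtain ⟨V, W, hV, hW, hyW, hWV⟩ := exists_affines q (f x)
    exact (key V W hV hW hWV).2 (fun y _ => h y) x hyW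

open AlgebraicGeometry CategoryTheory in
/-- Let f : X → Y be an affine morphism of S-schemes, with q : Y → S, and F a quasi-coherent O_X-module.
Flatness of F over S (along f ≫ q) is equivalent to flatness of f_*F over S (along q). -/
theorem result {X Y S : Scheme.{u}} (f : X ⟶ Y) [IsAffineHom f] (q : Y ⟶ S)
    (F : X.Modules) (hF : Coh.IsQCoh F) :
    FlatMod.IsFlatOver (f ≫ q) F ↔ FlatMod.IsFlatOver q ((Coh.push f).obj F) :=
  aux f q F hF

end Groth.Agent.S9349
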