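import Groth.Statements.S9356
import Groth.Agent.Lib.Helper73.DimFormula.Fiber

set_option autoImplicit false
universe u
open FibDim

namespace Groth.Agent.S9356

open AlgebraicGeometry CategoryTheory in
/-- Let f : X → S be locally of finite type and x ⤳ x' a nontrivial specialization of points of the
fibre X_s. Then dim_x(X_s) ≤ dim_{x'}(X_s) and dim O_{X_s,x} < dim O_{X_s,x'}. (The assertion on
transcendence degrees of residue fields is a separate statement.) -/
theorem result {X S : Scheme.{u}} (f : X ⟶ S) [LocallyOfFiniteType f] (s : S)
    (x x' : ↑(f.fiber s)) (hsp : x ⤳ x') (hne : x ≠ x') :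
    FlatMor.localDim ↑(f.fiber s) x ≤ FlatMor.localDim ↑(f.fiber s) x' ∧
      ringKrullDim ((f.fiber s).presheaf.stalk x) < ringKrullDim ((f.fiber s).presheaf.stalk x') := by
  open Groth.Agent.Lib.Helper73 in
  have key : FlatMor.localDim ↑(f.fiber s) x ≤ FlatMor.localDim ↑(f.fiber s) x' ∧
      ringKrullDim ((f.fiber s).presheaf.stalk x) < ringKrullDim ((f.fiber s).presheaf.stalk x') := by
    let π := f.fiberToSpecResidueField s
    have h : IsDimFun (trdegNat (k := S.residueField s) π) :=
      isDimFun_trdegNat (k := S.residueField s) π
    have hLN : IsLocallyNoetherian (f.fiber s) := LocallyOfFiniteType.isLocallyNoetherian π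
    constructor
    · rw [localDim_eq (k := S.residueField s) π x, localDim_eq (k := S.residueField s) π x',
        ringKrullDim_stalk_eq_coheight, ringKrullDim_stalk_eq_coheight]
      have := h.coheight_add_le_of_specializes hsp
      exact_mod_cast this
    · rw [ringKrullDim_stalk_eq_coheight, ringKrullDim_stalk_eq_coheight]
      have hlt : x' < x := by
        refine lt_of_le_not_ge hsp ?_
        intro h2
        exact hne (hsp.antisymm h2).eq
      have h1 := Order.coheight_add_one_le hlt
      have hfin : ringKrullDim ((f.fiber s).presheaf.stalk x') < ⊤ := ringKrullDim_lt_top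
      rw [ringKrullDim_stalk_eq_coheight] at hfin
      have hfin' : Order.coheight x' ≠ ⊤ := by
        intro e
        rw [e] at hfin
        exact lt_irrefl _ hfin
      have hfin2 : Order.coheight x ≠ ⊤ := by
        intro e
        rw [e] at h1
        exact hfin' (top_le_iff.mp (le_trans le_self_add h1))
      have : Order.coheight x < Order.coheight x' :=
        lt_of_lt_of_le (ENat.lt_add_one_iff hfin2 |>.mpr le_rfl) h1
      exact_mod_cast this
  exact key

end Groth.Agent.S9356
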