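import Groth.Statements.S9360
import Mathlib.AlgebraicGeometry.Properties
import Mathlib.RingTheory.LocalProperties.Reduced

set_option autoImplicit false
set_option linter.style.haveILetI false
universe u
open SchDense

namespace Groth.Agent.S9360


section helpers

open AlgebraicGeometry CategoryTheory

theorem isReduced_of_ker_eq_bot (X : Scheme.{u}) (U : X.Opens) [IsReduced (↑U : Scheme.{u})]
    (h : IsSchemeTheoreticallyDominant U.ι) : IsReduced X := by
  have h1 : X.nilradical ≤ U.ι.ker := by
    rw [Scheme.Hom.ker, Scheme.IdealSheafData.le_ofIdeals_iff]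
    intro W s hs
    have hs' : IsNilpotent s := by
      have : s ∈ nilradical Γ(X, W.1) := hs
      exact mem_nilradical.mp this
    rw [RingHom.mem_ker]
    exact (hs'.map (U.ι.app W.1).hom).eq_zero
  rw [h.ker_eq_bot, le_bot_iff] at h1
  have h2 : ∀ W : X.affineOpens, _root_.IsReduced Γ(X, W.1) := by
    intro W
    constructor
    intro s hs
    have h3 : s ∈ X.nilradical.ideal W := by
      change s ∈ nilradical Γ(X, W.1)
      exact mem_nilradical.mpr hs
    rw [h1] at h3
    simpa using h3
  have h3 : ∀ x : X, _root_.IsReduced (X.presheaf.stalk x) := by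
    intro x
    obtain ⟨_, ⟨W : X.Opens, hW : IsAffineOpen W, rfl⟩, hxW, -⟩ :=
      X.isBasis_affineOpens.exists_subset_of_mem_open (Set.mem_univ x) isOpen_univ
    have hred := h2 ⟨W, hW⟩
    letI := TopCat.Presheaf.algebra_section_stalk X.presheaf (⟨x, hxW⟩ : W)
    haveI := hW.isLocalization_stalk ⟨x, hxW⟩
    exact isReduced_localizationPreserves (hW.primeIdealOf ⟨x, hxW⟩).asIdeal.primeCompl _ hred
  exact isReduced_of_isReduced_stalk X

theorem dense_of_ker_eq_bot (X : Scheme.{u}) (U : X.Opens) [IsReduced (↑U : Scheme.{u})]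
    (h : IsSchemeTheoreticallyDominant U.ι) : Dense (U : Set X) := by
  let Z : TopologicalSpace.Closeds X := ⟨closure (U : Set X), isClosed_closure⟩
  have h1 : Scheme.IdealSheafData.vanishingIdeal Z ≤ U.ι.ker := by
    rw [Scheme.Hom.ker, Scheme.IdealSheafData.le_ofIdeals_iff]
    intro W s hs
    rw [Scheme.IdealSheafData.vanishingIdeal_ideal, PrimeSpectrum.mem_vanishingIdeal] at hs
    rw [RingHom.mem_ker]
    apply eq_zero_of_basicOpen_eq_bot
    rw [← Scheme.preimage_basicOpen, eq_bot_iff]
    intro x hx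
    have hxs : U.ι.base x ∈ X.basicOpen s := hx
    have hxW : U.ι.base x ∈ W.1 := X.basicOpen_le s hxs
    rw [← SetLike.mem_coe, ← W.2.range_fromSpec] at hxW
    obtain ⟨p, hp⟩ := hxW
    have hpZ : p ∈ W.2.fromSpec.base ⁻¹' (Z : Set X) := by
      change W.2.fromSpec.base p ∈ closure (U : Set X)
      rw [hp]
      exact subset_closure x.2
    have h2 := hs p hpZ
    have h3 : p ∈ (W.2.fromSpec ⁻¹ᵁ X.basicOpen s) := by
      change W.2.fromSpec.base p ∈ X.basicOpen s
      rw [hp]; exact hxs
    rw [W.2.fromSpec_preimage_basicOpen] at h3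
    exact (h3 h2).elim
  rw [h.ker_eq_bot, le_bot_iff] at h1
  have h2 := congrArg Scheme.IdealSheafData.support h1
  rw [Scheme.IdealSheafData.support_bot] at h2
  have h3 : (Z : Set X) = Set.univ := by
    have := congrArg (fun C : TopologicalSpace.Closeds X => (C : Set X)) h2
    simpa using this
  exact dense_iff_closure_eq.mpr h3

end helpers

open AlgebraicGeometry CategoryTheory in
/-- Let U ⊆ X be a reduced open subscheme. Then the scheme-theoretic closure of U in X is X if and only
if U is scheme-theoretically dense in X (for every open W the scheme-theoretic closure of U ∩ W in W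
is W); and in that case X is reduced. -/
theorem result (X : Scheme.{u}) (U : X.Opens) [IsReduced (↑U : Scheme.{u})] :
    (IsSchemeTheoreticallyDominant U.ι ↔
        ∀ W : X.Opens, IsSchemeTheoreticallyDominant (X.homOfLE (inf_le_right : U ⊓ W ≤ W))) ∧
      (IsSchemeTheoreticallyDominant U.ι → IsReduced X) := by
  refine ⟨⟨fun h W => ?_, fun h => ?_⟩, isReduced_of_ker_eq_bot X U⟩
  · have hX : IsReduced X := isReduced_of_ker_eq_bot X U h
    have hd : Dense (U : Set X) := dense_of_ker_eq_bot X U h
    have : IsDominant (X.homOfLE (inf_le_right : U ⊓ W ≤ W)) := by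
      constructor
      rw [DenseRange]
      refine Subtype.dense_iff.mpr ?_
      intro w hw
      have h1 : w ∈ (W : Set X) ∩ closure (U : Set X) := ⟨hw, hd w⟩
      have h2 := W.isOpen.inter_closure h1
      refine closure_mono ?_ h2
      rintro x ⟨hxW, hxU⟩
      have hx' : x ∈ U ⊓ W := ⟨hxU, hxW⟩
      exact ⟨⟨x, hxW⟩, ⟨⟨x, hx'⟩, X.homOfLE_apply' inf_le_right x hx'⟩, rfl⟩
    exact IsSchemeTheoreticallyDominant.of_isDominant _
  · have h1 := h ⊤
    have h2 : U.ι = (X.isoOfEq (inf_top_eq U).symm).hom ≫
        X.homOfLE (inf_le_right : U ⊓ ⊤ ≤ ⊤) ≫ (⊤ : X.Opens).ι := by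
      simp [Scheme.isoOfEq_hom]
    rw [h2]
    have : IsIso (⊤ : X.Opens).ι := by
      rw [← Scheme.topIso_hom]; infer_instance
    infer_instance

end Groth.Agent.S9360
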