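import Groth.Statements.S9361
import Mathlib.AlgebraicGeometry.Morphisms.Immersion
import Mathlib.AlgebraicGeometry.Morphisms.QuasiSeparated

set_option autoImplicit false
universe u
open SchImage

namespace Groth.Agent.S9361

open AlgebraicGeometry CategoryTheory in
/-- Let f : X → Y be separated, V ⊆ Y a retrocompact open and s : V → X a section of f over V. If Y' ⊆ X
is the scheme-theoretic image of s, then Y' → Y is an isomorphism over V. -/
theorem result {X Y : Scheme.{u}} (f : X ⟶ Y) [IsSeparated f] (V : Y.Opens) [QuasiCompact V.ι]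
    (s : (↑V : Scheme.{u}) ⟶ X) (hs : s ≫ f = V.ι) :
    IsIso ((s.imageι ≫ f) ∣_ V) := by
  have hsf1 : IsImmersion (s ≫ f) := by rw [hs]; infer_instance
  have hsf2 : QuasiCompact (s ≫ f) := by rw [hs]; infer_instance
  have hsI : IsImmersion s := IsImmersion.of_comp s f
  have hsQ : QuasiCompact s := QuasiCompact.of_comp s f
  -- the lift of `s` to `f ⁻¹ᵁ V`
  have hr' : Set.range s.base ⊆ Set.range (f ⁻¹ᵁ V).ι.base := by
    rintro _ ⟨v, rfl⟩
    rw [Scheme.Opens.range_ι]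
    change f.base (s.base v) ∈ V
    rw [← Scheme.Hom.comp_apply, hs]
    exact v.2
  let s' : (V : Scheme.{u}) ⟶ (f ⁻¹ᵁ V : X.Opens) := IsOpenImmersion.lift (f ⁻¹ᵁ V).ι s hr'
  have hs' : s' ≫ (f ⁻¹ᵁ V).ι = s := IsOpenImmersion.lift_fac _ _ _
  have hs'f : s' ≫ (f ∣_ V) = 𝟙 _ := by
    rw [← cancel_mono V.ι, Category.assoc, morphismRestrict_ι, ← Category.assoc, hs', hs,
      Category.id_comp]
  have hcl : IsClosedImmersion s' := by
    have : IsClosedImmersion (s' ≫ (f ∣_ V)) := by rw [hs'f]; infer_instance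
    exact IsClosedImmersion.of_comp s' (f ∣_ V)
  -- range s is closed in f⁻¹ V
  have hkey : ∀ x : X, x ∈ closure (Set.range s.base) → f.base x ∈ V → x ∈ Set.range s.base := by
    intro x hx hxV
    have h1 : (⟨x, hxV⟩ : (f ⁻¹ᵁ V : X.Opens)) ∈ closure (Set.range s'.base) := by
      have h2 : Set.range s'.base = (f ⁻¹ᵁ V).ι.base ⁻¹' (Set.range s.base) := by
        ext y
        constructor
        · rintro ⟨v, rfl⟩
          exact ⟨v, by rw [← hs', Scheme.Hom.comp_apply]⟩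
        · rintro ⟨v, hv⟩
          refine ⟨v, (f ⁻¹ᵁ V).ι.isOpenEmbedding.injective ?_⟩
          rw [← Scheme.Hom.comp_apply, hs', hv]
      rw [h2, ← (f ⁻¹ᵁ V).ι.isOpenEmbedding.isOpenMap.preimage_closure_eq_closure_preimage
        (f ⁻¹ᵁ V).ι.continuous]
      exact hx
    rw [s'.isClosedEmbedding.isClosed_range.closure_eq] at h1
    obtain ⟨v, hv⟩ := h1
    refine ⟨v, ?_⟩
    rw [← hs', Scheme.Hom.comp_apply, hv]
    rfl
  -- the map t : V → P
  have hrt : Set.range s.toImage.base ⊆ Set.range ((s.imageι ≫ f) ⁻¹ᵁ V).ι.base := by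
    rintro _ ⟨v, rfl⟩
    rw [Scheme.Opens.range_ι]
    change (s.imageι ≫ f).base (s.toImage.base v) ∈ V
    rw [← Scheme.Hom.comp_apply, ← Category.assoc, s.toImage_imageι, hs]
    exact v.2
  let t : (V : Scheme.{u}) ⟶ ((s.imageι ≫ f) ⁻¹ᵁ V : s.image.Opens) :=
    IsOpenImmersion.lift ((s.imageι ≫ f) ⁻¹ᵁ V).ι s.toImage hrt
  have ht : t ≫ ((s.imageι ≫ f) ⁻¹ᵁ V).ι = s.toImage := IsOpenImmersion.lift_fac _ _ _
  have htg : t ≫ ((s.imageι ≫ f) ∣_ V) = 𝟙 _ := by
    rw [← cancel_mono V.ι, Category.assoc, morphismRestrict_ι, ← Category.assoc, ht,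
      ← Category.assoc, s.toImage_imageι, hs, Category.id_comp]
  have htO : IsOpenImmersion t := by
    have : IsOpenImmersion (t ≫ ((s.imageι ≫ f) ⁻¹ᵁ V).ι) := by rw [ht]; infer_instance
    exact IsOpenImmersion.of_comp t ((s.imageι ≫ f) ⁻¹ᵁ V).ι
  have htS : Function.Surjective t.base := by
    intro p
    have hx1 : s.imageι.base (((s.imageι ≫ f) ⁻¹ᵁ V).ι.base p) ∈ closure (Set.range s.base) := by
      have : s.imageι.base (((s.imageι ≫ f) ⁻¹ᵁ V).ι.base p) ∈ (s.ker.support : Set X) := by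
        rw [← Scheme.IdealSheafData.range_subschemeι]; exact ⟨_, rfl⟩
      rwa [Scheme.Hom.support_ker] at this
    have hx2 : f.base (s.imageι.base (((s.imageι ≫ f) ⁻¹ᵁ V).ι.base p)) ∈ V := p.2
    obtain ⟨v, hv⟩ := hkey _ hx1 hx2
    refine ⟨v, ((s.imageι ≫ f) ⁻¹ᵁ V).ι.isOpenEmbedding.injective
      (s.imageι.isEmbedding.injective ?_)⟩
    have e1 : ((s.imageι ≫ f) ⁻¹ᵁ V).ι.base (t.base v) = s.toImage.base v := by
      rw [← Scheme.Hom.comp_apply, ht]
    have e2 : s.imageι.base (s.toImage.base v) = s.base v := by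
      rw [← Scheme.Hom.comp_apply, s.toImage_imageι]
    rw [e1, e2, hv]
  have : Epi t.base := (TopCat.epi_iff_surjective _).mpr htS
  have htI : IsIso t := IsOpenImmersion.isIso t
  have : IsIso (t ≫ ((s.imageι ≫ f) ∣_ V)) := by rw [htg]; infer_instance
  exact IsIso.of_isIso_comp_left t ((s.imageι ≫ f) ∣_ V)

end Groth.Agent.S9361
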