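import Groth.Statements.S9362
import Groth.Agent.Lib.Helper40.QCohCoprod
import Groth.Agent.Lib.Helper21.QCohKernel

set_option autoImplicit false
universe u
open QCohSub

namespace Groth.Agent.S9362

open AlgebraicGeometry CategoryTheory CategoryTheory.Limits Opposite TopologicalSpace
open Groth.Agent.Lib.Helper21.QCohKernel Groth.Agent.Lib.Helper40.QCohCoprod

open AlgebraicGeometry CategoryTheory in
/-- Let F be a quasi-coherent O_X-module and G ⊆ F an O_X-submodule. There is a quasi-coherent submodule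
G' ⊆ G such that Hom(H, G') → Hom(H, G) is bijective for every quasi-coherent O_X-module H; in
particular G' is the largest quasi-coherent submodule of F contained in G (it is unique up to unique
isomorphism over G). -/
theorem result (X : Scheme.{u}) (F G : X.Modules) (hF : Coh.IsQCoh F) (j : G ⟶ F) [Mono j] :
    ∃ (G' : X.Modules) (k : G' ⟶ G), Coh.IsQCoh G' ∧ Mono k ∧
      ∀ H : X.Modules, Coh.IsQCoh H → Function.Bijective (fun φ : H ⟶ G' => φ ≫ k) := by
  haveI : F.IsQuasicoherent := hF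
  let Idx : Type u := {T : (U : X.Opens) → Set Γ(G, U) //
    ∃ (H : X.Modules) (φ : H ⟶ G), H.IsQuasicoherent ∧ ∀ U, T U = Set.range (φ.app U)}
  let Hs : Idx → X.Modules := fun T => T.2.choose
  let φs : ∀ T : Idx, Hs T ⟶ G := fun T => T.2.choose_spec.choose
  have hHs : ∀ T : Idx, (Hs T).IsQuasicoherent := fun T => T.2.choose_spec.choose_spec.1
  have hφs : ∀ (T : Idx) (U : X.Opens), T.1 U = Set.range ((φs T).app U) :=
    fun T => T.2.choose_spec.choose_spec.2
  haveI : ∀ T, (Hs T).IsQuasicoherent := hHs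
  haveI hP : (∐ Hs).IsQuasicoherent := isQuasicoherent_sigma Hs
  let ΦG : ∐ Hs ⟶ G := Sigma.desc φs
  let Φ : ∐ Hs ⟶ F := ΦG ≫ j
  haveI hK : (kernel Φ).IsQuasicoherent := isQuasicoherent_kernel Φ
  haveI hG' : (cokernel (kernel.ι Φ)).IsQuasicoherent := isQuasicoherent_cokernel (kernel.ι Φ)
  have w : kernel.ι Φ ≫ ΦG = 0 := by
    rw [← cancel_mono j, Category.assoc, zero_comp]
    exact kernel.condition Φ
  let k : cokernel (kernel.ι Φ) ⟶ G := cokernel.desc (kernel.ι Φ) ΦG w
  have hkj : k ≫ j = Abelian.factorThruCoimage Φ := by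
    apply coequalizer.hom_ext
    simp [k, Φ, Abelian.factorThruCoimage]
  haveI : Mono (k ≫ j) := by rw [hkj]; infer_instance
  haveI hk : Mono k := mono_of_mono k j
  refine ⟨cokernel (kernel.ι Φ), k, hG', hk, fun H hH => ⟨fun a b hab => (cancel_mono k).1 hab, ?_⟩⟩
  intro ψ
  haveI : H.IsQuasicoherent := hH
  let Tψ : Idx := ⟨fun U => Set.range (ψ.app U), ⟨H, ψ, hH, fun _ => rfl⟩⟩
  have hz : ψ ≫ cokernel.π k = 0 := by
    apply Scheme.Modules.hom_ext
    intro U
    ext h
    have h1 : ψ.app U h ∈ Set.range ((φs Tψ).app U) := by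
      rw [← hφs Tψ U]
      exact ⟨h, rfl⟩
    obtain ⟨h', hh'⟩ := h1
    have h2 : φs Tψ = Sigma.ι Hs Tψ ≫ cokernel.π (kernel.ι Φ) ≫ k := by
      simp [k, ΦG]
    have h3 : (φs Tψ ≫ cokernel.π k) = 0 := by
      rw [h2, Category.assoc, Category.assoc, cokernel.condition, comp_zero, comp_zero]
    have h4 := congrArg (fun θ : Hs Tψ ⟶ cokernel k => θ.app U h') h3
    simp only [Scheme.Modules.Hom.comp_app] at h4
    change (cokernel.π k).app U (ψ.app U h) = 0
    rw [← hh']
    exact h4
  exact ⟨Abelian.monoLift k ψ hz, Abelian.monoLift_comp k ψ hz⟩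

end Groth.Agent.S9362
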