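import Groth.Statements.S9364
import Groth.Agent.Lib.Helper94.SyntX
import Groth.Agent.Lib.Helper94.SyntV
import Groth.Agent.Lib.Helper94.SyntH

set_option autoImplicit false
universe u
open Synt

namespace Groth.Agent.S9364

open AlgebraicGeometry CategoryTheory Groth.Agent.Lib.Helper94.SyntX

/-- ring-level: standard neighbourhoods -/
theorem exists_standard (A B : Type u) [CommRing A] [CommRing B] [Algebra A B]
    (h : Synt.IsSyntomic A B) (q : Ideal B) [q.IsPrime] :
    ∃ g : B, g ∉ q ∧ ∃ (N C : ℕ) (G : Fin C → MvPolynomial (Fin N) A), Synt.IsRelGCI A N C G ∧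
      ∀ (B' : Type u) [CommRing B'] [Algebra B B'] [IsLocalization.Away g B'],
        ∃ ψ : Synt.RelGCIRing A N C G ≃+* B', ∀ a : A,
          ψ (algebraMap A _ a) = algebraMap B B' (algebraMap A B a) := by
  obtain ⟨g, hg, N, C, G, hG, ⟨e⟩⟩ :=
    Groth.Agent.Lib.Helper94.SyntV.exists_relGCI_of_isSyntomic A B h q
  refine ⟨g, hg, N, C, G, hG, fun B' _ _ _ => ?_⟩
  let ε : Localization.Away g ≃ₐ[B] B' := IsLocalization.algEquiv (Submonoid.powers g) _ _
  refine ⟨e.symm.toRingEquiv.trans ε.toRingEquiv, fun a => ?_⟩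
  show ε (e.symm (algebraMap A _ a)) = _
  rw [e.symm.commutes, IsScalarTower.algebraMap_apply A B (Localization.Away g), ε.commutes]

open AlgebraicGeometry CategoryTheory in

open AlgebraicGeometry CategoryTheory in
/-- Let f : X → S, x ∈ X and V ⊆ S an affine open neighbourhood of f x. Then f is syntomic at x if and
only if some affine open U ∋ x with f(U) ⊆ V has f|_U : U → V standard syntomic. -/
theorem result {X S : Scheme.{u}} (f : X ⟶ S) (x : X) (V : S.affineOpens)
    (hV : f.base x ∈ V.1) :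
    Synt.IsSyntomicAt f x ↔
      ∃ (U : X.affineOpens) (e : U.1 ≤ f ⁻¹ᵁ V.1), x ∈ U.1 ∧ Synt.IsStandardSyntomic (f.resLE V.1 U.1 e) := by
  constructor
  · rintro ⟨U₂, V₂, e₂, hx₂, hsyn⟩
    have hsyn' : SynHom (f.appLE V₂.1 U₂.1 e₂).hom := hsyn
    obtain ⟨r, s, hxs, e', hP⟩ := exists_basicOpen_le_appLE_of_appLE_of_isAffine (P := @SynHom)
      stableUnderCompositionWithLocalizationAwayTarget localizationAwayPreserves
      x V V₂ U₂ U₂ hx₂ hx₂ e₂ hsyn' hV
    have hU₃ : IsAffineOpen (X.basicOpen s) := U₂.2.basicOpen s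
    have e₃ : X.basicOpen s ≤ f ⁻¹ᵁ V.1 :=
      e'.trans (f.preimage_mono (S.basicOpen_le r))
    have hsyn₃ : SynHom (f.appLE V.1 (X.basicOpen s) e₃).hom := by
      have h1 : f.appLE V.1 (X.basicOpen s) e₃ =
          S.presheaf.map (homOfLE (S.basicOpen_le r)).op ≫
            f.appLE (S.basicOpen r) (X.basicOpen s) e' := (f.map_appLE e' _).symm
      rw [h1]
      haveI := V.2.isLocalization_basicOpen r
      exact stableUnderCompositionWithLocalizationAwaySource _ r _ hP
    -- LS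
    letI algAB : Algebra Γ(S, V.1) Γ(X, X.basicOpen s) :=
      (f.appLE V.1 (X.basicOpen s) e₃).hom.toAlgebra
    have hAB : Synt.IsSyntomic Γ(S, V.1) Γ(X, X.basicOpen s) := hsyn₃
    let q : Ideal Γ(X, X.basicOpen s) :=
      (IsLocalRing.maximalIdeal (X.presheaf.stalk x)).comap (X.presheaf.germ _ x hxs).hom
    haveI : q.IsPrime := Ideal.comap_isPrime _ _
    obtain ⟨g, hg, N, C, G, hG, hψ⟩ := exists_standard Γ(S, V.1) Γ(X, X.basicOpen s) hAB q
    have hxg : x ∈ X.basicOpen g := by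
      rw [X.mem_basicOpen g x hxs]
      by_contra hu
      exact hg ((IsLocalRing.mem_maximalIdeal _).mpr hu)
    have hU : IsAffineOpen (X.basicOpen g) := hU₃.basicOpen g
    have eU : X.basicOpen g ≤ f ⁻¹ᵁ V.1 := (X.basicOpen_le g).trans e₃
    haveI := hU₃.isLocalization_basicOpen g
    obtain ⟨ψ, hψc⟩ := hψ Γ(X, X.basicOpen g)
    refine ⟨⟨X.basicOpen g, hU⟩, eU, hxg, Γ(S, V.1), inferInstance, N, C, G, hG, ?_⟩
    let i : CommRingCat.of (Synt.RelGCIRing Γ(S, V.1) N C G) ≅ Γ(X, X.basicOpen g) :=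
      ψ.toCommRingCatIso
    refine ⟨hU.isoSpec ≪≫ Scheme.Spec.mapIso i.op, V.2.isoSpec, ?_⟩
    simp only [Iso.trans_hom, Functor.mapIso_hom, Iso.op_hom, Scheme.Spec_map, Quiver.Hom.unop_op,
      Category.assoc, IsAffineOpen.isoSpec_hom]
    have hV' : (IsAffineOpen.isoSpec V.2).hom = V.1.toSpecΓ := rfl
    rw [← Spec.map_comp]
    try rw [hV']
    rw [← Scheme.Opens.toSpecΓ_SpecMap_appLE f V.1 (X.basicOpen g) eU]
    congr 2
    ext a
    show ψ (algebraMap _ _ a) = _
    rw [hψc]
    have h2 : f.appLE V.1 (X.basicOpen g) eU =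
        f.appLE V.1 (X.basicOpen s) e₃ ≫ X.presheaf.map (homOfLE (X.basicOpen_le g)).op :=
      (f.appLE_map e₃ _).symm
    rw [h2]
    rfl
  · rintro ⟨U, e, hx, R, _, n, c, F, hF, e₁, e₂, hcomm⟩
    refine ⟨U, V, e, hx, ?_⟩
    show SynHom (f.appLE V.1 U.1 e).hom
    have hsyn : Synt.IsSyntomic R (Synt.RelGCIRing R n c F) :=
      Groth.Agent.Lib.Helper94.SyntH.isSyntomic_of_isRelGCI R n c F hF
    have h1 : affineLocally @SynHom
        (Spec.map (CommRingCat.ofHom (algebraMap R (Synt.RelGCIRing R n c F)))) := by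
      rw [HasRingHomProperty.Spec_iff (P := affineLocally @SynHom)]
      exact synHom_algebraMap_iff.mpr hsyn
    have h2 : affineLocally @SynHom (f.resLE V.1 U.1 e) := by
      have : f.resLE V.1 U.1 e = e₁.hom ≫
          Spec.map (CommRingCat.ofHom (algebraMap R (Synt.RelGCIRing R n c F))) ≫ e₂.inv := by
        rw [← Category.assoc, hcomm, Category.assoc, Iso.hom_inv_id, Category.comp_id]
      rw [this]
      exact (MorphismProperty.cancel_left_of_respectsIso _ _ _).mpr
        ((MorphismProperty.cancel_right_of_respectsIso _ _ _).mpr h1)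
    haveI : IsAffine (U.1 : Scheme) := U.2
    haveI : IsAffine (V.1 : Scheme) := V.2
    have h3 := HasRingHomProperty.appTop (P := affineLocally @SynHom) _ h2
    have hri : (RingHom.toMorphismProperty @SynHom).RespectsIso :=
      RingHom.toMorphismProperty_respectsIso_iff.mp respectsIso
    exact (MorphismProperty.arrow_mk_iso_iff (RingHom.toMorphismProperty @SynHom)
      (arrowResLEAppIso f V.1 U.1 e)).mp h3


end Groth.Agent.S9364
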