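import Groth.Statements.S9366
import Mathlib
import Groth.Agent.Lib.Helper94.SyntH
import Groth.Agent.Lib.Helper94.CIDim
import Groth.Agent.Lib.Helper73.DimFT.Catenary
import Groth.Agent.Lib.Helper73.DimFormula.EquidimAt
-- import your own Groth.Agent.* helpers here

set_option autoImplicit false
universe u
open Synt

namespace Groth.Agent.S9366
open AlgebraicGeometry CategoryTheory TensorProduct
open Groth.Agent.Lib.Helper94 Groth.Agent.Lib.Helper73

/-- dimension of the quotient by a minimal prime in a global complete intersection -/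
theorem dim_quot_minimal {k : Type u} [Field k] {m : ℕ} {C : Type u} [CommRing C] [Algebra k C]
    (φ : MvPolynomial (Fin m) k →ₐ[k] C) (hφ : Function.Surjective φ)
    (t : ℕ) (r : Fin t → MvPolynomial (Fin m) k)
    (hker : RingHom.ker φ.toRingHom = Ideal.span (Set.range r)) (ht : t ≤ m)
    (hdim : ringKrullDim C = ((m - t : ℕ) : WithBot ℕ∞)) (Q : Ideal C) [Q.IsPrime]
    (hQ : Q ∈ minimalPrimes C) :
    ringKrullDim (C ⧸ Q) = ((m - t : ℕ) : WithBot ℕ∞) := by
  have h1 := CIDim.gci_height_eq φ hφ t r hker ht hdim Q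
  have h2 := CIDim.height_comap_add_ringKrullDim_quotient φ hφ Q
  have h0 : Q.height = 0 := Ideal.height_eq_zero_iff.mpr hQ
  rw [h0, add_zero] at h1
  rw [← h1] at h2
  have hFT : Algebra.FiniteType k C := CIDim.finiteType_of_surjective φ hφ
  obtain ⟨e, he⟩ := exists_nat_ringKrullDim_eq k (C ⧸ Q)
  rw [he] at h2 ⊢
  have : t + e = m := by exact_mod_cast h2
  have : e = m - t := by omega
  rw [this]

theorem trdeg_of_fibre_model {R B : Type u} [CommRing R] [CommRing B] [Algebra R B] (p : Ideal R)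
    [p.IsPrime] (C : Type u) [CommRing C] [Algebra p.ResidueField C] [Algebra R C]
    [IsScalarTower R p.ResidueField C] (ι : B →ₐ[R] C)
    (hι : ∀ x : C, ∃ r ∉ p, ∃ s : B, r • x = ι s)
    [Algebra.FiniteType p.ResidueField C]
    (Q : Ideal C) [Q.IsPrime] (d : ℕ) (hd : ringKrullDim (C ⧸ Q) = d) (q : Ideal B) [q.IsPrime]
    [q.LiesOver p] (hq : q = Q.comap ι) :
    Algebra.trdeg (R ⧸ p) (B ⧸ q) = d := by
  have h1 := trdeg_eq_of_ringKrullDim_eq p.ResidueField (A := C ⧸ Q) (FractionRing (C ⧸ Q)) d hd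
  rw [← h1]
  symm
  let β : B →+* FractionRing (C ⧸ Q) :=
    (algebraMap (C ⧸ Q) (FractionRing (C ⧸ Q))).comp ((Ideal.Quotient.mk Q).comp ι.toRingHom)
  have hβr : ∀ r : R, β (algebraMap R B r) = algebraMap p.ResidueField (FractionRing (C ⧸ Q))
      (algebraMap R p.ResidueField r) := by
    intro r
    simp only [β, RingHom.comp_apply, AlgHom.toRingHom_eq_coe, RingHom.coe_coe, AlgHom.commutes]
    rw [IsScalarTower.algebraMap_apply R p.ResidueField C,
      IsScalarTower.algebraMap_apply p.ResidueField (C ⧸ Q) (FractionRing (C ⧸ Q))]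
    rfl
  refine trdeg_eq_trdeg_quotient_of_ratio (algebraMap R p.ResidueField) β ?_ ?_ ?_ p q ?_ ?_
  · intro r
    exact (hβr r).symm
  · intro z
    obtain ⟨⟨x, ⟨y, hy⟩⟩, hxy⟩ := IsLocalization.surj (nonZeroDivisors (R ⧸ p)) z
    obtain ⟨a, rfl⟩ := Ideal.Quotient.mk_surjective x
    obtain ⟨b, rfl⟩ := Ideal.Quotient.mk_surjective y
    refine ⟨a, b, ?_, ?_⟩
    · rw [Ne, Ideal.algebraMap_residueField_eq_zero, ← Ideal.Quotient.eq_zero_iff_mem]
      exact nonZeroDivisors.ne_zero hy
    · exact hxy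
  · intro z
    obtain ⟨x, y, hy, rfl⟩ := IsFractionRing.div_surjective (A := C ⧸ Q) z
    obtain ⟨x', rfl⟩ := Ideal.Quotient.mk_surjective x
    obtain ⟨y', rfl⟩ := Ideal.Quotient.mk_surjective y
    obtain ⟨r, hr, s, hs⟩ := hι x'
    obtain ⟨r', hr', s', hs'⟩ := hι y'
    let g : C →+* FractionRing (C ⧸ Q) :=
      (algebraMap (C ⧸ Q) (FractionRing (C ⧸ Q))).comp (Ideal.Quotient.mk Q)
    have hgι : ∀ b, β b = g (ι b) := fun b => rfl
    have hgr : ∀ r : R, g (algebraMap R C r) = β (algebraMap R B r) := by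
      intro r
      rw [hgι, AlgHom.commutes]
    have hne : ∀ r : R, r ∉ p → g (algebraMap R C r) ≠ 0 := by
      intro r hr
      rw [hgr, hβr]
      intro h
      rw [map_eq_zero_iff _ (algebraMap p.ResidueField (FractionRing (C ⧸ Q))).injective,
        Ideal.algebraMap_residueField_eq_zero] at h
      exact hr h
    have hy' : g y' ≠ 0 := by
      intro h
      have : Ideal.Quotient.mk Q y' = 0 :=
        (map_eq_zero_iff _ (IsFractionRing.injective (C ⧸ Q) (FractionRing (C ⧸ Q)))).mp h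
      exact (nonZeroDivisors.ne_zero hy) this
    have e1 : β s = g (algebraMap R C r) * g x' := by
      rw [hgι, ← hs, Algebra.smul_def, map_mul]
    have e2 : β s' = g (algebraMap R C r') * g y' := by
      rw [hgι, ← hs', Algebra.smul_def, map_mul]
    refine ⟨s * algebraMap R B r', algebraMap R B r * s', ?_, ?_⟩
    · rw [map_mul, e2, ← hgr]
      exact mul_ne_zero (hne r hr) (mul_ne_zero (hne r' hr') hy')
    · rw [map_mul, map_mul, e1, e2, ← hgr, ← hgr]
      show g x' / g y' * _ = _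
      field_simp
  · exact (Ideal.ker_algebraMap_residueField (I := p)).symm
  · rw [hq]
    ext b
    rw [Ideal.mem_comap, RingHom.mem_ker]
    show _ ↔ algebraMap (C ⧸ Q) (FractionRing (C ⧸ Q)) (Ideal.Quotient.mk Q (ι b)) = 0
    rw [map_eq_zero_iff _ (IsFractionRing.injective (C ⧸ Q) (FractionRing (C ⧸ Q))),
      Ideal.Quotient.eq_zero_iff_mem]

set_option backward.isDefEq.respectTransparency.types false in
theorem trdeg_quotient_of_isRelGCI (R : Type u) [CommRing R] (n c : ℕ)
    (F : Fin c → MvPolynomial (Fin n) R) (hF : Synt.IsRelGCI R n c F)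
    (p : Ideal R) [p.IsPrime] (q : Ideal (Synt.RelGCIRing R n c F)) [q.IsPrime] [q.LiesOver p]
    (hmin : ∀ q' : Ideal (Synt.RelGCIRing R n c F), q'.IsPrime → q'.LiesOver p → q' ≤ q → q' = q) :
    Algebra.trdeg (R ⧸ p) (Synt.RelGCIRing R n c F ⧸ q) = ((n - c : ℕ) : Cardinal.{u}) := by
  let Q := PrimeSpectrum.primesOverOrderIsoFiber R (Synt.RelGCIRing R n c F) p ⟨q, ‹_›, ‹_›⟩
  have hQq : Q.asIdeal.comap Algebra.TensorProduct.includeRight = q :=
    congr($((PrimeSpectrum.primesOverOrderIsoFiber R (Synt.RelGCIRing R n c F) p).symm_apply_apply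
      ⟨q, ‹_›, ‹_›⟩).1)
  have hnt : Nontrivial (p.Fiber (Synt.RelGCIRing R n c F)) := Q.nontrivial
  obtain ⟨hc, hdim⟩ := hF ⟨p, inferInstance⟩ hnt
  let e := SyntF.fibreEquiv R n c F p
  let φ : MvPolynomial (Fin n) p.ResidueField →ₐ[p.ResidueField] p.Fiber (Synt.RelGCIRing R n c F) :=
    e.symm.toAlgHom.comp (Ideal.Quotient.mkₐ p.ResidueField _)
  have hφ : Function.Surjective φ :=
    e.symm.surjective.comp (Ideal.Quotient.mkₐ_surjective p.ResidueField _)
  have hker : RingHom.ker φ.toRingHom = Ideal.span (Set.range fun i => SyntB.psi p (F i)) := by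
    ext x
    simp only [RingHom.mem_ker]
    show e.symm (Ideal.Quotient.mk _ x) = 0 ↔ _
    rw [map_eq_zero_iff _ e.symm.injective, Ideal.Quotient.eq_zero_iff_mem]
  have hQmin : Q.asIdeal ∈ minimalPrimes (p.Fiber (Synt.RelGCIRing R n c F)) := by
    refine ⟨⟨Q.isPrime, bot_le⟩, fun Q' hQ' hle => ?_⟩
    let Q'' : PrimeSpectrum (p.Fiber (Synt.RelGCIRing R n c F)) := ⟨Q', hQ'.1⟩
    have hle' : Q'' ≤ Q := hle
    let iso := PrimeSpectrum.primesOverOrderIsoFiber R (Synt.RelGCIRing R n c F) p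
    have h1 : iso.symm Q'' ≤ iso.symm Q := iso.symm.monotone hle'
    have h2 : iso.symm Q = ⟨q, ‹_›, ‹_›⟩ := iso.symm_apply_apply _
    rw [h2] at h1
    have h3 : (iso.symm Q'').1 = q :=
      hmin _ (iso.symm Q'').2.1 (iso.symm Q'').2.2 h1
    have h4 : iso.symm Q'' = iso.symm Q := by
      rw [h2]
      exact Subtype.ext h3
    have h5 : Q'' = Q := iso.symm.injective h4
    have h6 : Q' = Q.asIdeal := congrArg PrimeSpectrum.asIdeal h5
    exact h6.ge
  have hd := dim_quot_minimal (C := p.Fiber (Synt.RelGCIRing R n c F)) φ hφ c _ hker hc hdim Q.asIdeal hQmin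
  have hFT : Algebra.FiniteType p.ResidueField (p.Fiber (Synt.RelGCIRing R n c F)) :=
    Algebra.FiniteType.of_surjective φ hφ
  have hι : ∀ x : p.Fiber (Synt.RelGCIRing R n c F), ∃ r ∉ p, ∃ s : Synt.RelGCIRing R n c F,
      r • x = (Algebra.TensorProduct.includeRight : Synt.RelGCIRing R n c F →ₐ[R] p.Fiber (Synt.RelGCIRing R n c F)) s := by
    intro x
    exact Ideal.Fiber.exists_smul_eq_one_tmul p x
  have T1 := @trdeg_of_fibre_model R (Synt.RelGCIRing R n c F) _ _ _ p _ (p.Fiber (Synt.RelGCIRing R n c F))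
    _ _ _ _ (Algebra.TensorProduct.includeRight) hι 
  have T2 := T1 Q.asIdeal (n - c) 
  have T3 := T2 hd q hQq.symm
  exact T3

set_option backward.isDefEq.respectTransparency.types false in

open AlgebraicGeometry CategoryTheory in
/-- For a relative global complete intersection R → A = R[x_1, …, x_n]/(F_1, …, F_c) and f : Spec A →
Spec R, the function x ↦ dim_x(X_{f x}) is constant with value n − c. -/
theorem result (R : Type u) [CommRing R] (n c : ℕ) (F : Fin c → MvPolynomial (Fin n) R)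
    (hF : Synt.IsRelGCI R n c F) (x : ↑(Spec (CommRingCat.of (Synt.RelGCIRing R n c F)))) :
    FlatMor.fibreDimAt (Spec.map (CommRingCat.ofHom (algebraMap R (Synt.RelGCIRing R n c F)))) x =
      ((n - c : ℕ) : WithBot ℕ∞) := by
  have : LocallyOfFiniteType
      (Spec.map (CommRingCat.ofHom (algebraMap R (Synt.RelGCIRing R n c F)))) := by
    rw [HasRingHomProperty.Spec_iff (P := @LocallyOfFiniteType)]
    rw [CommRingCat.hom_ofHom, RingHom.finiteType_algebraMap]
    infer_instance
  apply fibreDimAt_eq_of_forall_maximal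
  intro ζ hζx hfζ hmax
  let q : Ideal (Synt.RelGCIRing R n c F) := ζ.asIdeal
  let p : Ideal R := q.under R
  have : q.LiesOver p := ⟨rfl⟩
  have h1 := resTrdeg_SpecMap (R := R) (R' := Synt.RelGCIRing R n c F) ζ p q rfl
  have h2 := trdeg_quotient_of_isRelGCI R n c F hF p q (by
    intro q' hq' hq'p hle
    let t : Spec (CommRingCat.of (Synt.RelGCIRing R n c F)) := ⟨q', hq'⟩
    have ht : t ⤳ ζ := (PrimeSpectrum.le_iff_specializes t ζ).mp hle
    have hft : (Spec.map (CommRingCat.ofHom (algebraMap R (Synt.RelGCIRing R n c F)))) t =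
        (Spec.map (CommRingCat.ofHom (algebraMap R (Synt.RelGCIRing R n c F)))) ζ := by
      rw [Spec.map_apply, Spec.map_apply]
      apply PrimeSpectrum.ext
      show q'.under R = q.under R
      exact (hq'p.over).symm
    have := hmax t ht hft
    exact congrArg PrimeSpectrum.asIdeal this)
  unfold resTrdegNat
  rw [h1, h2, Cardinal.toNat_natCast]


end Groth.Agent.S9366
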