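import Groth.Statements.S9367
import Mathlib
import Groth.Agent.S9366
import Groth.Agent.S9364
import Groth.Agent.S9363
import Groth.Agent.Lib.Helper73.DimFormula.Chevalley
-- import your own Groth.Agent.* helpers here

set_option autoImplicit false
universe u
open Synt

namespace Groth.Agent.S9367
open AlgebraicGeometry CategoryTheory TensorProduct
open Groth.Agent.Lib.Helper94 Groth.Agent.Lib.Helper73

theorem locallyOfFiniteType_of_isSyntomicMor {X S : Scheme.{u}} (f : X ⟶ S)
    (hf : Synt.IsSyntomicMor f) : LocallyOfFiniteType f := by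
  rw [HasRingHomProperty.iff_appLE (P := @LocallyOfFiniteType)]
  intro V U e
  have h := (Groth.Agent.S9363.result f).mp hf U V e
  let _ := (f.appLE V.1 U.1 e).hom.toAlgebra
  have : Algebra.FinitePresentation Γ(S, V.1) Γ(X, U.1) := h.2.1
  have h2 : Algebra.FiniteType Γ(S, V.1) Γ(X, U.1) := inferInstance
  exact h2

theorem locallyOfFiniteType_specMap_relGCI (R : Type u) [CommRing R] (n c : ℕ)
    (F : Fin c → MvPolynomial (Fin n) R) :
    LocallyOfFiniteType
      (Spec.map (CommRingCat.ofHom (algebraMap R (Synt.RelGCIRing R n c F)))) := by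
  rw [HasRingHomProperty.Spec_iff (P := @LocallyOfFiniteType)]
  rw [CommRingCat.hom_ofHom, RingHom.finiteType_algebraMap]
  infer_instance


open AlgebraicGeometry CategoryTheory in
/-- If f : X → S is syntomic, then x ↦ dim_x(X_{f x}) is locally constant on X. -/
theorem result {X S : Scheme.{u}} (f : X ⟶ S) (hf : Synt.IsSyntomicMor f) :
    IsLocallyConstant (fun x : ↑X => FlatMor.fibreDimAt f x) := by
  have hft : LocallyOfFiniteType f := locallyOfFiniteType_of_isSyntomicMor f hf
  rw [IsLocallyConstant.iff_exists_open]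
  intro x
  obtain ⟨_, ⟨V, hV : IsAffineOpen V, rfl⟩, hxV, -⟩ :=
    S.isBasis_affineOpens.exists_subset_of_mem_open (Set.mem_univ (f x)) isOpen_univ
  obtain ⟨U, e, hxU, R, _, n, c, F, hF, e₁, e₂, hsq⟩ :=
    (Groth.Agent.S9364.result f x ⟨V, hV⟩ hxV).mp (hf x)
  refine ⟨U.1, U.1.isOpen, hxU, ?_⟩
  have key : ∀ y : X, y ∈ U.1 → FlatMor.fibreDimAt f y = ((n - c : ℕ) : WithBot ℕ∞) := by
    intro y hy
    have := locallyOfFiniteType_specMap_relGCI R n c F
    have h1 := fibreDimAt_eq_of_isOpenImmersion_square (Scheme.Opens.ι U.1) (Scheme.Opens.ι V) (f.resLE V U.1 e) f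
      (Scheme.Hom.resLE_comp_ι f e) ⟨y, hy⟩
    have h2 := fibreDimAt_eq_of_isOpenImmersion_square e₁.hom e₂.hom (f.resLE V U.1 e)
      (Spec.map (CommRingCat.ofHom (algebraMap R (Synt.RelGCIRing R n c F)))) hsq.symm ⟨y, hy⟩
    have h3 := Groth.Agent.S9366.result R n c F hF (e₁.hom ⟨y, hy⟩)
    have h4 : U.1.ι ⟨y, hy⟩ = y := rfl
    rw [h4] at h1
    rw [← h1, h2, h3]
  intro y hy
  rw [key y hy, key x hxU]


end Groth.Agent.S9367
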