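import Groth.Statements.S9368
import Groth.Agent.Lib.Helper94.SyntX
import Groth.Agent.Lib.Helper94.CIMain

set_option autoImplicit false
universe u
open Synt

namespace Groth.Agent.S9368

open AlgebraicGeometry CategoryTheory Groth.Agent.Lib.Helper94.SyntX Groth.Agent.Lib.Helper94.SyntW
  TopologicalSpace

section Aux

variable (k : Type u) [Field k] {X : Scheme.{u}} (p : X ⟶ Spec (CommRingCat.of k))

/-- the `k`-algebra structure on sections -/
noncomputable abbrev algU (U : X.Opens) : Algebra k Γ(X, U) :=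
  ((Scheme.ΓSpecIso (CommRingCat.of k)).inv ≫ p.appLE ⊤ U le_top).hom.toAlgebra

/-- the `k`-algebra structure on stalks -/
noncomputable abbrev algS (x : X) : Algebra k (X.presheaf.stalk x) :=
  ((Scheme.ΓSpecIso (CommRingCat.of k)).inv ≫ p.appLE ⊤ ⊤ le_top ≫
    X.presheaf.germ ⊤ x trivial).hom.toAlgebra

theorem finiteType_U [LocallyOfFiniteType p] (U : X.affineOpens) :
    @Algebra.FiniteType k Γ(X, U.1) _ _ (algU k p U.1) := by
  have h1 : RingHom.FiniteType (p.appLE ⊤ U.1 le_top).hom :=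
    HasRingHomProperty.appLE (P := @LocallyOfFiniteType) p inferInstance
      ⟨⊤, isAffineOpen_top _⟩ U le_top
  have h2 : RingHom.FiniteType (Scheme.ΓSpecIso (CommRingCat.of k)).inv.hom :=
    RingHom.FiniteType.of_surjective _
      (ConcreteCategory.bijective_of_isIso (Scheme.ΓSpecIso (CommRingCat.of k)).inv).2
  exact h1.comp h2

theorem synHom_iff (U : X.Opens) :
    SynHom (p.appLE ⊤ U le_top).hom ↔ @Synt.IsLCIOver k _ Γ(X, U) _ (algU k p U) := by
  letI := algU k p U
  rw [← isSyntomic_field_iff]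
  let e : k ≃+* Γ(Spec (CommRingCat.of k), ⊤) :=
    (Scheme.ΓSpecIso (CommRingCat.of k)).symm.commRingCatIsoToRingEquiv
  have he : ((Scheme.ΓSpecIso (CommRingCat.of k)).inv ≫ p.appLE ⊤ U le_top).hom =
      (p.appLE ⊤ U le_top).hom.comp e.toRingHom := rfl
  show _ ↔ SynHom ((Scheme.ΓSpecIso (CommRingCat.of k)).inv ≫ p.appLE ⊤ U le_top).hom
  rw [he]
  constructor
  · intro h
    exact respectsIso.2 _ e h
  · intro h
    have := respectsIso.2 _ e.symm h
    have h3 : ((p.appLE ⊤ U le_top).hom.comp e.toRingHom).comp e.symm.toRingHom =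
        (p.appLE ⊤ U le_top).hom := by
      ext a
      simp
    rwa [h3] at this

/-- membership in basic opens via the prime of a point -/
theorem mem_basicOpen_of_notMem {U : X.Opens} (hU : IsAffineOpen U) (x : X) (hx : x ∈ U)
    (g : Γ(X, U)) (hg : g ∉ (hU.primeIdealOf ⟨x, hx⟩).asIdeal) : x ∈ X.basicOpen g := by
  have h1 : hU.primeIdealOf ⟨x, hx⟩ ∈ hU.fromSpec ⁻¹ᵁ X.basicOpen g := by
    rw [hU.fromSpec_preimage_basicOpen]
    exact hg
  have h2 : hU.fromSpec (hU.primeIdealOf ⟨x, hx⟩) = x := hU.fromSpec_primeIdealOf ⟨x, hx⟩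
  rw [← h2]
  exact h1

/-- localization at the prime of a point is the stalk, over `k` -/
theorem nonempty_stalk_algEquiv {U : X.Opens} (hU : IsAffineOpen U) (x : X) (hx : x ∈ U) :
    letI := algU k p U
    letI := algS k p x
    Nonempty (Localization.AtPrime (hU.primeIdealOf ⟨x, hx⟩).asIdeal ≃ₐ[k] X.presheaf.stalk x) := by
  letI := algU k p U
  letI := algS k p x
  letI : Algebra Γ(X, U) (X.presheaf.stalk x) := X.presheaf.algebra_section_stalk ⟨x, hx⟩
  haveI : IsScalarTower k Γ(X, U) (X.presheaf.stalk x) := by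
    refine IsScalarTower.of_algebraMap_eq' ?_
    show ((Scheme.ΓSpecIso (CommRingCat.of k)).inv ≫ p.appLE ⊤ ⊤ le_top ≫
      X.presheaf.germ ⊤ x trivial).hom =
      (X.presheaf.germ U x hx).hom.comp
        ((Scheme.ΓSpecIso (CommRingCat.of k)).inv ≫ p.appLE ⊤ U le_top).hom
    rw [← CommRingCat.hom_comp, Category.assoc]
    congr 2
    rw [← p.appLE_map (show (⊤ : X.Opens) ≤ p ⁻¹ᵁ ⊤ from le_top) (homOfLE (le_top : U ≤ ⊤)).op,
      Category.assoc, X.presheaf.germ_res]
  haveI := hU.isLocalization_stalk ⟨x, hx⟩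
  exact ⟨(IsLocalization.algEquiv (hU.primeIdealOf ⟨x, hx⟩).asIdeal.primeCompl
    (Localization.AtPrime (hU.primeIdealOf ⟨x, hx⟩).asIdeal) (X.presheaf.stalk x)).restrictScalars k⟩

/-- sections over a basic open are the localization, over `k` -/
theorem nonempty_basicOpen_algEquiv {U : X.Opens} (hU : IsAffineOpen U) (g : Γ(X, U)) :
    letI := algU k p U
    letI := algU k p (X.basicOpen g)
    Nonempty (Localization.Away g ≃ₐ[k] Γ(X, X.basicOpen g)) := by
  letI := algU k p U
  letI := algU k p (X.basicOpen g)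
  haveI : IsScalarTower k Γ(X, U) Γ(X, X.basicOpen g) := by
    refine IsScalarTower.of_algebraMap_eq' ?_
    show ((Scheme.ΓSpecIso (CommRingCat.of k)).inv ≫ p.appLE ⊤ (X.basicOpen g) le_top).hom =
      (X.presheaf.map (homOfLE (X.basicOpen_le g)).op).hom.comp
        ((Scheme.ΓSpecIso (CommRingCat.of k)).inv ≫ p.appLE ⊤ U le_top).hom
    rw [← CommRingCat.hom_comp, Category.assoc]
    congr 2
    exact (p.appLE_map (show U ≤ p ⁻¹ᵁ ⊤ from le_top) (homOfLE (X.basicOpen_le g)).op).symm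
  haveI := hU.isLocalization_basicOpen g
  exact ⟨(IsLocalization.algEquiv (Submonoid.powers g)
    (Localization.Away g) Γ(X, X.basicOpen g)).restrictScalars k⟩

end Aux

open AlgebraicGeometry CategoryTheory in

open AlgebraicGeometry CategoryTheory in
/-- For X locally of finite type over a field k with structure morphism p, the following are equivalent:
(1) p is syntomic; (2) every x ∈ X has an affine open neighbourhood whose coordinate ring is a
global complete intersection over k; (3) each stalk O_{X,x} is a complete intersection ring over k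
(k-algebra structures induced by p). -/
theorem result (k : Type u) [Field k] (X : Scheme.{u}) (p : X ⟶ Spec (CommRingCat.of k)) [LocallyOfFiniteType p] :
    [Synt.IsSyntomicMor p,
      ∀ x : ↑X, ∃ U : X.affineOpens, x ∈ U.1 ∧
        letI := ((Scheme.ΓSpecIso (CommRingCat.of k)).inv ≫ p.appLE ⊤ U.1 le_top).hom.toAlgebra
        Synt.IsGlobalCI k Γ(X, U.1),
      ∀ x : ↑X,
        letI := ((Scheme.ΓSpecIso (CommRingCat.of k)).inv ≫ p.appLE ⊤ ⊤ le_top ≫ X.presheaf.germ ⊤ x trivial).hom.toAlgebra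
        Synt.IsCIOver k (X.presheaf.stalk x)].TFAE := by
  tfae_have 1 → 2 := by
    intro h x
    rw [isSyntomicMor_iff_affineLocally, HasRingHomProperty.iff_appLE
      (P := affineLocally @SynHom)] at h
    obtain ⟨U₀, hU₀, hxU₀, -⟩ := Opens.isBasis_iff_nbhd.mp X.isBasis_affineOpens
      (Opens.mem_top x)
    have h1 := (synHom_iff k p U₀).mp (h ⟨⊤, isAffineOpen_top _⟩ ⟨U₀, hU₀⟩ le_top)
    letI := algU k p U₀
    obtain ⟨g, hg, hG⟩ := h1.2 (hU₀.primeIdealOf ⟨x, hxU₀⟩)
    refine ⟨⟨X.basicOpen g, hU₀.basicOpen g⟩, mem_basicOpen_of_notMem hU₀ x hxU₀ g hg, ?_⟩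
    obtain ⟨e⟩ := nonempty_basicOpen_algEquiv k p hU₀ g
    letI := algU k p (X.basicOpen g)
    exact Groth.Agent.Lib.Helper94.CIPres.isGlobalCI_of_algEquiv e hG
  tfae_have 2 → 3 := by
    intro h x
    obtain ⟨U, hxU, hG⟩ := h x
    letI := algU k p U.1
    letI := algS k p x
    haveI : Algebra.FiniteType k Γ(X, U.1) := finiteType_U k p U
    have h1 : Synt.IsLCIOver k Γ(X, U.1) :=
      Groth.Agent.Lib.Helper94.CIMain.isLCIOver_of_isGlobalCI hG
    have h2 := (Groth.Agent.Lib.Helper94.CIMain.isLCIOver_iff_forall_prime k Γ(X, U.1)).mp h1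
      (U.2.primeIdealOf ⟨x, hxU⟩)
    obtain ⟨e⟩ := nonempty_stalk_algEquiv k p U.2 x hxU
    exact Groth.Agent.Lib.Helper94.CIMain.isCIOver_of_algEquiv e h2
  tfae_have 3 → 1 := by
    intro h x
    obtain ⟨U₀, hU₀, hxU₀, -⟩ := Opens.isBasis_iff_nbhd.mp X.isBasis_affineOpens
      (Opens.mem_top x)
    letI := algU k p U₀
    letI := algS k p x
    haveI : Algebra.FiniteType k Γ(X, U₀) := finiteType_U k p ⟨U₀, hU₀⟩
    obtain ⟨e⟩ := nonempty_stalk_algEquiv k p hU₀ x hxU₀
    have h1 : Synt.IsCIOver k (Localization.AtPrime (hU₀.primeIdealOf ⟨x, hxU₀⟩).asIdeal) :=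
      Groth.Agent.Lib.Helper94.CIMain.isCIOver_of_algEquiv e.symm (h x)
    obtain ⟨g, hg, hL⟩ :=
      (Groth.Agent.Lib.Helper94.CIMain.isCIOver_atPrime_iff_exists_isLCIOver k Γ(X, U₀)
        (hU₀.primeIdealOf ⟨x, hxU₀⟩).asIdeal).mp h1
    obtain ⟨e'⟩ := nonempty_basicOpen_algEquiv k p hU₀ g
    letI := algU k p (X.basicOpen g)
    have h2 : Synt.IsLCIOver k Γ(X, X.basicOpen g) :=
      Groth.Agent.Lib.Helper94.SyntI.isLCIOver_of_algEquiv e' hL
    refine ⟨⟨X.basicOpen g, hU₀.basicOpen g⟩, ⟨⊤, isAffineOpen_top _⟩, le_top,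
      mem_basicOpen_of_notMem hU₀ x hxU₀ g hg, ?_⟩
    exact (synHom_iff k p (X.basicOpen g)).mpr h2
  tfae_finish


end Groth.Agent.S9368
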