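import Groth.Statements.S9373
import Groth.Agent.Lib.Lead.QCohAff3

set_option autoImplicit false
universe u
open QCohSub

namespace Groth.Agent.S9373

open AlgebraicGeometry CategoryTheory in
/-- The support of a quasi-coherent O_X-module is closed under specialization. -/
theorem result (X : Scheme.{u}) (F : X.Modules) (hF : Coh.IsQCoh F) :
    StableUnderSpecialization (CohB1.support F) := by
  haveI : F.IsQuasicoherent := hF
  intro x y hxy hx
  obtain ⟨_, ⟨U, hU : IsAffineOpen U, rfl⟩, hyU, -⟩ :=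
    (X.isBasis_affineOpens).exists_subset_of_mem_open (Set.mem_univ y) isOpen_univ
  have hxU : x ∈ U := hxy.mem_open U.2 hyU
  change ¬ Subsingleton (F.presheaf.stalk y)
  have hx' : ¬ Subsingleton (F.presheaf.stalk x) := hx
  rw [Groth.Agent.Lib.Lead.QCohAff.subsingleton_stalk_iff F hU x hxU] at hx'
  rw [Groth.Agent.Lib.Lead.QCohAff.subsingleton_stalk_iff F hU y hyU]
  push_neg at hx' ⊢
  obtain ⟨s, hs⟩ := hx'
  refine ⟨s, fun h0 => hs ?_⟩
  obtain ⟨r, hyr, hrs⟩ := (Groth.Agent.Lib.Lead.QCohAff.germ_eq_zero_iff F hU y hyU s).1 h0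
  exact (Groth.Agent.Lib.Lead.QCohAff.germ_eq_zero_iff F hU x hxU s).2
    ⟨r, hxy.mem_open (X.basicOpen r).2 hyr, hrs⟩

end Groth.Agent.S9373
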