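import Groth.Statements.S9375
import Groth.Agent.Lib.Helper48.Conormal8

set_option autoImplicit false
universe u
open OmegaSh

namespace Groth.Agent.S9375

open AlgebraicGeometry CategoryTheory Limits in
/-- For quasi-compact immersions i : Z → X and j : Z → Y with j = i ≫ p for p : X → Y, there is an exact
sequence C_{Z/Y} → C_{Z/X} → i^*Ω_{X/Y} → 0 with the canonical maps; Ω_{X/Y} is any receptacle of a
universal derivation. (The published statement allows arbitrary immersions; this row assumes i and j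
quasi-compact.) -/
theorem result {Z X Y : Scheme.{u}} (p : X ⟶ Y) (i : Z ⟶ X) (j : Z ⟶ Y) [IsImmersion i] [IsImmersion j]
    [QuasiCompact i] [QuasiCompact j] (hij : i ≫ p = j)
    (Ω : X.Modules) (d : OmegaSh.Der p Ω) (hd : OmegaSh.IsUniversal d)
    (ψ : (Scheme.Modules.pullback (𝟙 Z)).obj (Omega.conormal j) ⟶ Omega.conormal i) (hψ : OmegaSh.IsConormalMap i j p (𝟙 Z) ψ)
    (φ : Omega.conormal i ⟶ (Scheme.Modules.pullback i).obj Ω) (hφ : OmegaSh.IsConormalDiff i d φ) :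
    ∃ w : ψ ≫ φ = 0, (ShortComplex.mk ψ φ w).Exact ∧ Epi φ := by
  classical
  subst hij
  let 𝓑 : Set Z.Opens := {U | ∃ (V : X.Opens) (W : Y.Opens) (hVW : V ≤ p ⁻¹ᵁ W),
    Groth.Agent.Lib.Helper48.Conormal.IsGoodFor i V ∧ IsAffineOpen W ∧
    i ⁻¹ᵁ V = (i ≫ p) ⁻¹ᵁ W ∧
    Function.Surjective ((i ≫ p).appLE W (i ⁻¹ᵁ V) (fun _ hx => hVW hx)) ∧ U = i ⁻¹ᵁ V}
  have hB : TopologicalSpace.Opens.IsBasis 𝓑 := by
    rw [TopologicalSpace.Opens.isBasis_iff_nbhd]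
    intro O z hz
    obtain ⟨V, W, hVW, hV, hW, hzV, hVO, hiV, hsurj⟩ :=
      Groth.Agent.Lib.Helper48.Conormal.exists_goodPair p i z O hz
    exact ⟨i ⁻¹ᵁ V, ⟨V, W, hVW, hV, hW, hiV, hsurj, rfl⟩, hzV, hVO⟩
  have hψψ' : ψ = (Scheme.Modules.pullbackId Z).hom.app (Omega.conormal (i ≫ p)) ≫
      Groth.Agent.Lib.Helper48.Conormal.ψ' p i ψ := by
    unfold Groth.Agent.Lib.Helper48.Conormal.ψ' Groth.Agent.Lib.Helper48.Conormal.ψ₂
    rw [← Category.assoc, Iso.hom_inv_id_app, Category.id_comp]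
  have w' : Groth.Agent.Lib.Helper48.Conormal.ψ' p i ψ ≫ φ = 0 := by
    refine Groth.Agent.Lib.Helper48.Conormal.hom_ext_of_basis _ _ _ hB ?_
    rintro U ⟨V, W, hVW, hV, hW, hiV, hsurj, rfl⟩ s
    rw [Scheme.Modules.Hom.comp_app, Scheme.Modules.Hom.zero_app]
    exact Groth.Agent.Lib.Helper48.Conormal.ψ'_φ_app p i d ψ hψ φ hφ hV hW hVW s
  have w : ψ ≫ φ = 0 := by
    rw [hψψ', Category.assoc, w', comp_zero]
  refine ⟨w, ?_, ?_⟩
  · refine Groth.Agent.Lib.Helper48.Conormal.exact_of_basis _ _ hB ?_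
    rintro U ⟨V, W, hVW, hV, hW, hiV, hsurj, rfl⟩ y hy
    obtain ⟨t', ht'⟩ := Groth.Agent.Lib.Helper48.Conormal.seq_exact_app p i d hd ψ hψ φ hφ hV hW hVW
      hiV hsurj y hy
    exact ⟨((Scheme.Modules.pullbackId Z).inv.app (Omega.conormal (i ≫ p))).app (i ⁻¹ᵁ V) t', ht'⟩
  · refine Groth.Agent.Lib.Helper48.Conormal.epi_of_basis _ _ hB ?_
    rintro U ⟨V, W, hVW, hV, hW, hiV, hsurj, rfl⟩
    exact Groth.Agent.Lib.Helper48.Conormal.φ_app_surjective p i d hd φ hφ hV hW hVW hsurj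

end Groth.Agent.S9375
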