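import Groth.Statements.S9377
import Groth.Agent.Lib.Helper21.AnnIdeal
import Groth.Agent.Lib.Helper21.ClImmUnit3
import Groth.Agent.Lib.Helper64.CohPush

set_option autoImplicit false
universe u
open QCohSub

namespace Groth.Agent.S9377

open AlgebraicGeometry CategoryTheory Opposite in
/-- A finite type quasi-coherent O_X-module F has a scheme-theoretic support: a closed subscheme Z
(ideal sheaf J), cut out on each affine open U by the annihilator of F(U), such that F ≅ i_* i^* F
via the unit, any other closed subscheme for which this unit is an isomorphism contains Z (i.e. its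
ideal sheaf lies below J), and Z has the same underlying set as Supp(F). (The published statement
also says that the O_Z-module G with i_*G ≅ F is unique up to unique isomorphism and of finite type;
those clauses are not stated here.) -/
theorem result (X : Scheme.{u}) (F : X.Modules) (hq : Coh.IsQCoh F) (hft : CohB1.IsFT F) :
    ∃ J : X.IdealSheafData,
      (∀ U : X.affineOpens, J.ideal U = Module.annihilator Γ(X, U.1) Γ(F, U.1)) ∧
        IsIso ((Scheme.Modules.pullbackPushforwardAdjunction J.subschemeι).unit.app F) ∧
          (∀ J' : X.IdealSheafData, IsIso ((Scheme.Modules.pullbackPushforwardAdjunction J'.subschemeι).unit.app F) → J' ≤ J) ∧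
            (J.support : Set ↑X) = CohB1.support F := by
  haveI : F.IsQuasicoherent := hq
  refine ⟨Groth.Agent.Lib.Helper21.AnnIdeal.annIdeal F hft, fun U => rfl, ?_, ?_,
    Groth.Agent.Lib.Helper21.AnnIdeal.support_annIdeal F hft⟩
  · apply Groth.Agent.Lib.Helper21.ClImmUnit.isIso_unit_of_killedByIdeal
    rw [Scheme.IdealSheafData.ker_subschemeι]
    exact Groth.Agent.Lib.Helper21.AnnIdeal.killedByIdeal_annIdeal F hft
  · intro J' hiso U a ha
    change a ∈ Module.annihilator Γ(X, U.1) Γ(F, U.1)
    rw [Module.mem_annihilator]
    intro m
    let η := (Scheme.Modules.pullbackPushforwardAdjunction J'.subschemeι).unit.app F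
    have hbij : Function.Bijective (η.app U.1) := by
      haveI : IsIso ((Scheme.Modules.toPresheaf X).map η) := inferInstance
      have h2 : IsIso (((Scheme.Modules.toPresheaf X).map η).app (Opposite.op U.1)) := inferInstance
      exact (ConcreteCategory.isIso_iff_bijective _).mp h2
    apply hbij.1
    rw [Scheme.Modules.Hom.app_smul, map_zero]
    have h1 := Groth.Agent.Lib.Helper64.CohPush.pushforward_smul J'.subschemeι
      ((Scheme.Modules.pullback J'.subschemeι).obj F) U.1 a (η.app U.1 m)
    have h3 : (J'.subschemeι.app U.1).hom a = 0 := by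
      have h4 : a ∈ J'.subschemeι.ker.ideal U := by
        rw [Scheme.IdealSheafData.ker_subschemeι]
        exact ha
      rw [Scheme.Hom.ker_apply] at h4
      exact h4
    rw [h3] at h1
    have hz : ((0 : Γ(J'.subscheme, J'.subschemeι ⁻¹ᵁ U.1)) •
        (show Γ((Scheme.Modules.pullback J'.subschemeι).obj F, J'.subschemeι ⁻¹ᵁ U.1) from
          η.app U.1 m) :
        Γ((Scheme.Modules.pullback J'.subschemeι).obj F, J'.subschemeι ⁻¹ᵁ U.1)) = 0 :=
      zero_smul _ _
    exact h1.trans hz

end Groth.Agent.S9377
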