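import Groth.Statements.S9380
import Groth.Agent.Lib.Helper6.QAffCanon

set_option autoImplicit false
universe u
open QAff

namespace Groth.Agent.S9380

open AlgebraicGeometry CategoryTheory in
/-- A quasi-compact quasi-separated morphism f : X → S is quasi-affine if and only if the canonical
S-morphism X → Spec_S(f_*O_X) (the one inducing the comparison map on direct-image algebras) exists
as a quasi-compact open immersion. -/
theorem result {X S : Scheme.{u}} (f : X ⟶ S) [QuasiCompact f] [QuasiSeparated f] :
    MoreMor.IsQuasiAffineHom f ↔
      ∃ (c : X ⟶ (RelSpec.QCAlg.directImage f).spec) (e : c ≫ (RelSpec.QCAlg.directImage f).π = f),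
        (RelSpec.QCAlg.directImage f).gammaMap = AffAlg.algHom (RelSpec.QCAlg.directImage f).π f c e ∧
          QuasiCompact c ∧ IsOpenImmersion c := by
  constructor
  · intro hf
    exact Groth.Agent.Lib.Helper6.QAff.exists_canonical f hf
  · rintro ⟨c, e, -, hqc, hoi⟩
    have := Groth.Agent.Lib.Helper6.QAff.isQuasiAffineHom_of_openImmersion _ c
    rwa [e] at this

end Groth.Agent.S9380
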