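import Groth.Statements.S9381
import Groth.Agent.Lib.Helper73.DimFormula.Fiber

set_option autoImplicit false
universe u
open FibDim

namespace Groth.Agent.S9381

open AlgebraicGeometry CategoryTheory in
/-- Let f : X → S be locally of finite type and x ⤳ x' a nontrivial specialization of points of X in the
same fibre (f x = f x'). Then trdeg_{κ(f x)} κ(x) > trdeg_{κ(f x')} κ(x'). -/
theorem result {X S : Scheme.{u}} (f : X ⟶ S) [LocallyOfFiniteType f] (x x' : X)
    (hsp : x ⤳ x') (hne : x ≠ x') (hfx : f.base x = f.base x') :
    @Algebra.trdeg (S.residueField (f.base x')) (X.residueField x') _ _ (f.residueFieldMap x').hom.toAlgebra <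
      @Algebra.trdeg (S.residueField (f.base x)) (X.residueField x) _ _ (f.residueFieldMap x).hom.toAlgebra := by
  open Groth.Agent.Lib.Helper73 in
  have key : resTrdeg f x' < resTrdeg f x := by
    let s := f.base x'
    let π := f.fiberToSpecResidueField s
    have h : IsDimFun (trdegNat (k := S.residueField s) π) :=
      isDimFun_trdegNat (k := S.residueField s) π
    let z : f.fiber s := (f.fiberHomeo s).symm ⟨x, hfx⟩
    let z' : f.fiber s := f.asFiber x'
    have hz : f.fiberι s z = x := f.fiberι_fiberHomeo_symm s ⟨x, hfx⟩
    have hz' : f.fiberι s z' = x' := f.fiberι_asFiber x'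
    have hspec : z ⤳ z' := by
      rw [← (f.fiberι s).isEmbedding.isInducing.specializes_iff, hz, hz']
      exact hsp
    have hne' : z ≠ z' := by
      intro e
      apply hne
      rw [← hz, ← hz', e]
    have hlt := h.lt_of_specializes hspec hne'
    have e1 := trdegNat_fiber_eq_resTrdeg f s z
    have e2 := trdegNat_fiber_eq_resTrdeg f s z'
    rw [hz] at e1
    rw [hz'] at e2
    rw [← e1, ← e2]
    exact_mod_cast hlt
  exact key

end Groth.Agent.S9381
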