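import Groth.Statements.S9385
import Mathlib.AlgebraicGeometry.Properties
import Mathlib.RingTheory.LocalProperties.Reduced

set_option autoImplicit false
universe u
open SchDense

namespace Groth.Agent.S9385


section helpers

open AlgebraicGeometry CategoryTheory

theorem istd_toImage {Z X : Scheme.{u}} (h : Z ⟶ X) [QuasiCompact h] :
    IsSchemeTheoreticallyDominant h.toImage := by
  rw [isSchemeTheoreticallyDominant_iff]
  refine Scheme.IdealSheafData.ext_of_iSup_eq_top
    (fun U : X.affineOpens => ⟨h.imageι ⁻¹ᵁ U.1, U.2.preimage h.imageι⟩) ?_ ?_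
  · rw [eq_top_iff]
    intro x _
    obtain ⟨_, ⟨U : X.Opens, hU : IsAffineOpen U, rfl⟩, hxU, -⟩ :=
      X.isBasis_affineOpens.exists_subset_of_mem_open (Set.mem_univ (h.imageι.base x)) isOpen_univ
    exact TopologicalSpace.Opens.mem_iSup.mpr ⟨⟨U, hU⟩, hxU⟩
  · intro U
    rw [Scheme.Hom.ker_apply]
    exact (RingHom.injective_iff_ker_eq_bot _).mp (h.toImage_app_injective U)

/-- the common final step: given an open immersion which is scheme-theoretically dominant and
quasi-compact, it is scheme theoretically dense in every open. -/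
theorem istd_homOfLE_of_qc {Y : Scheme.{u}} (V : Y.Opens) [IsSchemeTheoreticallyDominant V.ι]
    [QuasiCompact V.ι] (W : Y.Opens) :
    IsSchemeTheoreticallyDominant (Y.homOfLE (inf_le_right : V ⊓ W ≤ W)) :=
  IsSchemeTheoreticallyDominant.of_isPullback (isPullback_opens_inf V W)

theorem caseA {Z X : Scheme.{u}} (h : Z ⟶ X) [IsImmersion h] [QuasiCompact h] :
    ∃ hI : IsOpenImmersion h.toImage,
      (∀ W : h.image.Opens, IsSchemeTheoreticallyDominant
          (h.image.homOfLE (inf_le_right : @Scheme.Hom.opensRange _ _ h.toImage hI ⊓ W ≤ W))) ∧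
        DenseRange h.toImage.base := by
  have hI : IsOpenImmersion h.toImage := inferInstance
  refine ⟨hI, ?_, h.toImage.denseRange⟩
  have := istd_toImage h
  have e : h.toImage.opensRange.ι = h.toImage.isoOpensRange.inv ≫ h.toImage :=
    (h.toImage.isoOpensRange_inv_comp).symm
  have h1 : IsSchemeTheoreticallyDominant h.toImage.opensRange.ι := by
    rw [e]; infer_instance
  have h2 : QuasiCompact h.toImage.opensRange.ι := by
    rw [e]; infer_instance
  intro W
  exact istd_homOfLE_of_qc _ W

theorem ker_isRadical {Z X : Scheme.{u}} (h : Z ⟶ X) [IsReduced Z] (U : X.affineOpens) :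
    (h.ker.ideal U).IsRadical := by
  have h1 : h.ker.radical ≤ Scheme.IdealSheafData.ofIdeals fun U ↦ RingHom.ker (h.app U).hom := by
    rw [Scheme.IdealSheafData.le_ofIdeals_iff]
    intro V s hs
    rw [Scheme.IdealSheafData.radical_ideal] at hs
    obtain ⟨n, hn⟩ := hs
    have h2 := h.ideal_ker_le V hn
    rw [RingHom.mem_ker, map_pow] at h2
    rw [RingHom.mem_ker]
    exact (IsNilpotent.mk _ _ h2).eq_zero
  intro s hs
  exact h1 U hs

theorem isReduced_image {Z X : Scheme.{u}} (h : Z ⟶ X) [IsReduced Z] : IsReduced h.image := by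
  have : ∀ U, IsReduced (h.ker.subschemeCover.openCover.X U) := by
    intro U
    have : _root_.IsReduced (Γ(X, U.1) ⧸ h.ker.ideal U) :=
      (Ideal.isRadical_iff_quotient_reduced _).mp (ker_isRadical h U)
    change IsReduced (Spec (.of (Γ(X, U.1) ⧸ h.ker.ideal U)))
    infer_instance
  exact IsReduced.of_openCover _ h.ker.subschemeCover.openCover

theorem vanishingIdeal_le_ker {Z X : Scheme.{u}} (h : Z ⟶ X) [IsReduced Z] :
    Scheme.IdealSheafData.vanishingIdeal ⟨closure (Set.range h.base), isClosed_closure⟩ ≤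
      h.ker := by
  rw [Scheme.Hom.ker, Scheme.IdealSheafData.le_ofIdeals_iff]
  intro W s hs
  rw [Scheme.IdealSheafData.vanishingIdeal_ideal, PrimeSpectrum.mem_vanishingIdeal] at hs
  rw [RingHom.mem_ker]
  apply eq_zero_of_basicOpen_eq_bot
  rw [← Scheme.preimage_basicOpen, eq_bot_iff]
  intro x hx
  have hxs : h.base x ∈ X.basicOpen s := hx
  have hxW : h.base x ∈ W.1 := X.basicOpen_le s hxs
  rw [← SetLike.mem_coe, ← W.2.range_fromSpec] at hxW
  obtain ⟨p, hp⟩ := hxW
  have hpZ : p ∈ W.2.fromSpec.base ⁻¹' (closure (Set.range h.base)) := by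
    change W.2.fromSpec.base p ∈ closure (Set.range h.base)
    rw [hp]
    exact subset_closure ⟨x, rfl⟩
  have h2 := hs p hpZ
  have h3 : p ∈ (W.2.fromSpec ⁻¹ᵁ X.basicOpen s) := by
    change W.2.fromSpec.base p ∈ X.basicOpen s
    rw [hp]; exact hxs
  rw [W.2.fromSpec_preimage_basicOpen] at h3
  exact (h3 h2).elim

theorem support_ker_eq {Z X : Scheme.{u}} (h : Z ⟶ X) [IsReduced Z] :
    (h.ker.support : Set X) = closure (Set.range h.base) := by
  apply subset_antisymm
  · have h1 := Scheme.IdealSheafData.support_antitone (vanishingIdeal_le_ker h)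
    have h2 : (h.ker.support : Set X) ⊆ ((Scheme.IdealSheafData.vanishingIdeal
        ⟨closure (Set.range h.base), isClosed_closure⟩).support : Set X) := h1
    rwa [Scheme.IdealSheafData.coe_support_vanishingIdeal] at h2
  · exact closure_minimal h.range_subset_ker_support h.ker.support.isClosed

theorem range_toImage {Z X : Scheme.{u}} (h : Z ⟶ X) :
    Set.range h.toImage.base = h.imageι.base ⁻¹' (Set.range h.base) := by
  ext z
  constructor
  · rintro ⟨x, rfl⟩
    exact ⟨x, by rw [← Scheme.Hom.comp_apply, h.toImage_imageι]⟩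
  · rintro ⟨x, hx⟩
    refine ⟨x, h.imageι.isEmbedding.injective ?_⟩
    rw [← Scheme.Hom.comp_apply, h.toImage_imageι, hx]

theorem isOpen_range_toImage {Z X : Scheme.{u}} (h : Z ⟶ X) [IsImmersion h] [IsReduced Z] :
    IsOpen (Set.range h.toImage.base) := by
  rw [range_toImage]
  obtain ⟨O, C', hO, hC', hOC⟩ := h.isLocallyClosed_range
  have h1 : h.imageι.base ⁻¹' (Set.range h.base) = h.imageι.base ⁻¹' O := by
    ext z
    have hz : h.imageι.base z ∈ C' := by
      have h2 : h.imageι.base z ∈ (h.ker.support : Set X) := by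
        rw [← Scheme.IdealSheafData.range_subschemeι]; exact ⟨z, rfl⟩
      rw [support_ker_eq] at h2
      have h3 : Set.range h.base ⊆ C' := by rw [hOC]; exact Set.inter_subset_right
      exact closure_minimal h3 hC' h2
    simp only [Set.mem_preimage]
    rw [hOC]
    exact ⟨fun hh => hh.1, fun hh => ⟨hh, hz⟩⟩
  rw [h1]
  exact hO.preimage h.imageι.continuous

theorem denseRange_toImage {Z X : Scheme.{u}} (h : Z ⟶ X) [IsReduced Z] :
    DenseRange h.toImage.base := by
  intro z
  rw [h.imageι.isEmbedding.isInducing.closure_eq_preimage_closure_image, range_toImage,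
    Set.image_preimage_eq_inter_range, Scheme.IdealSheafData.range_subschemeι]
  have h1 : Set.range h.base ∩ (h.ker.support : Set X) = Set.range h.base :=
    Set.inter_eq_left.mpr h.range_subset_ker_support
  rw [h1, Set.mem_preimage, ← support_ker_eq, ← Scheme.IdealSheafData.range_subschemeι]
  exact ⟨z, rfl⟩

theorem isOpenImmersion_toImage {Z X : Scheme.{u}} (h : Z ⟶ X) [IsImmersion h] [IsReduced Z] :
    IsOpenImmersion h.toImage := by
  have hred : IsReduced h.image := isReduced_image h
  let V : h.image.Opens := ⟨Set.range h.toImage.base, isOpen_range_toImage h⟩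
  have hr : Set.range h.toImage.base ⊆ Set.range V.ι.base := by
    rw [Scheme.Opens.range_ι]; rfl
  let g : Z ⟶ V := IsOpenImmersion.lift V.ι h.toImage hr
  have hg : g ≫ V.ι = h.toImage := IsOpenImmersion.lift_fac _ _ _
  have h1 : IsImmersion (g ≫ V.ι) := by rw [hg]; infer_instance
  have h2 : IsImmersion g := IsImmersion.of_comp g V.ι
  have hsurj : Function.Surjective g.base := by
    rintro ⟨v, x, rfl⟩
    refine ⟨x, Subtype.ext ?_⟩
    change V.ι.base (g.base x) = _
    rw [← Scheme.Hom.comp_apply, hg]
  have h3 : IsClosedImmersion g :=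
    IsClosedImmersion.of_isPreimmersion g (by rw [hsurj.range_eq]; exact isClosed_univ)
  have h4 : Surjective g := ⟨hsurj⟩
  have h5 : IsIso g := isIso_of_isClosedImmersion_of_surjective g
  rw [← hg]
  infer_instance

theorem caseB {Z X : Scheme.{u}} (h : Z ⟶ X) [IsImmersion h] [IsReduced Z] :
    ∃ hI : IsOpenImmersion h.toImage,
      (∀ W : h.image.Opens, IsSchemeTheoreticallyDominant
          (h.image.homOfLE (inf_le_right : @Scheme.Hom.opensRange _ _ h.toImage hI ⊓ W ≤ W))) ∧
        DenseRange h.toImage.base := by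
  have hI : IsOpenImmersion h.toImage := isOpenImmersion_toImage h
  have hred : IsReduced h.image := isReduced_image h
  refine ⟨hI, fun W => ?_, denseRange_toImage h⟩
  have hd : Dense (h.toImage.opensRange : Set h.image) := denseRange_toImage h
  have : IsDominant (h.image.homOfLE (inf_le_right : h.toImage.opensRange ⊓ W ≤ W)) := by
    constructor
    rw [DenseRange]
    refine Subtype.dense_iff.mpr ?_
    intro w hw
    have h1 : w ∈ (W : Set h.image) ∩ closure (h.toImage.opensRange : Set h.image) := ⟨hw, hd w⟩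
    have h2 := W.isOpen.inter_closure h1
    refine closure_mono ?_ h2
    rintro x ⟨hxW, hxU⟩
    have hx' : x ∈ h.toImage.opensRange ⊓ W := ⟨hxU, hxW⟩
    exact ⟨⟨x, hxW⟩, ⟨⟨x, hx'⟩, h.image.homOfLE_apply' inf_le_right x hx'⟩, rfl⟩
  exact IsSchemeTheoreticallyDominant.of_isDominant _

end helpers

open AlgebraicGeometry CategoryTheory in
/-- Let h : Z → X be an immersion, and suppose that either Z is reduced or h is quasi-compact. Write Z̄
⊆ X for the scheme-theoretic image of h. Then Z → Z̄ is an open immersion identifying Z with a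
scheme-theoretically dense (in the for-every-open sense) and topologically dense open subscheme of
Z̄. -/
theorem result {Z X : Scheme.{u}} (h : Z ⟶ X) [IsImmersion h]
    (hyp : QuasiCompact h ∨ IsReduced Z) :
    ∃ hI : IsOpenImmersion h.toImage,
      (∀ W : h.image.Opens, IsSchemeTheoreticallyDominant
          (h.image.homOfLE (inf_le_right : @Scheme.Hom.opensRange _ _ h.toImage hI ⊓ W ≤ W))) ∧
        DenseRange h.toImage.base := by
  rcases hyp with hqc | hred
  · exact caseA h
  · exact caseB h

end Groth.Agent.S9385
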