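import Groth.Statements.S9395
import Mathlib

set_option autoImplicit false
universe u
open CAlg Polynomial

namespace Groth.Agent.S9395

/-- For a Noetherian domain R, if the Laurent polynomial ring R[X, 1/X] (the localization of R[X] away
from X) is N-1, then R is N-1. -/
theorem result (R : Type u) [CommRing R] [IsDomain R] [IsNoetherianRing R]
    (S : Type u) [CommRing S] [IsDomain S] [Algebra (Polynomial R) S]
    [IsLocalization.Away (Polynomial.X : Polynomial R) S] (h : CAlg.IsN1 S) : CAlg.IsN1 R := by
  classical
  -- notation
  let K := FractionRing R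
  let L := FractionRing S
  have hX : Submonoid.powers (X : R[X]) ≤ nonZeroDivisors R[X] :=
    powers_le_nonZeroDivisors_of_noZeroDivisors X_ne_zero
  have hι1 : Function.Injective (algebraMap R[X] S) := IsLocalization.injective S hX
  let ι : R[X] →+* L := (algebraMap S L).comp (algebraMap R[X] S)
  have hι : Function.Injective ι := (IsFractionRing.injective S L).comp hι1
  let j : R →+* L := ι.comp C
  have hj : Function.Injective j := hι.comp C_injective
  let φ : K →+* L := IsFractionRing.lift hj
  have hφ : ∀ r : R, φ (algebraMap R K r) = j r := fun r => IsFractionRing.lift_algebraMap hj r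
  have hNoeth : IsNoetherianRing S := IsLocalization.isNoetherianRing (Submonoid.powers (X : R[X])) S
    inferInstance
  have hfin : Module.Finite S (integralClosure S L) := h
  have hNoethC : IsNoetherian S (integralClosure S L).toSubmodule :=
    isNoetherian_of_isNoetherianRing_of_finite S _
  let A : Set K := {r' | IsIntegral R r'}
  have hA : ∀ r' ∈ A, IsIntegral S (φ r') := by
    intro r' hr'
    refine IsIntegral.map_of_comp_eq ((algebraMap R[X] S).comp C) φ ?_ hr'
    ext r
    exact (hφ r).symm
  have hle : Submodule.span S (φ '' A) ≤ (integralClosure S L).toSubmodule := by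
    rw [Submodule.span_le]
    rintro _ ⟨r', hr', rfl⟩
    exact hA r' hr'
  have hfg : (Submodule.span S (φ '' A)).FG := isNoetherian_submodule.mp hNoethC _ hle
  obtain ⟨s', hs', hspan⟩ := (Submodule.fg_span_iff_fg_span_finset_subset _).mp hfg
  obtain ⟨T, hTA, rfl⟩ := Finset.subset_set_image_iff.mp hs'
  -- main claim
  have hmain : ∀ r' ∈ A, r' ∈ Submodule.span R (T : Set K) := by
    intro r' hr'
    have h1 : φ r' ∈ Submodule.span S (φ '' (T : Set K)) := by
      have : φ r' ∈ Submodule.span S (φ '' A) := Submodule.subset_span ⟨r', hr', rfl⟩
      rw [hspan] at this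
      simpa using this
    obtain ⟨t, htT, c, hc⟩ := (Submodule.mem_span_image_iff_exists_fun S).mp h1
    obtain ⟨⟨b, m, rfl⟩, hb⟩ := IsLocalization.exist_integer_multiples (Submonoid.powers (X : R[X]))
      (Finset.univ : Finset t) c
    choose p hp using fun i : t => hb i (Finset.mem_univ i)
    obtain ⟨d, hd⟩ := IsLocalization.exist_integer_multiples_of_finset (nonZeroDivisors R)
      (insert r' t : Finset K)
    obtain ⟨a0, ha0⟩ := hd r' (Finset.mem_insert_self _ _)
    choose a ha using fun i : t => hd i.1 (Finset.mem_insert_of_mem i.2)
    have hd0 : algebraMap R K (d : R) ≠ 0 := by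
      intro h0
      exact nonZeroDivisors.coe_ne_zero d (IsFractionRing.injective R K (h0.trans (map_zero _).symm))
    -- the identity in L
    have hp' : ∀ i : t, ι (p i) = ι (X ^ m) * algebraMap S L (c i) := by
      intro i
      change algebraMap S L (algebraMap R[X] S (p i)) = algebraMap S L (algebraMap R[X] S (X ^ m)) * _
      rw [hp i, Algebra.smul_def, map_mul]
    have ha' : ∀ i : t, j (a i) = j d * φ i := by
      intro i
      rw [← hφ, ha i, Algebra.smul_def, map_mul, hφ]
    have ha0' : j a0 = j d * φ r' := by
      rw [← hφ, ha0, Algebra.smul_def, map_mul, hφ]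
    have hL : ι (X ^ m * C a0) = ι (∑ i : t, p i * C (a i)) := by
      rw [map_mul, map_sum]
      change ι (X ^ m) * j a0 = _
      rw [ha0', ← hc, Finset.mul_sum, Finset.mul_sum]
      refine Finset.sum_congr rfl fun i _ => ?_
      rw [map_mul]
      change _ = ι (p i) * j (a i)
      rw [hp', ha', Algebra.smul_def]
      ring
    have hpoly := hι hL
    have heval := congrArg (Polynomial.eval 1) hpoly
    simp only [eval_mul, eval_pow, eval_X, one_pow, one_mul, eval_C, eval_finsetSum] at heval
    have hK : (d : R) • r' = (d : R) • ∑ i : t, (p i).eval 1 • (i : K) := by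
      rw [← ha0, heval, map_sum, Finset.smul_sum]
      refine Finset.sum_congr rfl fun i _ => ?_
      rw [map_mul, ha i]
      simp only [Algebra.smul_def]
      ring
    have hr : r' = ∑ i : t, (p i).eval 1 • (i : K) := by
      rw [Algebra.smul_def, Algebra.smul_def] at hK
      exact mul_left_cancel₀ hd0 hK
    rw [hr]
    exact Submodule.sum_mem _ fun i _ => Submodule.smul_mem _ _ (Submodule.subset_span (htT i.2))
  have heq : (integralClosure R K).toSubmodule = Submodule.span R (T : Set K) := by
    apply le_antisymm
    · intro x hx
      exact hmain x hx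
    · rw [Submodule.span_le]
      intro x hx
      exact hTA hx
  have : Module.Finite R (integralClosure R K).toSubmodule := by
    rw [Module.Finite.iff_fg, heq]
    exact Submodule.fg_span (Finset.finite_toSet _)
  exact this

end Groth.Agent.S9395
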