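import Groth.Statements.S9399
import Mathlib
import Groth.Agent.S9394

set_option autoImplicit false
universe u
open CAlg

namespace Groth.Agent.S9399

/-- Being universally Japanese can be checked on a finite cover of Spec R by principal opens. -/
theorem result (R : Type u) [CommRing R]
    {ι : Type u} [Finite ι] (f : ι → R) (hf : Ideal.span (Set.range f) = ⊤)
    (h : ∀ i, CAlg.IsUniversallyJapanese (Localization.Away (f i))) :
    CAlg.IsUniversallyJapanese R := by
  intro S _ _ _ hft
  let ι' : Type u := {i : ι // algebraMap R S (f i) ≠ 0}
  let g : ι' → S := fun i => algebraMap R S (f i.1)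
  have hg : Ideal.span (Set.range g) = ⊤ := by
    have h1 : Ideal.span (Set.range fun i => algebraMap R S (f i)) = ⊤ := by
      have := congrArg (Ideal.map (algebraMap R S)) hf
      rw [Ideal.map_span, Ideal.map_top, ← Set.range_comp] at this
      exact this
    rw [eq_top_iff, ← h1, Ideal.span_le]
    rintro _ ⟨i, rfl⟩
    by_cases hi : algebraMap R S (f i) = 0
    · simp only [hi]
      exact zero_mem _
    · exact Ideal.subset_span ⟨⟨i, hi⟩, rfl⟩
  have hdom : ∀ i : ι', IsDomain (Localization.Away (g i)) := fun i =>
    IsLocalization.isDomain_localization (powers_le_nonZeroDivisors_of_noZeroDivisors i.2)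
  apply Groth.Agent.S9394.result S g hg (fun i => Localization.Away (g i))
  intro i
  have hu : IsUnit (algebraMap R (Localization.Away (g i)) (f i.1)) := by
    rw [IsScalarTower.algebraMap_apply R S (Localization.Away (g i))]
    exact IsLocalization.Away.algebraMap_isUnit (g i)
  let _ : Algebra (Localization.Away (f i.1)) (Localization.Away (g i)) :=
    (IsLocalization.Away.lift (f i.1) hu).toAlgebra
  have htower : IsScalarTower R (Localization.Away (f i.1)) (Localization.Away (g i)) :=
    IsScalarTower.of_algebraMap_eq fun x => (IsLocalization.Away.lift_eq (f i.1) hu x).symm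
  have hft1 : Algebra.FiniteType S (Localization.Away (g i)) :=
    IsLocalization.finiteType_of_monoid_fg (Submonoid.powers (g i)) _
  have hft2 : Algebra.FiniteType R (Localization.Away (g i)) := Algebra.FiniteType.trans hft hft1
  have hft3 : Algebra.FiniteType (Localization.Away (f i.1)) (Localization.Away (g i)) :=
    Algebra.FiniteType.of_restrictScalars_finiteType R _ _
  exact h i.1 (Localization.Away (g i)) hft3

end Groth.Agent.S9399
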