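import Groth.Statements.S9403
import Mathlib.RingTheory.Filtration
import Mathlib.Tactic.LinearCombination
import Mathlib.Tactic.Ring

set_option autoImplicit false
universe u
open CAlg

namespace Groth.Agent.S9403

theorem aux (R : Type u) [CommRing R]
    (S : Type u) [CommRing S] [Algebra R S] [Algebra ℚ S]
    (f : S) (θ : Ω[S⁄R] →ₗ[S] S) (hθ : θ (KaehlerDifferential.D R S f) = 1)
    (x : S) (hx : x * f = 0) (n : ℕ) : ∃ y : S, x = f ^ n * y := by
  induction n with
  | zero => exact ⟨x, by simp⟩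
  | succ n ih =>
    obtain ⟨y, hy⟩ := ih
    have h0 : f ^ (n + 1) * y = 0 := by
      rw [pow_succ, mul_assoc, mul_comm f y, ← mul_assoc, ← hy, hx]
    have h1 : θ (KaehlerDifferential.D R S (f ^ (n + 1) * y)) = 0 := by
      rw [h0]; simp
    rw [Derivation.leibniz, Derivation.leibniz_pow, map_add, LinearMap.map_smul, LinearMap.map_smul,
      map_nsmul, LinearMap.map_smul, hθ, smul_eq_mul, smul_eq_mul, smul_eq_mul, mul_one,
      nsmul_eq_mul, Nat.add_sub_cancel] at h1
    have h2 : ((n + 1 : ℕ) : S) = algebraMap ℚ S ((n + 1 : ℕ) : ℚ) := by simp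
    have h3 : IsUnit ((n + 1 : ℕ) : S) := by
      rw [h2]
      apply IsUnit.map
      exact (Nat.cast_ne_zero.mpr (Nat.succ_ne_zero n)).isUnit
    obtain ⟨u, hu⟩ := h3
    refine ⟨-(↑u⁻¹ : S) * θ (KaehlerDifferential.D R S y), ?_⟩
    have h4 : (u : S) * x = -(f ^ (n + 1) * θ (KaehlerDifferential.D R S y)) := by
      rw [hu, hy]
      linear_combination h1
    calc x = (↑u⁻¹ : S) * ((u : S) * x) := by
            rw [← mul_assoc, Units.inv_mul, one_mul]
      _ = _ := by rw [h4]; ring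

theorem result (R : Type u) [CommRing R]
    (S : Type u) [CommRing S] [IsLocalRing S] [IsNoetherianRing S] [Algebra R S] [Algebra ℚ S]
    (f : S) (θ : Ω[S⁄R] →ₗ[S] S) (hθ : θ (KaehlerDifferential.D R S f) = 1) : f ∈ nonZeroDivisors S := by
  by_cases hf : IsUnit f
  · exact hf.mem_nonZeroDivisors
  rw [mem_nonZeroDivisors_iff_right]
  intro x hx
  have hI : Ideal.span {f} ≠ ⊤ := by
    rwa [Ne, Ideal.span_singleton_eq_top]
  have key := Ideal.iInf_pow_eq_bot_of_isLocalRing (Ideal.span {f}) hI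
  have hmem : x ∈ ⨅ i : ℕ, Ideal.span {f} ^ i := by
    rw [Ideal.mem_iInf]
    intro n
    obtain ⟨y, hy⟩ := aux R S f θ hθ x hx n
    rw [Ideal.span_singleton_pow, Ideal.mem_span_singleton]
    exact ⟨y, hy⟩
  rw [key] at hmem
  simpa using hmem

end Groth.Agent.S9403
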