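import Groth.Statements.S9404
import Mathlib.RingTheory.Spectrum.Prime.Homeomorph
import Mathlib.LinearAlgebra.TensorProduct.RightExactness
import Mathlib.RingTheory.Ideal.GoingUp
import Mathlib.RingTheory.Flat.Basic
import Mathlib.RingTheory.LocalRing.RingHom.Basic

set_option autoImplicit false
universe u
open CAlg

namespace Groth.Agent.S9404

open TensorProduct

theorem isLocalRing_tensor_right (k F K : Type u) [Field k] [Field F] [Field K] [Algebra k F]
    [Algebra k K] [IsPurelyInseparable k K] : IsLocalRing (F ⊗[k] K) := by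
  have hnt : Nontrivial (F ⊗[k] K) :=
    Algebra.TensorProduct.nontrivial_of_algebraMap_injective_of_flat_left k F K
      (algebraMap k K).injective
  have hhom := PrimeSpectrum.isHomeomorph_comap_of_isPurelyInseparable k K F
  have hsub : Subsingleton (PrimeSpectrum (F ⊗[k] K)) := hhom.bijective.injective.subsingleton
  obtain ⟨M, hM⟩ := Ideal.exists_maximal (F ⊗[k] K)
  refine IsLocalRing.of_unique_max_ideal ⟨M, hM, fun M' hM' => ?_⟩
  have := Subsingleton.elim (⟨M', hM'.isPrime⟩ : PrimeSpectrum _) ⟨M, hM.isPrime⟩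
  exact congrArg PrimeSpectrum.asIdeal this

theorem isLocalRing_tensor_left (k F K : Type u) [Field k] [Field F] [Field K] [Algebra k F]
    [Algebra k K] [IsPurelyInseparable k F] : IsLocalRing (F ⊗[k] K) := by
  have h1 : IsLocalRing (K ⊗[k] F) := isLocalRing_tensor_right k K F
  have hnt : Nontrivial (F ⊗[k] K) :=
    Algebra.TensorProduct.nontrivial_of_algebraMap_injective_of_flat_left k F K
      (algebraMap k K).injective
  exact IsLocalRing.of_surjective' (Algebra.TensorProduct.comm k K F : K ⊗[k] F →+* F ⊗[k] K)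
    (Algebra.TensorProduct.comm k K F).surjective

theorem result (A : Type u) [CommRing A]
    [IsLocalRing A] (B : Type u) [CommRing B] [IsLocalRing B] [Algebra A B]
    [IsLocalHom (algebraMap A B)] (C : Type u) [CommRing C] [IsLocalRing C] [Algebra A C]
    [IsLocalHom (algebraMap A C)] [Algebra.IsIntegral A C]
    (h : IsPurelyInseparable (IsLocalRing.ResidueField A) (IsLocalRing.ResidueField C) ∨
      IsPurelyInseparable (IsLocalRing.ResidueField A) (IsLocalRing.ResidueField B)) :
    IsLocalRing (B ⊗[A] C) ∧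
      IsLocalHom (Algebra.TensorProduct.includeLeft : B →ₐ[A] B ⊗[A] C).toRingHom ∧
      IsLocalHom (Algebra.TensorProduct.includeRight : C →ₐ[A] B ⊗[A] C).toRingHom := by
  let kA := IsLocalRing.ResidueField A
  let kB := IsLocalRing.ResidueField B
  let kC := IsLocalRing.ResidueField C
  -- the residue-field tensor product over kA is local
  have hL : IsLocalRing (kB ⊗[kA] kC) := by
    rcases h with h | h
    · exact isLocalRing_tensor_right kA kB kC
    · exact isLocalRing_tensor_left kA kB kC
  -- compatibility of scalar actions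
  haveI : TensorProduct.CompatibleSMul A kA kB kC := ⟨by
    intro r m n
    obtain ⟨a, rfl⟩ := IsLocalRing.residue_surjective r
    have e1 : (IsLocalRing.residue A a) • m = a • m := by
      rw [← IsLocalRing.ResidueField.algebraMap_eq, algebraMap_smul]
    have e2 : (IsLocalRing.residue A a) • n = a • n := by
      rw [← IsLocalRing.ResidueField.algebraMap_eq, algebraMap_smul]
    rw [e1, e2, TensorProduct.smul_tmul]⟩
  let e : kB ⊗[kA] kC ≃ₐ[A] kB ⊗[A] kC := Algebra.TensorProduct.equivOfCompatibleSMul A kA A kB kC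
  have hnt : Nontrivial (kB ⊗[A] kC) := e.injective.nontrivial
  have hT' : IsLocalRing (kB ⊗[A] kC) :=
    IsLocalRing.of_surjective' (e : kB ⊗[kA] kC →+* kB ⊗[A] kC) e.surjective
  -- the projection
  let rB : B →ₐ[A] kB := IsScalarTower.toAlgHom A B kB
  let rC : C →ₐ[A] kC := IsScalarTower.toAlgHom A C kC
  have hrB : Function.Surjective rB := IsLocalRing.residue_surjective
  have hrC : Function.Surjective rC := IsLocalRing.residue_surjective
  let π : B ⊗[A] C →ₐ[A] kB ⊗[A] kC := Algebra.TensorProduct.map rB rC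
  have hπsurj : Function.Surjective π := Algebra.TensorProduct.map_surjective rB rC hrB hrC
  have hkB : RingHom.ker rB = IsLocalRing.maximalIdeal B := IsLocalRing.ker_residue
  have hkC : RingHom.ker rC = IsLocalRing.maximalIdeal C := IsLocalRing.ker_residue
  have hπker : RingHom.ker π =
      (IsLocalRing.maximalIdeal B).map (Algebra.TensorProduct.includeLeft : B →ₐ[A] B ⊗[A] C) ⊔
      (IsLocalRing.maximalIdeal C).map (Algebra.TensorProduct.includeRight : C →ₐ[A] B ⊗[A] C) := by
    rw [Algebra.TensorProduct.map_ker rB rC hrB hrC, hkB, hkC]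
  have hntT : Nontrivial (B ⊗[A] C) := hπsurj.nontrivial
  -- every maximal ideal contains the kernel
  have hmax : ∀ M : Ideal (B ⊗[A] C), M.IsMaximal → RingHom.ker π ≤ M := by
    intro M hM
    rw [hπker, sup_le_iff, Ideal.map_le_iff_le_comap, Ideal.map_le_iff_le_comap]
    constructor
    · have h1 : (M.comap (algebraMap B (B ⊗[A] C))).IsMaximal :=
        Ideal.isMaximal_comap_of_isIntegral_of_isMaximal (R := B) M
      exact (IsLocalRing.eq_maximalIdeal h1).ge
    · have hP : (M.comap (Algebra.TensorProduct.includeRight : C →ₐ[A] B ⊗[A] C)).IsPrime :=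
        Ideal.comap_isPrime _ M
      have h1 : (M.comap (algebraMap B (B ⊗[A] C))).IsMaximal :=
        Ideal.isMaximal_comap_of_isIntegral_of_isMaximal (R := B) M
      have h2 : M.comap (algebraMap B (B ⊗[A] C)) = IsLocalRing.maximalIdeal B :=
        IsLocalRing.eq_maximalIdeal h1
      have h3 : (M.comap (Algebra.TensorProduct.includeRight : C →ₐ[A] B ⊗[A] C)).comap
          (algebraMap A C) = IsLocalRing.maximalIdeal A := by
        have e1 : (M.comap (Algebra.TensorProduct.includeRight : C →ₐ[A] B ⊗[A] C)).comap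
            (algebraMap A C) = (M.comap (algebraMap B (B ⊗[A] C))).comap (algebraMap A B) := by
          ext a
          simp only [Ideal.mem_comap, AlgHom.commutes]
          rw [← IsScalarTower.algebraMap_apply A B (B ⊗[A] C)]
        rw [e1, h2]
        exact ((IsLocalRing.local_hom_TFAE (algebraMap A B)).out 0 4 rfl rfl).mp inferInstance
      have h4 : (M.comap (Algebra.TensorProduct.includeRight : C →ₐ[A] B ⊗[A] C)).IsMaximal := by
        apply Ideal.isMaximal_of_isIntegral_of_isMaximal_comap (R := A)
        rw [h3]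
        exact IsLocalRing.maximalIdeal.isMaximal A
      exact (IsLocalRing.eq_maximalIdeal h4).ge
  -- π is a local homomorphism
  have hπloc : IsLocalHom (π : B ⊗[A] C →+* kB ⊗[A] kC) := by
    constructor
    intro a ha
    by_contra hna
    obtain ⟨M, hM, haM⟩ := exists_max_ideal_of_mem_nonunits hna
    have hker := hmax M hM
    have hmap : (M.map (π : B ⊗[A] C →+* kB ⊗[A] kC)) ≠ ⊤ := by
      intro htop
      have h1 : (M.map (π : B ⊗[A] C →+* kB ⊗[A] kC)).comap (π : B ⊗[A] C →+* kB ⊗[A] kC) = M := by
        rw [Ideal.comap_map_of_surjective (π : B ⊗[A] C →+* kB ⊗[A] kC) hπsurj]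
        exact sup_eq_left.mpr (by rw [← RingHom.ker_eq_comap_bot]; exact hker)
      rw [htop, Ideal.comap_top] at h1
      exact hM.ne_top h1.symm
    apply hmap
    exact Ideal.eq_top_of_isUnit_mem _ (Ideal.mem_map_of_mem _ haM) ha
  have hloc : IsLocalRing (B ⊗[A] C) :=
    RingHom.domain_isLocalRing (π : B ⊗[A] C →+* kB ⊗[A] kC)
  refine ⟨hloc, ?_, ?_⟩
  · constructor
    intro b hb
    by_contra hnb
    have hbm : b ∈ IsLocalRing.maximalIdeal B := (IsLocalRing.mem_maximalIdeal b).mpr hnb
    have : (Algebra.TensorProduct.includeLeft : B →ₐ[A] B ⊗[A] C) b ∈ RingHom.ker π := by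
      rw [hπker]
      exact Ideal.mem_sup_left (Ideal.mem_map_of_mem _ hbm)
    have h0 : π ((Algebra.TensorProduct.includeLeft : B →ₐ[A] B ⊗[A] C) b) = 0 := this
    have hu : IsUnit (π ((Algebra.TensorProduct.includeLeft : B →ₐ[A] B ⊗[A] C) b)) :=
      hb.map π
    rw [h0] at hu
    exact not_isUnit_zero hu
  · constructor
    intro c hc
    by_contra hnc
    have hcm : c ∈ IsLocalRing.maximalIdeal C := (IsLocalRing.mem_maximalIdeal c).mpr hnc
    have : (Algebra.TensorProduct.includeRight : C →ₐ[A] B ⊗[A] C) c ∈ RingHom.ker π := by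
      rw [hπker]
      exact Ideal.mem_sup_right (Ideal.mem_map_of_mem _ hcm)
    have h0 : π ((Algebra.TensorProduct.includeRight : C →ₐ[A] B ⊗[A] C) c) = 0 := this
    have hu : IsUnit (π ((Algebra.TensorProduct.includeRight : C →ₐ[A] B ⊗[A] C) c)) :=
      hc.map π
    rw [h0] at hu
    exact not_isUnit_zero hu

end Groth.Agent.S9404
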