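import Groth.Statements.S9406
import Groth.Agent.S0565
import Mathlib.RingTheory.Flat.FaithfullyFlat.Algebra
import Mathlib.RingTheory.RingHom.Flat
import Mathlib.RingTheory.Localization.AtPrime.Basic

set_option autoImplicit false
universe u
open CAlg

namespace Groth.Agent.S9406

/-- Regularity descends along faithfully flat ring maps: whenever S is a faithfully flat R-algebra whose
underlying ring is regular, the base ring R is regular as well. -/
theorem result (R : Type u) [CommRing R] (S : Type u) [CommRing S]
    [Algebra R S] [Module.FaithfullyFlat R S] [IsRegularRing S] : IsRegularRing R := by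
  have hnoeth : IsNoetherianRing R := by
    have h1 : IsNoetherian S (TensorProduct R S R) :=
      isNoetherian_of_linearEquiv (TensorProduct.AlgebraTensorModule.rid R S S).symm
    exact Submodule.IsNoetherian.of_isNoetherian_tensorProduct_of_faithfullyFlat h1
  rw [isRegularRing_iff]
  intro p hp
  obtain ⟨q, hq, hqp⟩ := Ideal.exists_isPrime_liesOver_of_faithfullyFlat (B := S) p
  have hpq : p = q.comap (algebraMap R S) := hqp.over
  have hflat : (Localization.localRingHom p q (algebraMap R S) hpq).Flat :=
    RingHom.Flat.localRingHom (f := algebraMap R S)
      ((RingHom.flat_algebraMap_iff).mpr inferInstance) q p hpq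
  letI : Algebra (Localization.AtPrime p) (Localization.AtPrime q) :=
    (Localization.localRingHom p q (algebraMap R S) hpq).toAlgebra
  have hloc : IsLocalHom (algebraMap (Localization.AtPrime p) (Localization.AtPrime q)) :=
    Localization.isLocalHom_localRingHom p q (algebraMap R S) hpq
  have hfl : Module.Flat (Localization.AtPrime p) (Localization.AtPrime q) := hflat
  exact Groth.Agent.S0565.result (Localization.AtPrime p) (Localization.AtPrime q)

end Groth.Agent.S9406
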