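import Groth.Statements.S9409
-- import your own Groth.Agent.* helpers here
import Mathlib

set_option autoImplicit false
universe u
open CAlg

namespace Groth.Agent.S9409

open CAlg
open TensorProduct

theorem exists_index_of_finset (k : Type u) [Field k] {ι : Type u}
    (K : ι → Type u) [∀ i, Field (K i)] [∀ i, Algebra (K i) k]
    (hdir : ∀ i j, ∃ l, Set.range (algebraMap (K i) k) ⊆ Set.range (algebraMap (K l) k) ∧
      Set.range (algebraMap (K j) k) ⊆ Set.range (algebraMap (K l) k))
    (hcov : ∀ x : k, ∃ i, x ∈ Set.range (algebraMap (K i) k)) (F : Finset k) :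
    ∃ i, ∀ x ∈ F, x ∈ Set.range (algebraMap (K i) k) := by
  classical
  induction F using Finset.induction_on with
  | empty =>
    obtain ⟨i, _⟩ := hcov 0
    exact ⟨i, fun x hx => absurd hx (Finset.notMem_empty x)⟩
  | insert a F _ ih =>
    obtain ⟨i, hi⟩ := ih
    obtain ⟨j, hj⟩ := hcov a
    obtain ⟨l, hl₁, hl₂⟩ := hdir i j
    refine ⟨l, fun x hx => ?_⟩
    rcases Finset.mem_insert.mp hx with rfl | hx
    · exact hl₂ hj
    · exact hl₁ (hi x hx)

theorem exists_descent {k₁ k k' : Type u} [Field k₁] [Field k] [Field k'] [Algebra k₁ k]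
    [Algebra k k'] [Algebra k₁ k'] [IsScalarTower k₁ k k'] {n : ℕ} (b : Module.Basis (Fin n) k k')
    (hmul : ∀ a a' c, b.repr (b a * b a') c ∈ Set.range (algebraMap k₁ k))
    (hone : ∀ c, b.repr 1 c ∈ Set.range (algebraMap k₁ k)) :
    ∃ L : IntermediateField k₁ k', FiniteDimensional k₁ L ∧ Nonempty (k ⊗[k₁] L ≃ₐ[k] k') := by
  classical
  let W : Submodule k₁ k' := Submodule.span k₁ (Set.range b)
  have hbW : ∀ c, b c ∈ W := fun c => Submodule.subset_span ⟨c, rfl⟩
  have hsum : ∀ (y : k'), (∀ c, b.repr y c ∈ Set.range (algebraMap k₁ k)) → y ∈ W := by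
    intro y hy
    rw [← b.sum_repr y]
    refine Submodule.sum_mem _ fun c _ => ?_
    obtain ⟨s, hs⟩ := hy c
    rw [← hs, algebraMap_smul]
    exact Submodule.smul_mem _ _ (hbW c)
  have h1 : (1 : k') ∈ W := hsum 1 hone
  have hmulW : ∀ x y, x ∈ W → y ∈ W → x * y ∈ W := by
    intro x y hx hy
    refine Submodule.span_induction ?_ ?_ ?_ ?_ hx
    · rintro _ ⟨a, rfl⟩
      refine Submodule.span_induction ?_ ?_ ?_ ?_ hy
      · rintro _ ⟨a', rfl⟩
        exact hsum _ (hmul a a')
      · rw [mul_zero]; exact Submodule.zero_mem _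
      · intro y₁ y₂ _ _ h₁ h₂
        rw [mul_add]; exact Submodule.add_mem _ h₁ h₂
      · intro s y₁ _ h₁
        rw [mul_smul_comm]; exact Submodule.smul_mem _ _ h₁
    · rw [zero_mul]; exact Submodule.zero_mem _
    · intro x₁ x₂ _ _ h₁ h₂
      rw [add_mul]; exact Submodule.add_mem _ h₁ h₂
    · intro s x₁ _ h₁
      rw [smul_mul_assoc]; exact Submodule.smul_mem _ _ h₁
  let L' : Subalgebra k₁ k' := W.toSubalgebra h1 hmulW
  have hL'fg : (Subalgebra.toSubmodule L').FG := by
    rw [Submodule.toSubalgebra_toSubmodule]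
    exact Submodule.fg_span (Set.finite_range b)
  have hint : ∀ x ∈ Set.range b, IsIntegral k₁ x := by
    rintro _ ⟨c, rfl⟩
    exact IsIntegral.of_mem_of_fg L' hL'fg _ (hbW c)
  let L : IntermediateField k₁ k' := IntermediateField.adjoin k₁ (Set.range b)
  have hLfin : FiniteDimensional k₁ L := IntermediateField.finiteDimensional_adjoin hint
  have hLW : ∀ x ∈ L, x ∈ W := by
    intro x hx
    have h2 : L.toSubalgebra = Algebra.adjoin k₁ (Set.range b) :=
      IntermediateField.adjoin_toSubalgebra_of_isAlgebraic fun y hy => (hint y hy).isAlgebraic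
    have h3 : x ∈ Algebra.adjoin k₁ (Set.range b) := h2 ▸ hx
    have h4 : Algebra.adjoin k₁ (Set.range b) ≤ L' :=
      Algebra.adjoin_le (by rintro _ ⟨c, rfl⟩; exact hbW c)
    exact h4 h3
  have hbL : ∀ c, b c ∈ L := fun c => IntermediateField.subset_adjoin _ _ ⟨c, rfl⟩
  refine ⟨L, hLfin, ?_⟩
  let Ψ : k ⊗[k₁] L →ₐ[k] k' :=
    Algebra.TensorProduct.lift (Algebra.ofId k k') (L.val) (fun x y => Commute.all _ _)
  have hΨsurj : Function.Surjective Ψ := by
    intro y
    refine ⟨∑ c, (b.repr y c) ⊗ₜ[k₁] (⟨b c, hbL c⟩ : L), ?_⟩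
    rw [map_sum]
    conv_rhs => rw [← b.sum_repr y]
    refine Finset.sum_congr rfl fun c _ => ?_
    rw [Algebra.TensorProduct.lift_tmul, Algebra.ofId_apply, Algebra.smul_def]
    rfl
  have hdim1 : Module.finrank k (k ⊗[k₁] L) = Module.finrank k₁ L := Module.finrank_baseChange
  have hdim2 : Module.finrank k₁ L ≤ n := by
    have hWfin : Module.Finite k₁ W := Module.Finite.span_of_finite k₁ (Set.finite_range b)
    have h5 : Module.finrank k₁ L ≤ Module.finrank k₁ W := by
      have hle : L.toSubalgebra.toSubmodule ≤ W := fun x hx => hLW x hx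
      exact Submodule.finrank_mono hle
    have h6 : Module.finrank k₁ W ≤ (Finset.univ : Finset (Fin n)).card := by
      have := finrank_span_finset_le_card (R := k₁) (Finset.univ.image b)
      rw [Finset.coe_image, Finset.coe_univ, Set.image_univ] at this
      exact this.trans (Finset.card_image_le)
    rw [Finset.card_univ, Fintype.card_fin] at h6
    exact h5.trans h6
  have hdim3 : Module.finrank k k' = n := by
    rw [Module.finrank_eq_card_basis b, Fintype.card_fin]
  have hfin1 : Module.Finite k (k ⊗[k₁] L) := Module.Finite.base_change k₁ k L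
  have hfin2 : Module.Finite k k' := Module.Finite.of_basis b
  have hdim4 : Module.finrank k k' ≤ Module.finrank k (k ⊗[k₁] L) :=
    LinearMap.finrank_le_finrank_of_surjective (f := Ψ.toLinearMap) hΨsurj
  have hdimeq : Module.finrank k (k ⊗[k₁] L) = Module.finrank k k' := by omega
  have hΨinj : Function.Injective Ψ :=
    (LinearMap.injective_iff_surjective_of_finrank_eq_finrank (f := Ψ.toLinearMap) hdimeq).mpr hΨsurj
  exact ⟨AlgEquiv.ofBijective Ψ ⟨hΨinj, hΨsurj⟩⟩

/-- Let k be a field written as a directed union of subfields k_i (given as fields mapping to k whose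
images form a directed family covering k) and A a Noetherian k-algebra. Geometric regularity of A
over every one of the k_i implies that A is also geometrically regular as a k-algebra. -/
theorem result (k : Type u) [Field k] {ι : Type u}
    (K : ι → Type u) [∀ i, Field (K i)] [∀ i, Algebra (K i) k]
    (hdir : ∀ i j, ∃ l, Set.range (algebraMap (K i) k) ⊆ Set.range (algebraMap (K l) k) ∧
      Set.range (algebraMap (K j) k) ⊆ Set.range (algebraMap (K l) k))
    (hcov : ∀ x : k, ∃ i, x ∈ Set.range (algebraMap (K i) k))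
    (A : Type u) [CommRing A] [Algebra k A] [IsNoetherianRing A] [∀ i, Algebra (K i) A]
    [∀ i, IsScalarTower (K i) k A] (h : ∀ i, CAlg.IsGeometricallyRegular (K i) A) :
    CAlg.IsGeometricallyRegular k A := by
  classical
  intro k' _ _ hfin
  let b : Module.Basis (Fin (Module.finrank k k')) k k' := Module.finBasis k k'
  let F : Finset k :=
    (Finset.univ.image fun abc : Fin (Module.finrank k k') × Fin (Module.finrank k k') ×
      Fin (Module.finrank k k') => b.repr (b abc.1 * b abc.2.1) abc.2.2) ∪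
    (Finset.univ.image fun c => b.repr 1 c)
  obtain ⟨i, hi⟩ := exists_index_of_finset k K hdir hcov F
  letI : Algebra (K i) k' := ((algebraMap k k').comp (algebraMap (K i) k)).toAlgebra
  haveI : IsScalarTower (K i) k k' := IsScalarTower.of_algebraMap_eq (fun _ => rfl)
  have hmul : ∀ a a' c, b.repr (b a * b a') c ∈ Set.range (algebraMap (K i) k) := by
    intro a a' c
    refine hi _ (Finset.mem_union_left _ (Finset.mem_image.mpr ⟨(a, a', c), Finset.mem_univ _, rfl⟩))
  have hone : ∀ c, b.repr 1 c ∈ Set.range (algebraMap (K i) k) := by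
    intro c
    exact hi _ (Finset.mem_union_right _ (Finset.mem_image.mpr ⟨c, Finset.mem_univ _, rfl⟩))
  obtain ⟨L, hLfin, ⟨e⟩⟩ := exists_descent (k₁ := K i) b hmul hone
  haveI hreg : IsRegularRing (L ⊗[K i] A) := h i L hLfin
  let e1 : L ⊗[K i] A ≃+* A ⊗[K i] L := (Algebra.TensorProduct.comm (K i) L A).toRingEquiv
  let e2 : A ⊗[k] (k ⊗[K i] L) ≃+* A ⊗[K i] L :=
    (Algebra.TensorProduct.cancelBaseChange (K i) k k A L).toRingEquiv
  let e3 : (k ⊗[K i] L) ⊗[k] A ≃+* A ⊗[k] (k ⊗[K i] L) :=
    (Algebra.TensorProduct.comm k (k ⊗[K i] L) A).toRingEquiv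
  let e4 : (k ⊗[K i] L) ⊗[k] A ≃+* k' ⊗[k] A :=
    (Algebra.TensorProduct.congr e (AlgEquiv.refl (R := k) (A₁ := A))).toRingEquiv
  exact IsRegularRing.of_ringEquiv (R := L ⊗[K i] A) (((e1.trans e2.symm).trans e3.symm).trans e4)

end Groth.Agent.S9409
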