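import Groth.Statements.S9410
-- import your own Groth.Agent.* helpers here
import Groth.Agent.Lib.Helper49.GeomRegFS7
import Mathlib

set_option autoImplicit false
universe u
open CAlg

namespace Groth.Agent.S9410

open CAlg
open TensorProduct IsLocalRing Groth.Agent.Lib.Helper49.GeomRegFS Groth.Agent.Lib.Helper49.FSRegular

/-- Given a separable algebraic field extension k'/k and a Noetherian k'-algebra A, geometric regularity
of A over k' is equivalent to geometric regularity of A over k. -/
theorem result (k : Type u) [Field k] (k' : Type u)
    [Field k'] [Algebra k k'] [Algebra.IsSeparable k k'] (A : Type u) [CommRing A] [Algebra k' A]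
    [Algebra k A] [IsScalarTower k k' A] [IsNoetherianRing A] :
    CAlg.IsGeometricallyRegular k A ↔ CAlg.IsGeometricallyRegular k' A := by
  haveI : Algebra.FormallyEtale k k' := Algebra.FormallyEtale.of_isSeparable k k'
  constructor
  · intro h
    apply isGeometricallyRegular_of_localization
    intro q _
    haveI : IsNoetherianRing (Localization.AtPrime q) :=
      IsLocalization.isNoetherianRing q.primeCompl _ inferInstance
    rw [isGeometricallyRegular_iff_isAdicFormallySmooth]
    apply isAdicFormallySmooth_of_formallyUnramified_tower (k := k)
    rw [← isGeometricallyRegular_iff_isAdicFormallySmooth]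
    exact isGeometricallyRegular_localization h q
  · intro h
    apply isGeometricallyRegular_of_localization
    intro q _
    haveI : IsNoetherianRing (Localization.AtPrime q) :=
      IsLocalization.isNoetherianRing q.primeCompl _ inferInstance
    rw [isGeometricallyRegular_iff_isAdicFormallySmooth]
    apply isAdicFormallySmooth_restrict (P := k) (k := k')
    rw [← isGeometricallyRegular_iff_isAdicFormallySmooth]
    exact isGeometricallyRegular_localization h q

end Groth.Agent.S9410
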