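import Groth.Statements.S9411
import Groth.Agent.Lib.Helper57.NormalRing
import Groth.Agent.Lib.Helper56.GeomReduced
import Mathlib.RingTheory.Artinian.Module
import Mathlib.RingTheory.Artinian.Ring
import Mathlib.RingTheory.TensorProduct.Pi
import Mathlib.RingTheory.TensorProduct.Maps
import Mathlib.FieldTheory.IntermediateField.Adjoin.Basic
import Mathlib.FieldTheory.Separable

set_option autoImplicit false
universe u
open EGA4

namespace Groth.Agent.S9411


open EGA4 TensorProduct Groth.Agent.Lib.Helper57

section P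
variable (F : Type u) [Field F] (C : Type u) [CommRing C] [Algebra F C] [Module.Finite F C]
  [IsReduced C] (A : Type u) [CommRing A] [Algebra F A]


/-- decomposition -/
noncomputable def tensorPiEquiv [IsArtinianRing C] [Fintype (MaximalSpectrum C)]
    [DecidableEq (MaximalSpectrum C)] :
    (A ⊗[F] C) ≃+* (∀ m : MaximalSpectrum C, A ⊗[F] (C ⧸ m.asIdeal)) :=
  ((Algebra.TensorProduct.congr (AlgEquiv.refl : A ≃ₐ[F] A)
    ((IsArtinianRing.equivPi C).restrictScalars F)).trans
      (Algebra.TensorProduct.piRight F F A (fun m : MaximalSpectrum C => C ⧸ m.asIdeal))).toRingEquiv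

theorem isNormalRing_tensor_of_forall (h : ∀ m : MaximalSpectrum C, IsNormalRing (A ⊗[F] (C ⧸ m.asIdeal))) :
    IsNormalRing (A ⊗[F] C) := by
  classical
  have : IsArtinianRing C := IsArtinianRing.of_finite F C
  have : Finite (MaximalSpectrum C) := inferInstance
  have := Fintype.ofFinite (MaximalSpectrum C)
  exact isNormalRing_of_ringEquiv (tensorPiEquiv F C A).symm (isNormalRing_pi _ h)

theorem isNormalRing_tensor_quot (h : IsNormalRing (A ⊗[F] C)) (m : MaximalSpectrum C) :
    IsNormalRing (A ⊗[F] (C ⧸ m.asIdeal)) := by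
  classical
  have : IsArtinianRing C := IsArtinianRing.of_finite F C
  have : Finite (MaximalSpectrum C) := inferInstance
  have := Fintype.ofFinite (MaximalSpectrum C)
  exact isNormalRing_of_pi _ (isNormalRing_of_ringEquiv (tensorPiEquiv F C A) h) m

end P

section Main
variable (k : Type u) [Field k] (k' : Type u) [Field k'] [Algebra k k']
  (A : Type u) [CommRing A] [Algebra k' A] [Algebra k A] [IsScalarTower k k' A]

/-- from `k'` down to `k` -/
theorem down (K : Type u) [Field K] [Algebra k K] [Module.Finite k K]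
    [IsReduced (k' ⊗[k] K)]
    (h : ∀ (L : Type u) [Field L] [Algebra k' L], Module.Finite k' L → IsNormalRing (L ⊗[k'] A)) :
    IsNormalRing (K ⊗[k] A) := by
  have h1 : IsNormalRing (A ⊗[k'] (k' ⊗[k] K)) := by
    apply isNormalRing_tensor_of_forall
    intro m
    let _ : Field ((k' ⊗[k] K) ⧸ m.asIdeal) := Ideal.Quotient.field m.asIdeal
    have hfin : Module.Finite k' ((k' ⊗[k] K) ⧸ m.asIdeal) := inferInstance
    have h2 := h ((k' ⊗[k] K) ⧸ m.asIdeal) hfin
    exact isNormalRing_of_ringEquiv
      (Algebra.TensorProduct.comm k' ((k' ⊗[k] K) ⧸ m.asIdeal) A).toRingEquiv h2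
  have h3 : IsNormalRing (A ⊗[k] K) :=
    isNormalRing_of_ringEquiv (Algebra.TensorProduct.cancelBaseChange k k' k' A K).toRingEquiv h1
  exact isNormalRing_of_ringEquiv (Algebra.TensorProduct.comm k A K).toRingEquiv h3

/-- from `k` up to `k'` -/
theorem up (K' : Type u) [Field K'] [Algebra k' K'] [Algebra k K'] [IsScalarTower k k' K']
    (K₀ : Type u) [Field K₀] [Algebra k K₀] [Algebra K₀ K'] [IsScalarTower k K₀ K']
    [Module.Finite k K₀] [IsReduced (k' ⊗[k] K₀)]
    (hsurj : Function.Surjective (Algebra.TensorProduct.lift (Algebra.ofId k' K')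
      (IsScalarTower.toAlgHom k K₀ K') (fun _ _ => Commute.all _ _)))
    (h : IsNormalRing (K₀ ⊗[k] A)) : IsNormalRing (K' ⊗[k'] A) := by
  have h1 : IsNormalRing (A ⊗[k] K₀) :=
    isNormalRing_of_ringEquiv (Algebra.TensorProduct.comm k K₀ A).toRingEquiv h
  have h2 : IsNormalRing (A ⊗[k'] (k' ⊗[k] K₀)) :=
    isNormalRing_of_ringEquiv
      (Algebra.TensorProduct.cancelBaseChange k k' k' A K₀).symm.toRingEquiv h1
  let μ : (k' ⊗[k] K₀) →ₐ[k'] K' := Algebra.TensorProduct.lift (Algebra.ofId k' K')
      (IsScalarTower.toAlgHom k K₀ K') (fun _ _ => Commute.all _ _)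
  have hmax : (RingHom.ker μ).IsMaximal := RingHom.ker_isMaximal_of_surjective μ hsurj
  have h3 : IsNormalRing (A ⊗[k'] ((k' ⊗[k] K₀) ⧸ RingHom.ker μ)) :=
    isNormalRing_tensor_quot k' (k' ⊗[k] K₀) A h2 ⟨RingHom.ker μ, hmax⟩
  have h4 : IsNormalRing (A ⊗[k'] K') :=
    isNormalRing_of_ringEquiv (Algebra.TensorProduct.congr (AlgEquiv.refl : A ≃ₐ[k'] A)
      (Ideal.quotientKerAlgEquivOfSurjective hsurj)).toRingEquiv h3
  exact isNormalRing_of_ringEquiv (Algebra.TensorProduct.comm k' A K').toRingEquiv h4

end Main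

/-- Let k'/k be a separable algebraic field extension and A a k'-algebra. Geometric normality of A over
k' is equivalent to geometric normality of A over k. -/
theorem result (k : Type u) [Field k] (k' : Type u) [Field k']
    [Algebra k k'] [Algebra.IsSeparable k k'] (A : Type u) [CommRing A] [Algebra k' A]
    [Algebra k A] [IsScalarTower k k' A] :
    EGA4.IsGeomNormal k A ↔ EGA4.IsGeomNormal k' A := by
  constructor
  · intro h K' _ _ hfin
    let _ : Algebra k K' := ((algebraMap k' K').comp (algebraMap k k')).toAlgebra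
    have : IsScalarTower k k' K' := IsScalarTower.of_algebraMap_eq' rfl
    have halg : Algebra.IsAlgebraic k K' := Algebra.IsAlgebraic.trans k k' K'
    obtain ⟨s, hs⟩ := Module.finite_def.1 hfin
    let K₀ : IntermediateField k K' := IntermediateField.adjoin k (s : Set K')
    have hfinK₀ : FiniteDimensional k K₀ :=
      IntermediateField.finiteDimensional_adjoin
        (fun x _ => (Algebra.IsAlgebraic.isAlgebraic x).isIntegral)
    have hred : IsReduced (k' ⊗[k] K₀) := by
      have h1 : IsReduced (K₀ ⊗[k] k') :=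
        Groth.Agent.Lib.Helper56.isReduced_tensor_of_isSeparable
      exact isReduced_of_injective (Algebra.TensorProduct.comm k k' K₀).toRingEquiv.toRingHom
        (Algebra.TensorProduct.comm k k' K₀).injective
    refine up k k' A K' K₀ ?_ (h K₀ hfinK₀)
    -- surjectivity
    intro y
    have hy : y ∈ Submodule.span k' (s : Set K') := hs ▸ Submodule.mem_top
    induction hy using Submodule.span_induction with
    | mem x hx =>
      refine ⟨(1 : k') ⊗ₜ[k] (⟨x, IntermediateField.subset_adjoin k _ hx⟩ : K₀), ?_⟩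
      simp
    | zero => exact ⟨0, map_zero _⟩
    | add x y _ _ hx hy =>
      obtain ⟨a, rfl⟩ := hx
      obtain ⟨b, rfl⟩ := hy
      exact ⟨a + b, map_add _ _ _⟩
    | smul c x _ hx =>
      obtain ⟨a, rfl⟩ := hx
      exact ⟨c • a, map_smul _ _ _⟩
  · intro h K _ _ hfin
    have hred : IsReduced (k' ⊗[k] K) := by
      have h1 : IsReduced (K ⊗[k] k') :=
        Groth.Agent.Lib.Helper56.isReduced_tensor_of_isSeparable
      exact isReduced_of_injective (Algebra.TensorProduct.comm k k' K).toRingEquiv.toRingHom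
        (Algebra.TensorProduct.comm k k' K).injective
    exact down k k' A K h

end Groth.Agent.S9411
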