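import Groth.Statements.S9412
import Groth.Agent.Lib.Helper57.NormalRing
import Mathlib.RingTheory.TensorProduct.Maps

set_option autoImplicit false
universe u
open EGA4

namespace Groth.Agent.S9412

/-- A localization of a geometrically normal algebra over a field k is geometrically normal over k. -/
theorem result (k : Type u) [Field k] (A : Type u) [CommRing A]
    [Algebra k A] (M : Submonoid A) (B : Type u) [CommRing B] [Algebra A B] [IsLocalization M B]
    [Algebra k B] [IsScalarTower k A B] (h : EGA4.IsGeomNormal k A) :
    EGA4.IsGeomNormal k B := by
  intro k' _ _ hfin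
  have h1 : EGA4.IsNormalRing (TensorProduct k k' A) := h k' hfin
  have h2 : EGA4.IsNormalRing (TensorProduct k A k') :=
    Groth.Agent.Lib.Helper57.isNormalRing_of_ringEquiv
      (Algebra.TensorProduct.comm k k' A).toRingEquiv h1
  let _ : Algebra (TensorProduct k A k') (TensorProduct A B (TensorProduct k A k')) :=
    Algebra.TensorProduct.rightAlgebra
  have hloc : IsLocalization (Algebra.algebraMapSubmonoid (TensorProduct k A k') M)
      (TensorProduct A B (TensorProduct k A k')) := IsLocalization.tensorRight B M
  have h3 : EGA4.IsNormalRing (TensorProduct A B (TensorProduct k A k')) :=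
    Groth.Agent.Lib.Helper57.isNormalRing_of_isLocalization
      (Algebra.algebraMapSubmonoid (TensorProduct k A k') M) _ h2
  have h4 : EGA4.IsNormalRing (TensorProduct k B k') :=
    Groth.Agent.Lib.Helper57.isNormalRing_of_ringEquiv
      (Algebra.TensorProduct.cancelBaseChange k A A B k').toRingEquiv h3
  exact Groth.Agent.Lib.Helper57.isNormalRing_of_ringEquiv
    (Algebra.TensorProduct.comm k B k').toRingEquiv h4

end Groth.Agent.S9412
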