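import Groth.Statements.S9414
import Groth.Agent.Lib.Helper25.KerCotangent
import Mathlib.RingTheory.Jacobson.Ring
import Mathlib.RingTheory.Etale.Basic

set_option autoImplicit false
universe u
open CAlg

namespace Groth.Agent.S9414

open TensorProduct in
theorem result (k : Type u) [Field k]
    [IsAlgClosed k] (S : Type u) [CommRing S] [Algebra k S] [Algebra.FiniteType k S]
    (m : Ideal S) [m.IsMaximal] :
    Module.finrank (S ⧸ m) ((S ⧸ m) ⊗[S] Ω[S⁄k]) = Module.finrank (S ⧸ m) m.Cotangent := by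
  letI : Field (S ⧸ m) := Ideal.Quotient.field m
  have hft : Algebra.FiniteType k (S ⧸ m) :=
    Algebra.FiniteType.of_surjective (Ideal.Quotient.mkₐ k m) (Ideal.Quotient.mkₐ_surjective k m)
  have hfin : Module.Finite k (S ⧸ m) := finite_of_finite_type_of_isJacobsonRing k (S ⧸ m)
  have hbij : Function.Bijective (algebraMap k (S ⧸ m)) :=
    IsAlgClosed.algebraMap_bijective_of_isIntegral
  let e : k ≃ₐ[k] (S ⧸ m) := AlgEquiv.ofBijective (Algebra.ofId k (S ⧸ m)) hbij
  have hsm : Algebra.FormallySmooth k (S ⧸ m) := Algebra.FormallySmooth.of_equiv e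
  have hsurj : Function.Surjective (algebraMap S (S ⧸ m)) := Ideal.Quotient.mk_surjective
  have hinj := Groth.Agent.Lib.Helper25.kerCotangentToTensor_injective_of_formallySmooth
    (R := k) (P := S) (S := S ⧸ m) hsurj
  have hsub : Subsingleton Ω[(S ⧸ m)⁄k] :=
    KaehlerDifferential.subsingleton_of_surjective k (S ⧸ m) hbij.2
  have hsurj2 : Function.Surjective (KaehlerDifferential.kerCotangentToTensor k S (S ⧸ m)) := by
    rw [← LinearMap.range_eq_top, KaehlerDifferential.range_kerCotangentToTensor k S (S ⧸ m) hsurj]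
    ext x
    simp only [Submodule.restrictScalars_mem, LinearMap.mem_ker, Submodule.mem_top, iff_true]
    exact Subsingleton.elim _ _
  obtain ⟨I, hI, f, hf⟩ : ∃ I : Ideal S, I = m ∧ ∃ f : I.Cotangent →ₗ[S] (S ⧸ m) ⊗[S] Ω[S⁄k],
      Function.Bijective f :=
    ⟨RingHom.ker (algebraMap S (S ⧸ m)), Ideal.mk_ker, _, hinj, hsurj2⟩
  subst hI
  let f' : I.Cotangent ≃ₗ[S] (S ⧸ I) ⊗[S] Ω[S⁄k] := LinearEquiv.ofBijective f hf
  exact (LinearEquiv.finrank_eq (f'.extendScalarsOfSurjective hsurj)).symm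

end Groth.Agent.S9414
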