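import Groth.Statements.S9415
import Groth.Agent.Lib.Helper25.KerCotangent
import Groth.Agent.Lib.Helper25.GeomRed

set_option autoImplicit false
universe u
open CAlg

namespace Groth.Agent.S9415

theorem result (k : Type u) [Field k] (R : Type u)
    [CommRing R] [IsLocalRing R] [IsNoetherianRing R] [Algebra k R]
    [Algebra.EssFiniteType k (IsLocalRing.ResidueField R)]
    [Algebra.IsGeometricallyReduced k (IsLocalRing.ResidueField R)] :
    Function.Injective
      (KaehlerDifferential.kerCotangentToTensor k R (IsLocalRing.ResidueField R)) := by
  have hsm : Algebra.FormallySmooth k (IsLocalRing.ResidueField R) :=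
    Groth.Agent.Lib.Helper25.formallySmooth_of_essFiniteType_of_isGeometricallyReduced k _
  exact Groth.Agent.Lib.Helper25.kerCotangentToTensor_injective_of_formallySmooth
    (R := k) (P := R) (S := IsLocalRing.ResidueField R) IsLocalRing.residue_surjective

end Groth.Agent.S9415
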