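import Groth.Statements.S9417
import Groth.Agent.Lib.Helper25.ColimFinite

set_option autoImplicit false
universe u
open CAlg

namespace Groth.Agent.S9417

open TensorProduct in
theorem result {ι : Type u} [Preorder ι] [IsDirected ι (· ≤ ·)] [Nonempty ι]
    (A₀ : Type u) [CommRing A₀] (G : ι → Type u) [∀ i, CommRing (G i)] [∀ i, Algebra A₀ (G i)]
    (f : ∀ i j, i ≤ j → (G i →ₐ[A₀] G j)) (A : Type u) [CommRing A] [Algebra A₀ A]
    (g : ∀ i, G i →ₐ[A₀] A) (hg : ∀ i j (h : i ≤ j), (g j).comp (f i j h) = g i)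
    (hsurj : ∀ a : A, ∃ i, ∃ x : G i, g i x = a)
    (hker : ∀ i (x : G i), g i x = 0 → ∃ j, ∃ h : i ≤ j, f i j h x = 0)
    (B₀ : Type u) [CommRing B₀] [Algebra A₀ B₀] (C₀ : Type u) [CommRing C₀] [Algebra A₀ C₀]
    [Algebra B₀ C₀] [IsScalarTower A₀ B₀ C₀] [Algebra.FiniteType B₀ C₀]
    (h : Module.Finite (B₀ ⊗[A₀] A) ((B₀ ⊗[A₀] A) ⊗[B₀] C₀)) :
    ∃ i, Module.Finite (B₀ ⊗[A₀] G i) ((B₀ ⊗[A₀] G i) ⊗[B₀] C₀) := by
  have h0 : (algebraMap (B₀ ⊗[A₀] A) ((B₀ ⊗[A₀] A) ⊗[B₀] C₀)).Finite :=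
    RingHom.finite_algebraMap.mpr h
  have h1 : (Groth.Agent.Lib.Helper25.phi A₀ B₀ C₀ A).toRingHom.Finite := by
    rw [← Groth.Agent.Lib.Helper25.theta_comp_algebraMap]
    exact RingHom.Finite.comp
      (RingHom.Finite.of_surjective _ (Groth.Agent.Lib.Helper25.theta A₀ B₀ C₀ A).surjective) h0
  obtain ⟨i, hi⟩ := Groth.Agent.Lib.Helper25.exists_index_phi_finite f g hg hsurj hker B₀ C₀ h1
  refine ⟨i, ?_⟩
  rw [← RingHom.finite_algebraMap]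
  have e : algebraMap (B₀ ⊗[A₀] G i) ((B₀ ⊗[A₀] G i) ⊗[B₀] C₀) =
      ((Groth.Agent.Lib.Helper25.theta A₀ B₀ C₀ (G i)).symm :
        C₀ ⊗[A₀] G i →+* (B₀ ⊗[A₀] G i) ⊗[B₀] C₀).comp
        (Groth.Agent.Lib.Helper25.phi A₀ B₀ C₀ (G i)).toRingHom := by
    refine RingHom.ext fun b => ?_
    change _ = (Groth.Agent.Lib.Helper25.theta A₀ B₀ C₀ (G i)).symm
      (Groth.Agent.Lib.Helper25.phi A₀ B₀ C₀ (G i) b)
    rw [← Groth.Agent.Lib.Helper25.theta_algebraMap, RingEquiv.symm_apply_apply]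
  rw [e]
  exact RingHom.Finite.comp
    (RingHom.Finite.of_surjective _ (Groth.Agent.Lib.Helper25.theta A₀ B₀ C₀ (G i)).symm.surjective)
    hi

end Groth.Agent.S9417
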