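import Groth.Statements.S9420
import Groth.Agent.Lib.Helper25.ColimBij

set_option autoImplicit false
universe u
open CAlg

namespace Groth.Agent.S9420

open TensorProduct in
theorem result {ι : Type u} [Preorder ι] [IsDirected ι (· ≤ ·)] [Nonempty ι]
    (A₀ : Type u) [CommRing A₀] (G : ι → Type u) [∀ i, CommRing (G i)] [∀ i, Algebra A₀ (G i)]
    (f : ∀ i j, i ≤ j → (G i →ₐ[A₀] G j)) (A : Type u) [CommRing A] [Algebra A₀ A]
    (g : ∀ i, G i →ₐ[A₀] A) (hg : ∀ i j (h : i ≤ j), (g j).comp (f i j h) = g i)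
    (hsurj : ∀ a : A, ∃ i, ∃ x : G i, g i x = a)
    (hker : ∀ i (x : G i), g i x = 0 → ∃ j, ∃ h : i ≤ j, f i j h x = 0)
    (B₀ : Type u) [CommRing B₀] [Algebra A₀ B₀] (C₀ : Type u) [CommRing C₀] [Algebra A₀ C₀]
    [Algebra B₀ C₀] [IsScalarTower A₀ B₀ C₀] [Algebra.FinitePresentation B₀ C₀]
    (h : Function.Bijective (algebraMap (B₀ ⊗[A₀] A) ((B₀ ⊗[A₀] A) ⊗[B₀] C₀))) :
    ∃ i, Function.Bijective (algebraMap (B₀ ⊗[A₀] G i) ((B₀ ⊗[A₀] G i) ⊗[B₀] C₀)) := by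
  have key : ∀ (H : Type u) [CommRing H] [Algebra A₀ H],
      Function.Bijective (algebraMap (B₀ ⊗[A₀] H) ((B₀ ⊗[A₀] H) ⊗[B₀] C₀)) ↔
      Function.Bijective (Groth.Agent.Lib.Helper25.phi A₀ B₀ C₀ H) := by
    intro H _ _
    have e : ⇑(Groth.Agent.Lib.Helper25.phi A₀ B₀ C₀ H) =
        ⇑(Groth.Agent.Lib.Helper25.theta A₀ B₀ C₀ H) ∘
          ⇑(algebraMap (B₀ ⊗[A₀] H) ((B₀ ⊗[A₀] H) ⊗[B₀] C₀)) := by
      funext b
      exact (Groth.Agent.Lib.Helper25.theta_algebraMap A₀ B₀ C₀ H b).symm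
    rw [e]
    exact (Function.Bijective.of_comp_iff' (Groth.Agent.Lib.Helper25.theta A₀ B₀ C₀ H).bijective _).symm
  obtain ⟨i, hi⟩ := Groth.Agent.Lib.Helper25.exists_index_phi_bijective f g hg hsurj hker B₀ C₀
    ((key A).mp h)
  exact ⟨i, (key (G i)).mpr hi⟩

end Groth.Agent.S9420
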