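import Groth.Statements.S9425
import Groth.Agent.S9424
import Groth.Agent.Lib.Helper25.DirLim

set_option autoImplicit false
universe u
open CAlg

namespace Groth.Agent.S9425

theorem result {ι : Type u} [Preorder ι] [IsDirected ι (· ≤ ·)] [Nonempty ι]
    (R : Type u) [CommRing R] (G : ι → Type u) [∀ i, CommRing (G i)] [∀ i, Algebra R (G i)]
    (f : ∀ i j, i ≤ j → (G i →ₐ[R] G j)) (S : Type u) [CommRing S] [Algebra R S]
    (g : ∀ i, G i →ₐ[R] S) (hg : ∀ i j (h : i ≤ j), (g j).comp (f i j h) = g i)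
    (hsurj : ∀ s : S, ∃ i, ∃ x : G i, g i x = s)
    (hker : ∀ i (x : G i), g i x = 0 → ∃ j, ∃ h : i ≤ j, f i j h x = 0)
    (h : ∀ i, Algebra.FormallyEtale R (G i)) : Algebra.FormallyEtale R S := by
  have hunr : Algebra.FormallyUnramified R S :=
    Groth.Agent.S9424.result R G f S g hg hsurj hker (fun i => inferInstance)
  rw [Algebra.FormallyEtale.iff_comp_bijective]
  intro B _ _ I hI
  refine ⟨Algebra.FormallyUnramified.comp_injective I hI, ?_⟩
  intro ψ
  have hlift : ∀ i, ∃ φ : G i →ₐ[R] B, (Ideal.Quotient.mkₐ R I).comp φ = ψ.comp (g i) :=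
    fun i => Algebra.FormallySmooth.comp_surjective R (G i) I hI (ψ.comp (g i))
  choose φ hφ using hlift
  have hcompat : ∀ i j (hij : i ≤ j), (φ j).comp (f i j hij) = φ i := by
    intro i j hij
    apply Algebra.FormallyUnramified.comp_injective I hI
    rw [← AlgHom.comp_assoc, hφ, hφ, AlgHom.comp_assoc, hg]
  obtain ⟨Φ, hΦ⟩ := Groth.Agent.Lib.Helper25.exists_algHom_of_compatible f g hg hsurj hker φ hcompat
  refine ⟨Φ, ?_⟩
  apply Groth.Agent.Lib.Helper25.algHom_ext_of_jointly_surjective g hsurj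
  intro i
  rw [AlgHom.comp_assoc, hΦ, hφ]

end Groth.Agent.S9425
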