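import Groth.Statements.S9427
import Groth.Agent.Lib.Helper57.UnivThick

set_option autoImplicit false
universe u
open OmegaSh

namespace Groth.Agent.S9427

open TensorProduct KaehlerDifferential Groth.Agent.Lib.Helper57

/-- Let R → A → B be ring maps with A → B formally unramified, and let B' → B be a universal first order
thickening of B relative to A (B a B'-algebra through it). Then A → B' is formally unramified, and
base changing to B the natural B'-linear map B' ⊗_A Ω_{A/R} → Ω_{B'/R} gives a bijection B ⊗_{B'}
(B' ⊗_A Ω_{A/R}) → B ⊗_{B'} Ω_{B'/R}. -/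
theorem result
    (R : Type u) [CommRing R] (A : Type u) [CommRing A] [Algebra R A] (B : Type u) [CommRing B]
    [Algebra A B] [Algebra.FormallyUnramified A B] (B' : Type u) [CommRing B'] [Algebra A B']
    [Algebra R B'] [IsScalarTower R A B'] [Algebra B' B] [IsScalarTower A B' B]
    (h : OmegaSh.IsUnivThickeningRing A B B' (IsScalarTower.toAlgHom A B' B)) :
    Algebra.FormallyUnramified A B' ∧
      Function.Bijective ((KaehlerDifferential.mapBaseChange R A B').baseChange B) := by
  have hFU : Algebra.FormallyUnramified A B' := UnivThick.formallyUnramified h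
  refine ⟨hFU, ?_, ?_⟩
  · -- injectivity: construct a retraction
    let _ : Algebra R B := ((algebraMap B' B).comp (algebraMap R B')).toAlgebra
    have : IsScalarTower R B' B := IsScalarTower.of_algebraMap_eq (fun _ => rfl)
    let X := B' ⊗[A] Ω[A⁄R]
    let M := B ⊗[B'] X
    let ι : Ω[A⁄R] →ₗ[A] M :=
      ((TensorProduct.mk B' B X 1).restrictScalars A) ∘ₗ (TensorProduct.mk A B' Ω[A⁄R] 1)
    have hι : ∀ ω, ι ω = (1 : B) ⊗ₜ[B'] ((1 : B') ⊗ₜ[A] ω) := fun ω => rfl
    let d₀ : Derivation R A M := ι.compDer (KaehlerDifferential.D R A)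
    have hM : ∀ x : B', (IsScalarTower.toAlgHom A B' B) x = 0 → ∀ m : M, x • m = 0 := by
      intro x hx m
      induction m using TensorProduct.induction_on with
      | zero => simp
      | tmul b y =>
        rw [TensorProduct.smul_tmul', Algebra.smul_def]
        have : algebraMap B' B x = 0 := hx
        rw [this, zero_mul, TensorProduct.zero_tmul]
      | add m₁ m₂ h₁ h₂ => rw [smul_add, h₁, h₂, add_zero]
    obtain ⟨Dv, hDv, -⟩ := UnivThick.existsUnique_derivation h hM d₀
    let r : B ⊗[B'] Ω[B'⁄R] →ₗ[B] M := LinearMap.liftBaseChange B Dv.liftKaehlerDifferential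
    let bc := (KaehlerDifferential.mapBaseChange R A B').baseChange B
    -- step 1: on generators
    have h1 : ∀ ω : Ω[A⁄R], r (bc ((1 : B) ⊗ₜ[B'] ((1 : B') ⊗ₜ[A] ω))) =
        (1 : B) ⊗ₜ[B'] ((1 : B') ⊗ₜ[A] ω) := by
      intro ω
      have hspan : ω ∈ Submodule.span A (Set.range (KaehlerDifferential.D R A)) := by
        rw [KaehlerDifferential.span_range_derivation]; trivial
      induction hspan using Submodule.span_induction with
      | mem x hx =>
        obtain ⟨a, rfl⟩ := hx
        show r (bc ((1 : B) ⊗ₜ[B'] ((1 : B') ⊗ₜ[A] (KaehlerDifferential.D R A a)))) = _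
        rw [LinearMap.baseChange_tmul, KaehlerDifferential.mapBaseChange_tmul, one_smul,
          KaehlerDifferential.map_D, LinearMap.liftBaseChange_tmul, one_smul,
          Derivation.liftKaehlerDifferential_comp_D, hDv]
        rfl
      | zero => simp
      | add x y _ _ hx hy =>
        rw [TensorProduct.tmul_add, TensorProduct.tmul_add, map_add, map_add, hx, hy]
      | smul a x _ hx =>
        have e1 : (1 : B) ⊗ₜ[B'] ((1 : B') ⊗ₜ[A] (a • x)) =
            (algebraMap A B a) • ((1 : B) ⊗ₜ[B'] ((1 : B') ⊗ₜ[A] x)) := by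
          rw [TensorProduct.tmul_smul, ← algebraMap_smul B' a ((1 : B') ⊗ₜ[A] x),
            TensorProduct.tmul_smul, IsScalarTower.algebraMap_apply A B' B a,
            algebraMap_smul B ((algebraMap A B') a)]
        rw [e1, map_smul, map_smul, hx]
    -- step 2
    have h2 : ∀ y : X, r (bc ((1 : B) ⊗ₜ[B'] y)) = (1 : B) ⊗ₜ[B'] y := by
      intro y
      induction y using TensorProduct.induction_on with
      | zero => simp
      | tmul b' ω =>
        have e2 : (1 : B) ⊗ₜ[B'] (b' ⊗ₜ[A] ω) =
            (algebraMap B' B b') • ((1 : B) ⊗ₜ[B'] ((1 : B') ⊗ₜ[A] ω)) := by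
          have e2' : b' ⊗ₜ[A] ω = b' • ((1 : B') ⊗ₜ[A] ω) := by
            rw [TensorProduct.smul_tmul', smul_eq_mul, mul_one]
          rw [e2', TensorProduct.tmul_smul, algebraMap_smul]
        rw [e2, map_smul, map_smul, h1]
      | add y₁ y₂ hy₁ hy₂ => rw [TensorProduct.tmul_add, map_add, map_add, hy₁, hy₂]
    -- step 3
    have h3 : ∀ m : M, r (bc m) = m := by
      intro m
      induction m using TensorProduct.induction_on with
      | zero => simp
      | tmul b y =>
        have e3 : b ⊗ₜ[B'] y = b • ((1 : B) ⊗ₜ[B'] y) := by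
          rw [TensorProduct.smul_tmul', smul_eq_mul, mul_one]
        rw [e3, map_smul, map_smul, h2]
      | add m₁ m₂ h₁ h₂ => rw [map_add, map_add, h₁, h₂]
    exact Function.LeftInverse.injective h3
  · -- surjectivity
    have hs : Function.Surjective (KaehlerDifferential.mapBaseChange R A B') := by
      rw [← LinearMap.range_eq_top, KaehlerDifferential.range_mapBaseChange, ← top_le_iff]
      exact fun x _ => Subsingleton.elim _ _
    rw [LinearMap.baseChange_eq_ltensor]
    exact LinearMap.lTensor_surjective B hs

end Groth.Agent.S9427
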