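import Groth.Statements.S9428
import Mathlib.RingTheory.Ideal.Quotient.PowTransition

set_option autoImplicit false
universe u
open CAlg

namespace Groth.Agent.S9428

theorem nilp_ker_factor {A : Type u} [CommRing A] (I : Ideal A) (n : ℕ) (hn : n ≠ 0) :
    IsNilpotent (RingHom.ker (Ideal.Quotient.factor (Ideal.pow_le_self hn : I ^ n ≤ I))) := by
  refine ⟨n, ?_⟩
  rw [Ideal.Quotient.factor_ker, ← Ideal.map_pow, Ideal.zero_eq_bot, Ideal.map_eq_bot_iff_le_ker,
    Ideal.mk_ker]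

theorem result (R : Type u) [CommRing R] (S : Type u)
    [CommRing S] [Algebra R S] [Algebra.FormallyEtale R S] (J : Ideal S)
    (hJ : Function.Surjective (algebraMap R (S ⧸ J))) (n : ℕ) :
    Function.Bijective (Ideal.quotientMap (J ^ n) (algebraMap R S)
      (le_of_le_of_eq (Ideal.le_comap_pow (algebraMap R S) n) rfl :
        (J.comap (algebraMap R S)) ^ n ≤ (J ^ n).comap (algebraMap R S))) := by
  set I : Ideal R := J.comap (algebraMap R S) with hI
  set q := Ideal.quotientMap (J ^ n) (algebraMap R S)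
      (le_of_le_of_eq (Ideal.le_comap_pow (algebraMap R S) n) rfl :
        I ^ n ≤ (J ^ n).comap (algebraMap R S)) with hq
  rcases Nat.eq_zero_or_pos n with hn | hn
  · subst hn
    have h1 : Subsingleton (R ⧸ I ^ 0) := by
      rw [pow_zero, Ideal.one_eq_top]; exact Ideal.Quotient.subsingleton_iff.mpr rfl
    have h2 : Subsingleton (S ⧸ J ^ 0) := by
      rw [pow_zero, Ideal.one_eq_top]; exact Ideal.Quotient.subsingleton_iff.mpr rfl
    exact ⟨fun _ _ _ => Subsingleton.elim _ _, fun b => ⟨0, Subsingleton.elim _ _⟩⟩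
  have hn0 : n ≠ 0 := Nat.pos_iff_ne_zero.mp hn
  -- the isomorphism R/I ≃ S/J
  let ρ : R ⧸ I →ₐ[R] S ⧸ J := Ideal.Quotient.liftₐ I (Algebra.ofId R (S ⧸ J)) (by
    intro a ha
    have : algebraMap R S a ∈ J := ha
    rw [Algebra.ofId_apply, IsScalarTower.algebraMap_apply R S (S ⧸ J), Ideal.Quotient.algebraMap_eq,
      Ideal.Quotient.eq_zero_iff_mem]
    exact this)
  have hρmk : ∀ r : R, ρ (Ideal.Quotient.mk I r) = algebraMap R (S ⧸ J) r := fun r => rfl
  have hρ : Function.Bijective ρ := by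
    constructor
    · rw [injective_iff_map_eq_zero]
      intro x hx
      obtain ⟨r, rfl⟩ := Ideal.Quotient.mk_surjective x
      rw [hρmk, IsScalarTower.algebraMap_apply R S (S ⧸ J), Ideal.Quotient.algebraMap_eq,
        Ideal.Quotient.eq_zero_iff_mem] at hx
      exact Ideal.Quotient.eq_zero_iff_mem.mpr hx
    · intro y
      obtain ⟨r, rfl⟩ := hJ y
      exact ⟨Ideal.Quotient.mk I r, hρmk r⟩
  let e : (R ⧸ I) ≃ₐ[R] (S ⧸ J) := AlgEquiv.ofBijective ρ hρ
  let ψ : S →ₐ[R] R ⧸ I := e.symm.toAlgHom.comp (Ideal.Quotient.mkₐ R J)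
  have hle : I ^ n ≤ I := Ideal.pow_le_self hn0
  let π : R ⧸ I ^ n →ₐ[R] R ⧸ I := Ideal.Quotient.factorₐ R hle
  have hπsurj : Function.Surjective π := Ideal.Quotient.factor_surjective hle
  have hπnil : IsNilpotent (RingHom.ker (π : R ⧸ I ^ n →+* R ⧸ I)) := nilp_ker_factor I n hn0
  let σ : S →ₐ[R] R ⧸ I ^ n := Algebra.FormallySmooth.liftOfSurjective ψ π hπsurj hπnil
  have hσ : ∀ x, π (σ x) = ψ x := Algebra.FormallySmooth.liftOfSurjective_apply ψ π hπsurj hπnil
  have hσJ : ∀ x ∈ J, σ x ∈ RingHom.ker (π : R ⧸ I ^ n →+* R ⧸ I) := by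
    intro x hx
    rw [RingHom.mem_ker]
    change π (σ x) = 0
    rw [hσ]
    change e.symm (Ideal.Quotient.mk J x) = 0
    rw [Ideal.Quotient.eq_zero_iff_mem.mpr hx, map_zero]
  have hkerpow : (RingHom.ker (π : R ⧸ I ^ n →+* R ⧸ I)) ^ n = ⊥ := by
    change (RingHom.ker (Ideal.Quotient.factor hle)) ^ n = ⊥
    rw [Ideal.Quotient.factor_ker, ← Ideal.map_pow, Ideal.map_eq_bot_iff_le_ker, Ideal.mk_ker]
  have hσJn : ∀ x ∈ J ^ n, σ x = 0 := by
    intro x hx
    have h1 : J ^ n ≤ ((RingHom.ker (π : R ⧸ I ^ n →+* R ⧸ I)) ^ n).comap (σ : S →+* R ⧸ I ^ n) := by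
      refine le_trans (Ideal.pow_right_mono (fun y hy => ?_) n) (Ideal.le_comap_pow _ n)
      exact hσJ y hy
    have := h1 hx
    rw [hkerpow] at this
    simpa using this
  let σ' : S ⧸ J ^ n →ₐ[R] R ⧸ I ^ n := Ideal.Quotient.liftₐ (J ^ n) σ hσJn
  have hqmk : ∀ r : R, q (Ideal.Quotient.mk (I ^ n) r) = Ideal.Quotient.mk (J ^ n) (algebraMap R S r) :=
    fun r => rfl
  have hleft : ∀ x, σ' (q x) = x := by
    intro x
    obtain ⟨r, rfl⟩ := Ideal.Quotient.mk_surjective x
    rw [hqmk]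
    change σ (algebraMap R S r) = _
    rw [AlgHom.commutes]
    rfl
  -- q as an algebra hom
  let q' : R ⧸ I ^ n →ₐ[R] S ⧸ J ^ n :=
    { q with
      commutes' := fun r => rfl }
  have hq' : ∀ x, q' x = q x := fun x => rfl
  have hleJ : J ^ n ≤ J := Ideal.pow_le_self hn0
  have hnilJ : IsNilpotent (RingHom.ker (Ideal.Quotient.factor hleJ)) := nilp_ker_factor J n hn0
  have hfac : ∀ y : R ⧸ I ^ n, Ideal.Quotient.factor hleJ (q y) = ρ (π y) := by
    intro y
    obtain ⟨r, rfl⟩ := Ideal.Quotient.mk_surjective y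
    rfl
  have hright0 : q'.comp σ = Ideal.Quotient.mkₐ R (J ^ n) := by
    apply Algebra.FormallyUnramified.ext' (Ideal.Quotient.factor hleJ) hnilJ
    intro x
    change Ideal.Quotient.factor hleJ (q (σ x)) = Ideal.Quotient.factor hleJ (Ideal.Quotient.mk (J ^ n) x)
    rw [hfac, hσ, Ideal.Quotient.factor_mk]
    change e (e.symm (Ideal.Quotient.mk J x)) = _
    rw [AlgEquiv.apply_symm_apply]
  have hright : ∀ y, q (σ' y) = y := by
    intro y
    obtain ⟨x, rfl⟩ := Ideal.Quotient.mk_surjective y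
    change q (σ x) = _
    exact DFunLike.congr_fun hright0 x
  exact ⟨Function.LeftInverse.injective hleft, Function.RightInverse.surjective hright⟩

end Groth.Agent.S9428
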