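import Groth.Statements.S9431
import Groth.Agent.Lib.Helper25.GeomRed
import Mathlib.RingTheory.Smooth.Locus
import Mathlib.RingTheory.FinitePresentation
import Mathlib.RingTheory.Localization.FractionRing
import Mathlib.RingTheory.Localization.Away.Basic

set_option autoImplicit false
universe u
open CAlg

namespace Groth.Agent.S9431

theorem result (k : Type u) [Field k]
    (K : Type u) [Field K] [Algebra k K] [Algebra.IsGeometricallyReduced k K] (E : Finset K) :
    ∃ A : Subalgebra k K, (↑E : Set K) ⊆ (A : Set K) ∧ Algebra.Smooth k A := by
  classical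
  let B : Subalgebra k K := Algebra.adjoin k (E : Set K)
  have hBfg : B.FG := Subalgebra.fg_adjoin_finset E
  have hBft : Algebra.FiniteType k B := (Subalgebra.fg_iff_finiteType B).mp hBfg
  have hBfp : Algebra.FinitePresentation k B := Algebra.FinitePresentation.of_finiteType.mp hBft
  let F := Localization.AtPrime (⊥ : Ideal B)
  have hfr : IsFractionRing B F := by
    simpa [Ideal.primeCompl_bot] using Localization.isLocalization (M := (⊥ : Ideal B).primeCompl)
  letI : Field F := IsFractionRing.toField B
  have hinjB : Function.Injective (B.val : B →ₐ[k] K) := Subtype.val_injective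
  let φ : F →ₐ[k] K := IsFractionRing.liftAlgHom (K := F) hinjB
  have hφ : Function.Injective φ := (φ : F →+* K).injective
  have hgr : Algebra.IsGeometricallyReduced k F := Algebra.IsGeometricallyReduced.of_injective φ hφ
  have hess : Algebra.EssFiniteType k F := inferInstance
  have hsm : Algebra.FormallySmooth k F :=
    Groth.Agent.Lib.Helper25.formallySmooth_of_essFiniteType_of_isGeometricallyReduced k F
  have hsmAt : Algebra.IsSmoothAt k (⊥ : Ideal B) := hsm
  obtain ⟨f, hf, hsmf⟩ := Algebra.IsSmoothAt.exists_notMem_smooth k (⊥ : Ideal B)
  have hf0 : f ≠ 0 := fun h => hf (by simp [h])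
  have hfK : IsUnit (B.val f) := by
    rw [isUnit_iff_ne_zero]
    intro h
    exact hf0 (hinjB (by simpa using h))
  let ψ : Localization.Away f →ₐ[k] K := IsLocalization.Away.liftAlgHom (S := Localization.Away f) f hfK
  have hψ : Function.Injective ψ := by
    change Function.Injective (IsLocalization.lift (M := Submonoid.powers f) _)
    rw [IsLocalization.lift_injective_iff]
    intro x y
    constructor
    · intro h
      have := congrArg ψ h
      simpa [ψ] using this
    · intro h
      have : x = y := hinjB h
      rw [this]
  refine ⟨ψ.range, ?_, ?_⟩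
  · intro e he
    refine ⟨algebraMap B (Localization.Away f) ⟨e, Algebra.subset_adjoin he⟩, ?_⟩
    simp [ψ]
  · exact Algebra.Smooth.of_equiv (AlgEquiv.ofInjective ψ hψ)

end Groth.Agent.S9431
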