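import Groth.Statements.S9433
import Mathlib
import Groth.Agent.Lib.Helper27.EtaleNbhd

set_option autoImplicit false
universe u
open CAlg

namespace Groth.Agent.S9433
open Polynomial

lemma isUnit_aeval_congr {R L : Type*} [CommRing R] [CommRing L] [IsLocalRing L] [Algebra R L]
    (x y : L) (hxy : x - y ∈ IsLocalRing.maximalIdeal L) (p : R[X]) :
    IsUnit (aeval x p) ↔ IsUnit (aeval y p) := by
  have hd : aeval x p - aeval y p ∈ IsLocalRing.maximalIdeal L := by
    rw [aeval_def, aeval_def, eval₂_eq_eval_map, eval₂_eq_eval_map]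
    obtain ⟨c, hc⟩ := Polynomial.sub_dvd_eval_sub x y (p.map (algebraMap R L))
    rw [hc]
    exact Ideal.mul_mem_right _ _ hxy
  rw [← not_iff_not, ← mem_nonunits_iff, ← mem_nonunits_iff, ← IsLocalRing.mem_maximalIdeal,
    ← IsLocalRing.mem_maximalIdeal]
  constructor
  · intro h
    have := Ideal.sub_mem _ h hd
    simpa using this
  · intro h
    have := Ideal.add_mem _ h hd
    simpa using this

lemma isUnit_mk_iff {R : Type*} [CommRing R] [IsLocalRing R] (J : Ideal R)
    (hJ : J ≤ IsLocalRing.maximalIdeal R) (c : R) :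
    IsUnit (Ideal.Quotient.mk J c) ↔ IsUnit c := by
  constructor
  · intro h
    obtain ⟨d, hd⟩ := h.exists_right_inv
    obtain ⟨d, rfl⟩ := Ideal.Quotient.mk_surjective d
    rw [← map_mul, ← map_one (Ideal.Quotient.mk J), Ideal.Quotient.eq] at hd
    have h1 : c * d - 1 ∈ IsLocalRing.maximalIdeal R := hJ hd
    by_contra hc
    have h2 : c ∈ IsLocalRing.maximalIdeal R := (IsLocalRing.mem_maximalIdeal c).mpr hc
    have h3 : (1 : R) ∈ IsLocalRing.maximalIdeal R := by
      have := Ideal.sub_mem _ (Ideal.mul_mem_right d _ h2) h1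
      simpa using this
    exact (IsLocalRing.maximalIdeal.isMaximal R).ne_top ((Ideal.eq_top_iff_one _).mpr h3)
  · intro h
    exact h.map _


/-- Let R → S be a local homomorphism of local rings with S the localization of an étale R-algebra at a
prime, inducing an isomorphism of residue fields. Then for some t in the maximal ideal of R the maps
R/t^nR → S/t^nS are bijective for all n ≥ 1. -/
theorem result (R : Type u) [CommRing R] [IsLocalRing R] (T : Type u) [CommRing T] [Algebra R T]
    [Algebra.Etale R T] (q : Ideal T) [q.IsPrime] (S : Type u) [CommRing S] [IsLocalRing S]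
    [Algebra T S] [IsLocalization.AtPrime S q] [Algebra R S] [IsScalarTower R T S]
    [IsLocalHom (algebraMap R S)]
    (hres : Function.Bijective (IsLocalRing.ResidueField.map (algebraMap R S))) :
    ∃ t ∈ IsLocalRing.maximalIdeal R, ∀ n : ℕ, 1 ≤ n →
      Function.Bijective (Ideal.quotientMap ((Ideal.span {t ^ n}).map (algebraMap R S))
        (algebraMap R S) Ideal.le_comap_map) := by
  classical
  obtain ⟨b, hbq, hstd⟩ := Algebra.IsEtaleAt.exists_isStandardEtale (R := R) q
  let P : StandardEtalePresentation R (Localization.Away b) :=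
    hstd.nonempty_standardEtalePresentation.some
  have hbS : IsUnit (algebraMap T S b) := IsLocalization.map_units S (⟨b, hbq⟩ : q.primeCompl)
  let ρ : Localization.Away b →ₐ[R] S :=
    IsLocalization.Away.liftAlgHom (f := IsScalarTower.toAlgHom R T S) b hbS
  have hρ : ∀ y : T, ρ (algebraMap T (Localization.Away b) y) = algebraMap T S y := by
    intro y
    exact IsLocalization.Away.lift_eq (S := Localization.Away b)
      (g := (IsScalarTower.toAlgHom R T S).toRingHom) b hbS y
  have hξ : P.HasMap (ρ P.x) := P.hasMap.map ρ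
  obtain ⟨c, hc⟩ := hres.2 (IsLocalRing.residue S (ρ P.x))
  obtain ⟨a, rfl⟩ := IsLocalRing.residue_surjective c
  have haξ : ρ P.x - algebraMap R S a ∈ IsLocalRing.maximalIdeal S := by
    rw [IsLocalRing.ResidueField.map_residue] at hc
    rw [← IsLocalRing.residue_eq_zero_iff, map_sub, hc, sub_self]
  have hunit_iff : ∀ p : R[X], IsUnit (aeval (ρ P.x) p) ↔ IsUnit (eval a p) := by
    intro p
    rw [isUnit_aeval_congr (ρ P.x) (algebraMap R S a) haξ p, aeval_algebraMap_apply,
      isUnit_map_iff, coe_aeval_eq_eval]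
  have ht : eval a P.f ∈ IsLocalRing.maximalIdeal R := by
    rw [IsLocalRing.mem_maximalIdeal, mem_nonunits_iff, ← hunit_iff, hξ.1]
    exact not_isUnit_zero
  have hga : IsUnit (eval a P.g) := (hunit_iff _).mp hξ.2
  refine ⟨eval a P.f, ht, fun n hn => ?_⟩
  set t := eval a P.f with htdef
  have hJ : Ideal.span {t ^ n} ≤ IsLocalRing.maximalIdeal R := by
    rw [Ideal.span_le, Set.singleton_subset_iff]
    exact Ideal.pow_mem_of_mem _ ht n (by omega)
  have hnt : Nontrivial (R ⧸ Ideal.span {t ^ n}) :=
    Ideal.Quotient.nontrivial_iff.mpr (fun h => (IsLocalRing.maximalIdeal.isMaximal R).ne_top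
      (top_le_iff.mp (h ▸ hJ)))
  have hloc : IsLocalRing (R ⧸ Ideal.span {t ^ n}) :=
    IsLocalRing.of_surjective' (Ideal.Quotient.mk _) Ideal.Quotient.mk_surjective
  have hnil : IsNilpotent (aeval (Ideal.Quotient.mk (Ideal.span {t ^ n}) a) P.f) := by
    refine ⟨n, ?_⟩
    have : aeval (Ideal.Quotient.mk (Ideal.span {t ^ n}) a) P.f =
        Ideal.Quotient.mk (Ideal.span {t ^ n}) t := by
      rw [htdef, ← coe_aeval_eq_eval, ← Ideal.Quotient.algebraMap_eq, ← aeval_algebraMap_apply]
    rw [this, ← map_pow]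
    exact Ideal.Quotient.eq_zero_iff_mem.mpr (Ideal.subset_span rfl)
  have hgunit : IsUnit (aeval (Ideal.Quotient.mk (Ideal.span {t ^ n}) a) P.g) := by
    have : aeval (Ideal.Quotient.mk (Ideal.span {t ^ n}) a) P.g =
        Ideal.Quotient.mk (Ideal.span {t ^ n}) (eval a P.g) := by
      rw [← coe_aeval_eq_eval, ← Ideal.Quotient.algebraMap_eq, ← aeval_algebraMap_apply]
    rw [this]
    exact hga.map _
  have hder : IsUnit (aeval (Ideal.Quotient.mk (Ideal.span {t ^ n}) a) (derivative P.f)) := by
    obtain ⟨p₁, p₂, N, e⟩ := P.cond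
    have e' := congrArg (aeval (Ideal.Quotient.mk (Ideal.span {t ^ n}) a)) e
    simp only [map_add, map_mul, map_pow] at e'
    have h1 : IsUnit (aeval (Ideal.Quotient.mk (Ideal.span {t ^ n}) a) (derivative P.f) *
        aeval (Ideal.Quotient.mk (Ideal.span {t ^ n}) a) p₁) := by
      have h2 : aeval (Ideal.Quotient.mk (Ideal.span {t ^ n}) a) (derivative P.f) *
          aeval (Ideal.Quotient.mk (Ideal.span {t ^ n}) a) p₁ =
          aeval (Ideal.Quotient.mk (Ideal.span {t ^ n}) a) P.g ^ N -
          aeval (Ideal.Quotient.mk (Ideal.span {t ^ n}) a) P.f *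
          aeval (Ideal.Quotient.mk (Ideal.span {t ^ n}) a) p₂ := by
        rw [← e']; ring
      rw [h2]
      rw [sub_eq_add_neg]
      exact IsNilpotent.isUnit_add_left_of_commute
        ((Commute.all _ _).isNilpotent_mul_right hnil).neg (hgunit.pow N) (Commute.all _ _)
    exact isUnit_of_mul_isUnit_left h1
  obtain ⟨r, ⟨hr1, hr2⟩, -⟩ := Polynomial.existsUnique_nilpotent_sub_and_aeval_eq_zero hnil hder
  have hr1' : IsNilpotent (r - Ideal.Quotient.mk (Ideal.span {t ^ n}) a) := by
    rw [← neg_sub]; exact hr1.neg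
  have hgr : IsUnit (aeval r P.g) :=
    isUnit_aeval_of_isUnit_aeval_of_isNilpotent_sub hgunit hr1'
  have hmap : P.HasMap r := ⟨hr2, hgr⟩
  let φ : Localization.Away b →ₐ[R] R ⧸ Ideal.span {t ^ n} :=
    (P.lift r hmap).comp P.equivRing.toAlgHom
  have hφx : φ P.x = r := by
    simp [φ]
  have hra : r - Ideal.Quotient.mk (Ideal.span {t ^ n}) a ∈
      IsLocalRing.maximalIdeal (R ⧸ Ideal.span {t ^ n}) := by
    rw [IsLocalRing.mem_maximalIdeal, mem_nonunits_iff]
    exact fun hu => hu.not_isNilpotent hr1'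
  have hK1 : ∀ y, IsUnit (φ y) ↔ IsUnit (ρ y) := by
    intro y
    obtain ⟨p, N, hp⟩ := P.exists_mul_aeval_x_g_pow_eq_aeval_x y
    have h1 := congrArg φ hp
    have h2 := congrArg ρ hp
    rw [map_mul, map_pow, ← aeval_algHom_apply, ← aeval_algHom_apply, hφx] at h1
    rw [map_mul, map_pow, ← aeval_algHom_apply, ← aeval_algHom_apply] at h2
    have e1 : IsUnit (φ y) ↔ IsUnit (aeval r p) := by
      rw [← h1]
      exact (IsUnit.mul_iff.trans (and_iff_left (hgr.pow N))).symm
    have e2 : IsUnit (ρ y) ↔ IsUnit (aeval (ρ P.x) p) := by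
      rw [← h2]
      exact (IsUnit.mul_iff.trans (and_iff_left (hξ.2.pow N))).symm
    rw [e1, e2, hunit_iff, isUnit_aeval_congr r _ hra p]
    have : aeval (Ideal.Quotient.mk (Ideal.span {t ^ n}) a) p =
        Ideal.Quotient.mk (Ideal.span {t ^ n}) (eval a p) := by
      rw [← coe_aeval_eq_eval, ← Ideal.Quotient.algebraMap_eq, ← aeval_algebraMap_apply]
    rw [this, isUnit_mk_iff _ hJ]
  obtain ⟨bn, hbn1, hbn2⟩ :=
    Groth.Agent.Lib.Helper27.EtaleNbhd.exists_mul_ker_le (Ideal.span {t ^ n}) φ
  have hbnS : IsUnit (ρ bn) := (hK1 bn).mp (by rw [hbn1]; exact isUnit_one)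
  have hψunit : ∀ s : q.primeCompl,
      IsUnit ((φ.comp (IsScalarTower.toAlgHom R T (Localization.Away b))) s) := by
    intro s
    change IsUnit (φ (algebraMap T _ (s : T)))
    rw [hK1, hρ]
    exact IsLocalization.map_units S s
  let ψ : S →ₐ[R] R ⧸ Ideal.span {t ^ n} :=
    IsLocalization.liftAlgHom (M := q.primeCompl)
      (f := φ.comp (IsScalarTower.toAlgHom R T (Localization.Away b))) hψunit
  have hψ : ∀ y : T, ψ (algebraMap T S y) = φ (algebraMap T _ y) := by
    intro y
    exact IsLocalization.lift_eq (M := q.primeCompl) (S := S)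
      (g := (φ.comp (IsScalarTower.toAlgHom R T (Localization.Away b))).toRingHom) hψunit y
  have hker : RingHom.ker ψ.toRingHom = (Ideal.span {t ^ n}).map (algebraMap R S) := by
    apply le_antisymm
    · intro s' hs'
      rw [RingHom.mem_ker] at hs'
      obtain ⟨⟨y', u⟩, hu⟩ := IsLocalization.surj q.primeCompl s'
      have h1 : φ (algebraMap T _ y') = 0 := by
        rw [← hψ, ← hu, map_mul]
        change ψ.toRingHom s' * _ = 0
        rw [hs', zero_mul]
      have h2 := hbn2 _ h1
      have h3 : ρ (bn * algebraMap T _ y') ∈ (Ideal.span {t ^ n}).map (algebraMap R S) := by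
        have hle : ((Ideal.span {t ^ n}).map (algebraMap R (Localization.Away b))).map
            ρ.toRingHom ≤ (Ideal.span {t ^ n}).map (algebraMap R S) := by
          rw [Ideal.map_map]
          apply le_of_eq
          congr 1
          exact ρ.comp_algebraMap
        exact hle (Ideal.mem_map_of_mem _ h2)
      rw [map_mul, hρ, ← hu] at h3
      have hu' : IsUnit (algebraMap T S u) := IsLocalization.map_units S u
      have h4 : ρ bn * algebraMap T S u * s' ∈ (Ideal.span {t ^ n}).map (algebraMap R S) := by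
        convert h3 using 1
        ring
      exact (Ideal.unit_mul_mem_iff_mem _ (hbnS.mul hu')).mp h4
    · rw [Ideal.map_le_iff_le_comap]
      intro i hi
      rw [Ideal.mem_comap, RingHom.mem_ker]
      change ψ (algebraMap R S i) = 0
      rw [AlgHom.commutes]
      exact Ideal.Quotient.eq_zero_iff_mem.mpr hi
  exact (Groth.Agent.Lib.Helper27.EtaleNbhd.quotientMap_bijective_of_ker
    (Ideal.span {t ^ n}) ψ hker).1

end Groth.Agent.S9433
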