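import Groth.Statements.S9453
import Groth.Agent.Lib.Helper48.SplitAlg
import Groth.Agent.Lib.Helper35.TensorPrime
import Mathlib.RingTheory.Finiteness.ModuleFinitePresentation
import Mathlib.RingTheory.Flat.Rank
import Mathlib.RingTheory.Localization.Ideal

set_option autoImplicit false
universe u
open CAlg

namespace Groth.Agent.S9453

/-- For a standard étale R-algebra S there is an R-algebra S' which is finite, finitely presented and
flat over R, with Spec S' → Spec R surjective, and such that for every prime q of S and every prime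
q' of S' lying over the same prime of R there are g' ∉ q' and an R-algebra map φ : S → S'_{g'} under
which the extension of q' pulls back to q. -/
theorem result (R : Type u) [CommRing R] (S : Type u)
    [CommRing S] [Algebra R S] [Algebra.IsStandardEtale R S] :
    ∃ (S' : Type u) (_ : CommRing S') (_ : Algebra R S'),
      Module.Finite R S' ∧ Algebra.FinitePresentation R S' ∧ Module.Flat R S' ∧
        Function.Surjective (PrimeSpectrum.comap (algebraMap R S')) ∧
        ∀ (q : Ideal S) [q.IsPrime] (q' : Ideal S') [q'.IsPrime], q'.under R = q.under R →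
          ∃ (g' : S') (_ : g' ∉ q') (φ : S →ₐ[R] Localization.Away g'),
            (q'.map (algebraMap S' (Localization.Away g'))).comap φ = q := by
  classical
  let P := (Algebra.IsStandardEtale.nonempty_standardEtalePresentation (R := R) (S := S)).some
  obtain ⟨S', _, _, hfin, hfree, hinj, α, hα⟩ :=
    Groth.Agent.Lib.Helper48.exists_splitting P.f.natDegree R P.f P.monic_f rfl
  have hflat : Module.Flat R S' := inferInstance
  have hfp : Algebra.FinitePresentation R S' := by
    have : Module.FinitePresentation R S' := Module.finitePresentation_of_projective R S'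
    exact Algebra.FinitePresentation.of_finitePresentation R S'
  refine ⟨S', inferInstance, inferInstance, hfin, hfp, hflat,
    PrimeSpectrum.comap_surjective_iff_injective_of_finite.mpr hinj, ?_⟩
  intro q _ q' _ hqq'
  obtain ⟨Q, hQ, hQl, hQr⟩ := Groth.Agent.Lib.Helper35.exists_prime_tensor (R := R) q q' hqq'.symm
  let Ω := (TensorProduct R S S') ⧸ Q
  let ι : S →ₐ[R] Ω := (Ideal.Quotient.mkₐ R Q).comp Algebra.TensorProduct.includeLeft
  let ι' : S' →ₐ[R] Ω := (Ideal.Quotient.mkₐ R Q).comp Algebra.TensorProduct.includeRight
  have hker : ∀ z, ι z = 0 ↔ z ∈ q := by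
    intro z
    rw [← hQl]
    exact Ideal.Quotient.eq_zero_iff_mem
  have hker' : ∀ z, ι' z = 0 ↔ z ∈ q' := by
    intro z
    rw [← hQr]
    exact Ideal.Quotient.eq_zero_iff_mem
  -- the image of x is one of the roots
  have hfΩ : P.f.map (algebraMap R Ω) = ∏ i, (Polynomial.X - Polynomial.C (ι' (α i))) := by
    have : algebraMap R Ω = (ι' : S' →+* Ω).comp (algebraMap R S') := by
      ext r; exact (ι'.commutes r).symm
    rw [this, ← Polynomial.map_map, hα, Polynomial.map_prod]
    simp
  have h1 : ∏ i, (ι P.x - ι' (α i)) = 0 := by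
    have h2 : Polynomial.aeval (ι P.x) P.f = 0 := by
      rw [Polynomial.aeval_algHom_apply, P.hasMap.1, map_zero]
    rw [Polynomial.aeval_def, ← Polynomial.eval_map, hfΩ, Polynomial.eval_prod] at h2
    simpa using h2
  obtain ⟨i, -, hi⟩ := Finset.prod_eq_zero_iff.mp h1
  have hxi : ι P.x = ι' (α i) := sub_eq_zero.mp hi
  let g' : S' := Polynomial.aeval (α i) P.g
  have hg'unit : IsUnit (ι' g') := by
    have : ι' g' = ι (Polynomial.aeval P.x P.g) := by
      rw [← Polynomial.aeval_algHom_apply, ← Polynomial.aeval_algHom_apply, hxi]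
    rw [this]
    exact P.hasMap.2.map ι
  have hg' : g' ∉ q' := by
    intro h
    rw [(hker' g').mpr h] at hg'unit
    exact not_isUnit_zero hg'unit
  have hroot : Polynomial.aeval (α i) P.f = 0 := by
    rw [Polynomial.aeval_def, ← Polynomial.eval_map, hα, Polynomial.eval_prod]
    exact Finset.prod_eq_zero (Finset.mem_univ i) (by simp)
  have hmap : P.HasMap (algebraMap S' (Localization.Away g') (α i)) := by
    refine ⟨?_, ?_⟩
    · rw [Polynomial.aeval_algebraMap_apply, hroot, map_zero]
    · rw [Polynomial.aeval_algebraMap_apply]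
      exact IsLocalization.Away.algebraMap_isUnit g'
  let φ : S →ₐ[R] Localization.Away g' := (P.lift _ hmap).comp P.equivRing.toAlgHom
  have hφx : φ P.x = algebraMap S' (Localization.Away g') (α i) := by
    change P.lift _ hmap (P.equivRing P.x) = _
    rw [P.equivRing_x, StandardEtalePair.lift_X]
  have hunits : ∀ y : Submonoid.powers g', IsUnit (ι' y) := by
    rintro ⟨y, n, rfl⟩
    rw [map_pow]
    exact hg'unit.pow n
  let ι'' : Localization.Away g' →ₐ[R] Ω := IsLocalization.liftAlgHom (M := Submonoid.powers g') hunits
  have hι'' : ∀ a : S', ι'' (algebraMap S' (Localization.Away g') a) = ι' a := by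
    intro a
    exact IsLocalization.lift_eq hunits a
  have hcomp : ι''.comp φ = ι := by
    apply P.hom_ext
    change ι'' (φ P.x) = ι P.x
    rw [hφx, hι'', hxi]
  have hkerι'' : ∀ y, ι'' y = 0 ↔ y ∈ q'.map (algebraMap S' (Localization.Away g')) := by
    intro y
    obtain ⟨a, s, rfl⟩ := IsLocalization.exists_mk'_eq (Submonoid.powers g') y
    rw [IsLocalization.mk'_mem_map_algebraMap_iff (Submonoid.powers g')]
    have h3 : ι'' (IsLocalization.mk' (Localization.Away g') a s) = 0 ↔ ι' a = 0 := by
      have h4 : ι'' (IsLocalization.mk' (Localization.Away g') a s) * ι' s = ι' a := by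
        rw [← hι'' s, ← map_mul, IsLocalization.mk'_spec, hι'']
      constructor
      · intro h; rw [← h4, h, zero_mul]
      · intro h
        rw [h] at h4
        exact (hunits s).mul_left_eq_zero.mp h4
    rw [h3, hker']
    constructor
    · intro h; exact ⟨1, one_mem _, by simpa using h⟩
    · rintro ⟨t, ⟨n, rfl⟩, h⟩
      rcases Ideal.IsPrime.mem_or_mem inferInstance h with h5 | h5
      · exact absurd (Ideal.IsPrime.mem_of_pow_mem inferInstance n h5) hg'
      · exact h5
  refine ⟨g', hg', φ, ?_⟩
  ext z
  rw [Ideal.mem_comap, ← hkerι'', ← hker]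
  rw [← hcomp]
  rfl

end Groth.Agent.S9453
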