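import Groth.Statements.S9434
import Groth.Agent.S9453
import Mathlib.RingTheory.Unramified.LocalStructure
import Mathlib.RingTheory.Flat.FaithfullyFlat.Algebra
import Mathlib.RingTheory.Localization.AtPrime.Basic

set_option autoImplicit false
universe u
open CAlg

namespace Groth.Agent.S9434

/-- Let R → S be a local homomorphism of local rings with S the localization of an étale R-algebra at a
prime. Then there is a finite, finitely presented, faithfully flat R-algebra S' such that for every
maximal ideal m' of S' the structure map R → S'_{m'} factors through some R-algebra map S → S'_{m'}. -/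
theorem result (R : Type u) [CommRing R] [IsLocalRing R] (T : Type u) [CommRing T] [Algebra R T]
    [Algebra.Etale R T] (q : Ideal T) [q.IsPrime] (S : Type u) [CommRing S] [IsLocalRing S]
    [Algebra T S] [IsLocalization.AtPrime S q] [Algebra R S] [IsScalarTower R T S]
    [IsLocalHom (algebraMap R S)] :
    ∃ (S' : Type u) (_ : CommRing S') (_ : Algebra R S'),
      Module.Finite R S' ∧ Algebra.FinitePresentation R S' ∧ Module.FaithfullyFlat R S' ∧
        ∀ (m' : Ideal S') [m'.IsMaximal], Nonempty (S →ₐ[R] Localization.AtPrime m') := by
  classical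
  -- `T` is standard etale near `q`
  have hEt : Algebra.IsEtaleAt R q := by
    have : Algebra.FormallyEtale T (Localization.AtPrime q) :=
      Algebra.FormallyEtale.of_isLocalization q.primeCompl
    exact Algebra.FormallyEtale.comp R T _
  obtain ⟨s, hsq, hstd⟩ := Algebra.IsEtaleAt.exists_isStandardEtale (R := R) q
  let A := Localization.Away s
  obtain ⟨S', _, _, hfin, hfp, hflat, hsurj, hkey⟩ := Groth.Agent.S9453.result R A
  have hff : Module.FaithfullyFlat R S' := Module.FaithfullyFlat.of_comap_surjective hsurj
  refine ⟨S', inferInstance, inferInstance, hfin, hfp, hff, ?_⟩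
  intro m' hm'
  -- the prime of `A` above `q`
  have hdisj : Disjoint (Submonoid.powers s : Set T) (q : Set T) := by
    rw [Set.disjoint_left]
    rintro _ ⟨n, rfl⟩ h
    exact hsq (Ideal.IsPrime.mem_of_pow_mem inferInstance n h)
  let qA : Ideal A := q.map (algebraMap T A)
  have hqA : qA.IsPrime := IsLocalization.isPrime_of_isPrime_disjoint (Submonoid.powers s) A q
    inferInstance hdisj
  have hqAcomap : qA.comap (algebraMap T A) = q :=
    IsLocalization.comap_map_of_isPrime_disjoint (Submonoid.powers s) A inferInstance hdisj
  -- both lie over the maximal ideal of `R`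
  have h1 : m'.under R = IsLocalRing.maximalIdeal R := by
    have : (m'.comap (algebraMap R S')).IsMaximal :=
      Ideal.isMaximal_comap_of_isIntegral_of_isMaximal m'
    exact IsLocalRing.eq_maximalIdeal this
  have h2 : qA.under R = IsLocalRing.maximalIdeal R := by
    have e1 : qA.under R = (qA.comap (algebraMap T A)).comap (algebraMap R T) := by
      rw [Ideal.under, Ideal.comap_comap, ← IsScalarTower.algebraMap_eq]
    rw [e1, hqAcomap]
    have e2 : q = (IsLocalRing.maximalIdeal S).comap (algebraMap T S) :=
      (IsLocalization.AtPrime.comap_maximalIdeal S q).symm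
    rw [e2, Ideal.comap_comap, ← IsScalarTower.algebraMap_eq]
    exact ((IsLocalRing.local_hom_TFAE (algebraMap R S)).out 0 4).mp ‹_›
  obtain ⟨g', hg', φ, hφ⟩ := hkey qA m' (h1.trans h2.symm)
  let B := Localization.AtPrime m'
  have hunitsg : ∀ y : Submonoid.powers g', IsUnit (IsScalarTower.toAlgHom R S' B y) := by
    rintro ⟨y, n, rfl⟩
    apply IsLocalization.map_units B (⟨g' ^ n, ?_⟩ : m'.primeCompl)
    intro h
    exact hg' (Ideal.IsPrime.mem_of_pow_mem inferInstance n h)
  let lam : Localization.Away g' →ₐ[R] B :=
    IsLocalization.liftAlgHom (M := Submonoid.powers g') hunitsg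
  have hlam : ∀ a : S', lam (algebraMap S' (Localization.Away g') a) = algebraMap S' B a := by
    intro a
    exact IsLocalization.lift_eq hunitsg a
  let f : T →ₐ[R] B := (lam.comp φ).comp (IsScalarTower.toAlgHom R T A)
  have hdisjm : Disjoint (m'.primeCompl : Set S') (m' : Set S') := by
    rw [Set.disjoint_left]
    intro x hx hx'
    exact hx hx'
  have hunits : ∀ y : q.primeCompl, IsUnit (f y) := by
    intro y
    by_contra hnu
    have hmem : f y ∈ IsLocalRing.maximalIdeal B := (IsLocalRing.mem_maximalIdeal _).mpr hnu
    rw [← Localization.AtPrime.map_eq_maximalIdeal] at hmem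
    -- write φ (y/1) as a fraction
    obtain ⟨a, t, hat⟩ := IsLocalization.exists_mk'_eq (Submonoid.powers g')
      (φ (algebraMap T A y))
    have h3 : f y * algebraMap S' B t = algebraMap S' B a := by
      change lam (φ (algebraMap T A y)) * _ = _
      rw [← hat, ← hlam, ← map_mul, IsLocalization.mk'_spec, hlam]
    have h4 : algebraMap S' B a ∈ m'.map (algebraMap S' B) := by
      rw [← h3]
      exact Ideal.mul_mem_right _ _ hmem
    have h5 : a ∈ m' := by
      have := IsLocalization.comap_map_of_isPrime_disjoint m'.primeCompl B
        (I := m') inferInstance hdisjm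
      rw [← this]
      exact h4
    have h6 : φ (algebraMap T A y) ∈ m'.map (algebraMap S' (Localization.Away g')) := by
      rw [← hat, IsLocalization.mk'_mem_map_algebraMap_iff (Submonoid.powers g')]
      exact ⟨1, one_mem _, by simpa using h5⟩
    have h7 : algebraMap T A y ∈ qA := by
      rw [← hφ]
      exact h6
    have h8 : (y : T) ∈ qA.comap (algebraMap T A) := h7
    rw [hqAcomap] at h8
    exact y.2 h8
  exact ⟨IsLocalization.liftAlgHom (M := q.primeCompl) (S := S) hunits⟩

end Groth.Agent.S9434
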