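import Groth.Statements.S9435
import Mathlib.RingTheory.Etale.StandardEtale
import Mathlib.FieldTheory.PrimitiveElement
import Mathlib.FieldTheory.Minpoly.IsIntegrallyClosed
import Mathlib.RingTheory.Localization.Integral

set_option autoImplicit false
universe u
open CAlg

namespace Groth.Agent.S9435

open Polynomial

theorem exists_monic_separable_lift (R : Type u) [CommRing R]
    (p : Ideal R) [p.IsPrime] (L : Type u) [Field L] [Algebra p.ResidueField L] [Algebra R L]
    [IsScalarTower R p.ResidueField L] [Module.Finite p.ResidueField L]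
    [Algebra.IsSeparable p.ResidueField L] :
    ∃ (f : R[X]) (β : L) (c : p.ResidueField) (α : L), f.Monic ∧ aeval β f = 0 ∧
      aeval β (derivative f) ≠ 0 ∧ c ≠ 0 ∧ β = c • α ∧
      IntermediateField.adjoin p.ResidueField {α} = ⊤ := by
  obtain ⟨α, hα⟩ := Field.exists_primitive_element p.ResidueField L
  have hαint : IsIntegral p.ResidueField α := Algebra.IsIntegral.isIntegral α
  set g := minpoly p.ResidueField α with hg
  have hgm : g.Monic := minpoly.monic hαint
  let M := nonZeroDivisors (R ⧸ p)
  set d := IsLocalization.commonDenom M g.support g.coeff with hd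
  set c : p.ResidueField := algebraMap (R ⧸ p) p.ResidueField d with hc
  have hc0 : c ≠ 0 := by
    rw [hc]
    exact IsFractionRing.to_map_ne_zero_of_mem_nonZeroDivisors d.2
  have hq := IsLocalization.scaleRoots_commonDenom_mem_lifts M g (by
    rw [hgm.leadingCoeff]; exact one_mem _)
  rw [← hd, ← hc] at hq
  have hqmin : minpoly p.ResidueField (c • α) = g.scaleRoots c :=
    IsIntegrallyClosed.minpoly_smul hc0 hαint
  have hqm : (g.scaleRoots c).Monic := (monic_scaleRoots_iff c).mpr hgm
  have hq' : g.scaleRoots c ∈ Polynomial.lifts (algebraMap R p.ResidueField) := by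
    rw [Polynomial.lifts_iff_coeff_lifts] at hq ⊢
    intro n
    obtain ⟨a, ha⟩ := hq n
    obtain ⟨a, rfl⟩ := Ideal.Quotient.mk_surjective a
    exact ⟨a, by rw [← ha]; rfl⟩
  obtain ⟨f, hf1, -, hf2⟩ := Polynomial.lifts_and_natDegree_eq_and_monic hq' hqm
  refine ⟨f, c • α, c, α, hf2, ?_, ?_, hc0, rfl, hα⟩
  · rw [← aeval_map_algebraMap p.ResidueField, hf1, ← hqmin]
    exact minpoly.aeval _ _
  · rw [← aeval_map_algebraMap p.ResidueField, ← derivative_map, hf1, ← hqmin]
    have hsep : (minpoly p.ResidueField (c • α)).Separable :=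
      Algebra.IsSeparable.isSeparable p.ResidueField (c • α)
    exact hsep.aeval_derivative_ne_zero (minpoly.aeval _ _)

theorem result (R : Type u) [CommRing R]
    (p : Ideal R) [p.IsPrime] (L : Type u) [Field L] [Algebra p.ResidueField L] [Algebra R L]
    [IsScalarTower R p.ResidueField L] [Module.Finite p.ResidueField L]
    [Algebra.IsSeparable p.ResidueField L] :
    ∃ (R' : Type u) (_ : CommRing R') (_ : Algebra R R') (_ : Algebra.Etale R R') (ψ : R' →ₐ[R] L),
      Subfield.closure (Set.range ψ) = ⊤ := by
  obtain ⟨f, β, c, α, hfm, hfβ, hfβ', hc0, hβ, hα⟩ := exists_monic_separable_lift R p L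
  let P : StandardEtalePair R := ⟨f, hfm, derivative f, 1, 0, 1, by simp⟩
  have hmap : P.HasMap β := ⟨hfβ, IsUnit.mk0 _ hfβ'⟩
  refine ⟨P.Ring, inferInstance, inferInstance, inferInstance, P.lift β hmap, ?_⟩
  set K' := Subfield.closure (Set.range (P.lift β hmap)) with hK'
  have hR : ∀ r : R, algebraMap R L r ∈ K' := by
    intro r
    apply Subfield.subset_closure
    exact ⟨algebraMap R P.Ring r, by simp⟩
  have hκ : ∀ x : p.ResidueField, algebraMap p.ResidueField L x ∈ K' := by
    intro x
    obtain ⟨a, b, hb, rfl⟩ := IsFractionRing.div_surjective (A := R ⧸ p) x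
    obtain ⟨a, rfl⟩ := Ideal.Quotient.mk_surjective a
    obtain ⟨b, rfl⟩ := Ideal.Quotient.mk_surjective b
    rw [map_div₀]
    apply K'.div_mem
    · have : algebraMap p.ResidueField L (algebraMap (R ⧸ p) p.ResidueField (Ideal.Quotient.mk p a))
          = algebraMap R L a := by
        rw [IsScalarTower.algebraMap_apply R p.ResidueField L]
        rfl
      rw [this]; exact hR a
    · have : algebraMap p.ResidueField L (algebraMap (R ⧸ p) p.ResidueField (Ideal.Quotient.mk p b))
          = algebraMap R L b := by
        rw [IsScalarTower.algebraMap_apply R p.ResidueField L]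
        rfl
      rw [this]; exact hR b
  have hβK : β ∈ K' := by
    apply Subfield.subset_closure
    exact ⟨P.X, by simp⟩
  have hαK : α ∈ K' := by
    have : α = (algebraMap p.ResidueField L c)⁻¹ * β := by
      rw [hβ, Algebra.smul_def, ← mul_assoc, inv_mul_cancel₀, one_mul]
      simpa using hc0
    rw [this]
    exact K'.mul_mem (K'.inv_mem (hκ c)) hβK
  let K'' : IntermediateField p.ResidueField L := Subfield.toIntermediateField K' hκ
  have : (⊤ : IntermediateField p.ResidueField L) ≤ K'' := by
    rw [← hα, IntermediateField.adjoin_simple_le_iff]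
    exact hαK
  rw [eq_top_iff]
  intro x _
  exact this (IntermediateField.mem_top (x := x))

end Groth.Agent.S9435
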