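import Groth.Statements.S9440
import Groth.Agent.Lib.Helper38.AnalUnram
import Groth.Agent.Lib.Helper38.LocalSub
import Groth.Agent.Lib.Helper38.ComplNagata
import Groth.Agent.S2072

set_option autoImplicit false
universe u
open CAlg

namespace Groth.Agent.S9440

/-- (1) ⇔ (3): a Noetherian local ring R is a Nagata ring if and only if for every finite local
homomorphism R → S of local rings with S a domain, the completion of S is reduced. -/
theorem result (R : Type u) [CommRing R]
    [IsLocalRing R] [IsNoetherianRing R] :
    CAlg.IsNagata R ↔ ∀ (S : Type u) [CommRing S] [IsDomain S] [IsLocalRing S] [Algebra R S]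
      [IsLocalHom (algebraMap R S)] [Module.Finite R S],
      IsReduced (AdicCompletion (IsLocalRing.maximalIdeal S) S) := by
  constructor
  · intro hR S _ _ _ _ _ _
    exact Groth.Agent.Lib.Helper38.AnalUnram.isReduced_adicCompletion_of_finite hR S _
  · intro hH
    refine ⟨inferInstance, fun p hp => ?_⟩
    have hloc : IsLocalRing (R ⧸ p) :=
      IsLocalRing.of_surjective' (Ideal.Quotient.mk p) Ideal.Quotient.mk_surjective
    by_cases hfield : IsLocalRing.maximalIdeal (R ⧸ p) = ⊥
    · have hF : IsField (R ⧸ p) := IsLocalRing.isField_iff_maximalIdeal_eq.mpr hfield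
      let _ : Field (R ⧸ p) := hF.toField
      exact Groth.Agent.Lib.Helper38.ComplNagata.isN2_field (R ⧸ p)
    · intro L _ _ _ _ hfd
      obtain ⟨S, hSfin, hfrac, hlocal, hnonunit⟩ :=
        Groth.Agent.Lib.Helper38.LocalSub.exists_local_subalgebra (R ⧸ p) hfield L
      let _ : Algebra R S := ((algebraMap (R ⧸ p) S).comp (Ideal.Quotient.mk p)).toAlgebra
      have hst : IsScalarTower R (R ⧸ p) S := IsScalarTower.of_algebraMap_eq (fun _ => rfl)
      have hfinRS : Module.Finite R S := Module.Finite.trans (R ⧸ p) S
      have hlh : IsLocalHom (algebraMap R S) := by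
        refine ⟨fun r hr => ?_⟩
        by_contra hru
        have hrm : r ∈ IsLocalRing.maximalIdeal R := (IsLocalRing.mem_maximalIdeal r).mpr hru
        have hmk : Ideal.Quotient.mk p r ∈ IsLocalRing.maximalIdeal (R ⧸ p) := by
          rw [IsLocalRing.mem_maximalIdeal, mem_nonunits_iff]
          intro hu
          obtain ⟨s', hs'⟩ := hu.exists_right_inv
          obtain ⟨s, rfl⟩ := Ideal.Quotient.mk_surjective s'
          rw [← map_mul, ← map_one (Ideal.Quotient.mk p), Ideal.Quotient.eq] at hs'
          have h1 : r * s - 1 ∈ IsLocalRing.maximalIdeal R :=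
            IsLocalRing.le_maximalIdeal hp.ne_top hs'
          have h2 : r * s ∈ IsLocalRing.maximalIdeal R := Ideal.mul_mem_right _ _ hrm
          have h3 : (1 : R) ∈ IsLocalRing.maximalIdeal R := by
            have := Ideal.sub_mem _ h2 h1
            simpa using this
          exact (IsLocalRing.maximalIdeal.isMaximal R).ne_top
            ((Ideal.eq_top_iff_one _).mpr h3)
        exact hnonunit _ hmk hr
      have hSN : IsNoetherianRing S :=
        isNoetherian_of_tower (R ⧸ p) (isNoetherian_of_isNoetherianRing_of_finite (R ⧸ p) S)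
      have hred : IsReduced (AdicCompletion (IsLocalRing.maximalIdeal S) S) := hH S
      have hN1 : CAlg.IsN1 S := Groth.Agent.S2072.result
      have hfin0 : Module.Finite S (integralClosure S (FractionRing S)) := hN1
      let e : FractionRing S ≃ₐ[S] L := FractionRing.algEquiv S L
      have hfin1 : Module.Finite S (integralClosure S L) :=
        Module.Finite.equiv (AlgEquiv.mapIntegralClosure e).toLinearEquiv
      have hfin2 : Module.Finite (R ⧸ p) (integralClosure S L) := Module.Finite.trans S _
      have hSint : Algebra.IsIntegral (R ⧸ p) S := Algebra.IsIntegral.of_finite (R ⧸ p) S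
      let f : integralClosure S L →ₗ[R ⧸ p] integralClosure (R ⧸ p) L :=
        { toFun := fun x => ⟨x.1, isIntegral_trans (A := S) x.1 x.2⟩
          map_add' := fun x y => rfl
          map_smul' := fun c x => rfl }
      refine Module.Finite.of_surjective f ?_
      rintro ⟨y, hy⟩
      exact ⟨⟨y, hy.tower_top⟩, rfl⟩

end Groth.Agent.S9440
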