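import Groth.Statements.S9441
import Groth.Agent.Lib.Helper94.SyntU
import Groth.Agent.Lib.Helper94.SyntF
import Groth.Agent.Lib.Helper72.Jacobian

set_option autoImplicit false
universe u
open Synt

namespace Groth.Agent.S9441

section Aux

open Groth.Agent.Lib.Helper72.Jac TensorProduct KaehlerDifferential MvPolynomial

variable (R : Type u) [CommRing R] (n c : ℕ) (F : Fin c → MvPolynomial (Fin n) R)
  (q : Ideal (MvPolynomial (Fin n) R ⧸ Ideal.span (Set.range F))) [q.IsPrime]

local notation "AA" => MvPolynomial (Fin n) R
local notation "II" => Ideal.span (Set.range F)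
local notation "QQ" => qq (MvPolynomial (Fin n) R) (Ideal.span (Set.range F)) q
local notation "KK" => Ideal.ResidueField (qq (MvPolynomial (Fin n) R) (Ideal.span (Set.range F)) q)

theorem aux (hF : Synt.IsRelGCI R n c F) :
    Function.Injective (jac R AA II q) ↔ ∃ I : Fin c ↪ Fin n,
      Ideal.Quotient.mk (Ideal.span (Set.range F))
        (Matrix.det (Matrix.of fun j i => MvPolynomial.pderiv (I i) (F j))) ∉ q := by
  classical
  have hIq' : II ≤ QQ := fun a ha => by
    rw [Ideal.mem_comap, Ideal.Quotient.eq_zero_iff_mem.mpr ha]; exact Ideal.zero_mem _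
  -- the rows
  let ρ : Fin c → KK ⊗[AA] Ω[AA⁄R] := fun j => (1 : KK) ⊗ₜ[AA] D R AA (F j)
  let M : Matrix (Fin c) (Fin n) KK := fun j i => algebraMap AA KK (pderiv i (F j))
  let b : Module.Basis (Fin n) KK (KK ⊗[AA] Ω[AA⁄R]) :=
    (KaehlerDifferential.mvPolynomialBasis R (Fin n)).baseChange KK
  have hbρ : ∀ j, b.equivFun (ρ j) = M j := by
    intro j
    funext i
    simp only [Module.Basis.equivFun_apply, ρ, b, Module.Basis.baseChange_repr_tmul,
      KaehlerDifferential.mvPolynomialBasis_repr_apply, M]
    rw [Algebra.smul_def, mul_one]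
  have hρM : LinearIndependent KK ρ ↔ LinearIndependent KK M.row := by
    have h1 : M.row = b.equivFun.toLinearMap ∘ ρ := by
      funext j
      exact (hbρ j).symm
    rw [h1, LinearMap.linearIndependent_iff _ (LinearEquiv.ker _)]
  -- generators
  let v : Fin c → KK ⊗[Localization.AtPrime QQ] ↥(Ideal.map (algebraMap AA (Localization.AtPrime QQ)) II) :=
    fun j => (1 : KK) ⊗ₜ gen AA II q ⟨F j, Ideal.subset_span ⟨j, rfl⟩⟩
  have hjv : ∀ j, jac R AA II q (v j) = ρ j := fun j =>
    jac_tmul R AA II q 1 (F j) (Ideal.subset_span ⟨j, rfl⟩)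
  have hvspan : Submodule.span KK (Set.range v) = ⊤ := by
    refine Groth.Agent.Lib.Helper72.Jac.span_tmul_eq_top
      (fun j : Fin c => gen AA II q ⟨F j, Ideal.subset_span ⟨j, rfl⟩⟩) ?_
    rw [span_range_eq_top_iff]
    show Ideal.span _ = _
    have hJ : Ideal.map (algebraMap AA (Localization.AtPrime QQ)) II =
        Ideal.span (Set.range (algebraMap AA (Localization.AtPrime QQ) ∘ F)) := by
      rw [Ideal.map_span, ← Set.range_comp]
    exact hJ.symm
  have hinj : Function.Injective (jac R AA II q) ↔ LinearIndependent KK ρ := by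
    constructor
    · intro hj
      have hv : LinearIndependent KK v := by
        have hreg := (Groth.Agent.Lib.Helper94.SyntF.transRegAt_of_isRelGCI R n c F hF QQ
          hIq').2.1
        rw [List.map_ofFn] at hreg
        have hm : ∀ j, (algebraMap AA (Localization.AtPrime QQ) ∘ F) j ∈
            IsLocalRing.maximalIdeal (Localization.AtPrime QQ) := by
          intro j
          rw [← Localization.AtPrime.map_eq_maximalIdeal]
          exact Ideal.mem_map_of_mem _ (hIq' (Ideal.subset_span ⟨j, rfl⟩))
        have hJ : Ideal.map (algebraMap AA (Localization.AtPrime QQ)) II =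
            Ideal.span (Set.range (algebraMap AA (Localization.AtPrime QQ) ∘ F)) := by
          rw [Ideal.map_span, ← Set.range_comp]
        exact Groth.Agent.Lib.Helper94.SyntU.linearIndependent_tmul_of_isWeaklyRegular
          (algebraMap AA (Localization.AtPrime QQ) ∘ F) hreg hm _ hJ
          (fun j => Ideal.mem_map_of_mem _ (Ideal.subset_span ⟨j, rfl⟩))
      have h2 : ρ = jac R AA II q ∘ v := funext fun j => (hjv j).symm
      rw [h2]
      exact hv.map' _ (LinearMap.ker_eq_bot.mpr hj)
    · intro hρ
      refine injective_of_span_of_linearIndependent (jac R AA II q) v hvspan ?_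
      have h2 : jac R AA II q ∘ v = ρ := funext hjv
      rw [h2]
      exact hρ
  have hminor : LinearIndependent KK M.row ↔ ∃ I' : Fin c ↪ Fin n,
      Ideal.Quotient.mk II (Matrix.det (Matrix.of fun j i => MvPolynomial.pderiv (I' i) (F j))) ∉ q := by
    have hdet : ∀ I' : Fin c → Fin n, (M.submatrix id I').det =
        algebraMap AA KK (Matrix.det (Matrix.of fun j i => MvPolynomial.pderiv (I' i) (F j))) := by
      intro I'
      rw [RingHom.map_det]
      rfl
    have hmem : ∀ x : AA, algebraMap AA KK x ≠ 0 ↔ Ideal.Quotient.mk II x ∉ q := by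
      intro x
      rw [Ne, Ideal.algebraMap_residueField_eq_zero]
      rfl
    constructor
    · intro h
      obtain ⟨I', hI'⟩ :=
        Groth.Agent.Lib.Helper94.SyntU.exists_minor_of_linearIndependent_rows M h
      exact ⟨I', (hmem _).mp (by rw [← hdet]; exact hI')⟩
    · rintro ⟨I', hI'⟩
      exact Groth.Agent.Lib.Helper94.SyntU.linearIndependent_rows_of_minor M I'
        (by rw [hdet]; exact (hmem _).mpr hI')
  rw [hinj, hρM, hminor]

end Aux

open Groth.Agent.Lib.Helper72.Jac TensorProduct KaehlerDifferential MvPolynomial in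

/-- For a relative global complete intersection S = R[x_1, …, x_n]/(f_1, …, f_c) and a prime q of S, the
map R → S is smooth at q if and only if some c × c minor of the Jacobian matrix (∂f_j/∂x_i), taken
on c distinct variables, has image outside q. -/
theorem result (R : Type u) [CommRing R] (n c : ℕ)
    (F : Fin c → MvPolynomial (Fin n) R) (hF : Synt.IsRelGCI R n c F)
    (q : Ideal (Synt.RelGCIRing R n c F)) [q.IsPrime] :
    Algebra.IsSmoothAt R q ↔ ∃ I : Fin c ↪ Fin n,
      Ideal.Quotient.mk (Ideal.span (Set.range F))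
        (Matrix.det (Matrix.of fun j i => MvPolynomial.pderiv (I i) (F j))) ∉ q := by
  classical
  haveI : Algebra.FormallySmooth (MvPolynomial (Fin n) R)
      (Localization.AtPrime (qq (MvPolynomial (Fin n) R) (Ideal.span (Set.range F)) q)) :=
    Algebra.FormallySmooth.of_isLocalization
      (qq (MvPolynomial (Fin n) R) (Ideal.span (Set.range F)) q).primeCompl
  haveI : Algebra.FormallySmooth R
      (Localization.AtPrime (qq (MvPolynomial (Fin n) R) (Ideal.span (Set.range F)) q)) :=
    Algebra.FormallySmooth.comp R (MvPolynomial (Fin n) R) _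
  have hIfg : (Ideal.span (Set.range F)).FG := Submodule.fg_span (Set.finite_range F)
  rw [Algebra.IsSmoothAt, smooth_iff_injective_jac R (MvPolynomial (Fin n) R)
    (Ideal.span (Set.range F)) q hIfg]
  exact aux R n c F q hF


end Groth.Agent.S9441
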