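import Groth.Statements.S9442
import Mathlib
import Groth.Agent.Lib.Helper65.RegularSmooth
import Groth.Agent.Lib.Helper25.GeomRed
-- import your own Groth.Agent.* helpers here

set_option autoImplicit false
universe u
open CAlg

namespace Groth.Agent.S9442


/-- For a finite type algebra S over a field k and a prime q of S with κ(q) separable over k, S is
smooth over k at q if and only if S_q is a regular local ring. -/
theorem result (k : Type u) [Field k]
    (S : Type u) [CommRing S] [Algebra k S] [Algebra.FiniteType k S] (q : Ideal S) [q.IsPrime]
    [Algebra.IsGeometricallyReduced k q.ResidueField] :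
    Algebra.IsSmoothAt k q ↔ IsRegularLocalRing (Localization.AtPrime q) := by
  have : Algebra.EssFiniteType k (Localization.AtPrime q) := inferInstance
  have : Algebra.EssFiniteType k (IsLocalRing.ResidueField (Localization.AtPrime q)) :=
    inferInstanceAs (Algebra.EssFiniteType k
      (Localization.AtPrime q ⧸ IsLocalRing.maximalIdeal (Localization.AtPrime q)))
  have : Algebra.IsGeometricallyReduced k (IsLocalRing.ResidueField (Localization.AtPrime q)) :=
    ‹Algebra.IsGeometricallyReduced k q.ResidueField›
  have : Algebra.FormallySmooth k (IsLocalRing.ResidueField (Localization.AtPrime q)) :=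
    Groth.Agent.Lib.Helper25.formallySmooth_of_essFiniteType_of_isGeometricallyReduced k _
  constructor
  · intro h
    have : Algebra.FormallySmooth k (Localization.AtPrime q) := h
    exact Groth.Agent.Lib.Helper65.RegularSmooth.isRegularLocalRing_of_formallySmooth k _
  · intro h
    exact Groth.Agent.Lib.Helper65.RegularSmooth.formallySmooth_of_isRegularLocalRing k _


end Groth.Agent.S9442
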