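import Groth.Statements.S9443
import Groth.Agent.S11741
import Groth.Agent.S0543
import Mathlib

set_option autoImplicit false
universe u
open CAlg

namespace Groth.Agent.S9443

open IsLocalRing

/-- Evaluation of power series at a family `b` in a ring complete for the ideal generated by `b`. -/
theorem exists_eval (k R : Type u) [Field k] [CommRing R] [Algebra k R]
    {d : ℕ} (b : Fin d → R) [IsAdicComplete (Ideal.span (Set.range b)) R] :
    ∃ ψ : MvPowerSeries (Fin d) k →ₐ[k] R, ∀ i, ψ (MvPowerSeries.X i) = b i := by
  let e : R ≃ₐ[R] AdicCompletion (Ideal.span (Set.range b)) R :=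
    AdicCompletion.ofAlgEquiv (Ideal.span (Set.range b))
  let ψ₀ : MvPowerSeries (Fin d) k →+* R :=
    (e.symm : AdicCompletion (Ideal.span (Set.range b)) R →+* R).comp
      ((Groth.Agent.S0543.psMap b).comp (MvPowerSeries.map (algebraMap k R)))
  have hcomm : ∀ c : k, ψ₀ (algebraMap k (MvPowerSeries (Fin d) k) c) = algebraMap k R c := by
    intro c
    have h1 : algebraMap k (MvPowerSeries (Fin d) k) c = MvPowerSeries.C c := rfl
    have h2 : (MvPowerSeries.C (algebraMap k R c) : MvPowerSeries (Fin d) R) =
        ((MvPolynomial.C (algebraMap k R c) : MvPolynomial (Fin d) R) :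
          MvPowerSeries (Fin d) R) := (MvPolynomial.coe_C _).symm
    simp only [ψ₀, RingHom.comp_apply, RingHom.coe_coe]
    rw [h1, MvPowerSeries.map_C, h2, Groth.Agent.S0543.psMap_coe, MvPolynomial.aeval_C]
    exact AdicCompletion.ofAlgEquiv_symm_of _ _
  refine ⟨{ ψ₀ with commutes' := hcomm }, fun i => ?_⟩
  change ψ₀ (MvPowerSeries.X i) = b i
  have h2 : (MvPowerSeries.X i : MvPowerSeries (Fin d) R) =
      ((MvPolynomial.X i : MvPolynomial (Fin d) R) : MvPowerSeries (Fin d) R) :=
    (MvPolynomial.coe_X i).symm
  simp only [ψ₀, RingHom.comp_apply, RingHom.coe_coe]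
  rw [MvPowerSeries.map_X, h2, Groth.Agent.S0543.psMap_coe, MvPolynomial.aeval_X]
  exact AdicCompletion.ofAlgEquiv_symm_of _ _

/-- A complete regular local ring R with a coefficient field k (a subfield mapping isomorphically onto
the residue field) is k-isomorphic to a power series ring over k in finitely many variables
(existence of an isomorphism only; the number of variables is then the dimension of R). -/
theorem result (R : Type u)
    [CommRing R] [IsRegularLocalRing R] [IsAdicComplete (IsLocalRing.maximalIdeal R) R]
    (k : Type u) [Field k] [Algebra k R]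
    (hk : Function.Bijective (algebraMap k (IsLocalRing.ResidueField R))) :
    ∃ d : ℕ, Nonempty (R ≃ₐ[k] MvPowerSeries (Fin d) k) := by
  classical
  let d := Module.finrank (ResidueField R) (CotangentSpace R)
  let B : Module.Basis (Fin d) (ResidueField R) (CotangentSpace R) :=
    Module.finBasis (ResidueField R) (CotangentSpace R)
  have hsurj : Function.Surjective (maximalIdeal R).toCotangent := Ideal.toCotangent_surjective _
  choose c hc using fun i => hsurj (B i)
  let b : Fin d → R := fun i => (c i : R)
  have hcB : (fun i => (maximalIdeal R).toCotangent (c i)) = B := funext hc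
  have hspan : Ideal.span (Set.range b) = maximalIdeal R := by
    have h1 : Submodule.span (ResidueField R) ((maximalIdeal R).toCotangent '' Set.range c) = ⊤ := by
      rw [← Set.range_comp]
      change Submodule.span (ResidueField R)
        (Set.range (fun i => (maximalIdeal R).toCotangent (c i))) = ⊤
      rw [hcB]
      exact B.span_eq
    have h2 := CotangentSpace.span_image_eq_top_iff.mp h1
    have h3 := congrArg (Submodule.map (maximalIdeal R).subtype) h2
    rw [Submodule.map_span, Submodule.map_top, Submodule.range_subtype, ← Set.range_comp] at h3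
    exact h3
  haveI : IsAdicComplete (Ideal.span (Set.range b)) R := by
    rw [hspan]
    infer_instance
  obtain ⟨ψ, hψ⟩ := exists_eval k R b
  have hψm : ∀ i, ψ (MvPowerSeries.X i) ∈ maximalIdeal R := fun i => by
    rw [hψ]
    exact (c i).2
  have hcot : (fun i : Fin d => (maximalIdeal R).toCotangent ⟨ψ (MvPowerSeries.X i), hψm i⟩) =
      B := by
    funext i
    rw [← hc i]
    congr 1
    exact Subtype.ext (hψ i)
  have hb : LinearIndependent (ResidueField R)
      (fun i : Fin d => (maximalIdeal R).toCotangent ⟨ψ (MvPowerSeries.X i), hψm i⟩) := by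
    rw [hcot]
    exact B.linearIndependent
  have hsp : Submodule.span (ResidueField R) (Set.range
      (fun i : Fin d => (maximalIdeal R).toCotangent ⟨ψ (MvPowerSeries.X i), hψm i⟩)) = ⊤ := by
    rw [hcot]
    exact B.span_eq
  have hR : Function.Surjective ((residue R).comp (algebraMap k R)) := hk.surjective
  have hbij := (Groth.Agent.S11741.result k R hR d ψ hψm hb hsp).mp inferInstance
  exact ⟨d, ⟨(AlgEquiv.ofBijective ψ hbij).symm⟩⟩

end Groth.Agent.S9443
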