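import Groth.Statements.S9444
import Groth.Agent.Lib.Helper49.CoeffFieldPS
import Groth.Agent.S0579

set_option autoImplicit false
universe u
open CAlg

namespace Groth.Agent.S9444

open IsLocalRing in
theorem aux (R : Type u)
    [CommRing R] [IsLocalRing R] [IsAdicComplete (IsLocalRing.maximalIdeal R) R]
    (k₀ : Type u) [Field k₀] [Algebra k₀ R] :
    ∃ σ : ResidueField R →+* R, ∀ x, residue R (σ x) = x := by
  obtain ⟨p, hp⟩ := ExpChar.exists k₀
  cases hp with
  | zero =>
    have : CharZero (ResidueField R) := by
      exact (RingHom.charZero_iff ((residue R).comp (algebraMap k₀ R)).injective).mp inferInstance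
    obtain ⟨s, hs⟩ := Groth.Agent.S0579.result R
    exact ⟨s, fun x => DFunLike.congr_fun hs x⟩
  | prime hprime =>
    rename_i hchar
    have hcp : CharP (ResidueField R) p :=
      (RingHom.charP_iff _ ((residue R).comp (algebraMap k₀ R)).injective p).mp hchar
    have hp0 : (p : R) = 0 := by
      rw [← map_natCast (algebraMap k₀ R), CharP.cast_eq_zero, map_zero]
    exact Groth.Agent.Lib.Helper49.CoeffField.exists_section p hp0


/-- A complete regular local ring containing a field (that is, containing the prime field F_p or ℚ) is
isomorphic to a power series ring in finitely many variables over its residue field (existence of an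
isomorphism only). -/
theorem result (R : Type u)
    [CommRing R] [IsRegularLocalRing R] [IsAdicComplete (IsLocalRing.maximalIdeal R) R]
    (k₀ : Type u) [Field k₀] [Algebra k₀ R] :
    ∃ d : ℕ, Nonempty (R ≃+* MvPowerSeries (Fin d) (IsLocalRing.ResidueField R)) := by
  obtain ⟨σ, hσ⟩ := aux R k₀
  let _ : Algebra (IsLocalRing.ResidueField R) R := σ.toAlgebra
  have hR : Function.Surjective ((IsLocalRing.residue R).comp
      (algebraMap (IsLocalRing.ResidueField R) R)) := fun x => ⟨x, hσ x⟩
  obtain ⟨d, ψ, -, -, -, hreg⟩ :=
    Groth.Agent.Lib.Helper49.CoeffField.exists_presentation (K := IsLocalRing.ResidueField R)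
      (A := R) hR
  have hbij : Function.Bijective ψ := hreg.mp inferInstance
  exact ⟨d, ⟨(RingEquiv.ofBijective ψ.toRingHom hbij).symm⟩⟩

end Groth.Agent.S9444
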