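import Groth.Statements.S9445
import Mathlib.RingTheory.Etale.Basic
import Mathlib.RingTheory.Kaehler.Basic

set_option autoImplicit false
universe u
open CAlg

namespace Groth.Agent.S9445

section L1

variable {S S' : Type*} [CommRing S] [CommRing S'] [Algebra S S'] [Algebra.FormallyEtale S S']

theorem exists_lift (A : Type*) [CommRing A] (a₂ : S →+* A) (p : A →+* S')
    (hp : Function.Surjective p) (hnil : IsNilpotent (RingHom.ker p))
    (hcomp : p.comp a₂ = algebraMap S S') :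
    ∃ τ : S' →+* A, τ.comp (algebraMap S S') = a₂ ∧ p.comp τ = RingHom.id S' := by
  letI := a₂.toAlgebra
  let g : A →ₐ[S] S' := { p with commutes' := fun s => RingHom.congr_fun hcomp s }
  let τ : S' →ₐ[S] A := Algebra.FormallySmooth.liftOfSurjective (AlgHom.id S S') g hp hnil
  refine ⟨τ.toRingHom, ?_, ?_⟩
  · ext s
    exact τ.commutes s
  · ext x
    exact Algebra.FormallySmooth.liftOfSurjective_apply (AlgHom.id S S') g hp hnil x

theorem lift_unique (A : Type*) [CommRing A] (a₂ : S →+* A) (p : A →+* S')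
    (hnil : IsNilpotent (RingHom.ker p))
    (τ₁ τ₂ : S' →+* A) (h₁ : τ₁.comp (algebraMap S S') = a₂)
    (h₂ : τ₂.comp (algebraMap S S') = a₂) (h : p.comp τ₁ = p.comp τ₂) : τ₁ = τ₂ := by
  letI := a₂.toAlgebra
  let g₁ : S' →ₐ[S] A := { τ₁ with commutes' := fun s => RingHom.congr_fun h₁ s }
  let g₂ : S' →ₐ[S] A := { τ₂ with commutes' := fun s => RingHom.congr_fun h₂ s }
  have := Algebra.FormallyUnramified.lift_unique_of_ringHom p hnil g₁ g₂ h
  exact congrArg (fun f : S' →ₐ[S] A => f.toRingHom) this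

end L1

theorem ker_lift_pow_eq_bot {T S' : Type*} [CommRing T] [CommRing S'] (I : Ideal T) (f : T →+* S')
    (hI : RingHom.ker f = I) (n : ℕ) (h : ∀ a ∈ I ^ n, f a = 0) :
    (RingHom.ker (Ideal.Quotient.lift (I ^ n) f h)) ^ n = ⊥ := by
  subst hI
  rw [Ideal.ker_quotient_lift, ← Ideal.map_pow, Ideal.map_quotient_self]

open TensorProduct in
theorem ringHom_ext_tmul {R X Y C : Type*} [CommRing R] [CommRing X] [CommRing Y] [Algebra R X]
    [Algebra R Y] [CommRing C] (f g : X ⊗[R] Y →+* C)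
    (h : ∀ x y, f (x ⊗ₜ y) = g (x ⊗ₜ y)) : f = g := by
  refine RingHom.ext fun z => ?_
  induction z using TensorProduct.induction_on with
  | zero => simp
  | tmul x y => exact h x y
  | add a b ha hb => simp [ha, hb]

open TensorProduct in
theorem result (R : Type u) [CommRing R]
    (S : Type u) [CommRing S] [Algebra R S] (S' : Type u) [CommRing S'] [Algebra R S']
    [Algebra S S'] [IsScalarTower R S S'] [Algebra.FormallyEtale S S'] (k : ℕ) :
    Function.Bijective (Ideal.quotientMap (KaehlerDifferential.ideal R S' ^ (k + 1))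
      (Algebra.TensorProduct.map (AlgHom.id S' S') (IsScalarTower.toAlgHom R S S')).toRingHom
      (Ideal.le_comap_pow
        (Algebra.TensorProduct.map (AlgHom.id S' S') (IsScalarTower.toAlgHom R S S')).toRingHom
        (K := KaehlerDifferential.ideal R S') (k + 1))) := by
  set φ := (Algebra.TensorProduct.map (AlgHom.id S' S') (IsScalarTower.toAlgHom R S S')) with hφ
  set J' := KaehlerDifferential.ideal R S' with hJ'
  let μ : S' ⊗[R] S' →+* S' := (Algebra.TensorProduct.lmul' R : S' ⊗[R] S' →ₐ[R] S').toRingHom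
  have hJ'μ : RingHom.ker μ = J' := rfl
  have hμ : ∀ x y : S', μ (x ⊗ₜ y) = x * y := fun x y => Algebra.TensorProduct.lmul'_apply_tmul x y
  have hφt : ∀ (x : S') (y : S), φ (x ⊗ₜ y) = x ⊗ₜ (algebraMap S S' y) := fun x y => by
    simp [hφ]
  set I : Ideal (S' ⊗[R] S) := J'.comap φ.toRingHom with hI
  have hIker : RingHom.ker (μ.comp φ.toRingHom) = I := by
    rw [hI, ← hJ'μ, RingHom.comap_ker]
  set Φ := Ideal.quotientMap (J' ^ (k + 1)) φ.toRingHom
    (Ideal.le_comap_pow φ.toRingHom (K := J') (k + 1)) with hΦ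
  -- projections
  have hA0 : ∀ a ∈ I ^ (k + 1), (μ.comp φ.toRingHom) a = 0 := fun a ha => by
    have : a ∈ I := Ideal.pow_le_self (Nat.succ_ne_zero k) ha
    rwa [← hIker] at this
  have hB0 : ∀ a ∈ J' ^ (k + 1), μ a = 0 := fun a ha => by
    have : a ∈ J' := Ideal.pow_le_self (Nat.succ_ne_zero k) ha
    rwa [← hJ'μ] at this
  let pA : (S' ⊗[R] S) ⧸ I ^ (k + 1) →+* S' := Ideal.Quotient.lift (I ^ (k + 1)) _ hA0
  let pB : (S' ⊗[R] S') ⧸ J' ^ (k + 1) →+* S' := Ideal.Quotient.lift (J' ^ (k + 1)) _ hB0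
  have hnilA : (RingHom.ker pA) ^ (k + 1) = ⊥ := ker_lift_pow_eq_bot I _ hIker (k + 1) hA0
  have hnilB : (RingHom.ker pB) ^ (k + 1) = ⊥ := ker_lift_pow_eq_bot J' _ hJ'μ (k + 1) hB0
  have hpBΦ : pB.comp Φ = pA := by
    apply Ideal.Quotient.ringHom_ext
    rfl
  -- structure maps
  let lamA : S' →ₐ[R] (S' ⊗[R] S) ⧸ I ^ (k + 1) :=
    (Ideal.Quotient.mkₐ R (I ^ (k + 1))).comp Algebra.TensorProduct.includeLeft
  let a₂ : S →+* (S' ⊗[R] S) ⧸ I ^ (k + 1) :=
    (Ideal.Quotient.mk (I ^ (k + 1))).comp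
      (Algebra.TensorProduct.includeRight : S →ₐ[R] S' ⊗[R] S).toRingHom
  let b₂ : S →+* (S' ⊗[R] S') ⧸ J' ^ (k + 1) :=
    ((Ideal.Quotient.mk (J' ^ (k + 1))).comp
      (Algebra.TensorProduct.includeRight : S' →ₐ[R] S' ⊗[R] S').toRingHom).comp (algebraMap S S')
  let ρ : S' →+* (S' ⊗[R] S') ⧸ J' ^ (k + 1) :=
    (Ideal.Quotient.mk (J' ^ (k + 1))).comp
      (Algebra.TensorProduct.includeRight : S' →ₐ[R] S' ⊗[R] S').toRingHom
  have hpA_mk : ∀ (x : S') (y : S), pA (Ideal.Quotient.mk _ (x ⊗ₜ y)) = x * algebraMap S S' y := by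
    intro x y
    change μ (φ (x ⊗ₜ y)) = _
    rw [hφt, hμ]
  have hpB_mk : ∀ (x y : S'), pB (Ideal.Quotient.mk _ (x ⊗ₜ y)) = x * y := by
    intro x y
    change μ (x ⊗ₜ y) = _
    rw [hμ]
  have hpA_surj : Function.Surjective pA := fun x =>
    ⟨Ideal.Quotient.mk _ (x ⊗ₜ 1), by rw [hpA_mk]; simp⟩
  have hcompA : pA.comp a₂ = algebraMap S S' := by
    ext y
    change pA (Ideal.Quotient.mk _ (1 ⊗ₜ y)) = _
    rw [hpA_mk, one_mul]
  obtain ⟨τ, hτ1, hτ2⟩ := exists_lift _ a₂ pA hpA_surj ⟨k + 1, hnilA⟩ hcompA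
  let τ' : S' →ₐ[R] (S' ⊗[R] S) ⧸ I ^ (k + 1) :=
    { τ with
      commutes' := fun r => by
        change τ (algebraMap R S' r) = _
        rw [IsScalarTower.algebraMap_apply R S S' r]
        have h1 := RingHom.congr_fun hτ1 (algebraMap R S r)
        rw [RingHom.comp_apply] at h1
        rw [h1]
        change Ideal.Quotient.mk _ ((1 : S') ⊗ₜ[R] (algebraMap R S r)) = _
        rw [← Algebra.TensorProduct.algebraMap_apply' (R := R) (A := S') (B := S)]
        rfl }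
  have hτ' : ∀ x, τ' x = τ x := fun x => rfl
  let Ψ₀ : S' ⊗[R] S' →ₐ[R] (S' ⊗[R] S) ⧸ I ^ (k + 1) :=
    Algebra.TensorProduct.productMap lamA τ'
  have hΨ₀ : ∀ x y, Ψ₀ (x ⊗ₜ y) = lamA x * τ y := fun x y =>
    Algebra.TensorProduct.productMap_apply_tmul _ _ _ _
  have hlamA : ∀ x, lamA x = Ideal.Quotient.mk _ (x ⊗ₜ 1) := fun x => rfl
  have hpAτ : ∀ y, pA (τ y) = y := fun y => RingHom.congr_fun hτ2 y
  have hpΨ₀ : pA.comp Ψ₀.toRingHom = μ := by
    apply ringHom_ext_tmul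
    intro x y
    change pA (Ψ₀ (x ⊗ₜ y)) = μ (x ⊗ₜ y)
    rw [hΨ₀, map_mul, hlamA, hpA_mk, hpAτ, hμ, map_one, mul_one]
  have hΨ₀J : ∀ a ∈ J' ^ (k + 1), Ψ₀.toRingHom a = 0 := by
    intro a ha
    have h1 : Ideal.map Ψ₀.toRingHom (J' ^ (k + 1)) ≤ (RingHom.ker pA) ^ (k + 1) := by
      rw [Ideal.map_pow]
      apply Ideal.pow_right_mono
      rw [Ideal.map_le_iff_le_comap]
      intro x hx
      rw [Ideal.mem_comap, RingHom.mem_ker]
      have := RingHom.congr_fun hpΨ₀ x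
      rw [RingHom.comp_apply] at this
      rw [this]
      rwa [← hJ'μ] at hx
    rw [hnilA] at h1
    exact (Ideal.mem_bot.mp (h1 (Ideal.mem_map_of_mem _ ha)))
  let Ψ : (S' ⊗[R] S') ⧸ J' ^ (k + 1) →+* (S' ⊗[R] S) ⧸ I ^ (k + 1) :=
    Ideal.Quotient.lift (J' ^ (k + 1)) Ψ₀.toRingHom hΨ₀J
  have hΨ_mk : ∀ x y, Ψ (Ideal.Quotient.mk _ (x ⊗ₜ y)) = lamA x * τ y := fun x y => hΨ₀ x y
  have hΦ_mk : ∀ (x : S') (y : S), Φ (Ideal.Quotient.mk _ (x ⊗ₜ y)) =
      Ideal.Quotient.mk _ (x ⊗ₜ (algebraMap S S' y)) := by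
    intro x y
    rw [hΦ, Ideal.quotientMap_mk]
    exact congrArg _ (hφt x y)
  have hΦτ : Φ.comp τ = ρ := by
    apply lift_unique _ b₂ pB ⟨k + 1, hnilB⟩
    · rw [RingHom.comp_assoc, hτ1]
      ext y
      change Φ (Ideal.Quotient.mk _ (1 ⊗ₜ y)) = _
      rw [hΦ_mk]
      rfl
    · rfl
    · rw [← RingHom.comp_assoc, hpBΦ, hτ2]
      ext y
      change y = pB (Ideal.Quotient.mk _ (1 ⊗ₜ y))
      rw [hpB_mk, one_mul]
  have hΨΦ : ∀ a, Ψ (Φ a) = a := by
    intro a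
    obtain ⟨a, rfl⟩ := Ideal.Quotient.mk_surjective a
    induction a using TensorProduct.induction_on with
    | zero => rw [map_zero, map_zero, map_zero]
    | tmul x y =>
      rw [hΦ_mk, hΨ_mk, hlamA]
      have h1 := RingHom.congr_fun hτ1 y
      rw [RingHom.comp_apply] at h1
      rw [h1]
      change Ideal.Quotient.mk _ (x ⊗ₜ 1) * Ideal.Quotient.mk _ (1 ⊗ₜ y) = _
      rw [← map_mul, Algebra.TensorProduct.tmul_mul_tmul, mul_one, one_mul]
    | add a b ha hb => rw [map_add, map_add, map_add, ha, hb]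
  have hΦΨ : ∀ b, Φ (Ψ b) = b := by
    intro b
    obtain ⟨b, rfl⟩ := Ideal.Quotient.mk_surjective b
    induction b using TensorProduct.induction_on with
    | zero => rw [map_zero, map_zero, map_zero]
    | tmul x y =>
      rw [hΨ_mk, map_mul, hlamA]
      have h1 := RingHom.congr_fun hΦτ y
      rw [RingHom.comp_apply] at h1
      rw [h1]
      have h2 : Φ (Ideal.Quotient.mk _ (x ⊗ₜ (1 : S))) = Ideal.Quotient.mk _ (x ⊗ₜ (1 : S')) := by
        rw [hΦ_mk, map_one]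
      rw [h2]
      change Ideal.Quotient.mk _ (x ⊗ₜ 1) * Ideal.Quotient.mk _ (1 ⊗ₜ y) = _
      rw [← map_mul, Algebra.TensorProduct.tmul_mul_tmul, mul_one, one_mul]
    | add a b ha hb => rw [map_add, map_add, map_add, ha, hb]
  exact Function.bijective_iff_has_inverse.mpr ⟨Ψ, hΨΦ, hΦΨ⟩

end Groth.Agent.S9445
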