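import Groth.Statements.S9452
import Mathlib
import Groth.Agent.Lib.Helper27.UnramBC
import Groth.Agent.S9435

set_option autoImplicit false
universe u
open Unram
open Groth.Agent.Lib.Helper27.UnramBC

namespace Groth.Agent.S9452

open TensorProduct in
/-- Let R → S be of finite type and unramified at a prime q lying over p. Then there are an étale
R-algebra R', a prime p' of R' over p and an R'-algebra isomorphism e : R' ⊗_R S ≅ A × B with R' → A
surjective and p'A a prime ideal of A lying over p' whose pull-back along S → R' ⊗_R S ≅ A × B → A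
is q. -/
theorem result (R : Type u) [CommRing R]
    (S : Type u) [CommRing S] [Algebra R S] [Algebra.FiniteType R S] (q : Ideal S) [q.IsPrime]
    [Algebra.IsUnramifiedAt R q] :
    ∃ (R' : Type u) (_ : CommRing R') (_ : Algebra R R') (_ : Algebra.Etale R R') (p' : Ideal R')
      (_ : p'.IsPrime) (_ : p'.LiesOver (q.under R)) (A : Type u) (_ : CommRing A) (_ : Algebra R' A)
      (B : Type u) (_ : CommRing B) (_ : Algebra R' B) (e : (R' ⊗[R] S) ≃ₐ[R'] (A × B)),
      Function.Surjective (algebraMap R' A) ∧ (p'.map (algebraMap R' A)).IsPrime ∧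
        (p'.map (algebraMap R' A)).comap (algebraMap R' A) = p' ∧
        (p'.map (algebraMap R' A)).comap (((RingHom.fst A B).comp e.toRingHom).comp
          (Algebra.TensorProduct.includeRight : S →ₐ[R] R' ⊗[R] S).toRingHom) = q := by
  let p := q.under R
  have hqp : q.LiesOver p := ⟨rfl⟩
  let L := q.ResidueField
  let _ := Localization.AtPrime.algebraOfLiesOver p q
  obtain ⟨R₁, _, _, _, ψ, hψ⟩ := Groth.Agent.S9435.result R p L
  let _ : Algebra R₁ L := ψ.toRingHom.toAlgebra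
  have hST₁ : IsScalarTower R R₁ L := IsScalarTower.of_algebraMap_eq' ψ.comp_algebraMap.symm
  let S₁ := R₁ ⊗[R] S
  let φ : S₁ →ₐ[R₁] L := Algebra.TensorProduct.lift (Algebra.ofId R₁ L)
    (IsScalarTower.toAlgHom R S L) (fun _ _ => Commute.all _ _)
  let q₁ : Ideal S₁ := RingHom.ker φ.toRingHom
  have hq₁prime : q₁.IsPrime := RingHom.ker_isPrime _
  let p₁ : Ideal R₁ := q₁.under R₁
  have hq₁p₁ : q₁.LiesOver p₁ := ⟨rfl⟩
  have hp₁prime : p₁.IsPrime := inferInstance
  have hq₁q : q = q₁.comap (Algebra.TensorProduct.includeRight : S →ₐ[R] S₁).toRingHom := by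
    ext s
    simp only [Ideal.mem_comap]
    change _ ↔ φ ((1 : R₁) ⊗ₜ[R] s) = 0
    have : φ ((1 : R₁) ⊗ₜ[R] s) = algebraMap S L s := by
      have h := Algebra.TensorProduct.lift_tmul (Algebra.ofId R₁ L)
        (IsScalarTower.toAlgHom R S L) (fun _ _ => Commute.all _ _) (1 : R₁) s
      rw [map_one, one_mul] at h
      exact h
    rw [this, Ideal.algebraMap_residueField_eq_zero]
  have hqf : Algebra.QuasiFiniteAt R₁ q₁ := Algebra.QuasiFiniteAt.baseChange q q₁ hq₁q
  have hun₁ : Algebra.IsUnramifiedAt R₁ q₁ := isUnramifiedAt_baseChange q q₁ hq₁q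
  have hres₁ : ∀ s : S₁, ∃ a b : R₁, b ∉ p₁ ∧ b • s - algebraMap R₁ S₁ a ∈ q₁ := by
    intro s
    have hmem : φ s ∈ Subfield.closure (Set.range ψ) := by rw [hψ]; trivial
    obtain ⟨y, hy, z, hz, hyz⟩ := Subfield.mem_closure_iff.mp hmem
    have hcl : Subring.closure (Set.range ψ) = ψ.toRingHom.range := by
      have : Set.range ψ = (ψ.toRingHom.range : Set L) := by
        ext x; simp
      rw [this, Subring.closure_eq]
    rw [hcl] at hy hz
    obtain ⟨a, rfl⟩ := hy
    obtain ⟨b, rfl⟩ := hz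
    by_cases hb0 : ψ.toRingHom b = 0
    · refine ⟨0, 1, ?_, ?_⟩
      · exact fun h => hp₁prime.ne_top ((Ideal.eq_top_iff_one _).mpr h)
      · rw [hb0, div_zero] at hyz
        change φ (1 • s - algebraMap R₁ S₁ 0) = 0
        rw [one_smul, map_zero, sub_zero, ← hyz]
    · refine ⟨a, b, ?_, ?_⟩
      · intro hb
        apply hb0
        have : algebraMap R₁ S₁ b ∈ q₁ := hb
        have h2 : φ (algebraMap R₁ S₁ b) = 0 := this
        rw [AlgHom.commutes] at h2
        exact h2
      · change φ (b • s - algebraMap R₁ S₁ a) = 0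
        rw [map_sub, map_smul, AlgHom.commutes, ← hyz, Algebra.smul_def]
        change ψ.toRingHom b * (ψ.toRingHom a / ψ.toRingHom b) - ψ.toRingHom a = 0
        rw [mul_div_cancel₀ _ hb0, sub_self]
  obtain ⟨R₂, _, _, _, P₂, _, _, e, he, P', _, _, hP'q, heP', hbij, hfin, huniq⟩ :=
    Algebra.exists_etale_isIdempotentElem_forall_liesOver_eq (R := R₁) (S := S₁) p₁ q₁
  let T := R₂ ⊗[R₁] S₁
  have hun₂ : Algebra.IsUnramifiedAt R₂ P' := isUnramifiedAt_baseChange q₁ P' hP'q.symm
  have hres : ∀ t : T, ∃ a b : R₂, b ∉ P₂ ∧ b • t - algebraMap R₂ T a ∈ P' := by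
    intro t
    induction t using TensorProduct.induction_on with
    | zero => exact ⟨0, 1, fun h => ‹P₂.IsPrime›.ne_top ((Ideal.eq_top_iff_one _).mpr h), by simp⟩
    | tmul r s =>
      obtain ⟨a, b, hb, hab⟩ := hres₁ s
      refine ⟨r * algebraMap R₁ R₂ a, algebraMap R₁ R₂ b, ?_, ?_⟩
      · intro h
        apply hb
        have : b ∈ P₂.under R₁ := h
        rwa [← ‹P₂.LiesOver p₁›.over] at this
      · have h1 : algebraMap R₁ R₂ b • (r ⊗ₜ[R₁] s) - algebraMap R₂ T (r * algebraMap R₁ R₂ a)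
            = r ⊗ₜ[R₁] (b • s - algebraMap R₁ S₁ a) := by
          have e1 : algebraMap R₁ R₂ b • (r ⊗ₜ[R₁] s) = r ⊗ₜ[R₁] (b • s) := by
            rw [algebraMap_smul, TensorProduct.tmul_smul]
          have e2 : algebraMap R₂ T (r * algebraMap R₁ R₂ a) = r ⊗ₜ[R₁] (algebraMap R₁ S₁ a) := by
            rw [Algebra.TensorProduct.algebraMap_apply, Algebra.algebraMap_self, RingHom.id_apply,
              show algebraMap R₁ S₁ a = a • (1 : S₁) from Algebra.algebraMap_eq_smul_one a,
              TensorProduct.tmul_smul, TensorProduct.smul_tmul', Algebra.smul_def, mul_comm]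
          rw [e1, e2, TensorProduct.tmul_sub]
        rw [h1]
        have h2 : r ⊗ₜ[R₁] (b • s - algebraMap R₁ S₁ a)
            = (r ⊗ₜ[R₁] (1 : S₁)) * (Algebra.TensorProduct.includeRight : S₁ →ₐ[R₁] T)
              (b • s - algebraMap R₁ S₁ a) := by
          simp
        rw [h2]
        apply Ideal.mul_mem_left
        have : b • s - algebraMap R₁ S₁ a ∈ P'.comap
            (Algebra.TensorProduct.includeRight : S₁ →ₐ[R₁] T).toRingHom := by
          rw [hP'q]; exact hab
        exact this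
    | add x y hx hy =>
      obtain ⟨a, b, hb, hab⟩ := hx
      obtain ⟨a', b', hb', hab'⟩ := hy
      refine ⟨b' * a + b * a', b * b', ‹P₂.IsPrime›.mul_notMem hb hb', ?_⟩
      have : (b * b') • (x + y) - algebraMap R₂ T (b' * a + b * a')
          = b' • (b • x - algebraMap R₂ T a) + b • (b' • y - algebraMap R₂ T a') := by
        rw [map_add, map_mul, map_mul, ← Algebra.smul_def, ← Algebra.smul_def]
        module
      rw [this]
      exact P'.add_mem (P'.smul_of_tower_mem _ hab) (P'.smul_of_tower_mem _ hab')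
  obtain ⟨g, hg, hcoreT⟩ := core P₂ e he P' heP' huniq hres
  let _ : Algebra R R₂ := ((algebraMap R₁ R₂).comp (algebraMap R R₁)).toAlgebra
  have hST₂ : IsScalarTower R R₁ R₂ := IsScalarTower.of_algebraMap_eq' rfl
  have hEt₂ : Algebra.Etale R R₂ := Algebra.Etale.comp R R₁ R₂
  let σ : T ≃ₐ[R₂] R₂ ⊗[R] S := Algebra.TensorProduct.cancelBaseChange R R₁ R₂ R₂ S
  let e₂ : R₂ ⊗[R] S := σ e
  have he₂ : IsIdempotentElem e₂ := he.map σ
  let P'₂ : Ideal (R₂ ⊗[R] S) := P'.comap σ.symm.toRingEquiv.toRingHom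
  have hP'₂prime : P'₂.IsPrime := Ideal.comap_isPrime _ _
  have hP'₂lies : P'₂.LiesOver P₂ := by
    constructor
    ext x
    simp only [Ideal.under, Ideal.mem_comap]
    change _ ↔ σ.symm (algebraMap R₂ (R₂ ⊗[R] S) x) ∈ P'
    rw [AlgEquiv.commutes, ‹P'.LiesOver P₂›.over]
    rfl
  have heP'₂ : e₂ ∉ P'₂ := by
    change ¬ σ.symm (σ e) ∈ P'
    rwa [AlgEquiv.symm_apply_apply]
  have hcore₂ : ∀ t : R₂ ⊗[R] S, ∃ a : R₂, g • t - algebraMap R₂ _ a ∈ Ideal.span {1 - e₂} := by
    intro t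
    obtain ⟨t, rfl⟩ := σ.surjective t
    obtain ⟨a, ha⟩ := hcoreT t
    obtain ⟨c, hc⟩ := Ideal.mem_span_singleton'.mp ha
    refine ⟨a, Ideal.mem_span_singleton'.mpr ⟨σ c, ?_⟩⟩
    have := congrArg σ hc
    rw [map_mul, map_sub, map_one, map_sub, map_smul, AlgEquiv.commutes] at this
    exact this
  obtain ⟨p', hp'prime, hp'lies, A, _, _, B, _, _, E, h1, h2, h3, h4⟩ :=
    assembly P₂ e₂ he₂ P'₂ heP'₂ g hg hcore₂
  refine ⟨Localization.Away g, inferInstance, inferInstance, ?_, p', hp'prime, ?_, A, inferInstance,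
    inferInstance, B, inferInstance, inferInstance, E, h1, h2, h3, ?_⟩
  · exact Algebra.Etale.comp R R₂ (Localization.Away g)
  · constructor
    ext x
    simp only [Ideal.under, Ideal.mem_comap]
    have e1 : algebraMap R (Localization.Away g) x
        = algebraMap R₂ (Localization.Away g) (algebraMap R₁ R₂ (algebraMap R R₁ x)) := by
      rw [IsScalarTower.algebraMap_apply R R₂ (Localization.Away g)]
      rfl
    have e2 : algebraMap R₂ (Localization.Away g) (algebraMap R₁ R₂ (algebraMap R R₁ x)) ∈ p'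
        ↔ algebraMap R₁ R₂ (algebraMap R R₁ x) ∈ P₂ := by
      rw [hp'lies.over]; rfl
    have e3 : algebraMap R₁ R₂ (algebraMap R R₁ x) ∈ P₂ ↔ algebraMap R R₁ x ∈ p₁ := by
      rw [‹P₂.LiesOver p₁›.over]; rfl
    have e4 : algebraMap R R₁ x ∈ p₁ ↔ φ (algebraMap R₁ S₁ (algebraMap R R₁ x)) = 0 := Iff.rfl
    have e5 : φ (algebraMap R₁ S₁ (algebraMap R R₁ x)) = algebraMap S L (algebraMap R S x) := by
      rw [AlgHom.commutes, ← IsScalarTower.algebraMap_apply R R₁ L,
        IsScalarTower.algebraMap_apply R S L]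
    rw [e1, e2, e3, e4, e5, Ideal.algebraMap_residueField_eq_zero]
  · rw [h4]
    ext s
    simp only [Ideal.mem_comap]
    change σ.symm ((1 : R₂) ⊗ₜ[R] s) ∈ P' ↔ _
    have e1 : σ.symm ((1 : R₂) ⊗ₜ[R] s) = (1 : R₂) ⊗ₜ[R₁] ((1 : R₁) ⊗ₜ[R] s) :=
      Algebra.TensorProduct.cancelBaseChange_symm_tmul R R₁ R₂ R₂ S (1 : R₂) s
    rw [e1, hq₁q, ← hP'q]
    rfl

end Groth.Agent.S9452
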