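import Groth.Statements.S9449
import Mathlib
import Groth.Agent.Lib.Helper27.UnramBC
import Groth.Agent.S9452

set_option autoImplicit false
universe u
open Unram

namespace Groth.Agent.S9449

open TensorProduct Groth.Agent.Lib.Helper27.UnramBC

theorem fibre_dim_lt {R S R₁ A₁ B₁ : Type u} [CommRing R] [CommRing S] [Algebra R S]
    [CommRing R₁] [Algebra R R₁] [CommRing A₁] [Algebra R₁ A₁] [CommRing B₁] [Algebra R₁ B₁]
    (p : Ideal R) [p.IsPrime] (p₁ : Ideal R₁) [p₁.IsPrime] [p₁.LiesOver p]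
    [Module.Finite p.ResidueField (p.ResidueField ⊗[R] S)]
    (e₁ : (R₁ ⊗[R] S) ≃ₐ[R₁] (A₁ × B₁))
    (hA : Nontrivial (p₁.ResidueField ⊗[R₁] A₁)) :
    Module.finrank p₁.ResidueField (p₁.ResidueField ⊗[R₁] B₁) <
      Module.finrank p.ResidueField (p.ResidueField ⊗[R] S) := by
  let _ := Localization.AtPrime.algebraOfLiesOver p p₁
  let k := p.ResidueField
  let K := p₁.ResidueField
  have hT : IsScalarTower R k K := inferInstance
  let f1 : K ⊗[R₁] (R₁ ⊗[R] S) ≃ₗ[K] K ⊗[R₁] (A₁ × B₁) :=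
    TensorProduct.AlgebraTensorModule.congr (LinearEquiv.refl K K) e₁.toLinearEquiv
  let f2 : K ⊗[R₁] (R₁ ⊗[R] S) ≃ₗ[K] K ⊗[R] S :=
    TensorProduct.AlgebraTensorModule.cancelBaseChange R R₁ K K S
  let f3 : K ⊗[k] (k ⊗[R] S) ≃ₗ[K] K ⊗[R] S :=
    TensorProduct.AlgebraTensorModule.cancelBaseChange R k K K S
  let f4 : K ⊗[R₁] (A₁ × B₁) ≃ₗ[K] (K ⊗[R₁] A₁) × (K ⊗[R₁] B₁) :=
    TensorProduct.prodRight R₁ K K A₁ B₁
  have hd : Module.finrank K (K ⊗[k] (k ⊗[R] S)) = Module.finrank k (k ⊗[R] S) :=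
    Module.finrank_baseChange
  let F : K ⊗[k] (k ⊗[R] S) ≃ₗ[K] (K ⊗[R₁] A₁) × (K ⊗[R₁] B₁) :=
    f3.trans (f2.symm.trans (f1.trans f4))
  have hfinP : Module.Finite K ((K ⊗[R₁] A₁) × (K ⊗[R₁] B₁)) := Module.Finite.equiv F
  have hfinA : Module.Finite K (K ⊗[R₁] A₁) :=
    Module.Finite.of_surjective (LinearMap.fst K _ (K ⊗[R₁] B₁)) LinearMap.fst_surjective
  have hfinB : Module.Finite K (K ⊗[R₁] B₁) :=
    Module.Finite.of_surjective (LinearMap.snd K (K ⊗[R₁] A₁) _) LinearMap.snd_surjective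
  have h1 := F.finrank_eq
  rw [Module.finrank_prod, hd] at h1
  have hpos : 0 < Module.finrank K (K ⊗[R₁] A₁) := Module.finrank_pos
  change Module.finrank K (K ⊗[R₁] B₁) < Module.finrank k (k ⊗[R] S)
  omega

noncomputable def consProdEquiv {R' : Type u} [CommRing R'] {n : ℕ} (I₀ : Ideal R')
    (J : Fin n → Ideal R') (B : Type u) [CommRing B] [Algebra R' B] :
    ((R' ⧸ I₀) × ((∀ i, R' ⧸ J i) × B)) ≃ₐ[R']
      ((∀ i : Fin (n + 1), R' ⧸ (Fin.cons I₀ J : Fin (n + 1) → Ideal R') i) × B) where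
  toFun x := (Fin.cons (α := fun i => R' ⧸ (Fin.cons I₀ J : Fin (n + 1) → Ideal R') i) x.1 x.2.1,
    x.2.2)
  invFun y := (y.1 0, (fun i => y.1 i.succ, y.2))
  left_inv x := rfl
  right_inv y := by
    refine Prod.ext ?_ rfl
    funext i
    refine Fin.cases ?_ (fun j => ?_) i
    · rfl
    · rfl
  map_mul' x y := by
    refine Prod.ext ?_ rfl
    funext i
    refine Fin.cases ?_ (fun j => ?_) i
    · rfl
    · rfl
  map_add' x y := by
    refine Prod.ext ?_ rfl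
    funext i
    refine Fin.cases ?_ (fun j => ?_) i
    · rfl
    · rfl
  commutes' r := by
    refine Prod.ext ?_ rfl
    funext i
    refine Fin.cases ?_ (fun j => ?_) i
    · rfl
    · rfl

theorem nontrivial_fibre {R₁ A₁ : Type u} [CommRing R₁] [CommRing A₁] [Algebra R₁ A₁]
    (p₁ : Ideal R₁) [p₁.IsPrime]
    (hprime : (p₁.map (algebraMap R₁ A₁)).IsPrime)
    (hcomap : (p₁.map (algebraMap R₁ A₁)).comap (algebraMap R₁ A₁) = p₁) :
    Nontrivial (p₁.ResidueField ⊗[R₁] A₁) := by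
  let Q := p₁.map (algebraMap R₁ A₁)
  have hQ : Q.LiesOver p₁ := ⟨hcomap.symm⟩
  let _ := Localization.AtPrime.algebraOfLiesOver p₁ Q
  let f : p₁.ResidueField ⊗[R₁] A₁ →ₐ[R₁] Q.ResidueField :=
    Algebra.TensorProduct.lift (IsScalarTower.toAlgHom R₁ p₁.ResidueField Q.ResidueField)
      (IsScalarTower.toAlgHom R₁ A₁ Q.ResidueField) (fun _ _ => Commute.all _ _)
  exact f.toRingHom.domain_nontrivial

def Concl (R S : Type u) [CommRing R] [CommRing S] [Algebra R S] (p : Ideal R) : Prop :=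
  ∃ (R' : Type u) (_ : CommRing R') (_ : Algebra R R') (_ : Algebra.Etale R R') (p' : Ideal R')
    (_ : p'.IsPrime) (_ : p'.LiesOver p) (n : ℕ) (J : Fin n → Ideal R')
    (B : Type u) (_ : CommRing B) (_ : Algebra R' B),
    Nonempty ((R' ⊗[R] S) ≃ₐ[R'] ((∀ i, R' ⧸ J i) × B)) ∧ (∀ i, J i ≤ p') ∧
      ∀ (q : Ideal B) [q.IsPrime], q.comap (algebraMap R' B) ≠ p'

theorem base_case (R S : Type u) [CommRing R] [CommRing S] [Algebra R S] (p : Ideal R)
    [p.IsPrime] (h : ¬ ∃ q : Ideal S, q.IsPrime ∧ q.LiesOver p) : Concl R S p := by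
  refine ⟨R, inferInstance, inferInstance, inferInstance, p, inferInstance, ⟨by simp [Ideal.under]⟩,
    0, fun i => i.elim0, S, inferInstance, inferInstance, ?_, fun i => i.elim0, ?_⟩
  · exact ⟨(Algebra.TensorProduct.lid R S).trans AlgEquiv.uniqueProd.symm⟩
  · intro q hq hqp
    exact h ⟨q, hq, ⟨hqp.symm⟩⟩

theorem strong (d : ℕ) : ∀ (R S : Type u) [CommRing R] [CommRing S] [Algebra R S]
    [Algebra.Unramified R S] (p : Ideal R) [p.IsPrime],
    Module.finrank p.ResidueField (p.ResidueField ⊗[R] S) = d → Concl R S p := by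
  induction d using Nat.strong_induction_on with
  | _ d ih =>
  intro R S _ _ _ _ p _ hd
  by_cases h : ∃ q : Ideal S, q.IsPrime ∧ q.LiesOver p
  swap
  · exact base_case R S p h
  obtain ⟨q, hqprime, hqp⟩ := h
  obtain ⟨R₁, _, _, hEt₁, p₁, hp₁prime, hp₁lies, A₁, _, _, B₁, _, _, e₁, hsurj, hprime, hcomap, hq⟩ :=
    Groth.Agent.S9452.result R S q
  have hp₁p : p₁.LiesOver p := by rw [hqp.over]; exact hp₁lies
  have hfin : Module.Finite p.ResidueField (p.ResidueField ⊗[R] S) :=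
    Algebra.QuasiFinite.finite_fiber p
  have hnt : Nontrivial (p₁.ResidueField ⊗[R₁] A₁) := nontrivial_fibre p₁ hprime hcomap
  have hlt := fibre_dim_lt p p₁ e₁ hnt
  let sB : (R₁ ⊗[R] S) →ₐ[R₁] B₁ := (AlgHom.snd R₁ A₁ B₁).comp e₁.toAlgHom
  have hsB : Function.Surjective sB := by
    intro b
    exact ⟨e₁.symm (0, b), by simp [sB]⟩
  have hunB : Algebra.Unramified R₁ B₁ :=
    { formallyUnramified := Algebra.FormallyUnramified.of_surjective sB hsB
      finiteType := Algebra.FiniteType.of_surjective sB hsB }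
  obtain ⟨R₂, _, _, hEt₂, p₂, hp₂prime, hp₂lies, n, J, B₂, _, _, ⟨E₂⟩, hJ, hB₂⟩ :=
    ih _ (hd ▸ hlt) R₁ B₁ p₁ rfl
  let _ : Algebra R R₂ := ((algebraMap R₁ R₂).comp (algebraMap R R₁)).toAlgebra
  have hST₂ : IsScalarTower R R₁ R₂ := IsScalarTower.of_algebraMap_eq' rfl
  have hEtR₂ : Algebra.Etale R R₂ := Algebra.Etale.comp R R₁ R₂
  have hp₂p : p₂.LiesOver p := Ideal.LiesOver.trans p₂ p₁ p
  let J₁ : Ideal R₁ := RingHom.ker (Algebra.ofId R₁ A₁)
  have hJ₁ : J₁ ≤ p₁ := by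
    intro x hx
    rw [← hcomap, Ideal.mem_comap]
    have : algebraMap R₁ A₁ x = 0 := hx
    rw [this]
    exact Ideal.zero_mem _
  let a₁ : (R₁ ⧸ J₁) ≃ₐ[R₁] A₁ :=
    Ideal.quotientKerAlgEquivOfSurjective (f := Algebra.ofId R₁ A₁) hsurj
  let I₀ : Ideal R₂ := J₁.map (algebraMap R₁ R₂)
  have hI₀ : I₀ ≤ p₂ := by
    rw [Ideal.map_le_iff_le_comap]
    intro x hx
    have : x ∈ p₂.under R₁ := by rw [← hp₂lies.over]; exact hJ₁ hx
    exact this
  let c1 : R₂ ⊗[R] S ≃ₐ[R₂] R₂ ⊗[R₁] (R₁ ⊗[R] S) :=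
    (Algebra.TensorProduct.cancelBaseChange R R₁ R₂ R₂ S).symm
  let c2 : R₂ ⊗[R₁] (R₁ ⊗[R] S) ≃ₐ[R₂] R₂ ⊗[R₁] (A₁ × B₁) :=
    Algebra.TensorProduct.congr AlgEquiv.refl e₁
  let c3 : (R₂ ⊗[R₁] (A₁ × B₁)) ≃ₐ[R₂] ((R₂ ⊗[R₁] A₁) × (R₂ ⊗[R₁] B₁)) :=
    Algebra.TensorProduct.prodRight R₁ R₂ R₂ A₁ B₁
  let c4a : R₂ ⊗[R₁] A₁ ≃ₐ[R₂] R₂ ⧸ I₀ :=
    (Algebra.TensorProduct.congr AlgEquiv.refl a₁.symm).trans
      (Algebra.TensorProduct.quotIdealMapEquivTensorQuot R₂ J₁).symm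
  let c4 : ((R₂ ⊗[R₁] A₁) × (R₂ ⊗[R₁] B₁)) ≃ₐ[R₂] ((R₂ ⧸ I₀) × ((∀ i, R₂ ⧸ J i) × B₂)) :=
    AlgEquiv.prodCongr c4a E₂
  let c5 := consProdEquiv I₀ J B₂
  refine ⟨R₂, inferInstance, inferInstance, hEtR₂, p₂, hp₂prime, hp₂p, n + 1, Fin.cons I₀ J, B₂,
    inferInstance, inferInstance, ⟨c1.trans (c2.trans (c3.trans (c4.trans c5)))⟩, ?_, hB₂⟩
  intro i
  refine Fin.cases ?_ (fun j => ?_) i
  · exact hI₀
  · exact hJ j


open TensorProduct in
/-- For an unramified ring map R → S and a prime p of R there exist an étale R-algebra R', a prime p' of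
R' lying over p and a decomposition R' ⊗_R S ≅ A_1 × ⋯ × A_n × B of R'-algebras with every R' → A_i
surjective, p'A_i a prime ideal of A_i whose preimage in R' is p', and no prime of B lying over p'. -/
theorem result (R : Type u) [CommRing R]
    (S : Type u) [CommRing S] [Algebra R S] [Algebra.Unramified R S] (p : Ideal R) [p.IsPrime] :
    ∃ (R' : Type u) (_ : CommRing R') (_ : Algebra R R') (_ : Algebra.Etale R R') (p' : Ideal R')
      (_ : p'.IsPrime) (_ : p'.LiesOver p) (n : ℕ) (A : Fin n → Type u) (_ : ∀ i, CommRing (A i))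
      (_ : ∀ i, Algebra R' (A i)) (B : Type u) (_ : CommRing B) (_ : Algebra R' B),
      Nonempty ((R' ⊗[R] S) ≃ₐ[R'] ((∀ i, A i) × B)) ∧
        (∀ i, Function.Surjective (algebraMap R' (A i)) ∧
          (p'.map (algebraMap R' (A i))).IsPrime ∧
          (p'.map (algebraMap R' (A i))).comap (algebraMap R' (A i)) = p') ∧
        ∀ (q : Ideal B) [q.IsPrime], q.comap (algebraMap R' B) ≠ p' := by
  obtain ⟨R', _, _, hEt, p', hp'prime, hp'lies, n, J, B, _, _, hE, hJ, hB⟩ := strong _ R S p rfl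
  refine ⟨R', inferInstance, inferInstance, hEt, p', hp'prime, hp'lies, n, fun i => R' ⧸ J i,
    fun i => inferInstance, fun i => inferInstance, B, inferInstance, inferInstance, hE, ?_, hB⟩
  intro i
  refine ⟨Ideal.Quotient.mk_surjective, ?_, ?_⟩
  · exact Ideal.map_isPrime_of_surjective (f := Ideal.Quotient.mk (J i))
      Ideal.Quotient.mk_surjective (by rw [Ideal.mk_ker]; exact hJ i)
  · change (p'.map (Ideal.Quotient.mk (J i))).comap (Ideal.Quotient.mk (J i)) = p'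
    rw [Ideal.comap_map_of_surjective _ Ideal.Quotient.mk_surjective, ← RingHom.ker_eq_comap_bot,
      Ideal.mk_ker]
    exact sup_eq_left.mpr (hJ i)

end Groth.Agent.S9449
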