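import Groth.Statements.S9450
import Mathlib.RingTheory.Smooth.Kaehler

set_option autoImplicit false
universe u
open CAlg

namespace Groth.Agent.S9450

open Algebra Algebra.Extension

theorem result (A : Type u) [CommRing A]
    (B : Type u) [CommRing B] [Algebra A B] [Algebra.FormallySmooth A B] (C : Type u) [CommRing C]
    [Algebra B C] [Algebra A C] [IsScalarTower A B C] (hC : Function.Surjective (algebraMap A C)) :
    Function.Injective (Ideal.mapCotangent (RingHom.ker (algebraMap A C))
        (RingHom.ker (algebraMap B C)) (Algebra.ofId A B)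
        (le_of_eq (congrArg RingHom.ker (IsScalarTower.algebraMap_eq A B C)))) ∧
      (∃ r : (RingHom.ker (algebraMap B C)).Cotangent →ₗ[A] (RingHom.ker (algebraMap A C)).Cotangent,
        r ∘ₗ (Ideal.mapCotangent (RingHom.ker (algebraMap A C)) (RingHom.ker (algebraMap B C))
          (Algebra.ofId A B)
          (le_of_eq (congrArg RingHom.ker (IsScalarTower.algebraMap_eq A B C)))) = LinearMap.id) ∧
      LinearMap.range (Ideal.mapCotangent (RingHom.ker (algebraMap A C))
          (RingHom.ker (algebraMap B C)) (Algebra.ofId A B)
          (le_of_eq (congrArg RingHom.ker (IsScalarTower.algebraMap_eq A B C)))) =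
        LinearMap.ker ((KaehlerDifferential.kerCotangentToTensor A B C).restrictScalars A) ∧
      Function.Surjective (KaehlerDifferential.kerCotangentToTensor A B C) := by
  have hBC : Function.Surjective (algebraMap B C) := by
    intro c
    obtain ⟨a, rfl⟩ := hC c
    exact ⟨algebraMap A B a, (IsScalarTower.algebraMap_apply A B C a).symm⟩
  let P₁ : Algebra.Extension.{u} A C :=
    { Ring := A, σ := Function.surjInv hC, algebraMap_σ := Function.surjInv_eq hC }
  let P₂ : Algebra.Extension.{u} A C :=
    { Ring := B, σ := Function.surjInv hBC, algebraMap_σ := Function.surjInv_eq hBC }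
  haveI : Algebra.FormallySmooth A P₁.Ring := (inferInstance : Algebra.FormallySmooth A A)
  haveI : Algebra.FormallySmooth A P₂.Ring := ‹Algebra.FormallySmooth A B›
  let f : P₁.Hom P₂ :=
    { toRingHom := algebraMap A B
      toRingHom_algebraMap := fun x => rfl
      algebraMap_toRingHom := fun x => (IsScalarTower.algebraMap_apply A B C x).symm }
  set ι := Ideal.mapCotangent (RingHom.ker (algebraMap A C))
        (RingHom.ker (algebraMap B C)) (Algebra.ofId A B)
        (le_of_eq (congrArg RingHom.ker (IsScalarTower.algebraMap_eq A B C))) with hι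
  have hιf : ∀ x : (RingHom.ker (algebraMap A C)).Cotangent,
      ι x = (Extension.Cotangent.map f (Extension.Cotangent.of x)).val := by
    intro x
    obtain ⟨x, rfl⟩ := Ideal.toCotangent_surjective _ x
    rfl
  -- the retraction on the level of extensions
  let e₁ : P₁.Cotangent ≃ₗ[C] P₁.infinitesimal.Cotangent :=
    LinearEquiv.ofBijective (Extension.Cotangent.map P₁.toInfinitesimal)
      (Extension.Cotangent.map_toInfinitesimal_bijective P₁)
  let r' : P₂.Cotangent →ₗ[C] P₁.Cotangent :=
    e₁.symm.toLinearMap ∘ₗ (Extension.Cotangent.map (P₂.homInfinitesimal P₁)) ∘ₗ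
      (Extension.Cotangent.map P₂.toInfinitesimal)
  have hr' : ∀ x, r' (Extension.Cotangent.map f x) = x := by
    intro x
    simp only [r', LinearMap.comp_apply, LinearEquiv.coe_coe]
    rw [LinearEquiv.symm_apply_eq]
    have h1 : ((P₂.homInfinitesimal P₁).comp (P₂.toInfinitesimal.comp f)) = P₁.toInfinitesimal := by
      apply Extension.Hom.ext
      apply RingHom.ext
      intro a
      have := ((P₂.homInfinitesimal P₁).comp (P₂.toInfinitesimal.comp f)).toRingHom_algebraMap a
      have h2 := (P₁.toInfinitesimal).toRingHom_algebraMap a
      exact this.trans h2.symm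
    have h3 := Extension.Cotangent.map_comp (f := P₂.toInfinitesimal.comp f)
      (g := P₂.homInfinitesimal P₁)
    have h4 := Extension.Cotangent.map_comp (f := f) (g := P₂.toInfinitesimal)
    rw [h1] at h3
    have := congrArg (fun l => l x) h3
    simp only [LinearMap.comp_apply, LinearMap.restrictScalars_apply, h4] at this
    exact this.symm
  let r : (RingHom.ker (algebraMap B C)).Cotangent →ₗ[A]
      (RingHom.ker (algebraMap A C)).Cotangent :=
    { toFun := fun x => (r' (Extension.Cotangent.of x)).val
      map_add' := fun x y => by
        have : (Extension.Cotangent.of (x + y) : P₂.Cotangent) =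
            Extension.Cotangent.of x + Extension.Cotangent.of y := rfl
        rw [this, map_add]
        rfl
      map_smul' := fun a x => by
        have h1 : (Extension.Cotangent.of (a • x) : P₂.Cotangent) =
            a • (Extension.Cotangent.of x : P₂.Cotangent) := by
          apply Extension.Cotangent.ext
          rw [Extension.Cotangent.val_smul'']
          rfl
        rw [h1, LinearMap.map_smul_of_tower, Extension.Cotangent.val_smul'']
        rfl }
  have hrι : ∀ x, r (ι x) = x := by
    intro x
    change (r' (Extension.Cotangent.of (ι x))).val = x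
    rw [hιf x]
    change (r' (Extension.Cotangent.map f (Extension.Cotangent.of x))).val = x
    rw [hr']
    rfl
  have hsurjH1 : Function.Surjective (Extension.H1Cotangent.map f) := by
    intro y
    have := Extension.H1Cotangent.equivOfFormallySmooth_toLinearMap f
    rw [← this]
    exact (Extension.H1Cotangent.equivOfFormallySmooth P₁ P₂).surjective y
  refine ⟨?_, ⟨r, LinearMap.ext hrι⟩, ?_, ?_⟩
  · exact Function.LeftInverse.injective hrι
  · apply le_antisymm
    · rintro _ ⟨x, rfl⟩
      obtain ⟨x, rfl⟩ := Ideal.toCotangent_surjective _ x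
      rw [LinearMap.mem_ker, LinearMap.restrictScalars_apply, hι, Ideal.mapCotangent_toCotangent,
        KaehlerDifferential.kerCotangentToTensor_toCotangent]
      simp
    · intro y hy
      rw [LinearMap.mem_ker, LinearMap.restrictScalars_apply] at hy
      have hy' : (Extension.Cotangent.of y : P₂.Cotangent) ∈ LinearMap.ker P₂.cotangentComplex := by
        rw [LinearMap.mem_ker]
        obtain ⟨y, rfl⟩ := Ideal.toCotangent_surjective _ y
        exact hy
      obtain ⟨z, hz⟩ := hsurjH1 ⟨Extension.Cotangent.of y, hy'⟩
      refine ⟨z.1.val, ?_⟩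
      rw [hιf]
      have := congrArg (fun w : P₂.H1Cotangent => w.1.val) hz
      exact this
  · have h1 := KaehlerDifferential.range_kerCotangentToTensor A B C hBC
    have : Subsingleton (Ω[C⁄A]) := KaehlerDifferential.subsingleton_of_surjective A C hC
    rw [← LinearMap.range_eq_top, h1]
    ext x
    simp [Subsingleton.elim _ (0 : Ω[C⁄A])]

end Groth.Agent.S9450
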