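import Groth.Statements.S9451
import Mathlib.RingTheory.Smooth.NoetherianDescent
import Mathlib.Algebra.Category.Ring.FinitePresentation

set_option autoImplicit false
universe u
open CategoryTheory CategoryTheory.Limits TensorProduct
open CAlg

namespace Groth.Agent.S9451

theorem aux (A : Type u) [CommRing A] (A₀ : Type u) [CommRing A₀] [Algebra A₀ A]
    (B₀ : Type u) [CommRing B₀] [Algebra A₀ B₀] [Algebra.Smooth A₀ B₀]
    (B : Type u) [CommRing B] [Algebra A B] (e : B ≃ₐ[A] A ⊗[A₀] B₀)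
    (Ai : Type u) [CommRing Ai] [Algebra Ai A] (g : A₀ →+* Ai)
    (hg : (algebraMap Ai A).comp g = algebraMap A₀ A) :
    ∃ (Bi : Type u) (_ : CommRing Bi) (_ : Algebra Ai Bi),
      Algebra.Smooth Ai Bi ∧ Nonempty (B ≃ₐ[A] (A ⊗[Ai] Bi)) := by
  letI : Algebra A₀ Ai := g.toAlgebra
  haveI : IsScalarTower A₀ Ai A := IsScalarTower.of_algebraMap_eq' hg.symm
  refine ⟨Ai ⊗[A₀] B₀, inferInstance, inferInstance, inferInstance, ⟨?_⟩⟩
  exact e.trans (Algebra.TensorProduct.cancelBaseChange A₀ Ai A A B₀).symm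

theorem result {I : Type u} [SmallCategory I] [IsFiltered I]
    (D : I ⥤ CommRingCat.{u}) (c : Cocone D) (hc : IsColimit c) (B : Type u) [CommRing B]
    [Algebra c.pt B] [Algebra.Smooth c.pt B] :
    ∃ (i : I) (Bi : Type u) (_ : CommRing Bi) (_ : Algebra (D.obj i) Bi),
      Algebra.Smooth (D.obj i) Bi ∧
      (letI : Algebra (D.obj i) c.pt := (c.ι.app i).hom.toAlgebra
       Nonempty (B ≃ₐ[c.pt] (c.pt ⊗[D.obj i] Bi))) := by
  obtain ⟨A₀, B₀, _, _, hfg, hsm, ⟨e⟩⟩ := Algebra.Smooth.exists_subalgebra_fg ℤ c.pt B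
  let R : CommRingCat.{u} := CommRingCat.of (ULift.{u} ℤ)
  let α : (Functor.const I).obj R ⟶ D :=
    { app := fun i => CommRingCat.isInitial.to (D.obj i)
      naturality := fun i j f => CommRingCat.isInitial.hom_ext _ _ }
  let S : CommRingCat.{u} := CommRingCat.of A₀
  let f : R ⟶ S := CommRingCat.isInitial.to S
  have hft : Algebra.FiniteType ℤ A₀ := (Subalgebra.fg_iff_finiteType A₀).mp hfg
  have hf : f.hom.FinitePresentation := by
    have h1 : (algebraMap ℤ A₀).FinitePresentation := by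
      rw [RingHom.FinitePresentation]
      convert Algebra.FinitePresentation.of_finiteType.mp hft
      exact Algebra.algebra_ext _ _ (fun r => rfl)
    have h2 : (ULift.ringEquiv (R := ℤ)).toRingHom.FinitePresentation :=
      RingHom.FinitePresentation.of_surjective _ (ULift.ringEquiv (R := ℤ)).surjective
        (by
          have : RingHom.ker (ULift.ringEquiv (R := ℤ)).toRingHom = ⊥ :=
            (RingHom.injective_iff_ker_eq_bot _).mp (ULift.ringEquiv (R := ℤ)).injective
          rw [this]; exact Submodule.fg_bot)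
    have := h1.comp h2
    convert this using 1
    exact congrArg CommRingCat.Hom.hom (CommRingCat.isInitial.hom_ext f
      (CommRingCat.ofHom ((algebraMap ℤ A₀).comp (ULift.ringEquiv (R := ℤ)).toRingHom)))
  let g : S ⟶ c.pt := CommRingCat.ofHom (algebraMap A₀ c.pt)
  obtain ⟨i, g', -, hg'⟩ := RingHom.EssFiniteType.exists_eq_comp_ι_app_of_isColimit R D α f c hc hf g
    (fun i => CommRingCat.isInitial.hom_ext _ _)
  letI : Algebra (D.obj i) c.pt := (c.ι.app i).hom.toAlgebra
  obtain ⟨Bi, _, _, h1, h2⟩ := aux c.pt A₀ B₀ B e (D.obj i) g'.hom (by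
    have := congrArg CommRingCat.Hom.hom hg'
    exact this.symm)
  exact ⟨i, Bi, _, _, h1, h2⟩

end Groth.Agent.S9451
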