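import Groth.Statements.S9454
import Groth.Agent.S9453
import Mathlib.RingTheory.Unramified.LocalStructure
import Mathlib.RingTheory.FiniteStability
import Mathlib.RingTheory.TensorProduct.Finite

set_option autoImplicit false
universe u
open CAlg

namespace Groth.Agent.S9454


open TensorProduct in
/-- Inductive step: finitely many standard étale localizations of `S` are simultaneously
dominated by one finite flat cover of `R`. -/
theorem ind (R : Type u) [CommRing R] (S : Type u) [CommRing S] [Algebra R S] (l : List S)
    (hl : ∀ s ∈ l, Algebra.IsStandardEtale R (Localization.Away s)) :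
    ∃ (S' : Type u) (_ : CommRing S') (_ : Algebra R S'),
      Module.Finite R S' ∧ Algebra.FinitePresentation R S' ∧ Module.Flat R S' ∧
      Function.Surjective (PrimeSpectrum.comap (algebraMap R S')) ∧
      ∀ (q : Ideal S) [q.IsPrime] (q' : Ideal S') [q'.IsPrime], q'.under R = q.under R →
        (∃ s ∈ l, s ∉ q) → ∃ (g' : S') (_ : g' ∉ q'), Nonempty (S →ₐ[R] Localization.Away g') := by
  classical
  induction l with
  | nil =>
    refine ⟨R, inferInstance, inferInstance, inferInstance, inferInstance, inferInstance, ?_, ?_⟩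
    · intro p
      exact ⟨p, by ext x; simp⟩
    · intro q _ q' _ _ h
      obtain ⟨s, hs, -⟩ := h
      simp at hs
  | cons s l ih =>
    obtain ⟨S₁, _, _, hfin₁, hfp₁, hflat₁, hsurj₁, hkey₁⟩ :=
      ih (fun t ht => hl t (List.mem_cons_of_mem _ ht))
    have hstd : Algebra.IsStandardEtale R (Localization.Away s) := hl s List.mem_cons_self
    obtain ⟨S₂, _, _, hfin₂, hfp₂, hflat₂, hsurj₂, hkey₂⟩ :=
      Groth.Agent.S9453.result R (Localization.Away s)
    have hfp : Algebra.FinitePresentation R (S₁ ⊗[R] S₂) :=
      Algebra.FinitePresentation.trans R S₁ (S₁ ⊗[R] S₂)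
    refine ⟨S₁ ⊗[R] S₂, inferInstance, inferInstance, inferInstance, hfp, inferInstance, ?_, ?_⟩
    · intro p
      obtain ⟨p₁, hp₁⟩ := hsurj₁ p
      obtain ⟨p₂, hp₂⟩ := hsurj₂ p
      obtain ⟨Q, hQ, hQl, hQr⟩ := Groth.Agent.Lib.Helper35.exists_prime_tensor (R := R)
        p₁.asIdeal p₂.asIdeal (by
          have e1 := congrArg PrimeSpectrum.asIdeal hp₁
          have e2 := congrArg PrimeSpectrum.asIdeal hp₂
          exact e1.trans e2.symm)
      refine ⟨⟨Q, hQ⟩, ?_⟩
      ext x
      have e1 := congrArg PrimeSpectrum.asIdeal hp₁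
      change algebraMap R (S₁ ⊗[R] S₂) x ∈ Q ↔ x ∈ p.asIdeal
      rw [← e1]
      change _ ↔ algebraMap R S₁ x ∈ p₁.asIdeal
      rw [← hQl]
      rfl
    · intro q _ q' _ hqq' hex
      by_cases hsq : s ∉ q
      · -- use the new cover
        have hdisj : Disjoint (Submonoid.powers s : Set S) (q : Set S) := by
          rw [Set.disjoint_left]
          rintro _ ⟨n, rfl⟩ h
          exact hsq (Ideal.IsPrime.mem_of_pow_mem inferInstance n h)
        let qA : Ideal (Localization.Away s) := q.map (algebraMap S (Localization.Away s))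
        have hqA : qA.IsPrime := IsLocalization.isPrime_of_isPrime_disjoint (Submonoid.powers s)
          (Localization.Away s) q inferInstance hdisj
        have hqAcomap : qA.comap (algebraMap S (Localization.Away s)) = q :=
          IsLocalization.comap_map_of_isPrime_disjoint (Submonoid.powers s) (Localization.Away s)
            inferInstance hdisj
        let q₂ : Ideal S₂ := q'.comap
          (Algebra.TensorProduct.includeRight : S₂ →ₐ[R] S₁ ⊗[R] S₂)
        have hq₂ : q₂.IsPrime := Ideal.comap_isPrime _ _
        have h1 : q₂.under R = qA.under R := by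
          have e1 : qA.under R = (qA.comap (algebraMap S (Localization.Away s))).comap
              (algebraMap R S) := by
            rw [Ideal.under, Ideal.comap_comap, ← IsScalarTower.algebraMap_eq]
          rw [e1, hqAcomap]
          change _ = q.under R
          rw [← hqq']
          ext x
          change (Algebra.TensorProduct.includeRight (algebraMap R S₂ x) : S₁ ⊗[R] S₂) ∈ q' ↔
            algebraMap R (S₁ ⊗[R] S₂) x ∈ q'
          rw [AlgHom.commutes]
        obtain ⟨g₂, hg₂, φ, -⟩ := hkey₂ qA q₂ h1
        refine ⟨Algebra.TensorProduct.includeRight g₂, hg₂, ⟨?_⟩⟩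
        exact ((Localization.awayMapₐ
          (Algebra.TensorProduct.includeRight : S₂ →ₐ[R] S₁ ⊗[R] S₂) g₂).comp φ).comp
          (IsScalarTower.toAlgHom R S (Localization.Away s))
      · -- use the inductive cover
        have hex' : ∃ t ∈ l, t ∉ q := by
          obtain ⟨t, ht, htq⟩ := hex
          rcases List.mem_cons.mp ht with rfl | ht'
          · exact absurd htq hsq
          · exact ⟨t, ht', htq⟩
        let q₁ : Ideal S₁ := q'.comap
          (Algebra.TensorProduct.includeLeft : S₁ →ₐ[R] S₁ ⊗[R] S₂)
        have hq₁ : q₁.IsPrime := Ideal.comap_isPrime _ _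
        have h1 : q₁.under R = q.under R := by
          rw [← hqq']
          ext x
          change (Algebra.TensorProduct.includeLeft (algebraMap R S₁ x) : S₁ ⊗[R] S₂) ∈ q' ↔
            algebraMap R (S₁ ⊗[R] S₂) x ∈ q'
          rw [AlgHom.commutes]
        obtain ⟨g₁, hg₁, ⟨ψ⟩⟩ := hkey₁ q q₁ h1 hex'
        refine ⟨Algebra.TensorProduct.includeLeft g₁, hg₁, ⟨?_⟩⟩
        exact (Localization.awayMapₐ
          (Algebra.TensorProduct.includeLeft : S₁ →ₐ[R] S₁ ⊗[R] S₂) g₁).comp ψ

/-- For an étale ring map R → S which is surjective on spectra there is a finite, finitely presented,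
flat R-algebra S' with Spec S' → Spec R surjective such that, Zariski locally on S', the structure
map factors through S: every prime q' of S' has some g' ∉ q' and an R-algebra map S → S'_{g'}. -/
theorem result (R : Type u) [CommRing R]
    (S : Type u) [CommRing S] [Algebra R S] [Algebra.Etale R S]
    (hs : Function.Surjective (PrimeSpectrum.comap (algebraMap R S))) :
    ∃ (S' : Type u) (_ : CommRing S') (_ : Algebra R S'),
      Module.Finite R S' ∧ Algebra.FinitePresentation R S' ∧ Module.Flat R S' ∧
        Function.Surjective (PrimeSpectrum.comap (algebraMap R S')) ∧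
        ∀ (q' : Ideal S') [q'.IsPrime], ∃ (g' : S') (_ : g' ∉ q'),
          Nonempty (S →ₐ[R] Localization.Away g') := by
  classical
  -- a finite cover of `Spec S` by standard étale basic opens
  let A : Set S := {s | Algebra.IsStandardEtale R (Localization.Away s)}
  have hspan : Ideal.span A = ⊤ := by
    by_contra hne
    obtain ⟨m, hm, hle⟩ := Ideal.exists_le_maximal _ hne
    have hEt : Algebra.IsEtaleAt R m := by
      have : Algebra.FormallyEtale S (Localization.AtPrime m) :=
        Algebra.FormallyEtale.of_isLocalization m.primeCompl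
      exact Algebra.FormallyEtale.comp R S _
    obtain ⟨s, hsm, hstd⟩ := Algebra.IsEtaleAt.exists_isStandardEtale (R := R) m
    exact hsm (hle (Ideal.subset_span hstd))
  have hone : (1 : S) ∈ Ideal.span A := by rw [hspan]; trivial
  obtain ⟨F, hFA, hF⟩ := Submodule.mem_span_finite_of_mem_span hone
  obtain ⟨S', _, _, hfin, hfp, hflat, hsurj, hkey⟩ := ind R S F.toList
    (fun s hs => hFA (Finset.mem_toList.mp hs))
  refine ⟨S', inferInstance, inferInstance, hfin, hfp, hflat, hsurj, ?_⟩
  intro q' _
  obtain ⟨q, hq⟩ := hs ⟨q'.under R, inferInstance⟩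
  have h1 : q'.under R = q.asIdeal.under R := (congrArg PrimeSpectrum.asIdeal hq).symm
  have hex : ∃ s ∈ F.toList, s ∉ q.asIdeal := by
    by_contra hcon
    push Not at hcon
    have hle : Ideal.span (F : Set S) ≤ q.asIdeal :=
      Ideal.span_le.mpr (fun s hs => hcon s (Finset.mem_toList.mpr hs))
    exact q.2.ne_top ((Ideal.eq_top_iff_one _).mpr (hle hF))
  obtain ⟨g', hg', hne⟩ := hkey q.asIdeal q' h1 hex
  exact ⟨g', hg', hne⟩

end Groth.Agent.S9454
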