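import Groth.Statements.S9455
-- import your own Groth.Agent.* helpers here
import Mathlib
import Groth.Agent.Lib.Helper49.MacLane
import Groth.Agent.Lib.Helper49.CoeffField

set_option autoImplicit false
universe u
open CAlg

namespace Groth.Agent.S9455

open TensorProduct

theorem flat_zmod_quotient (Λ : Type u) [CommRing Λ] [Module.Flat ℤ Λ] (N : ℕ) (x : Λ)
    (hx : x = (N : Λ)) (f : ZMod N →+* Λ ⧸ Ideal.span {x}) : f.Flat := by
  subst hx
  algebraize [f]
  let I : Ideal ℤ := Ideal.span {(N : ℤ)}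
  have hI : I.map (algebraMap ℤ Λ) = Ideal.span {(N : Λ)} := by
    simp [I, Ideal.map_span]
  let e0 : (ℤ ⧸ I) ≃ₗ[ℤ] ZMod N := (Int.quotientSpanNatEquivZMod N).toAddEquiv.toIntLinearEquiv
  let e1 : ((ℤ ⧸ I) ⊗[ℤ] Λ) ≃ₗ[ℤ] (ZMod N ⊗[ℤ] Λ) := TensorProduct.congr e0 (LinearEquiv.refl ℤ Λ)
  let e2 : (Λ ⧸ I.map (algebraMap ℤ Λ)) ≃+ ((ℤ ⧸ I) ⊗[ℤ] Λ) :=
    (Algebra.TensorProduct.quotIdealMapEquivQuotTensor Λ I).toRingEquiv.toAddEquiv
  let e3 : (Λ ⧸ Ideal.span {(N : Λ)}) ≃+ (Λ ⧸ I.map (algebraMap ℤ Λ)) :=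
    (Ideal.quotEquivOfEq hI.symm).toAddEquiv
  let e : (ZMod N ⊗[ℤ] Λ) ≃+ (Λ ⧸ Ideal.span {(N : Λ)}) :=
    ((e3.trans e2).trans e1.toAddEquiv).symm
  let e' : (ZMod N ⊗[ℤ] Λ) ≃ₗ[ZMod N] (Λ ⧸ Ideal.span {(N : Λ)}) :=
    { e with map_smul' := (AddMonoidHom.toZModLinearMap N e.toAddMonoidHom).map_smul }
  exact Module.Flat.of_linearEquiv e'.symm

theorem formallySmooth_zmod_field (p : ℕ) [Fact p.Prime] (K : Type u) [Field K]
    [Algebra (ZMod p) K] : Algebra.FormallySmooth (ZMod p) K := by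
  have : CharP K p := by
    have := (algebraMap (ZMod p) K).injective
    exact charP_of_injective_algebraMap this p
  let : Algebra (ULift.{u} (ZMod p)) K := ULift.algebra' (ZMod p) K
  have hfs : Algebra.FormallySmooth (ULift.{u} (ZMod p)) K :=
    Groth.Agent.Lib.Helper49.MacLane.formallySmooth_of_perfect p
  have : IsScalarTower (ZMod p) (ULift.{u} (ZMod p)) K :=
    IsScalarTower.of_algebraMap_eq' (Subsingleton.elim _ _)
  have : Algebra.FormallySmooth (ZMod p) (ULift.{u} (ZMod p)) :=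
    Algebra.FormallySmooth.of_equiv (ULift.algEquiv (R := ZMod p) (A := ZMod p)).symm
  exact Algebra.FormallySmooth.comp (ZMod p) (ULift.{u} (ZMod p)) K

theorem ringHom_formallySmooth_zmod_field (p : ℕ) [Fact p.Prime] (K : Type u) [Field K]
    (f : ZMod p →+* K) : f.FormallySmooth := by
  algebraize [f]
  exact formallySmooth_zmod_field p K

theorem ker_castHom (p m : ℕ) :
    RingHom.ker (ZMod.castHom (pow_dvd_pow p (Nat.le_succ m)) (ZMod (p ^ m))) =
      Ideal.span {((p ^ m : ℕ) : ZMod (p ^ (m + 1)))} := by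
  apply le_antisymm
  · intro x hx
    obtain ⟨a, rfl⟩ := ZMod.intCast_surjective x
    rw [RingHom.mem_ker, map_intCast, ZMod.intCast_zmod_eq_zero_iff_dvd] at hx
    obtain ⟨c, rfl⟩ := hx
    rw [Ideal.mem_span_singleton]
    exact ⟨(c : ZMod _), by push_cast; ring⟩
  · rw [Ideal.span_le, Set.singleton_subset_iff, SetLike.mem_coe, RingHom.mem_ker, map_natCast]
    exact ZMod.natCast_self _

theorem step (Λ : Type u) [CommRing Λ] [Module.Flat ℤ Λ] (p m : ℕ) (hm : 1 ≤ m)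
    (f : ZMod (p ^ (m + 1)) →+* Λ ⧸ Ideal.span {(p : Λ) ^ (m + 1)})
    (g : ZMod (p ^ m) →+* Λ ⧸ Ideal.span {(p : Λ) ^ m}) (hg : g.FormallySmooth) :
    f.FormallySmooth := by
  have hle : Ideal.span {(p : Λ) ^ (m + 1)} ≤ Ideal.span {(p : Λ) ^ m} := by
    rw [Ideal.span_singleton_le_span_singleton]
    exact pow_dvd_pow _ (Nat.le_succ m)
  refine RingHom.FormallySmooth.of_flat_of_ker_eq_map_of_square_zero f
    (flat_zmod_quotient Λ _ _ (by push_cast; rfl) f)
    (ZMod.castHom (pow_dvd_pow p (Nat.le_succ m)) (ZMod (p ^ m)))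
    (Ideal.Quotient.factor hle) g (ZMod.castHom_surjective _)
    (Ideal.Quotient.factor_surjective hle) (Subsingleton.elim _ _) ?_ ?_ hg
  · rw [ker_castHom, Ideal.span_singleton_pow, ← Nat.cast_pow, Ideal.span_singleton_eq_bot,
      ZMod.natCast_eq_zero_iff]
    rw [← pow_mul]
    apply pow_dvd_pow
    nlinarith
  · rw [ker_castHom, Ideal.map_span, Set.image_singleton, map_natCast]
    ext y
    obtain ⟨y, rfl⟩ := Ideal.Quotient.mk_surjective y
    rw [RingHom.mem_ker, Ideal.Quotient.factor_mk, Ideal.Quotient.eq_zero_iff_mem,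
      Ideal.mem_span_singleton, Ideal.mem_span_singleton]
    constructor
    · rintro ⟨c, rfl⟩
      exact ⟨Ideal.Quotient.mk _ c, by push_cast; rfl⟩
    · rintro ⟨c, hc⟩
      obtain ⟨c, rfl⟩ := Ideal.Quotient.mk_surjective c
      have h2 : y - (p : Λ) ^ m * c ∈ Ideal.span {(p : Λ) ^ (m + 1)} := by
        rw [← Ideal.Quotient.eq_zero_iff_mem, map_sub, hc]
        push_cast
        simp
      obtain ⟨d, hd⟩ := Ideal.mem_span_singleton.mp h2
      exact ⟨c + p * d, by linear_combination hd⟩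

theorem charZero_of_dvr (Λ : Type u) [CommRing Λ] [IsDomain Λ]
    [IsDiscreteValuationRing Λ] (p : ℕ)
    (hp : p.Prime) (hm : IsLocalRing.maximalIdeal Λ = Ideal.span {(p : Λ)}) : CharZero Λ := by
  have hp0 : (p : Λ) ≠ 0 := by
    intro h0
    rw [h0] at hm
    apply IsDiscreteValuationRing.not_a_field Λ
    rw [hm]
    simp
  have hpm : (p : Λ) ∈ IsLocalRing.maximalIdeal Λ := by
    rw [hm]
    exact Ideal.mem_span_singleton_self _
  have hr : ∀ r : ℕ, ¬ p ∣ r → (r : Λ) ≠ 0 := by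
    intro r hr h0
    have hcop : IsCoprime (p : ℤ) (r : ℤ) := by
      rw [Nat.isCoprime_iff_coprime]
      exact (Nat.Prime.coprime_iff_not_dvd hp).mpr hr
    obtain ⟨a, b, hab⟩ := hcop
    have h1 : ((a : Λ)) * (p : Λ) + (b : Λ) * (r : Λ) = 1 := by
      have := congrArg (Int.cast : ℤ → Λ) hab
      push_cast at this
      exact this
    rw [h0, mul_zero, add_zero] at h1
    have : (1 : Λ) ∈ IsLocalRing.maximalIdeal Λ := by
      rw [← h1]
      exact Ideal.mul_mem_left _ _ hpm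
    exact (Ideal.ne_top_iff_one _).mp (IsLocalRing.maximalIdeal.isMaximal Λ).ne_top this
  refine charZero_of_inj_zero fun q hq => ?_
  by_contra hq0
  obtain ⟨k, r, hr', rfl⟩ := Nat.exists_eq_pow_mul_and_not_dvd hq0 p hp.ne_one
  push_cast at hq
  rcases mul_eq_zero.mp hq with h | h
  · exact pow_ne_zero k hp0 h
  · exact hr r hr' h

theorem exists_ringHom_zmod (N : ℕ) {R : Type*} [CommRing R] (hN : (N : R) = 0) :
    Nonempty (ZMod N →+* R) := by
  obtain ⟨φ⟩ := Groth.Agent.Lib.Helper49.CoeffField.exists_ringHom_ulift_zmod.{0} N hN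
  exact ⟨φ.comp (ULift.ringEquiv : ULift.{0} (ZMod N) ≃+* ZMod N).symm.toRingHom⟩

theorem main (Λ : Type u) [CommRing Λ] [IsDomain Λ]
    [IsDiscreteValuationRing Λ] (p : ℕ)
    (hp : p.Prime) (hm : IsLocalRing.maximalIdeal Λ = Ideal.span {(p : Λ)}) (n : ℕ) (hn : 1 ≤ n) :
    ∀ f : ZMod (p ^ n) →+* (Λ ⧸ Ideal.span {((p : Λ) ^ n)}), f.FormallySmooth := by
  have := charZero_of_dvr Λ p hp hm
  have : Fact p.Prime := ⟨hp⟩
  induction n, hn using Nat.le_induction with
  | base =>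
    have key : ∀ (N : ℕ) (x : Λ), N = p → x = (p : Λ) →
        ∀ f : ZMod N →+* (Λ ⧸ Ideal.span {x}), f.FormallySmooth := by
      intro N x hN hx f
      subst hN hx
      have : (Ideal.span {(N : Λ)}).IsMaximal := by
        rw [← hm]
        infer_instance
      let : Field (Λ ⧸ Ideal.span {(N : Λ)}) := Ideal.Quotient.field _
      exact ringHom_formallySmooth_zmod_field N _ f
    exact key _ _ (pow_one p) (pow_one _)
  | succ m hm1 ih =>
    intro f
    have hN : ((p ^ m : ℕ) : Λ ⧸ Ideal.span {((p : Λ) ^ m)}) = 0 := by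
      rw [← map_natCast (Ideal.Quotient.mk _), Ideal.Quotient.eq_zero_iff_mem]
      push_cast
      exact Ideal.mem_span_singleton_self _
    obtain ⟨g⟩ := exists_ringHom_zmod (p ^ m) hN
    exact step Λ p m hm1 f g (ih g)

/-- If Λ is a Cohen ring (a complete discrete valuation ring with maximal ideal generated by a prime
number p) then Λ/p^nΛ is formally smooth over ℤ/p^nℤ for every n ≥ 1; the ℤ/p^nℤ-algebra structure
on Λ/p^nΛ is the unique one and is taken as a hypothesis. -/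
theorem result (Λ : Type u) [CommRing Λ] [IsDomain Λ]
    [IsDiscreteValuationRing Λ] [IsAdicComplete (IsLocalRing.maximalIdeal Λ) Λ] (p : ℕ)
    (hp : p.Prime) (hm : IsLocalRing.maximalIdeal Λ = Ideal.span {(p : Λ)}) (n : ℕ) (hn : 1 ≤ n)
    [Algebra (ZMod (p ^ n)) (Λ ⧸ Ideal.span {((p : Λ) ^ n)})] :
    Algebra.FormallySmooth (ZMod (p ^ n)) (Λ ⧸ Ideal.span {((p : Λ) ^ n)}) := by
  exact RingHom.formallySmooth_algebraMap.mp (main Λ p hp hm n hn _)

end Groth.Agent.S9455
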