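import Groth.Statements.S9458
import Groth.Agent.Lib.Helper69.HensQFinite
import Groth.Agent.S9459

set_option autoImplicit false
universe u
open Hensel

namespace Groth.Agent.S9458

open TensorProduct IsLocalRing Groth.Agent.S9459

section ctx
variable (R : Type u) [CommRing R] (S : Type u)
    [CommRing S] [Algebra R S] (p : Ideal R) [p.IsPrime] (q : Ideal S) [q.IsPrime] [q.LiesOver p]
    (Rh : Type u) [CommRing Rh] [IsLocalRing Rh] [Algebra (Localization.AtPrime p) Rh]
    [IsLocalHom (algebraMap (Localization.AtPrime p) Rh)]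
    [Hensel.IsHenselization (Localization.AtPrime p) Rh] [Algebra R Rh]
    [IsScalarTower R (Localization.AtPrime p) Rh]
    (Sh : Type u) [CommRing Sh] [IsLocalRing Sh] [Algebra (Localization.AtPrime q) Sh]
    [IsLocalHom (algebraMap (Localization.AtPrime q) Sh)]
    [Hensel.IsHenselization (Localization.AtPrime q) Sh] [Algebra S Sh]
    [IsScalarTower S (Localization.AtPrime q) Sh] [Algebra R Sh] [IsScalarTower R S Sh]
    [Algebra Rh Sh] [IsScalarTower R Rh Sh]

include p q in
theorem isLocalHom_Rh_Sh : IsLocalHom (algebraMap Rh Sh) := by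
  constructor
  intro a ha
  by_contra hna
  have hmem : a ∈ maximalIdeal Rh := (mem_maximalIdeal a).mpr hna
  rw [← Groth.Agent.Lib.Helper87.Hens.map_maximalIdeal_of_isHenselization
    (Localization.AtPrime p) Rh, ← Localization.AtPrime.map_eq_maximalIdeal, Ideal.map_map,
    ← IsScalarTower.algebraMap_eq] at hmem
  have hle : p.map (algebraMap R Rh) ≤ (maximalIdeal Sh).comap (algebraMap Rh Sh) := by
    rw [Ideal.map_le_iff_le_comap]
    intro r hr
    rw [Ideal.mem_comap, Ideal.mem_comap, ← IsScalarTower.algebraMap_apply R Rh Sh,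
      IsScalarTower.algebraMap_apply R S Sh,
      IsScalarTower.algebraMap_apply S (Localization.AtPrime q) Sh]
    have hq : algebraMap R S r ∈ q := by
      have hpq : p = q.comap (algebraMap R S) := Ideal.LiesOver.over (P := q) (p := p)
      rw [hpq] at hr; exact hr
    have h1 : algebraMap S (Localization.AtPrime q) (algebraMap R S r) ∈
        maximalIdeal (Localization.AtPrime q) :=
      (IsLocalization.AtPrime.to_map_mem_maximal_iff _ q _).mpr hq
    rw [mem_maximalIdeal] at h1 ⊢
    intro hu
    exact h1 (isUnit_of_map_unit _ _ hu)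
  have := hle hmem
  exact (mem_maximalIdeal _).mp this ha

include p q in
theorem finite_Rh_Sh [Algebra.FiniteType R S] [Algebra.QuasiFiniteAt R q] :
    Module.Finite Rh Sh := by
  have hloc : IsLocalHom (algebraMap Rh Sh) := isLocalHom_Rh_Sh R S p q Rh Sh
  have hφl : ∀ a : Rh, phi R S Rh Sh (a ⊗ₜ 1) = algebraMap Rh Sh a := by intro a; simp [phi]
  have hφr : ∀ s : S, phi R S Rh Sh (1 ⊗ₜ s) = algebraMap S Sh s := by intro s; simp [phi]
  have hQlo : (QQ R S Rh Sh).LiesOver (maximalIdeal Rh) := by
    constructor
    ext a
    rw [Ideal.mem_comap, Ideal.mem_comap, Algebra.TensorProduct.algebraMap_apply,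
      Algebra.algebraMap_self, RingHom.id_apply]
    change _ ↔ phi R S Rh Sh (a ⊗ₜ 1) ∈ _
    rw [hφl]
    have h4 : (maximalIdeal Sh).comap (algebraMap Rh Sh) = maximalIdeal Rh :=
      ((local_hom_TFAE (algebraMap Rh Sh)).out 0 4).mp hloc
    rw [← h4, Ideal.mem_comap]
  have hQq : q = (QQ R S Rh Sh).comap
      (Algebra.TensorProduct.includeRight : S →ₐ[R] Rh ⊗[R] S).toRingHom := by
    ext s
    rw [Ideal.mem_comap, Ideal.mem_comap]
    change _ ↔ phi R S Rh Sh (1 ⊗ₜ s) ∈ _
    rw [hφr, IsScalarTower.algebraMap_apply S (Localization.AtPrime q) Sh]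
    have h4 : (maximalIdeal Sh).comap (algebraMap (Localization.AtPrime q) Sh) =
        maximalIdeal (Localization.AtPrime q) :=
      ((local_hom_TFAE (algebraMap (Localization.AtPrime q) Sh)).out 0 4).mp
        (inferInstance : IsLocalHom (algebraMap (Localization.AtPrime q) Sh))
    rw [← Ideal.mem_comap, h4]
    exact (IsLocalization.AtPrime.to_map_mem_maximal_iff _ q _).symm
  haveI : Algebra.QuasiFiniteAt Rh (QQ R S Rh Sh) :=
    Algebra.QuasiFiniteAt.baseChange q (QQ R S Rh Sh) hQq
  haveI hRhh : HenselianLocalRing Rh :=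
    Hensel.IsHenselization.henselian (Localization.AtPrime p)
  have hfin : Module.Finite Rh (Localization.AtPrime (QQ R S Rh Sh)) :=
    Groth.Agent.Lib.Helper69.HensQFinite.finite_atPrime_of_quasiFiniteAt Rh (Rh ⊗[R] S)
      (QQ R S Rh Sh)
  haveI : HenselianLocalRing (Localization.AtPrime (QQ R S Rh Sh)) :=
    Groth.Agent.Lib.Helper69.HensFinite.henselianLocalRing_of_isIntegral Rh _
  haveI := Groth.Agent.Lib.Helper69.HensQFinite.isHenselization_self
    (Localization.AtPrime (QQ R S Rh Sh))
  obtain ⟨e, he⟩ := Groth.Agent.S9459.result R S p q Rh Sh (Localization.AtPrime (QQ R S Rh Sh))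
  let l : Localization.AtPrime (QQ R S Rh Sh) →ₗ[Rh] Sh :=
    { toFun := e
      map_add' := map_add e
      map_smul' := fun r x => by
        rw [Algebra.smul_def, map_mul, RingHom.id_apply, Algebra.smul_def]
        congr 1
        rw [IsScalarTower.algebraMap_apply Rh (Rh ⊗[R] S) (Localization.AtPrime (QQ R S Rh Sh))]
        have := he (algebraMap Rh (Rh ⊗[R] S) r)
        rw [Algebra.algebraMap_self, RingHom.id_apply] at this
        rw [this, Algebra.TensorProduct.algebraMap_apply, Algebra.algebraMap_self,
          RingHom.id_apply]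
        exact hφl r }
  exact Module.Finite.of_surjective l e.surjective

end ctx


/-- Let R → S be of finite type and quasi-finite at a prime q lying over p, and let R_p^h, S_q^h be
henselizations of the local rings, S_q^h carrying the compatible R_p^h-algebra structure (the
canonical local map R_p^h → S_q^h). Then S_q^h is finite over R_p^h. (The published statement also
identifies S_q^h with a localization of R_p^h ⊗_{R_p} S_q; this row states only that S_q^h is finite
over R_p^h.) -/
theorem result (R : Type u) [CommRing R] (S : Type u)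
    [CommRing S] [Algebra R S] [Algebra.FiniteType R S] (p : Ideal R) [p.IsPrime] (q : Ideal S)
    [q.IsPrime] [q.LiesOver p] [Algebra.QuasiFiniteAt R q]
    (Rh : Type u) [CommRing Rh] [IsLocalRing Rh] [Algebra (Localization.AtPrime p) Rh]
    [IsLocalHom (algebraMap (Localization.AtPrime p) Rh)]
    [Hensel.IsHenselization (Localization.AtPrime p) Rh]
    (Sh : Type u) [CommRing Sh] [IsLocalRing Sh] [Algebra (Localization.AtPrime q) Sh]
    [IsLocalHom (algebraMap (Localization.AtPrime q) Sh)]
    [Hensel.IsHenselization (Localization.AtPrime q) Sh]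
    [Algebra (Localization.AtPrime p) (Localization.AtPrime q)]
    [IsScalarTower R (Localization.AtPrime p) (Localization.AtPrime q)]
    [Algebra Rh Sh] [Algebra (Localization.AtPrime p) Sh]
    [IsScalarTower (Localization.AtPrime p) Rh Sh]
    [IsScalarTower (Localization.AtPrime p) (Localization.AtPrime q) Sh] :
    Module.Finite Rh Sh := by
  letI : Algebra R Rh :=
    ((algebraMap (Localization.AtPrime p) Rh).comp (algebraMap R (Localization.AtPrime p))).toAlgebra
  haveI : IsScalarTower R (Localization.AtPrime p) Rh := IsScalarTower.of_algebraMap_eq fun _ => rfl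
  letI : Algebra S Sh :=
    ((algebraMap (Localization.AtPrime q) Sh).comp (algebraMap S (Localization.AtPrime q))).toAlgebra
  haveI : IsScalarTower S (Localization.AtPrime q) Sh := IsScalarTower.of_algebraMap_eq fun _ => rfl
  letI : Algebra R Sh := ((algebraMap S Sh).comp (algebraMap R S)).toAlgebra
  haveI : IsScalarTower R S Sh := IsScalarTower.of_algebraMap_eq fun _ => rfl
  haveI : IsScalarTower R Rh Sh := IsScalarTower.of_algebraMap_eq fun r => by
    change algebraMap (Localization.AtPrime q) Sh (algebraMap S (Localization.AtPrime q)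
      (algebraMap R S r)) = algebraMap Rh Sh (algebraMap (Localization.AtPrime p) Rh
        (algebraMap R (Localization.AtPrime p) r))
    rw [← IsScalarTower.algebraMap_apply (Localization.AtPrime p) Rh Sh,
      IsScalarTower.algebraMap_apply (Localization.AtPrime p) (Localization.AtPrime q) Sh,
      ← IsScalarTower.algebraMap_apply R (Localization.AtPrime p) (Localization.AtPrime q),
      ← IsScalarTower.algebraMap_apply R S (Localization.AtPrime q)]
  exact finite_Rh_Sh R S p q Rh Sh

end Groth.Agent.S9458
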