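import Groth.Statements.S9461
import Groth.Agent.Lib.Helper69.HensQFinite
import Groth.Agent.S9459
import Groth.Agent.S9460

set_option autoImplicit false
universe u
open Hensel

namespace Groth.Agent.S9461

open TensorProduct IsLocalRing Groth.Agent.S9459

/-- Let R → S be of finite type and quasi-finite at a prime q over p, and R^{sh}, S^{sh} strict
henselizations of R_p and S_q with a compatible local map R^{sh} → S^{sh} (over R). Then R^{sh} →
S^{sh} is finite and its residue field extension is finite and purely inseparable. (The published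
statement also identifies S^{sh} with a localization of R^{sh} ⊗_{R_p} S_q; this row states only the
finiteness and the residue-field assertions.) -/
theorem result (R : Type u) [CommRing R] (S : Type u)
    [CommRing S] [Algebra R S] [Algebra.FiniteType R S] (p : Ideal R) [p.IsPrime] (q : Ideal S)
    [q.IsPrime] [q.LiesOver p] [Algebra.QuasiFiniteAt R q]
    (Rh : Type u) [CommRing Rh] [IsLocalRing Rh] [Algebra (Localization.AtPrime p) Rh]
    [IsLocalHom (algebraMap (Localization.AtPrime p) Rh)]
    [Hensel.IsStrictHenselization (Localization.AtPrime p) Rh] [Algebra R Rh]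
    [IsScalarTower R (Localization.AtPrime p) Rh]
    (Sh : Type u) [CommRing Sh] [IsLocalRing Sh] [Algebra (Localization.AtPrime q) Sh]
    [IsLocalHom (algebraMap (Localization.AtPrime q) Sh)]
    [Hensel.IsStrictHenselization (Localization.AtPrime q) Sh] [Algebra S Sh]
    [IsScalarTower S (Localization.AtPrime q) Sh] [Algebra R Sh] [IsScalarTower R S Sh]
    [Algebra Rh Sh] [IsScalarTower R Rh Sh] [IsLocalHom (algebraMap Rh Sh)] :
    Module.Finite Rh Sh ∧
      Module.Finite (IsLocalRing.ResidueField Rh) (IsLocalRing.ResidueField Sh) ∧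
      IsPurelyInseparable (IsLocalRing.ResidueField Rh) (IsLocalRing.ResidueField Sh) := by
  have hφl : ∀ a : Rh, phi R S Rh Sh (a ⊗ₜ 1) = algebraMap Rh Sh a := by intro a; simp [phi]
  have hφr : ∀ s : S, phi R S Rh Sh (1 ⊗ₜ s) = algebraMap S Sh s := by intro s; simp [phi]
  have hloc : IsLocalHom (algebraMap Rh Sh) := inferInstance
  have hQlo : (QQ R S Rh Sh).LiesOver (maximalIdeal Rh) := by
    constructor
    ext a
    rw [Ideal.mem_comap, Ideal.mem_comap, Algebra.TensorProduct.algebraMap_apply,
      Algebra.algebraMap_self, RingHom.id_apply]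
    change _ ↔ phi R S Rh Sh (a ⊗ₜ 1) ∈ _
    rw [hφl]
    have h4 : (maximalIdeal Sh).comap (algebraMap Rh Sh) = maximalIdeal Rh :=
      ((local_hom_TFAE (algebraMap Rh Sh)).out 0 4).mp hloc
    rw [← h4, Ideal.mem_comap]
  have hQq : q = (QQ R S Rh Sh).comap
      (Algebra.TensorProduct.includeRight : S →ₐ[R] Rh ⊗[R] S).toRingHom := by
    ext s
    rw [Ideal.mem_comap, Ideal.mem_comap]
    change _ ↔ phi R S Rh Sh (1 ⊗ₜ s) ∈ _
    rw [hφr, IsScalarTower.algebraMap_apply S (Localization.AtPrime q) Sh]
    have h4 : (maximalIdeal Sh).comap (algebraMap (Localization.AtPrime q) Sh) =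
        maximalIdeal (Localization.AtPrime q) :=
      ((local_hom_TFAE (algebraMap (Localization.AtPrime q) Sh)).out 0 4).mp
        (inferInstance : IsLocalHom (algebraMap (Localization.AtPrime q) Sh))
    rw [← Ideal.mem_comap, h4]
    exact (IsLocalization.AtPrime.to_map_mem_maximal_iff _ q _).symm
  haveI : Algebra.QuasiFiniteAt Rh (QQ R S Rh Sh) :=
    Algebra.QuasiFiniteAt.baseChange q (QQ R S Rh Sh) hQq
  haveI hRhh : HenselianLocalRing Rh :=
    Hensel.IsStrictHenselization.henselian (Localization.AtPrime p)
  have hsc : IsSepClosure (ResidueField (Localization.AtPrime p)) (ResidueField Rh) :=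
    Hensel.IsStrictHenselization.isSepClosure
  haveI : IsSepClosed (ResidueField Rh) := hsc.sep_closed
  have hfin : Module.Finite Rh (Localization.AtPrime (QQ R S Rh Sh)) :=
    Groth.Agent.Lib.Helper69.HensQFinite.finite_atPrime_of_quasiFiniteAt Rh (Rh ⊗[R] S)
      (QQ R S Rh Sh)
  haveI : HenselianLocalRing (Localization.AtPrime (QQ R S Rh Sh)) :=
    Groth.Agent.Lib.Helper69.HensFinite.henselianLocalRing_of_isIntegral Rh _
  haveI : IsLocalHom (algebraMap Rh (Localization.AtPrime (QQ R S Rh Sh))) :=
    Groth.Agent.Lib.Helper9.isLocalHom_of_isIntegral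
  haveI : Algebra.IsAlgebraic (ResidueField Rh)
      (ResidueField (Localization.AtPrime (QQ R S Rh Sh))) := Algebra.IsAlgebraic.of_finite _ _
  haveI : IsSepClosed (ResidueField (Localization.AtPrime (QQ R S Rh Sh))) :=
    Algebra.IsAlgebraic.isSepClosed (F := ResidueField Rh)
  haveI := Groth.Agent.Lib.Helper69.HensQFinite.isStrictHenselization_self
    (Localization.AtPrime (QQ R S Rh Sh))
  obtain ⟨e, he⟩ := Groth.Agent.S9460.result R S p q Rh Sh (Localization.AtPrime (QQ R S Rh Sh))
  let l : Localization.AtPrime (QQ R S Rh Sh) →ₗ[Rh] Sh :=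
    { toFun := e
      map_add' := map_add e
      map_smul' := fun r x => by
        rw [Algebra.smul_def, map_mul, RingHom.id_apply, Algebra.smul_def]
        congr 1
        rw [IsScalarTower.algebraMap_apply Rh (Rh ⊗[R] S) (Localization.AtPrime (QQ R S Rh Sh))]
        have := he (algebraMap Rh (Rh ⊗[R] S) r)
        rw [Algebra.algebraMap_self, RingHom.id_apply] at this
        rw [this, Algebra.TensorProduct.algebraMap_apply, Algebra.algebraMap_self,
          RingHom.id_apply]
        exact hφl r }
  have hfinal : Module.Finite Rh Sh := Module.Finite.of_surjective l e.surjective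
  haveI : Algebra.IsAlgebraic (ResidueField Rh) (ResidueField Sh) :=
    Algebra.IsAlgebraic.of_finite _ _
  exact ⟨hfinal, inferInstance, inferInstance⟩

end Groth.Agent.S9461
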