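import Groth.Statements.S9462
import Groth.Agent.Lib.Helper6.Deform

set_option autoImplicit false
universe u
open CAlg

namespace Groth.Agent.S9462

open TensorProduct in
/-- Consider surjections A' → A and B' → B with square-zero kernels I and J and a commutative square A'
→ B', A → B. If A → B is étale and J = I ⊗_A B — that is, J = IB' and the multiplication map B'
⊗_{A'} I → B' is injective — then A' → B' is étale. -/
theorem result (A' : Type u) [CommRing A'] (A : Type u) [CommRing A]
    [Algebra A' A] (hA : Function.Surjective (algebraMap A' A))
    (hI : RingHom.ker (algebraMap A' A) ^ 2 = ⊥)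
    (B' : Type u) [CommRing B'] [Algebra A' B'] (B : Type u) [CommRing B] [Algebra B' B]
    [Algebra A B] [Algebra A' B] [IsScalarTower A' A B] [IsScalarTower A' B' B]
    (hB : Function.Surjective (algebraMap B' B)) (hJ : RingHom.ker (algebraMap B' B) ^ 2 = ⊥)
    [Algebra.Etale A B]
    (hJI : RingHom.ker (algebraMap B' B) = (RingHom.ker (algebraMap A' A)).map (algebraMap A' B'))
    (hinj : Function.Injective ((RingHom.ker (algebraMap A' A)).subtype.baseChange B')) :
    Algebra.Etale A' B' := by
  have hnil : IsNilpotent (RingHom.ker (algebraMap A' A)) := ⟨2, by rw [hI, Ideal.zero_eq_bot]⟩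
  have htor : Function.Injective ((RingHom.ker (algebraMap A' A)).subtype.rTensor B') := by
    rw [← LinearMap.lTensor_inj_iff_rTensor_inj]
    exact hinj
  exact Groth.Agent.Lib.Helper6.Deform.etale hA hB hJI hnil htor

end Groth.Agent.S9462
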