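import Groth.Statements.S9463


set_option autoImplicit false
universe u
open OmegaSh

namespace Groth.Agent.S9463

/-- Let A → B be formally unramified, π : B' → B a universal first order thickening of B relative to A,
and S ⊆ A a multiplicative subset. Localizing everything at S (A_S, B_S and B'_S with compatible
algebra structures, π_S : B'_S → B_S the A_S-algebra map induced by π), the map π_S is a universal
first order thickening of B_S relative to A_S. (The published statement adds the consequence that
the conormal module localizes accordingly.) -/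
theorem result (A B B' : Type u) [CommRing A] [CommRing B]
    [CommRing B'] [Algebra A B] [Algebra.FormallyUnramified A B] [Algebra A B'] (π : B' →ₐ[A] B)
    (hπ : OmegaSh.IsUnivThickeningRing A B B' π) (S : Submonoid A)
    (AS BS B'S : Type u) [CommRing AS] [CommRing BS] [CommRing B'S]
    [Algebra A AS] [IsLocalization S AS]
    [Algebra B BS] [IsLocalization (Algebra.algebraMapSubmonoid B S) BS]
    [Algebra B' B'S] [IsLocalization (Algebra.algebraMapSubmonoid B' S) B'S]
    [Algebra AS BS] [Algebra A BS] [IsScalarTower A AS BS] [IsScalarTower A B BS]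
    [Algebra AS B'S] [Algebra A B'S] [IsScalarTower A AS B'S] [IsScalarTower A B' B'S]
    (πS : B'S →ₐ[AS] BS) (hπS : ∀ x : B', πS (algebraMap B' B'S x) = algebraMap B BS (π x)) :
    OmegaSh.IsUnivThickeningRing AS BS B'S πS := by
  obtain ⟨hsurj, hker, huniv⟩ := hπ
  have hmemB' : ∀ r : A, r ∈ S → algebraMap A B' r ∈ Algebra.algebraMapSubmonoid B' S :=
    fun r hr => Algebra.mem_algebraMapSubmonoid_of_mem (⟨r, hr⟩ : S)
  have hmemB : ∀ r : A, r ∈ S → algebraMap A B r ∈ Algebra.algebraMapSubmonoid B S :=
    fun r hr => Algebra.mem_algebraMapSubmonoid_of_mem (⟨r, hr⟩ : S)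
  have hunitB' : ∀ r : A, r ∈ S → IsUnit (algebraMap B' B'S (algebraMap A B' r)) := fun r hr =>
    IsLocalization.map_units B'S (⟨algebraMap A B' r, hmemB' r hr⟩ : Algebra.algebraMapSubmonoid B' S)
  refine ⟨?_, ?_, ?_⟩
  · intro y
    obtain ⟨⟨b, s⟩, hbs⟩ := IsLocalization.surj (Algebra.algebraMapSubmonoid B S) y
    obtain ⟨b', rfl⟩ := hsurj b
    obtain ⟨r, hr, hrs⟩ := s.2
    refine ⟨IsLocalization.mk' B'S b' ⟨algebraMap A B' r, hmemB' r hr⟩, ?_⟩
    have hu : IsUnit (algebraMap B BS s.1) := IsLocalization.map_units BS s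
    apply hu.mul_right_cancel
    have hs' : π (algebraMap A B' r) = s.1 := by
      rw [AlgHom.commutes]
      exact hrs
    have h1 : πS (IsLocalization.mk' B'S b' ⟨algebraMap A B' r, hmemB' r hr⟩) * algebraMap B BS s.1 =
        algebraMap B BS (π b') := by
      rw [← hs', ← hπS (algebraMap A B' r), ← map_mul, ← hπS b']
      congr 1
      exact IsLocalization.mk'_spec B'S b' ⟨algebraMap A B' r, hmemB' r hr⟩
    rw [h1]
    exact hbs.symm
  · have key : ∀ z : B'S, z ∈ RingHom.ker πS.toRingHom →
        ∃ t : A, t ∈ S ∧ ∃ k : B', π k = 0 ∧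
          z * algebraMap B' B'S (algebraMap A B' t) = algebraMap B' B'S k := by
      intro z hz
      obtain ⟨⟨b', s'⟩, hzs⟩ := IsLocalization.surj (Algebra.algebraMapSubmonoid B' S) z
      obtain ⟨r, hr, hrs⟩ := s'.2
      have hz0 : πS z = 0 := hz
      have h1 : algebraMap B BS (π b') = 0 := by
        rw [← hπS, ← hzs, map_mul, hz0, zero_mul]
      obtain ⟨t, ht⟩ := (IsLocalization.map_eq_zero_iff (Algebra.algebraMapSubmonoid B S) BS
        (π b')).mp h1
      obtain ⟨q, hq, hqt⟩ := t.2
      refine ⟨r * q, S.mul_mem hr hq, algebraMap A B' q * b', ?_, ?_⟩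
      · rw [map_mul, AlgHom.commutes, hqt]
        exact ht
      · have hrs' : algebraMap B' B'S (algebraMap A B' r) = algebraMap B' B'S s'.1 := by
          rw [hrs]
        rw [map_mul, map_mul, ← mul_assoc, hrs', hzs, map_mul, mul_comm]
    rw [eq_bot_iff, pow_two, Ideal.mul_le]
    intro x hx y hy
    rw [Ideal.mem_bot]
    obtain ⟨p, hp, k, hk, hxk⟩ := key x hx
    obtain ⟨q, hq, l, hl, hyl⟩ := key y hy
    have hkl : k * l = 0 := by
      have h1 : k * l ∈ RingHom.ker π.toRingHom ^ 2 := by
        rw [pow_two]
        exact Ideal.mul_mem_mul hk hl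
      rw [hker] at h1
      exact h1
    have hu : IsUnit (algebraMap B' B'S (algebraMap A B' p) * algebraMap B' B'S (algebraMap A B' q)) :=
      (hunitB' p hp).mul (hunitB' q hq)
    apply hu.mul_right_cancel
    rw [zero_mul]
    calc x * y * (algebraMap B' B'S (algebraMap A B' p) * algebraMap B' B'S (algebraMap A B' q))
        = (x * algebraMap B' B'S (algebraMap A B' p)) *
            (y * algebraMap B' B'S (algebraMap A B' q)) := by ring
      _ = algebraMap B' B'S (k * l) := by rw [hxk, hyl, map_mul]
      _ = 0 := by rw [hkl, map_zero]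
  · intro C _ _ I hI a
    let _ : Algebra A C := ((algebraMap AS C).comp (algebraMap A AS)).toAlgebra
    have hAC : ∀ r : A, algebraMap A C r = algebraMap AS C (algebraMap A AS r) := fun r => rfl
    have _ : IsScalarTower A AS C := IsScalarTower.of_algebraMap_eq hAC
    have hACI : ∀ r : A, algebraMap A (C ⧸ I) r = algebraMap AS (C ⧸ I) (algebraMap A AS r) :=
      fun r => rfl
    have _ : IsScalarTower A AS (C ⧸ I) := IsScalarTower.of_algebraMap_eq hACI
    obtain ⟨a₀', ha₀', huniq⟩ := huniv C I hI
      ((a.restrictScalars A).comp (IsScalarTower.toAlgHom A B BS))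
    have ha₀'x : ∀ x : B', Ideal.Quotient.mk I (a₀' x) = a (algebraMap B BS (π x)) := fun x =>
      congrArg (fun f => f x) ha₀'
    have hunit : ∀ s' : Algebra.algebraMapSubmonoid B' S, IsUnit (a₀'.toRingHom s'.1) := by
      intro s'
      obtain ⟨r, hr, hrs⟩ := s'.2
      show IsUnit (a₀' s'.1)
      rw [← hrs, AlgHom.commutes, hAC]
      exact (IsLocalization.map_units AS (⟨r, hr⟩ : S)).map (algebraMap AS C)
    have hlift : ∀ x : B', (IsLocalization.lift hunit : B'S →+* C) (algebraMap B' B'S x) = a₀' x :=
      fun x => IsLocalization.lift_eq hunit x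
    generalize (IsLocalization.lift hunit : B'S →+* C) = a'r at hlift
    have hcomm : ∀ r : AS, a'r (algebraMap AS B'S r) = algebraMap AS C r := by
      have h3 : a'r.comp (algebraMap AS B'S) = algebraMap AS C := by
        apply IsLocalization.ringHom_ext S
        ext r
        show a'r (algebraMap AS B'S (algebraMap A AS r)) = algebraMap AS C (algebraMap A AS r)
        rw [← IsScalarTower.algebraMap_apply A AS B'S, IsScalarTower.algebraMap_apply A B' B'S,
          hlift, AlgHom.commutes, hAC]
      exact fun r => congrArg (fun f => f r) h3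
    refine ⟨{ a'r with commutes' := hcomm }, ?_, ?_⟩
    · apply AlgHom.coe_ringHom_injective
      apply IsLocalization.ringHom_ext (Algebra.algebraMapSubmonoid B' S)
      ext x
      show Ideal.Quotient.mk I (a'r (algebraMap B' B'S x)) = a (πS (algebraMap B' B'S x))
      rw [hlift, hπS]
      exact ha₀'x x
    · intro a'' ha''
      have h2 : (a''.restrictScalars A).comp (IsScalarTower.toAlgHom A B' B'S) = a₀' := by
        apply huniq
        ext x
        show Ideal.Quotient.mk I (a'' (algebraMap B' B'S x)) = a (algebraMap B BS (π x))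
        rw [← hπS]
        exact congrArg (fun f => f (algebraMap B' B'S x)) ha''
      apply AlgHom.coe_ringHom_injective
      apply IsLocalization.ringHom_ext (Algebra.algebraMapSubmonoid B' S)
      ext x
      show a'' (algebraMap B' B'S x) = a'r (algebraMap B' B'S x)
      rw [hlift]
      exact congrArg (fun f => f x) h2

end Groth.Agent.S9463
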