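import Groth.Statements.S9464


set_option autoImplicit false
universe u
open OmegaSh

namespace Groth.Agent.S9464

/-- Let A → B be formally unramified, π : B' → B a universal first order thickening of B relative to A,
S ⊆ B a multiplicative subset and S' = π⁻¹(S) ⊆ B'. With B_S the localization of B at S, B'_{S'} the
localization of B' at S' (both as A-algebras) and π' : B'_{S'} → B_S the A-algebra map induced by π,
the map π' is a universal first order thickening of B_S relative to A. (The published statement adds
the consequence that the conormal module localizes accordingly.) -/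
theorem result (A B B' : Type u) [CommRing A] [CommRing B]
    [CommRing B'] [Algebra A B] [Algebra.FormallyUnramified A B] [Algebra A B'] (π : B' →ₐ[A] B)
    (hπ : OmegaSh.IsUnivThickeningRing A B B' π) (S : Submonoid B)
    (BS B'S : Type u) [CommRing BS] [CommRing B'S]
    [Algebra B BS] [IsLocalization S BS]
    [Algebra B' B'S] [IsLocalization (S.comap π.toRingHom.toMonoidHom) B'S]
    [Algebra A BS] [IsScalarTower A B BS] [Algebra A B'S] [IsScalarTower A B' B'S]
    (πS : B'S →ₐ[A] BS) (hπS : ∀ x : B', πS (algebraMap B' B'S x) = algebraMap B BS (π x)) :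
    OmegaSh.IsUnivThickeningRing A BS B'S πS := by
  obtain ⟨hsurj, hker, huniv⟩ := hπ
  have hunitB' : ∀ t' : B', π t' ∈ S → IsUnit (algebraMap B' B'S t') := fun t' ht' =>
    IsLocalization.map_units B'S (⟨t', ht'⟩ : S.comap π.toRingHom.toMonoidHom)
  refine ⟨?_, ?_, ?_⟩
  · intro y
    obtain ⟨⟨b, s⟩, hbs⟩ := IsLocalization.surj S y
    obtain ⟨b', rfl⟩ := hsurj b
    obtain ⟨s', hs'⟩ := hsurj s.1
    have hs'mem : s' ∈ S.comap π.toRingHom.toMonoidHom := by
      show π s' ∈ S
      rw [hs']
      exact s.2
    refine ⟨IsLocalization.mk' B'S b' ⟨s', hs'mem⟩, ?_⟩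
    have hu : IsUnit (algebraMap B BS s.1) := IsLocalization.map_units BS s
    apply hu.mul_right_cancel
    have h1 : πS (IsLocalization.mk' B'S b' ⟨s', hs'mem⟩) * algebraMap B BS s.1 =
        algebraMap B BS (π b') := by
      rw [← hs', ← hπS s', ← map_mul, ← hπS b']
      congr 1
      exact IsLocalization.mk'_spec B'S b' ⟨s', hs'mem⟩
    rw [h1]
    exact hbs.symm
  · have key : ∀ z : B'S, z ∈ RingHom.ker πS.toRingHom →
        ∃ t' : B', π t' ∈ S ∧ ∃ k : B', π k = 0 ∧ z * algebraMap B' B'S t' = algebraMap B' B'S k := by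
      intro z hz
      obtain ⟨⟨b', s'⟩, hzs⟩ := IsLocalization.surj (S.comap π.toRingHom.toMonoidHom) z
      have hz0 : πS z = 0 := hz
      have h1 : algebraMap B BS (π b') = 0 := by
        rw [← hπS, ← hzs, map_mul, hz0, zero_mul]
      obtain ⟨t, ht⟩ := (IsLocalization.map_eq_zero_iff S BS (π b')).mp h1
      obtain ⟨t', ht'⟩ := hsurj t.1
      refine ⟨s'.1 * t', ?_, t' * b', ?_, ?_⟩
      · rw [map_mul, ht']
        exact S.mul_mem s'.2 t.2
      · rw [map_mul, ht']
        exact ht
      · rw [map_mul, ← mul_assoc, hzs, map_mul, mul_comm]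
    rw [eq_bot_iff, pow_two, Ideal.mul_le]
    intro x hx y hy
    rw [Ideal.mem_bot]
    obtain ⟨p, hp, k, hk, hxk⟩ := key x hx
    obtain ⟨q, hq, l, hl, hyl⟩ := key y hy
    have hkl : k * l = 0 := by
      have h1 : k * l ∈ RingHom.ker π.toRingHom ^ 2 := by
        rw [pow_two]
        exact Ideal.mul_mem_mul hk hl
      rw [hker] at h1
      exact h1
    have hu : IsUnit (algebraMap B' B'S p * algebraMap B' B'S q) := (hunitB' p hp).mul (hunitB' q hq)
    apply hu.mul_right_cancel
    rw [zero_mul]
    calc x * y * (algebraMap B' B'S p * algebraMap B' B'S q)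
        = (x * algebraMap B' B'S p) * (y * algebraMap B' B'S q) := by ring
      _ = algebraMap B' B'S (k * l) := by rw [hxk, hyl, map_mul]
      _ = 0 := by rw [hkl, map_zero]
  · intro C _ _ I hI a
    obtain ⟨a₀', ha₀', huniq⟩ := huniv C I hI (a.comp (IsScalarTower.toAlgHom A B BS))
    have ha₀'x : ∀ x : B', Ideal.Quotient.mk I (a₀' x) = a (algebraMap B BS (π x)) := fun x =>
      congrArg (fun f => f x) ha₀'
    have hunit : ∀ s' : S.comap π.toRingHom.toMonoidHom, IsUnit (a₀'.toRingHom s'.1) := by
      intro s'
      apply (IsNilpotent.isUnit_quotient_mk_iff (I := I) ⟨2, hI⟩).mp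
      show IsUnit (Ideal.Quotient.mk I (a₀' s'.1))
      rw [ha₀'x]
      exact (IsLocalization.map_units BS (⟨π s'.1, s'.2⟩ : S)).map a
    have hlift : ∀ x : B', (IsLocalization.lift hunit : B'S →+* C) (algebraMap B' B'S x) = a₀' x :=
      fun x => IsLocalization.lift_eq hunit x
    generalize (IsLocalization.lift hunit : B'S →+* C) = a'r at hlift
    refine ⟨{ a'r with commutes' := fun r => ?_ }, ?_, ?_⟩
    · show a'r (algebraMap A B'S r) = algebraMap A C r
      rw [IsScalarTower.algebraMap_apply A B' B'S, hlift]
      exact a₀'.commutes r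
    · apply AlgHom.coe_ringHom_injective
      apply IsLocalization.ringHom_ext (S.comap π.toRingHom.toMonoidHom)
      ext x
      show Ideal.Quotient.mk I (a'r (algebraMap B' B'S x)) = a (πS (algebraMap B' B'S x))
      rw [hlift, hπS]
      exact ha₀'x x
    · intro a'' ha''
      have h2 : a''.comp (IsScalarTower.toAlgHom A B' B'S) = a₀' := by
        apply huniq
        ext x
        show Ideal.Quotient.mk I (a'' (algebraMap B' B'S x)) = a (algebraMap B BS (π x))
        rw [← hπS]
        exact congrArg (fun f => f (algebraMap B' B'S x)) ha''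
      apply AlgHom.coe_ringHom_injective
      apply IsLocalization.ringHom_ext (S.comap π.toRingHom.toMonoidHom)
      ext x
      show a'' (algebraMap B' B'S x) = a'r (algebraMap B' B'S x)
      rw [hlift]
      exact congrArg (fun f => f x) h2

end Groth.Agent.S9464
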