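import Groth.Statements.S9468
-- import your own Groth.Agent.* helpers here

set_option autoImplicit false
universe u
open Hensel

namespace Groth.Agent.S9468

/-- Let R be a ring and p a prime of R. Consider pairs (S, q) with S an étale R-algebra and q a prime of
S lying over p such that κ(p) → κ(q) is bijective; a morphism of pairs is an R-algebra map pulling
the second prime back to the first. Then any two pairs admit morphisms of pairs to a common third
pair. -/
theorem result (R : Type u) [CommRing R]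
    (p : Ideal R) [p.IsPrime] (S₁ : Type u) [CommRing S₁] [Algebra R S₁] [Algebra.Etale R S₁] (q₁ : Ideal S₁) [q₁.IsPrime] (hq₁ : p = q₁.comap (algebraMap R S₁))
    (hq₁κ : Function.Bijective (Ideal.ResidueField.map p q₁ (algebraMap R S₁) hq₁))
    (S₂ : Type u) [CommRing S₂] [Algebra R S₂] [Algebra.Etale R S₂] (q₂ : Ideal S₂) [q₂.IsPrime] (hq₂ : p = q₂.comap (algebraMap R S₂))
    (hq₂κ : Function.Bijective (Ideal.ResidueField.map p q₂ (algebraMap R S₂) hq₂)) :
    ∃ (S₃ : Type u) (_ : CommRing S₃) (_ : Algebra R S₃) (_ : Algebra.Etale R S₃) (q₃ : Ideal S₃)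
      (_ : q₃.IsPrime) (hq₃ : p = q₃.comap (algebraMap R S₃)),
      Function.Bijective (Ideal.ResidueField.map p q₃ (algebraMap R S₃) hq₃) ∧
        ∃ (φ₁ : S₁ →ₐ[R] S₃) (φ₂ : S₂ →ₐ[R] S₃),
          q₃.comap φ₁.toRingHom = q₁ ∧ q₃.comap φ₂.toRingHom = q₂ := by
  let e₁ : q₁.ResidueField ≃+* p.ResidueField := (RingEquiv.ofBijective _ hq₁κ).symm
  let e₂ : q₂.ResidueField ≃+* p.ResidueField := (RingEquiv.ofBijective _ hq₂κ).symm
  let g₁ : S₁ →ₐ[R] p.ResidueField :=
    { (e₁ : q₁.ResidueField →+* p.ResidueField).comp (algebraMap S₁ q₁.ResidueField) with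
      commutes' := fun r => by
        simp only [RingHom.toMonoidHom_eq_coe, OneHom.toFun_eq_coe, MonoidHom.toOneHom_coe,
          MonoidHom.coe_coe, RingHom.coe_comp, RingHom.coe_coe, Function.comp_apply]
        rw [← Ideal.ResidueField.map_algebraMap p q₁ (algebraMap R S₁) hq₁ r]
        exact (RingEquiv.ofBijective _ hq₁κ).symm_apply_apply (algebraMap R p.ResidueField r) }
  let g₂ : S₂ →ₐ[R] p.ResidueField :=
    { (e₂ : q₂.ResidueField →+* p.ResidueField).comp (algebraMap S₂ q₂.ResidueField) with
      commutes' := fun r => by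
        simp only [RingHom.toMonoidHom_eq_coe, OneHom.toFun_eq_coe, MonoidHom.toOneHom_coe,
          MonoidHom.coe_coe, RingHom.coe_comp, RingHom.coe_coe, Function.comp_apply]
        rw [← Ideal.ResidueField.map_algebraMap p q₂ (algebraMap R S₂) hq₂ r]
        exact (RingEquiv.ofBijective _ hq₂κ).symm_apply_apply (algebraMap R p.ResidueField r) }
  have hg₁ : ∀ x, g₁ x = e₁ (algebraMap S₁ q₁.ResidueField x) := fun _ => rfl
  have hg₂ : ∀ x, g₂ x = e₂ (algebraMap S₂ q₂.ResidueField x) := fun _ => rfl
  let ψ : TensorProduct R S₁ S₂ →ₐ[R] p.ResidueField :=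
    Algebra.TensorProduct.lift g₁ g₂ (fun _ _ => Commute.all _ _)
  have : Algebra.Etale R (TensorProduct R S₁ S₂) := .comp R S₁ _
  let q₃ : Ideal (TensorProduct R S₁ S₂) := RingHom.ker ψ.toRingHom
  have hq₃prime : q₃.IsPrime := RingHom.ker_isPrime _
  have hq₃ : p = q₃.comap (algebraMap R (TensorProduct R S₁ S₂)) := by
    ext x
    simp only [q₃, Ideal.mem_comap, RingHom.mem_ker, AlgHom.toRingHom_eq_coe, RingHom.coe_coe,
      AlgHom.commutes, Ideal.algebraMap_residueField_eq_zero]
  refine ⟨TensorProduct R S₁ S₂, inferInstance, inferInstance, this, q₃, hq₃prime, hq₃, ?_, ?_⟩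
  · let l : q₃.ResidueField →+* p.ResidueField :=
      Ideal.ResidueField.lift q₃ ψ.toRingHom le_rfl (by
        intro x hx
        simp only [Submonoid.mem_comap, IsUnit.mem_submonoid_iff]
        exact isUnit_iff_ne_zero.mpr hx)
    have hl : l.comp (Ideal.ResidueField.map p q₃ (algebraMap R (TensorProduct R S₁ S₂)) hq₃) =
        RingHom.id _ := by
      apply Ideal.ResidueField.ringHom_ext
      ext r
      simp only [RingHom.coe_comp, Function.comp_apply, Ideal.ResidueField.map_algebraMap,
        RingHom.id_apply, l, Ideal.ResidueField.lift_algebraMap]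
      exact ψ.commutes r
    refine ⟨RingHom.injective _, fun y => ⟨l y, ?_⟩⟩
    apply l.injective
    exact congr($hl (l y))
  · refine ⟨Algebra.TensorProduct.includeLeft, Algebra.TensorProduct.includeRight, ?_, ?_⟩
    · ext x
      simp only [q₃, Ideal.mem_comap, RingHom.mem_ker, AlgHom.toRingHom_eq_coe, RingHom.coe_coe,
        Algebra.TensorProduct.includeLeft_apply, ψ, Algebra.TensorProduct.lift_tmul, map_one,
        mul_one, hg₁, EmbeddingLike.map_eq_zero_iff, Ideal.algebraMap_residueField_eq_zero]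
    · ext x
      simp only [q₃, Ideal.mem_comap, RingHom.mem_ker, AlgHom.toRingHom_eq_coe, RingHom.coe_coe,
        Algebra.TensorProduct.includeRight_apply, ψ, Algebra.TensorProduct.lift_tmul, map_one,
        one_mul, hg₂, EmbeddingLike.map_eq_zero_iff, Ideal.algebraMap_residueField_eq_zero]

end Groth.Agent.S9468
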