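import Groth.Statements.S9469
import Mathlib.RingTheory.Unramified.Basic
import Mathlib.RingTheory.Unramified.Finite

set_option autoImplicit false
universe u
open Hensel

namespace Groth.Agent.S9469

open TensorProduct in
/-- the two induced maps to the residue field of q₂ agree -/
theorem sub_mem (R : Type u) [CommRing R]
    (p : Ideal R) [p.IsPrime] (S₁ : Type u) [CommRing S₁] [Algebra R S₁] (q₁ : Ideal S₁) [q₁.IsPrime] (hq₁ : p = q₁.comap (algebraMap R S₁))
    (hq₁κ : Function.Bijective (Ideal.ResidueField.map p q₁ (algebraMap R S₁) hq₁))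
    (S₂ : Type u) [CommRing S₂] [Algebra R S₂] (q₂ : Ideal S₂) [q₂.IsPrime]
    (φ ψ : S₁ →ₐ[R] S₂) (hφ : q₂.comap φ.toRingHom = q₁) (hψ : q₂.comap ψ.toRingHom = q₁) (s : S₁) :
    φ s - ψ s ∈ q₂ := by
  let a := Ideal.ResidueField.map q₁ q₂ φ.toRingHom hφ.symm
  let b := Ideal.ResidueField.map q₁ q₂ ψ.toRingHom hψ.symm
  have hab : a.comp (Ideal.ResidueField.map p q₁ (algebraMap R S₁) hq₁) =
      b.comp (Ideal.ResidueField.map p q₁ (algebraMap R S₁) hq₁) := by
    apply Ideal.ResidueField.ringHom_ext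
    ext r
    simp [a, b]
  have hab' : a = b := by
    refine RingHom.ext fun x => ?_
    obtain ⟨y, rfl⟩ := hq₁κ.2 x
    exact congr($hab y)
  have h1 := Ideal.ResidueField.map_algebraMap q₁ q₂ φ.toRingHom hφ.symm s
  have h2 := Ideal.ResidueField.map_algebraMap q₁ q₂ ψ.toRingHom hψ.symm s
  rw [← Ideal.algebraMap_residueField_eq_zero, map_sub, sub_eq_zero]
  change algebraMap S₂ q₂.ResidueField (φ.toRingHom s) = algebraMap S₂ q₂.ResidueField (ψ.toRingHom s)
  rw [← h1, ← h2]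
  exact congr($hab' _)

open TensorProduct in
theorem key (R : Type u) [CommRing R]
    (p : Ideal R) [p.IsPrime] (S₁ : Type u) [CommRing S₁] [Algebra R S₁] [Algebra.Etale R S₁] (q₁ : Ideal S₁) [q₁.IsPrime] (hq₁ : p = q₁.comap (algebraMap R S₁))
    (hq₁κ : Function.Bijective (Ideal.ResidueField.map p q₁ (algebraMap R S₁) hq₁))
    (S₂ : Type u) [CommRing S₂] [Algebra R S₂] [Algebra.Etale R S₂] (q₂ : Ideal S₂) [q₂.IsPrime] (hq₂ : p = q₂.comap (algebraMap R S₂))
    (hq₂κ : Function.Bijective (Ideal.ResidueField.map p q₂ (algebraMap R S₂) hq₂))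
    (φ ψ : S₁ →ₐ[R] S₂) (hφ : q₂.comap φ.toRingHom = q₁) (hψ : q₂.comap ψ.toRingHom = q₁) :
    ∃ (S₃ : Type u) (_ : CommRing S₃) (_ : Algebra R S₃) (_ : Algebra.Etale R S₃) (q₃ : Ideal S₃)
      (_ : q₃.IsPrime) (hq₃ : p = q₃.comap (algebraMap R S₃)),
      Function.Bijective (Ideal.ResidueField.map p q₃ (algebraMap R S₃) hq₃) ∧
        ∃ χ : S₂ →ₐ[R] S₃, q₃.comap χ.toRingHom = q₂ ∧ χ.comp φ = χ.comp ψ := by
  obtain ⟨e, he, hsp⟩ : ∃ e, IsIdempotentElem e ∧
      KaehlerDifferential.ideal R S₁ = Ideal.span {e} :=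
    (Ideal.isIdempotentElem_iff_of_fg _ (KaehlerDifferential.ideal_fg R S₁)).mp <|
      (Ideal.cotangent_subsingleton_iff _).mp <| inferInstanceAs <| Subsingleton (Ω[S₁⁄R])
  let θ : S₁ ⊗[R] S₁ →ₐ[R] S₂ := Algebra.TensorProduct.lift ψ φ (fun _ _ => Commute.all _ _)
  let e' : S₂ := θ e
  have he' : IsIdempotentElem e' := he.map θ
  have hJ : ∀ s, φ s - ψ s ∈ Ideal.span {e'} := by
    intro s
    have h1 : (1 : S₁) ⊗ₜ[R] s - s ⊗ₜ[R] (1 : S₁) ∈ Ideal.span {e} := by
      rw [← hsp]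
      exact KaehlerDifferential.one_smul_sub_smul_one_mem_ideal R s
    have h2 : θ ((1 : S₁) ⊗ₜ[R] s - s ⊗ₜ[R] (1 : S₁)) = φ s - ψ s := by
      simp [θ]
    rw [← h2]
    have := Ideal.mem_map_of_mem θ.toRingHom h1
    rwa [Ideal.map_span, Set.image_singleton] at this
  have he'q : e' ∈ q₂ := by
    have h1 : e ∈ Ideal.span (Set.range fun s : S₁ => (1 : S₁) ⊗ₜ[R] s - s ⊗ₜ[R] (1 : S₁)) := by
      rw [KaehlerDifferential.span_range_eq_ideal, hsp]
      exact Ideal.subset_span rfl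
    have h2 := Ideal.mem_map_of_mem θ.toRingHom h1
    rw [Ideal.map_span] at h2
    refine (Ideal.span_le.mpr ?_) h2
    rintro _ ⟨_, ⟨s, rfl⟩, rfl⟩
    have : θ.toRingHom ((1 : S₁) ⊗ₜ[R] s - s ⊗ₜ[R] (1 : S₁)) = φ s - ψ s := by
      simp [θ]
    rw [this]
    exact sub_mem R p S₁ q₁ hq₁ hq₁κ S₂ q₂ φ ψ hφ hψ s
  let J : Ideal S₂ := Ideal.span {e'}
  have hJq : J ≤ q₂ := Ideal.span_le.mpr (by simpa using he'q)
  have hloc : IsLocalization.Away (1 - e') (S₂ ⧸ J) :=
    IsLocalization.away_of_isIdempotentElem he'.one_sub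
      (by rw [Ideal.Quotient.algebraMap_eq, Ideal.mk_ker, sub_sub_cancel])
      Ideal.Quotient.mk_surjective
  have het₂ : Algebra.Etale S₂ (S₂ ⧸ J) := Algebra.Etale.of_isLocalizationAway (1 - e')
  have het : Algebra.Etale R (S₂ ⧸ J) := .comp R S₂ _
  let χ : S₂ →ₐ[R] S₂ ⧸ J := Ideal.Quotient.mkₐ R J
  have hχsurj : Function.Surjective χ := Ideal.Quotient.mk_surjective
  let q₃ : Ideal (S₂ ⧸ J) := q₂.map χ.toRingHom
  have hker : RingHom.ker χ.toRingHom ≤ q₂ := by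
    intro x hx
    apply hJq
    simpa [χ, Ideal.Quotient.eq_zero_iff_mem] using hx
  have hq₃prime : q₃.IsPrime := Ideal.map_isPrime_of_surjective hχsurj hker
  have hcomap : q₃.comap χ.toRingHom = q₂ := by
    have hχsurj' : Function.Surjective χ.toRingHom := hχsurj
    change Ideal.comap χ.toRingHom (Ideal.map χ.toRingHom q₂) = q₂
    rw [Ideal.comap_map_of_surjective _ hχsurj']
    exact sup_eq_left.mpr hker
  have hq₃ : p = q₃.comap (algebraMap R (S₂ ⧸ J)) := by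
    rw [hq₂, ← hcomap, Ideal.comap_comap]
    congr 1
  refine ⟨S₂ ⧸ J, inferInstance, inferInstance, het, q₃, hq₃prime, hq₃, ?_, χ, hcomap, ?_⟩
  · have hbij : Function.Bijective (Ideal.ResidueField.map q₂ q₃ χ.toRingHom hcomap.symm) :=
      (RingHom.surjectiveOnStalks_of_surjective hχsurj).residueFieldMap_bijective _ _ _
    have hcomp : Ideal.ResidueField.map p q₃ (algebraMap R (S₂ ⧸ J)) hq₃ =
        (Ideal.ResidueField.map q₂ q₃ χ.toRingHom hcomap.symm).comp
          (Ideal.ResidueField.map p q₂ (algebraMap R S₂) hq₂) := by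
      apply Ideal.ResidueField.ringHom_ext
      ext r
      simp
    rw [hcomp]
    exact hbij.comp hq₂κ
  · ext s
    have := hJ s
    simp only [AlgHom.coe_comp, Function.comp_apply, χ, Ideal.Quotient.mkₐ_eq_mk]
    rw [Ideal.Quotient.eq]
    exact this


/-- Let R be a ring and p a prime of R. Consider pairs (S, q) with S an étale R-algebra and q a prime of
S lying over p such that κ(p) → κ(q) is bijective; a morphism of pairs is an R-algebra map pulling
the second prime back to the first. Then any two parallel morphisms of pairs φ, ψ : (S₁, q₁) → (S₂,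
q₂) are coequalized by a morphism of pairs (S₂, q₂) → (S₃, q₃). -/
theorem result (R : Type u) [CommRing R]
    (p : Ideal R) [p.IsPrime] (S₁ : Type u) [CommRing S₁] [Algebra R S₁] [Algebra.Etale R S₁] (q₁ : Ideal S₁) [q₁.IsPrime] (hq₁ : p = q₁.comap (algebraMap R S₁))
    (hq₁κ : Function.Bijective (Ideal.ResidueField.map p q₁ (algebraMap R S₁) hq₁))
    (S₂ : Type u) [CommRing S₂] [Algebra R S₂] [Algebra.Etale R S₂] (q₂ : Ideal S₂) [q₂.IsPrime] (hq₂ : p = q₂.comap (algebraMap R S₂))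
    (hq₂κ : Function.Bijective (Ideal.ResidueField.map p q₂ (algebraMap R S₂) hq₂))
    (φ ψ : S₁ →ₐ[R] S₂) (hφ : q₂.comap φ.toRingHom = q₁) (hψ : q₂.comap ψ.toRingHom = q₁) :
    ∃ (S₃ : Type u) (_ : CommRing S₃) (_ : Algebra R S₃) (_ : Algebra.Etale R S₃) (q₃ : Ideal S₃)
      (_ : q₃.IsPrime) (hq₃ : p = q₃.comap (algebraMap R S₃)),
      Function.Bijective (Ideal.ResidueField.map p q₃ (algebraMap R S₃) hq₃) ∧
        ∃ χ : S₂ →ₐ[R] S₃, q₃.comap χ.toRingHom = q₂ ∧ χ.comp φ = χ.comp ψ := by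
  exact key R p S₁ q₁ hq₁ hq₁κ S₂ q₂ hq₂ hq₂κ φ ψ hφ hψ

end Groth.Agent.S9469
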