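import Groth.Statements.S9470
import Groth.Agent.Lib.Helper87.HensPrime

set_option autoImplicit false
universe u
open Hensel

namespace Groth.Agent.S9470

/-- Let R be a ring, p a prime of R and R^h a henselization of the local ring R_p, regarded as an
R-algebra through R_p. For pairs (S, q) with S an étale R-algebra and q a prime of S over p such
that κ(p) → κ(q) is bijective: (a) there is exactly one R-algebra map f : S → R^h under which the
maximal ideal pulls back to q; (b) every element of R^h is f(s) for some such pair, map f and s ∈ S;
(c) if such an f sends s to 0, then some R-algebra map S → S' to another such pair (S', q'), pulling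
q' back to q, already sends s to 0. Together with filteredness of the category of pairs this
expresses that R^h is canonically the colimit of S over all pairs (S, q). (The published statement
also records the equal colimit of the local rings S_q.) -/
theorem result (R : Type u) [CommRing R]
    (p : Ideal R) [p.IsPrime] (Rh : Type u) [CommRing Rh] [IsLocalRing Rh]
    [Algebra (Localization.AtPrime p) Rh] [IsLocalHom (algebraMap (Localization.AtPrime p) Rh)]
    [Hensel.IsHenselization (Localization.AtPrime p) Rh] [Algebra R Rh]
    [IsScalarTower R (Localization.AtPrime p) Rh] :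
    (∀ (S : Type u) [CommRing S] [Algebra R S] [Algebra.Etale R S] (q : Ideal S) [q.IsPrime]
        (hq : p = q.comap (algebraMap R S)),
        Function.Bijective (Ideal.ResidueField.map p q (algebraMap R S) hq) →
          ∃! f : S →ₐ[R] Rh, (IsLocalRing.maximalIdeal Rh).comap f.toRingHom = q) ∧
    (∀ x : Rh, ∃ (S : Type u) (_ : CommRing S) (_ : Algebra R S) (_ : Algebra.Etale R S) (q : Ideal S)
        (_ : q.IsPrime) (hq : p = q.comap (algebraMap R S)),
        Function.Bijective (Ideal.ResidueField.map p q (algebraMap R S) hq) ∧
          ∃ (f : S →ₐ[R] Rh) (s : S), (IsLocalRing.maximalIdeal Rh).comap f.toRingHom = q ∧ f s = x) ∧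
    (∀ (S : Type u) [CommRing S] [Algebra R S] [Algebra.Etale R S] (q : Ideal S) [q.IsPrime]
        (hq : p = q.comap (algebraMap R S)),
        Function.Bijective (Ideal.ResidueField.map p q (algebraMap R S) hq) →
          ∀ (f : S →ₐ[R] Rh), (IsLocalRing.maximalIdeal Rh).comap f.toRingHom = q → ∀ s : S, f s = 0 →
            ∃ (S' : Type u) (_ : CommRing S') (_ : Algebra R S') (_ : Algebra.Etale R S') (q' : Ideal S')
              (_ : q'.IsPrime) (hq' : p = q'.comap (algebraMap R S')),
              Function.Bijective (Ideal.ResidueField.map p q' (algebraMap R S') hq') ∧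
                ∃ φ : S →ₐ[R] S', q'.comap φ.toRingHom = q ∧ φ s = 0) := by
  refine ⟨?_, ?_, ?_⟩
  · intro S _ _ _ q _ hq hb
    exact Groth.Agent.Lib.Helper87.HensPrime.existsUnique_algHom p Rh q hq hb
  · intro x
    obtain ⟨S, _, _, _, f, s, hfs⟩ := Groth.Agent.Lib.Helper87.HensPrime.exists_etale_of_mem p Rh x
    have hq := Groth.Agent.Lib.Helper87.HensPrime.comap_comap p Rh f
    exact ⟨S, inferInstance, inferInstance, inferInstance,
      (IsLocalRing.maximalIdeal Rh).comap f.toRingHom, Ideal.comap_isPrime _ _, hq,
      Groth.Agent.Lib.Helper87.HensPrime.residueField_map_bijective p Rh f hq, f, s, rfl, hfs⟩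
  · intro S _ _ _ q _ hq hb f hf s hs
    obtain ⟨S', _, _, _, φ, f', hf', hφ⟩ :=
      Groth.Agent.Lib.Helper87.HensPrime.exists_etale_kill p Rh f s hs
    have hq' := Groth.Agent.Lib.Helper87.HensPrime.comap_comap p Rh f'
    refine ⟨S', inferInstance, inferInstance, inferInstance,
      (IsLocalRing.maximalIdeal Rh).comap f'.toRingHom, Ideal.comap_isPrime _ _, hq',
      Groth.Agent.Lib.Helper87.HensPrime.residueField_map_bijective p Rh f' hq', φ, ?_, hφ⟩
    rw [Ideal.comap_comap, ← hf, ← hf']
    rfl

end Groth.Agent.S9470
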