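import Groth.Statements.S9485
import Groth.Agent.Lib.Helper69.Pi0FF6
import Mathlib.RingTheory.Ideal.KrullsHeightTheorem

set_option autoImplicit false
universe u
open Pi1

namespace Groth.Agent.S9485

set_option linter.style.haveILetI false
set_option linter.unusedSectionVars false
set_option backward.isDefEq.respectTransparency false
set_option backward.defeqAttrib.useBackward true

open IsLocalRing in
/-- In a Noetherian local ring, if `p` is a prime with `dim A/p ≥ 2` and `f ∈ 𝔪 \ p`, there is a
non-maximal prime containing `p` and `f`. -/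
lemma exists_prime_of_dim_ge_two (A : Type u) [CommRing A] [IsNoetherianRing A] [IsLocalRing A]
    (f : A) (hf : f ∈ maximalIdeal A) (p : Ideal A) [hp : p.IsPrime]
    (hdim : (2 : WithBot ℕ∞) ≤ ringKrullDim (A ⧸ p)) :
    ∃ q : Ideal A, q.IsPrime ∧ p ≤ q ∧ f ∈ q ∧ q ≠ maximalIdeal A := by
  let B := A ⧸ p
  let π : A →+* B := Ideal.Quotient.mk p
  have hπ : Function.Surjective π := Ideal.Quotient.mk_surjective
  haveI : IsLocalRing B := IsLocalRing.of_surjective' π hπ
  haveI : IsLocalHom π := IsLocalHom.of_surjective π hπ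
  let I : Ideal B := Ideal.span {π f}
  have hI : I ≠ ⊤ := by
    intro h
    have h1 : π f ∈ maximalIdeal B := by
      rw [mem_maximalIdeal, mem_nonunits_iff]
      intro hu
      exact hf (isUnit_of_map_unit π f hu)
    have : I ≤ maximalIdeal B := (Ideal.span_singleton_le_iff_mem _).mpr h1
    rw [h] at this
    exact (maximalIdeal.isMaximal B).ne_top (top_le_iff.mp this)
  obtain ⟨qb, hqb⟩ := Ideal.nonempty_minimalPrimes hI
  haveI : qb.IsPrime := hqb.1.1
  have hht : qb.height ≤ 1 := Ideal.height_le_one_of_isPrincipal_of_mem_minimalPrimes I qb hqb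
  have hne : qb ≠ maximalIdeal B := by
    intro h
    rw [h] at hht
    have h2 : ((maximalIdeal B).height : WithBot ℕ∞) ≤ 1 := by exact_mod_cast hht
    rw [IsLocalRing.maximalIdeal_height_eq_ringKrullDim] at h2
    have h3 : (2 : WithBot ℕ∞) ≤ 1 := hdim.trans h2
    exact absurd h3 (by decide)
  refine ⟨qb.comap π, inferInstance, ?_, ?_, ?_⟩
  · intro a ha
    rw [Ideal.mem_comap]
    have : π a = 0 := Ideal.Quotient.eq_zero_iff_mem.mpr ha
    rw [this]
    exact zero_mem _
  · rw [Ideal.mem_comap]
    exact hqb.1.2 (Ideal.subset_span rfl)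
  · intro h
    apply hne
    have hle : maximalIdeal B ≤ qb := by
      intro b hb
      obtain ⟨a, rfl⟩ := hπ b
      have ha : a ∈ maximalIdeal A := by
        rw [mem_maximalIdeal, mem_nonunits_iff]
        intro hu
        exact hb (hu.map π)
      rw [← h] at ha
      exact ha
    exact ((maximalIdeal.isMaximal B).eq_of_le (Ideal.IsPrime.ne_top inferInstance) hle).symm


open AlgebraicGeometry CategoryTheory CategoryTheory.Limits in
/-- Let A be a Noetherian local ring with maximal ideal m and f ∈ m, U the punctured spectrum of A and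
U₀ that of A/fA (realised as U ×_{Spec A} Spec(A/fA)). Let U' ⊆ U be an open through which U₀ ⟶ Spec
A factors (as u'). If dim(A/p) ≥ 2 for every minimal prime p of A which lies in U' and does not
contain f, then restriction of finite etale covers along u' is faithful. (Such U' exist, e.g. the
complement in U of the one-dimensional irreducible components not meeting U₀, and the condition
passes to smaller such opens, so restriction from the system of these opens is faithful.) -/
theorem result (A : Type u) [CommRing A] [IsNoetherianRing A] [IsLocalRing A] (f : A) (hf : f ∈ IsLocalRing.maximalIdeal A)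
    (U' : (Spec (CommRingCat.of A)).Opens) (hU' : U' ≤ FEt.puncturedSpec A)
    (u' : pullback (FEt.puncturedSpec A).ι (Spec.map (CommRingCat.ofHom (Ideal.Quotient.mk (Ideal.span {f})))) ⟶ (U' : Scheme.{u})) (hu' : u' ≫ U'.ι = (pullback.fst (FEt.puncturedSpec A).ι (Spec.map (CommRingCat.ofHom (Ideal.Quotient.mk (Ideal.span {f})))) ≫ (FEt.puncturedSpec A).ι))
    (hdim : ∀ p : PrimeSpectrum A, p.asIdeal ∈ minimalPrimes A → p ∈ U' → f ∉ p.asIdeal →
      (2 : WithBot ℕ∞) ≤ ringKrullDim (A ⧸ p.asIdeal)) :
    (FEt.restrict u').Faithful := by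
  apply Groth.Agent.Lib.Helper69.Pi0FF.faithful_of_clopen_meets_base
  intro E hE hne
  -- points of `V(f)` other than the closed point are in the image of `u' ≫ U'.ι`
  have hmem : ∀ q : PrimeSpectrum A, q ≠ IsLocalRing.closedPoint A → f ∈ q.asIdeal →
      ∃ z, U'.ι (u' z) = q := by
    intro q hq hfq
    have hq' : q ∈ Set.range (FEt.puncturedSpec A).ι := by
      rw [Scheme.Opens.range_ι]
      exact hq
    obtain ⟨x, hx⟩ := hq'
    have hq'' : q ∈ Set.range (PrimeSpectrum.comap (Ideal.Quotient.mk (Ideal.span {f}))) := by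
      rw [range_comap_of_surjective _ _ Ideal.Quotient.mk_surjective, Ideal.mk_ker]
      show (Ideal.span {f} : Set A) ⊆ q.asIdeal
      exact (Ideal.span_singleton_le_iff_mem _).mpr hfq
    obtain ⟨q', hq'⟩ := hq''
    obtain ⟨z, hz1, -⟩ := Scheme.Pullback.exists_preimage_pullback
      (f := (FEt.puncturedSpec A).ι)
      (g := Spec.map (CommRingCat.ofHom (Ideal.Quotient.mk (Ideal.span {f})))) x q'
      (hx.trans hq'.symm)
    refine ⟨z, ?_⟩
    rw [← Scheme.Hom.comp_apply, hu', Scheme.Hom.comp_apply, hz1, hx]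
  obtain ⟨e, he⟩ := hne
  obtain ⟨p, hp, hpe⟩ := Ideal.exists_minimalPrimes_le (show (⊥ : Ideal A) ≤ (U'.ι e).asIdeal from bot_le)
  haveI : p.IsPrime := hp.1.1
  let P : PrimeSpectrum A := ⟨p, inferInstance⟩
  have hPe : P ⤳ U'.ι e := (PrimeSpectrum.le_iff_specializes P (U'.ι e)).mp hpe
  have hPU : P ∈ U' := by
    have : U'.ι e ∈ (U' : Set _) := by
      rw [← Scheme.Opens.range_ι]; exact ⟨e, rfl⟩
    exact hPe.mem_open U'.isOpen this
  obtain ⟨P', hP'⟩ : ∃ P', U'.ι P' = P := by
    rw [← Set.mem_range, Scheme.Opens.range_ι]; exact hPU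
  have hP'e : P' ⤳ e := by
    rw [← U'.ι.isOpenEmbedding.isInducing.specializes_iff, hP']
    exact hPe
  have hP'E : P' ∈ E := hP'e.mem_open hE.isOpen he
  have hPne : P ≠ IsLocalRing.closedPoint A := hU' hPU
  by_cases hfp : f ∈ p
  · obtain ⟨z, hz⟩ := hmem P hPne hfp
    have : u' z = P' := U'.ι.isOpenEmbedding.injective (hz.trans hP'.symm)
    exact ⟨P', hP'E, ⟨z, this⟩⟩
  · have hd := hdim P hp hPU hfp
    obtain ⟨q, hqp, hpq, hfq, hqm⟩ := exists_prime_of_dim_ge_two A f hf p hd
    let Q : PrimeSpectrum A := ⟨q, hqp⟩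
    have hQne : Q ≠ IsLocalRing.closedPoint A := by
      intro h
      exact hqm (congrArg PrimeSpectrum.asIdeal h)
    obtain ⟨z, hz⟩ := hmem Q hQne hfq
    have hPQ : P ⤳ Q := (PrimeSpectrum.le_iff_specializes P Q).mp hpq
    have hspec : P' ⤳ u' z := by
      rw [← U'.ι.isOpenEmbedding.isInducing.specializes_iff, hP', hz]
      exact hPQ
    exact ⟨u' z, hspec.mem_closed hE.isClosed hP'E, ⟨z, rfl⟩⟩


end Groth.Agent.S9485
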