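import Groth.Statements.S9491
import Groth.Agent.Lib.Helper69.NormField3
import Groth.Agent.Lib.Helper69.FEtNormal

set_option autoImplicit false
universe u
open Pi1

namespace Groth.Agent.S9491

open AlgebraicGeometry CategoryTheory CategoryTheory.Limits

open Groth.Agent.Lib.Helper69.NormField

lemma fromSpecStalk_generic {X : Scheme.{u}} [IsIntegral X]
    (s : ↥(Spec (X.presheaf.stalk (genericPoint X)))) :
    X.fromSpecStalk (genericPoint X) s = genericPoint X := by
  have h1 : X.fromSpecStalk (genericPoint X) s ∈ Set.range (X.fromSpecStalk (genericPoint X)) :=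
    ⟨s, rfl⟩
  rw [Scheme.range_fromSpecStalk] at h1
  exact (Specializes.antisymm h1 (genericPoint_specializes _)).eq

lemma surj_of_eq {N : Scheme.{u}} {R : CommRingCat.{u}} [IsLocalRing R] {t t' : Spec R ⟶ N}
    (h : t = t') (hs : Function.Surjective (Scheme.stalkClosedPointTo t').hom) :
    Function.Surjective (Scheme.stalkClosedPointTo t).hom := by
  subst h; exact hs

lemma inj_of_eq {N : Scheme.{u}} {R : CommRingCat.{u}} [IsLocalRing R] {t t' : Spec R ⟶ N}
    (h : t = t') (hs : Function.Injective (Scheme.stalkClosedPointTo t').hom) :
    Function.Injective (Scheme.stalkClosedPointTo t).hom := by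
  subst h; exact hs

theorem isIso_lift {X : Scheme.{u}} [IsIntegral X] {L : Type u} [Field L]
    (φ : X.functionField →+* L) [QuasiCompact (gen φ)] [QuasiSeparated (gen φ)]
    (halg : ∀ y : L, φ.IsIntegralElem y) :
    IsIso (pullback.lift (gen φ).toNormalization (Spec.map (CommRingCat.ofHom φ))
      (by rw [Scheme.Hom.toNormalization_fromNormalization]; rfl) :
      Spec (CommRingCat.of L) ⟶
        pullback (gen φ).fromNormalization (X.fromSpecStalk (genericPoint X))) := by
  set θ₀ : Spec (CommRingCat.of L) ⟶
        pullback (gen φ).fromNormalization (X.fromSpecStalk (genericPoint X)) :=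
    pullback.lift (gen φ).toNormalization (Spec.map (CommRingCat.ofHom φ))
      (by rw [Scheme.Hom.toNormalization_fromNormalization]; rfl) with hθ₀
  have hτ : θ₀ ≫ pullback.fst (gen φ).fromNormalization (X.fromSpecStalk (genericPoint X)) =
      (gen φ).toNormalization := pullback.lift_fst _ _ _
  haveI : Subsingleton ↥(pullback (gen φ).fromNormalization (X.fromSpecStalk (genericPoint X))) := by
    refine ⟨fun p q => ?_⟩
    apply (pullback.fst (gen φ).fromNormalization
      (X.fromSpecStalk (genericPoint X))).isEmbedding.injective
    have key : ∀ p : ↥(pullback (gen φ).fromNormalization (X.fromSpecStalk (genericPoint X))),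
        pullback.fst (gen φ).fromNormalization (X.fromSpecStalk (genericPoint X)) p =
          genericPoint (gen φ).normalization := by
      intro p
      apply eq_genericPoint_of_fromNormalization_eq φ
      have h1 : (gen φ).fromNormalization
          (pullback.fst (gen φ).fromNormalization (X.fromSpecStalk (genericPoint X)) p) =
          (pullback.fst (gen φ).fromNormalization (X.fromSpecStalk (genericPoint X)) ≫
            (gen φ).fromNormalization) p := rfl
      rw [h1, pullback.condition]
      exact fromSpecStalk_generic _
    rw [key p, key q]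
  apply isIso_of_subsingleton θ₀
  have hcomp := Scheme.stalkClosedPointTo_comp θ₀
    (pullback.fst (gen φ).fromNormalization (X.fromSpecStalk (genericPoint X)))
  have hcomp' : (Scheme.stalkClosedPointTo (θ₀ ≫ pullback.fst (gen φ).fromNormalization
      (X.fromSpecStalk (genericPoint X)))).hom =
      (Scheme.stalkClosedPointTo θ₀).hom.comp ((pullback.fst (gen φ).fromNormalization
      (X.fromSpecStalk (genericPoint X))).stalkMap _).hom := by
    rw [hcomp]; rfl
  constructor
  · have hi : Function.Injective (Scheme.stalkClosedPointTo (θ₀ ≫ pullback.fst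
        (gen φ).fromNormalization (X.fromSpecStalk (genericPoint X)))).hom :=
      inj_of_eq hτ (stalkClosedPointTo_injective φ)
    rw [hcomp'] at hi
    exact Function.Injective.of_comp_right (f := ⇑(Scheme.stalkClosedPointTo θ₀).hom) hi
      (Scheme.Hom.stalkMap_surjective (pullback.fst (gen φ).fromNormalization
        (X.fromSpecStalk (genericPoint X))) _)
  · have hs : Function.Surjective (Scheme.stalkClosedPointTo (θ₀ ≫ pullback.fst
        (gen φ).fromNormalization (X.fromSpecStalk (genericPoint X)))).hom := by
      apply surj_of_eq hτ
      intro y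
      have : y ∈ Set.range (Scheme.stalkClosedPointTo (gen φ).toNormalization).hom := by
        rw [range_stalkClosedPointTo φ]; exact halg y
      exact this
    rw [hcomp'] at hs
    exact Function.Surjective.of_comp (g := ⇑((pullback.fst (gen φ).fromNormalization
      (X.fromSpecStalk (genericPoint X))).stalkMap _).hom) hs

theorem forward {X : Scheme.{u}} [IsIntegral X] (hX : Pi1.IsNormalScheme X) {L : Type u} [Field L]
    (φ : X.functionField →+* L) [QuasiCompact (gen φ)] [QuasiSeparated (gen φ)]
    (Y : FEt.Cat X)
    (ι : Spec (CommRingCat.of L) ≅ pullback Y.hom (X.fromSpecStalk (genericPoint X)))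
    (hι : ι.hom ≫ pullback.snd Y.hom (X.fromSpecStalk (genericPoint X)) =
      Spec.map (CommRingCat.ofHom φ)) :
    Etale (gen φ).fromNormalization ∧ IsFinite (gen φ).fromNormalization := by
  let p : Y.left ⟶ X := Y.hom
  haveI : IsFinite p := Y.prop.1
  haveI : Etale p := Y.prop.2
  let ι' : Spec (CommRingCat.of L) ≅ pullback p (X.fromSpecStalk (genericPoint X)) := ι
  have hι' : ι'.hom ≫ pullback.snd p (X.fromSpecStalk (genericPoint X)) =
      Spec.map (CommRingCat.ofHom φ) := hι
  set f₁ : Spec (CommRingCat.of L) ⟶ Y.left :=
    ι'.hom ≫ pullback.fst p (X.fromSpecStalk (genericPoint X)) with hf₁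
  have H : gen φ = f₁ ≫ p := by
    rw [hf₁, Category.assoc, pullback.condition, ← Category.assoc, hι']
  have hYn : Pi1.IsNormalScheme Y.left :=
    Groth.Agent.Lib.Helper69.FEtNormal.isNormalScheme_of_etale p hX
  set y₀ : Y.left := f₁ (IsLocalRing.closedPoint L) with hy₀
  haveI : Subsingleton ↥(Spec (CommRingCat.of L)) :=
    inferInstanceAs (Subsingleton (PrimeSpectrum L))
  have hspec : ∀ y : Y.left, y₀ ⤳ y := by
    intro y
    obtain ⟨ξ, h1, h2⟩ := Groth.Agent.Lib.Helper69.FEtNormal.exists_gen p y
    have h3 : p ξ = (X.fromSpecStalk (genericPoint X))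
        (IsLocalRing.closedPoint (X.presheaf.stalk (genericPoint X))) := by
      rw [h1, Scheme.fromSpecStalk_closedPoint]
    obtain ⟨z, hz1, hz2⟩ := Scheme.Pullback.exists_preimage_pullback ξ _ h3
    have hz : z = ι'.hom (IsLocalRing.closedPoint L) := by
      have h4 : z = ι'.hom (ι'.inv z) := by
        rw [← Scheme.Hom.comp_apply, Iso.inv_hom_id]; rfl
      rw [h4]
      congr 1
      exact Subsingleton.elim _ _
    have : ξ = y₀ := by
      rw [← hz1, hz]; rfl
    rw [← this]; exact h2
  have hcl : closure ({y₀} : Set Y.left) = Set.univ := by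
    ext y
    simp only [Set.mem_univ, iff_true]
    exact (specializes_iff_mem_closure).mp (hspec y)
  haveI : IrreducibleSpace Y.left := by
    rw [irreducibleSpace_def]
    show IsIrreducible (Set.univ : Set Y.left)
    rw [← hcl]
    exact isIrreducible_singleton.closure
  haveI : IsReduced Y.left := by
    haveI : ∀ y : Y.left, _root_.IsReduced (Y.left.presheaf.stalk y) := fun y => by
      haveI := (hYn y).1
      infer_instance
    exact isReduced_of_isReduced_stalk Y.left
  haveI : IsIntegral Y.left := isIntegral_of_irreducibleSpace_of_isReduced _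
  set d := (gen φ).normalizationDesc f₁ p H with hd
  have hτd : (gen φ).toNormalization ≫ d = f₁ := (gen φ).toNormalization_normalizationDesc f₁ p H
  have hgen₁ : f₁ (IsLocalRing.closedPoint L) = genericPoint Y.left :=
    ((genericPoint_spec Y.left).eq (isGenericPoint_def.mpr hcl)).symm
  have hgen : ((gen φ).toNormalization ≫ d) (IsLocalRing.closedPoint L) = genericPoint Y.left := by
    rw [hτd]; exact hgen₁
  have hsurj₁ : Function.Surjective (Scheme.stalkClosedPointTo f₁).hom := by
    haveI : IsPreimmersion f₁ := by rw [hf₁]; infer_instance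
    have h1 : Function.Surjective (f₁.stalkMap (IsLocalRing.closedPoint L)).hom :=
      f₁.stalkMap_surjective _
    have h2 : Function.Surjective (stalkClosedPointIso (CommRingCat.of L)).hom.hom :=
      (ConcreteCategory.bijective_of_isIso _).surjective
    exact h2.comp h1
  have hsurj : Function.Surjective
      (Scheme.stalkClosedPointTo ((gen φ).toNormalization ≫ d)).hom := surj_of_eq hτd hsurj₁
  haveI : IsIso d := isIso_of_integral_birational hYn d (gen φ).toNormalization
    (toNormalization_closedPoint φ) hgen hsurj
  have hν : d ≫ p = (gen φ).fromNormalization := (gen φ).normalizationDesc_comp f₁ p H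
  rw [← hν]
  exact ⟨inferInstance, inferInstance⟩


open AlgebraicGeometry CategoryTheory CategoryTheory.Limits in
/-- The essential image of restriction of finite etale covers from a normal integral scheme X to its
generic point Spec K consists of the finite etale K-schemes whose points are spectra of finite
extensions L of K in which X is unramified. Precisely: let L be a finite field extension of K and Y₀
the object Spec L → Spec K of the category of finite etale covers of Spec K; then Y₀ is isomorphic
to the restriction of a finite etale cover of X if and only if the normalization of X in Spec L is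
finite etale over X. (With full faithfulness of this restriction functor for normal X, this says
that the fundamental group of X is the Galois group of the union M of all finite subextensions of a
separable closure in which X is unramified.) -/
theorem result {X : Scheme.{u}} [IsIntegral X] (hX : Pi1.IsNormalScheme X)
    (L : Type u) [Field L] [Algebra X.functionField L] [FiniteDimensional X.functionField L]
    [QuasiCompact (Spec.map (CommRingCat.ofHom (algebraMap X.functionField L)) ≫ X.fromSpecStalk (genericPoint X))] [QuasiSeparated (Spec.map (CommRingCat.ofHom (algebraMap X.functionField L)) ≫ X.fromSpecStalk (genericPoint X))]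
    (Y₀ : FEt.Cat (Spec X.functionField)) (e : Y₀.left ≅ Spec (CommRingCat.of L))
    (he : e.hom ≫ Spec.map (CommRingCat.ofHom (algebraMap X.functionField L)) = Y₀.hom) :
    (FEt.restrict (X.fromSpecStalk (genericPoint X))).essImage Y₀ ↔
      (Etale (Spec.map (CommRingCat.ofHom (algebraMap X.functionField L)) ≫ X.fromSpecStalk (genericPoint X)).fromNormalization ∧ IsFinite (Spec.map (CommRingCat.ofHom (algebraMap X.functionField L)) ≫ X.fromSpecStalk (genericPoint X)).fromNormalization) := by
  set φ := algebraMap X.functionField L with hφ
  constructor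
  · rintro ⟨Y, ⟨ι⟩⟩
    have hw : ι.inv.left ≫ pullback.snd Y.hom (X.fromSpecStalk (genericPoint X)) = Y₀.hom :=
      MorphismProperty.Over.w ι.inv
    let ι₁ : Y₀.left ≅ ((FEt.restrict (X.fromSpecStalk (genericPoint X))).obj Y).left :=
      (MorphismProperty.Over.forget FEt.prop ⊤ _ ⋙ CategoryTheory.Over.forget _).mapIso ι.symm
    let ι₀ : Y₀.left ≅ pullback Y.hom (X.fromSpecStalk (genericPoint X)) := ι₁
    refine forward hX φ Y (e.symm ≪≫ ι₀) ?_
    show (e.inv ≫ ι.inv.left) ≫ pullback.snd Y.hom (X.fromSpecStalk (genericPoint X)) = _
    rw [Category.assoc, hw, ← he, Iso.inv_hom_id_assoc]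
  · rintro ⟨het, hfin⟩
    have halg : ∀ y : L, φ.IsIntegralElem y := fun y =>
      (Algebra.IsIntegral.isIntegral (R := X.functionField) y)
    haveI := isIso_lift φ halg
    refine ⟨MorphismProperty.Over.mk ⊤ (Groth.Agent.Lib.Helper69.NormField.gen φ).fromNormalization
      ⟨hfin, het⟩, ⟨?_⟩⟩
    let θ₀ : Spec (CommRingCat.of L) ⟶
        pullback (Groth.Agent.Lib.Helper69.NormField.gen φ).fromNormalization
          (X.fromSpecStalk (genericPoint X)) :=
      pullback.lift (Groth.Agent.Lib.Helper69.NormField.gen φ).toNormalization
        (Spec.map (CommRingCat.ofHom φ))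
        (by rw [Scheme.Hom.toNormalization_fromNormalization]; rfl)
    refine MorphismProperty.Over.isoMk ((asIso θ₀).symm ≪≫ e.symm) ?_
    show (inv θ₀ ≫ e.inv) ≫ Y₀.hom =
      pullback.snd (Groth.Agent.Lib.Helper69.NormField.gen φ).fromNormalization
        (X.fromSpecStalk (genericPoint X))
    rw [Category.assoc, ← he, Iso.inv_hom_id_assoc, IsIso.inv_comp_eq]
    exact (pullback.lift_snd _ _ _).symm


end Groth.Agent.S9491
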