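import Mathlib
import Groth.Statements.S9494
import Groth.Agent.Lib.Helper9.ProfInertia

set_option autoImplicit false
universe u
open Pi1

namespace Groth.Agent.S9494

/-- Let A be an integrally closed domain with fraction field K, L/K a (possibly infinite) Galois
extension with group G = Gal(L/K), B the integral closure of A in L and q a prime of B. Let I ⊆ G be
the inertia group of q: the automorphisms σ with σ(b) - b ∈ q for every b ∈ B. Then the localization
of the ring of invariants B^I = B ∩ L^I at the prime q ∩ B^I is an ind-etale A-algebra, i.e. a
filtered colimit of etale A-algebras. -/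
theorem result (A K L : Type u) [CommRing A] [IsDomain A] [IsIntegrallyClosed A]
    [Field K] [Field L] [Algebra A K] [IsFractionRing A K] [Algebra K L] [Algebra A L] [IsScalarTower A K L]
    [IsGalois K L] (q : Ideal (integralClosure A L)) [q.IsPrime]
    (I : Subgroup (L ≃ₐ[K] L))
    (hI : ∀ σ : L ≃ₐ[K] L, σ ∈ I ↔ ∀ b : integralClosure A L, ∃ c ∈ q, (c : L) = σ b - b) :
    EtPBC.IsIndEtale A (Localization.AtPrime
      (q.comap (Subalgebra.inclusion
        (inf_le_left : integralClosure A L ⊓ (IntermediateField.fixedField I).toSubalgebra.restrictScalars A ≤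
          integralClosure A L)))) := by
  classical
  letI : MulSemiringAction (L ≃ₐ[K] L) (integralClosure A L) :=
    IsIntegralClosure.MulSemiringAction A K L (integralClosure A L)
  have hsmul : ∀ (σ : L ≃ₐ[K] L) (b : integralClosure A L),
      ((σ • b : integralClosure A L) : L) = σ (b : L) :=
    fun σ b => algebraMap_galRestrict_apply A σ b
  letI : TopologicalSpace (integralClosure A L) := ⊥
  haveI : DiscreteTopology (integralClosure A L) := ⟨rfl⟩
  haveI : ContinuousSMul (L ≃ₐ[K] L) (integralClosure A L) := by
    rw [continuousSMul_iff_stabilizer_isOpen]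
    intro b
    have h := stabilizer_isOpen_of_isIntegral (K := K) (L := L) (b : L)
    convert h using 1
    ext σ
    simp only [SetLike.mem_coe, MulAction.mem_stabilizer_iff, Subtype.ext_iff, hsmul]
    rfl
  -- the inertia group
  have hIq : ∀ σ : L ≃ₐ[K] L, σ ∈ q.inertia (L ≃ₐ[K] L) ↔ σ ∈ I := by
    intro σ
    rw [hI]
    constructor
    · intro h b
      exact ⟨σ • b - b, h b, by rw [Subalgebra.coe_sub, hsmul]⟩
    · intro h b
      obtain ⟨c, hc, hcb⟩ := h b
      have : σ • b - b = c := Subtype.ext (by rw [Subalgebra.coe_sub, hsmul, hcb])
      show σ • b - b ∈ q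
      rw [this]
      exact hc
  let j : ↥(integralClosure A L ⊓
      (IntermediateField.fixedField I).toSubalgebra.restrictScalars A) →+* integralClosure A L :=
    (Subalgebra.inclusion (inf_le_left : integralClosure A L ⊓
      (IntermediateField.fixedField I).toSubalgebra.restrictScalars A ≤ integralClosure A L) :
        _ →ₐ[A] _)
  have hj : Function.Injective j := Subalgebra.inclusion_injective inf_le_left
  have hjcoe : ∀ x, ((j x : integralClosure A L) : L) = (x : L) := fun x => rfl
  have hAL : Function.Injective (algebraMap A L) := by
    rw [IsScalarTower.algebraMap_eq A K L]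
    exact (algebraMap K L).injective.comp (IsFractionRing.injective A K)
  have key : ∀ (P : Ideal ↥(integralClosure A L ⊓
      (IntermediateField.fixedField I).toSubalgebra.restrictScalars A)) [P.IsPrime],
      P = q.comap j → EtPBC.IsIndEtale A (Localization.AtPrime P) := by
    rintro P _ rfl
    refine Groth.Agent.Lib.Helper9.ProfInertia.isIndEtale_inertia (G := L ≃ₐ[K] L) q j hj ?_ ?_ ?_
    · intro b
      constructor
      · rintro ⟨x, rfl⟩ σ hσ
        apply Subtype.ext
        rw [hsmul, hjcoe]
        have hx : (x : L) ∈ IntermediateField.fixedField I := x.2.2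
        exact (IntermediateField.mem_fixedField_iff I _).1 hx σ ((hIq σ).1 hσ)
      · intro h
        refine ⟨⟨(b : L), b.2, ?_⟩, Subtype.ext rfl⟩
        show (b : L) ∈ IntermediateField.fixedField I
        rw [IntermediateField.mem_fixedField_iff]
        intro σ hσ
        have := h σ ((hIq σ).2 hσ)
        rw [← hsmul, this]
    · intro b
      constructor
      · rintro ⟨a, rfl⟩ σ
        apply Subtype.ext
        rw [hsmul]
        show σ (algebraMap A L a) = algebraMap A L a
        rw [IsScalarTower.algebraMap_apply A K L, AlgEquiv.commutes]
      · intro h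
        have h1 : (b : L) ∈ (⊥ : IntermediateField K L) := by
          rw [InfiniteGalois.mem_bot_iff_fixed]
          intro σ
          rw [← hsmul, h σ]
        obtain ⟨k, hk⟩ := IntermediateField.mem_bot.1 h1
        have hb : IsIntegral A (b : L) := b.2
        rw [← hk, isIntegral_algebraMap_iff (algebraMap K L).injective] at hb
        obtain ⟨a, rfl⟩ := IsIntegrallyClosed.algebraMap_eq_of_integral hb
        refine ⟨a, Subtype.ext ?_⟩
        rw [← hk, ← IsScalarTower.algebraMap_apply]
        rfl
    · intro a b hab
      apply hAL
      have := congrArg (fun x : ↥(integralClosure A L ⊓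
        (IntermediateField.fixedField I).toSubalgebra.restrictScalars A) => (x : L)) hab
      exact this
  exact key _ rfl

end Groth.Agent.S9494
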