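import Groth.Statements.S9495
-- import your own Groth.Agent.* helpers here

set_option autoImplicit false
universe u
open SchMor

namespace Groth.Agent.S9495

open AlgebraicGeometry in
open CategoryTheory in
/-- For a quasi-compact morphism of schemes f : X → S, the image f(X) is closed in S if and only if it
is stable under specialization. -/
theorem result
    {X S : Scheme.{u}} (f : X ⟶ S) [QuasiCompact f] :
    IsClosed (Set.range f) ↔ StableUnderSpecialization (Set.range f) := by
  refine ⟨fun h ↦ h.stableUnderSpecialization, fun H ↦ ?_⟩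
  rw [← isOpen_compl_iff, isOpen_iff_forall_mem_open]
  intro y hy
  obtain ⟨_, ⟨W, hW', rfl⟩, hyW, -⟩ :=
    S.isBasis_affineOpens.exists_subset_of_mem_open (Set.mem_univ y) isOpen_univ
  have hW : IsAffineOpen W := hW'
  have hc : IsCompact (f ⁻¹ᵁ W : Set X) := f.isCompact_preimage hW.isCompact
  obtain ⟨R, g, hg⟩ := isCompact_iff_exists.mp hc
  have hle : Set.range (g ≫ f) ⊆ Set.range hW.fromSpec := by
    rw [hW.range_fromSpec]
    rintro _ ⟨z, rfl⟩
    have : g z ∈ (f ⁻¹ᵁ W : Set X) := hg ▸ Set.mem_range_self z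
    simpa using this
  let h' : Spec R ⟶ Spec Γ(S, W) := IsOpenImmersion.lift hW.fromSpec (g ≫ f) hle
  have hfac : h' ≫ hW.fromSpec = g ≫ f := IsOpenImmersion.lift_fac _ _ _
  have hrange : Set.range h' = hW.fromSpec ⁻¹' (Set.range f) := by
    ext z
    constructor
    · rintro ⟨w, rfl⟩
      refine ⟨g w, ?_⟩
      have := congr($(hfac) w)
      simpa using this.symm
    · rintro ⟨x, hx⟩
      have hxW : x ∈ (f ⁻¹ᵁ W : Set X) := by
        show f x ∈ W
        rw [hx, ← SetLike.mem_coe, ← hW.range_fromSpec]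
        exact Set.mem_range_self z
      rw [← hg] at hxW
      obtain ⟨w, rfl⟩ := hxW
      refine ⟨w, hW.fromSpec.isOpenEmbedding.injective ?_⟩
      have := congr($(hfac) w)
      simp only [Scheme.Hom.comp_apply] at this
      rw [this, hx]
  have hstab : StableUnderSpecialization (Set.range h') := by
    rw [hrange]
    exact H.preimage hW.fromSpec.continuous
  have hclosed : IsClosed (Set.range h') := by
    obtain ⟨φ, hφ⟩ := Spec.homEquiv.symm.surjective h'
    rw [← hφ] at hstab ⊢
    exact PrimeSpectrum.isClosed_range_of_stableUnderSpecialization φ.hom hstab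
  refine ⟨hW.fromSpec '' (Set.range h')ᶜ, ?_, ?_, ?_⟩
  · rintro _ ⟨z, hz, rfl⟩ ⟨x, hx⟩
    apply hz
    rw [hrange]
    exact ⟨x, hx⟩
  · exact hW.fromSpec.isOpenEmbedding.isOpenMap _ hclosed.isOpen_compl
  · have : y ∈ Set.range hW.fromSpec := by rw [hW.range_fromSpec]; exact hyW
    obtain ⟨z, rfl⟩ := this
    refine ⟨z, ?_, rfl⟩
    rw [hrange]
    exact hy

end Groth.Agent.S9495
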