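import Groth.Statements.S9496
import Mathlib.AlgebraicGeometry.Modules.Tilde
import Mathlib.Algebra.Homology.ShortComplex.Ab
import Mathlib.Algebra.Homology.ShortComplex.Exact
import Mathlib.CategoryTheory.Limits.Preserves.Shapes.Kernels
import Mathlib.CategoryTheory.Adjunction.Limits

set_option autoImplicit false
universe u
open AffSch

namespace Groth.Agent.S9496


open AlgebraicGeometry CategoryTheory Limits Opposite TopologicalSpace

section Alg

variable {R : Type*} [CommRing R] (S : Submonoid R)
  {K M N K' M' N' : Type*} [AddCommGroup K] [AddCommGroup M] [AddCommGroup N]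
  [AddCommGroup K'] [AddCommGroup M'] [AddCommGroup N']
  [Module R K] [Module R M] [Module R N] [Module R K'] [Module R M'] [Module R N']

theorem isLocalizedModule_of_left_exact
    (ι : K →ₗ[R] M) (φ : M →ₗ[R] N) (ι' : K' →ₗ[R] M') (φ' : M' →ₗ[R] N')
    (rK : K →ₗ[R] K') (rM : M →ₗ[R] M') (rN : N →ₗ[R] N')
    (hι : Function.Injective ι) (hι' : Function.Injective ι')
    (hex : ∀ m, φ m = 0 → ∃ k, ι k = m) (hex' : ∀ m, φ' m = 0 → ∃ k, ι' k = m)
    (hzero' : ∀ k, φ' (ι' k) = 0)
    (hcK : ∀ k, ι' (rK k) = rM (ι k)) (hcM : ∀ m, φ' (rM m) = rN (φ m))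
    [hM : IsLocalizedModule S rM] [hN : IsLocalizedModule S rN] : IsLocalizedModule S rK where
  map_units s := by
    rw [Module.End.isUnit_iff]
    have hsM := (Module.End.isUnit_iff _).1 (hM.map_units s)
    have hsN := (Module.End.isUnit_iff _).1 (hN.map_units s)
    constructor
    · intro a b hab
      simp only [Module.algebraMap_end_apply] at hab
      apply hι'
      apply hsM.1
      simp only [Module.algebraMap_end_apply]
      rw [← map_smul, ← map_smul, hab]
    · intro k'
      obtain ⟨m', hm'⟩ := hsM.2 (ι' k')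
      simp only [Module.algebraMap_end_apply] at hm'
      have h1 : φ' m' = 0 := by
        apply hsN.1
        simp only [Module.algebraMap_end_apply]
        rw [← map_smul, hm', hzero', smul_zero]
      obtain ⟨k'', hk''⟩ := hex' m' h1
      refine ⟨k'', hι' ?_⟩
      simp only [Module.algebraMap_end_apply]
      rw [map_smul, hk'', hm']
  surj y := by
    obtain ⟨⟨m, s⟩, hms⟩ := hM.surj (ι' y)
    simp only [Submonoid.smul_def] at hms
    have h1 : rN (φ m) = rN 0 := by
      rw [← hcM, ← hms, map_smul, hzero', smul_zero, map_zero]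
    obtain ⟨c, hc⟩ := hN.exists_of_eq h1
    rw [smul_zero, Submonoid.smul_def, ← map_smul] at hc
    obtain ⟨x, hx⟩ := hex _ hc
    refine ⟨⟨x, c * s⟩, hι' ?_⟩
    simp only [Submonoid.smul_def, Submonoid.coe_mul]
    rw [map_smul, hcK, hx, map_smul, ← hms, mul_smul]
  exists_of_eq {x₁ x₂} h := by
    have h1 : rM (ι x₁) = rM (ι x₂) := by rw [← hcK, ← hcK, h]
    obtain ⟨c, hc⟩ := hM.exists_of_eq h1
    refine ⟨c, hι ?_⟩
    simp only [Submonoid.smul_def] at hc ⊢
    rw [map_smul, map_smul, hc]

end Alg

section Sheaf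
variable {X : Scheme.{u}} {M N : X.Modules} (φ : M ⟶ N)

/-- evaluation -/
noncomputable def E (U : X.Opens) : X.Modules ⥤ Ab.{u} :=
  Scheme.Modules.toPresheaf X ⋙ (evaluation _ _).obj (op U)

noncomputable instance (U : X.Opens) : PreservesLimits (E (X := X) U) := by
  have h1 : PreservesLimits ((evaluation (Opens ↥X)ᵒᵖ Ab.{u}).obj (op U)) := inferInstance
  have h2 : PreservesLimits (Scheme.Modules.toPresheaf X) := inferInstance
  exact comp_preservesLimits _ _

instance (U : X.Opens) : (E (X := X) U).PreservesZeroMorphisms := ⟨fun _ _ => rfl⟩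

theorem ker_inj (U : X.Opens) : Function.Injective ((kernel.ι φ).app U) := by
  have : Mono ((E U).map (kernel.ι φ)) := inferInstance
  exact (AddCommGrpCat.mono_iff_injective _).1 this

theorem ker_exact (U : X.Opens) (m : Γ(M, U)) (h : φ.app U m = 0) :
    ∃ k, (kernel.ι φ).app U k = m := by
  have hS : (ShortComplex.mk (kernel.ι φ) φ (kernel.condition φ)).Exact :=
    ShortComplex.exact_of_f_is_kernel _ (kernelIsKernel φ)
  have hS' := hS.map_of_mono_of_preservesKernel (E U) inferInstance inferInstance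
  rw [ShortComplex.ab_exact_iff] at hS'
  exact hS' m h

end Sheaf

section Spec
variable {R : CommRingCat.{u}} {M N : (Spec (.of R)).Modules} (φ : M ⟶ N)

theorem isLocalizing_kernel (hM : IsLocalizing (modulesSpecToSheaf.obj M))
    (hN : IsLocalizing (modulesSpecToSheaf.obj N)) :
    IsLocalizing (modulesSpecToSheaf.obj (kernel φ)) := by
  intro f
  have := hM f
  have := hN f
  let ιS := modulesSpecToSheaf.map (kernel.ι φ)
  let φS := modulesSpecToSheaf.map φ
  have h1 : Function.Injective (ιS.hom.app (op ⊤)).hom := ker_inj φ ⊤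
  have h2 : Function.Injective (ιS.hom.app (op (PrimeSpectrum.basicOpen f))).hom :=
    ker_inj φ (PrimeSpectrum.basicOpen f)
  have h3 : ∀ m, (φS.hom.app (op ⊤)).hom m = 0 → ∃ k, (ιS.hom.app (op ⊤)).hom k = m :=
    ker_exact φ ⊤
  have h4 : ∀ m, (φS.hom.app (op (PrimeSpectrum.basicOpen f))).hom m = 0 →
      ∃ k, (ιS.hom.app (op (PrimeSpectrum.basicOpen f))).hom k = m :=
    ker_exact φ (PrimeSpectrum.basicOpen f)
  have h5 : ∀ k, (φS.hom.app (op (PrimeSpectrum.basicOpen f))).hom
      ((ιS.hom.app (op (PrimeSpectrum.basicOpen f))).hom k) = 0 := by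
    intro k
    have h0 := congrArg (fun ψ => Scheme.Modules.Hom.app ψ (PrimeSpectrum.basicOpen f))
      (kernel.condition φ)
    simp only [Scheme.Modules.Hom.comp_app, Scheme.Modules.Hom.zero_app] at h0
    exact congr($h0 k)
  have h6 : ∀ k, (ιS.hom.app (op (PrimeSpectrum.basicOpen f))).hom
      (((modulesSpecToSheaf.obj (kernel φ)).obj.map (PrimeSpectrum.basicOpen f).leTop.op).hom k) =
      ((modulesSpecToSheaf.obj M).obj.map (PrimeSpectrum.basicOpen f).leTop.op).hom
        ((ιS.hom.app (op ⊤)).hom k) := by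
    intro k
    exact congr($(ιS.hom.naturality (PrimeSpectrum.basicOpen f).leTop.op).hom k)
  have h7 : ∀ m, (φS.hom.app (op (PrimeSpectrum.basicOpen f))).hom
      (((modulesSpecToSheaf.obj M).obj.map (PrimeSpectrum.basicOpen f).leTop.op).hom m) =
      ((modulesSpecToSheaf.obj N).obj.map (PrimeSpectrum.basicOpen f).leTop.op).hom
        ((φS.hom.app (op ⊤)).hom m) := by
    intro m
    exact congr($(φS.hom.naturality (PrimeSpectrum.basicOpen f).leTop.op).hom m)
  exact isLocalizedModule_of_left_exact (.powers f) _ _ _ _ _ _ _ h1 h2 h3 h4 h5 h6 h7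


theorem isQuasicoherent_kernel [M.IsQuasicoherent] [N.IsQuasicoherent] :
    (kernel φ).IsQuasicoherent := by
  rw [isQuasicoherent_iff_isIso_fromTildeΓ, isIso_fromTildeΓ_iff_isLocalizing]
  apply isLocalizing_kernel
  · rw [← isIso_fromTildeΓ_iff_isLocalizing]; infer_instance
  · rw [← isIso_fromTildeΓ_iff_isLocalizing]; infer_instance

theorem isQuasicoherent_cokernel [M.IsQuasicoherent] [N.IsQuasicoherent] :
    (cokernel φ).IsQuasicoherent := by
  let g := (moduleSpecΓFunctor (R := R)).map φ
  have hiM : IsIso M.fromTildeΓ := Scheme.Modules.isIso_fromTildeΓ_of_isQuasicoherent M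
  have hiN : IsIso N.fromTildeΓ := Scheme.Modules.isIso_fromTildeΓ_of_isQuasicoherent N
  have hpres : PreservesColimitsOfSize.{0, 0} (tilde.functor R) :=
    (tilde.adjunction (R := R)).leftAdjoint_preservesColimits
  let e1 : cokernel ((tilde.functor R).map g) ≅ cokernel φ :=
    cokernel.mapIso _ _ (@asIso _ _ _ _ M.fromTildeΓ hiM) (@asIso _ _ _ _ N.fromTildeΓ hiN)
      ((Scheme.Modules.fromTildeΓNatTrans (R := R)).naturality φ)
  let e : (tilde.functor R).obj (cokernel g) ≅ cokernel φ :=
    PreservesCokernel.iso (tilde.functor R) g ≪≫ e1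
  have hq : ((tilde.functor R).obj (cokernel g)).IsQuasicoherent := inferInstance
  exact (SheafOfModules.isQuasicoherent (Spec R).ringCatSheaf).prop_of_iso e hq

end Spec

open AlgebraicGeometry in
open CategoryTheory Limits in
/-- Let X = Spec A be an affine scheme and φ : M → N a morphism of quasi-coherent O_X-modules. Then the
kernel and the cokernel of φ, computed in the category of all O_X-modules, are quasi-coherent. -/
theorem result
    (A : Type u) [CommRing A] {M N : (Spec (CommRingCat.of A)).Modules}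
    [Coh.IsQCoh M] [Coh.IsQCoh N] (φ : M ⟶ N) :
    Coh.IsQCoh (kernel φ) ∧ Coh.IsQCoh (cokernel φ) := by
  have hM : (M : (Spec (CommRingCat.of A)).Modules).IsQuasicoherent := ‹Coh.IsQCoh M›
  have hN : (N : (Spec (CommRingCat.of A)).Modules).IsQuasicoherent := ‹Coh.IsQCoh N›
  exact ⟨isQuasicoherent_kernel (R := CommRingCat.of A) φ,
    isQuasicoherent_cokernel (R := CommRingCat.of A) φ⟩

end Groth.Agent.S9496
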