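import Groth.Statements.S9502
import Mathlib.AlgebraicGeometry.Morphisms.QuasiCompact
import Mathlib.AlgebraicGeometry.AffineScheme

set_option autoImplicit false
set_option linter.style.haveILetI false
universe u
open SchMor

namespace Groth.Agent.S9502

open AlgebraicGeometry CategoryTheory TopologicalSpace Opposite

theorem kerLocGen {X Y : Scheme.{u}} (f : X ⟶ Y) (h1 : Topology.IsClosedEmbedding f) :
    LRSImm.KerLocallyGenerated f.toLRSHom := by
  intro y
  obtain ⟨U, hU, hyU, -⟩ := exists_isAffineOpen_mem_and_subset (x := y) (U := ⊤) trivial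
  refine ⟨U, hyU, {a : Γ(Y, U) // (f.app U).hom a = 0}, fun a => a.1, fun a => a.2, ?_⟩
  intro y' hy'
  have hcomp : IsCompact ((f ⁻¹ᵁ U : X.Opens) : Set X) :=
    h1.isCompact_preimage hU.isCompact
  apply le_antisymm
  · refine Ideal.span_le.mpr ?_
    rintro _ ⟨a, rfl⟩
    show (TopCat.Presheaf.stalkFunctor CommRingCat y').map f.toLRSHom.c
      (Y.presheaf.germ U y' hy' a.1) = 0
    rw [TopCat.Presheaf.stalkFunctor_map_germ_apply]
    have : (f.toLRSHom.c.app (op U)) a.1 = 0 := a.2
    rw [this, map_zero]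
    rfl
  · intro γ hγ
    let P : TopCat.Presheaf CommRingCat Y.toTopCat :=
      (TopCat.Presheaf.pushforward CommRingCat f.toLRSHom.base).obj X.presheaf
    let σ : Y.presheaf.stalk y' →+* P.stalk y' :=
      ((TopCat.Presheaf.stalkFunctor CommRingCat y').map f.toLRSHom.c).hom
    have hγ' : σ γ = 0 := hγ
    have hσgerm : ∀ b : Γ(Y, U), σ (Y.presheaf.germ U y' hy' b) =
        P.germ U y' hy' (f.toLRSHom.c.app (op U) b) := fun b =>
      TopCat.Presheaf.stalkFunctor_map_germ_apply U y' hy' f.toLRSHom.c b
    letI : Algebra Γ(Y, U) (Y.presheaf.stalk y') :=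
      TopCat.Presheaf.algebra_section_stalk Y.presheaf (⟨y', hy'⟩ : U)
    haveI hloc : IsLocalization.AtPrime (Y.presheaf.stalk y')
      (hU.primeIdealOf ⟨y', hy'⟩).asIdeal := hU.isLocalization_stalk ⟨y', hy'⟩
    obtain ⟨⟨a, g⟩, hag⟩ := IsLocalization.surj (hU.primeIdealOf ⟨y', hy'⟩).asIdeal.primeCompl γ
    have hgu : IsUnit (Y.presheaf.germ U y' hy' g.1) :=
      IsLocalization.map_units (Y.presheaf.stalk y') g
    have hag' : γ * Y.presheaf.germ U y' hy' g.1 = Y.presheaf.germ U y' hy' a := hag
    have h3 : P.germ U y' hy' (f.toLRSHom.c.app (op U) a) = 0 := by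
      rw [← hσgerm, ← hag', map_mul, hγ', zero_mul]
    obtain ⟨W, hy'W, iU, iV, e⟩ := P.germ_eq y' hy' hy' _ 0 (by rw [h3, map_zero])
    rw [map_zero] at e
    -- basic open inside W
    obtain ⟨g₂, hg₂W, hy'g₂⟩ := hU.exists_basicOpen_le ⟨y', hy'W⟩ hy'
    have hpre : X.basicOpen ((f.app U).hom g₂) ≤ f ⁻¹ᵁ W := by
      rw [← Scheme.preimage_basicOpen]
      exact f.preimage_mono hg₂W
    have H : (X.presheaf.map (homOfLE (X.basicOpen_le ((f.app U).hom g₂))).op).hom
        ((f.app U).hom a) = 0 := by
      have e2 : ∀ x : Γ(X, f ⁻¹ᵁ U),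
          (X.presheaf.map (homOfLE (X.basicOpen_le ((f.app U).hom g₂))).op).hom x =
          (X.presheaf.map (homOfLE hpre).op).hom
            ((X.presheaf.map ((Opens.map f.base).map iU).op).hom x) := by
        intro x
        rw [← RingHom.comp_apply, ← CommRingCat.hom_comp, ← Functor.map_comp]; rfl
      rw [e2]
      have e3 : (X.presheaf.map ((Opens.map f.base).map iU).op).hom ((f.app U).hom a) = 0 := e
      rw [e3, map_zero]
    obtain ⟨m, hm⟩ := exists_pow_mul_eq_zero_of_res_basicOpen_eq_zero_of_isCompact X hcomp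
      ((f.app U).hom a) ((f.app U).hom g₂) H
    have hmem : (f.app U).hom (g₂ ^ m * a) = 0 := by
      rw [map_mul, map_pow]; exact hm
    have hg₂u : IsUnit (Y.presheaf.germ U y' hy' g₂) :=
      (Y.mem_basicOpen g₂ y' hy').mp hy'g₂
    set I := Ideal.span (Set.range fun j : {a : Γ(Y, U) // (f.app U).hom a = 0} =>
      (ConcreteCategory.hom (Y.presheaf.germ U y' hy')) j.1) with hI
    have h5 : Y.presheaf.germ U y' hy' (g₂ ^ m * a) ∈ I :=
      Ideal.subset_span ⟨⟨g₂ ^ m * a, hmem⟩, rfl⟩
    rw [map_mul, map_pow] at h5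
    have h6 : Y.presheaf.germ U y' hy' a ∈ I :=
      (Ideal.unit_mul_mem_iff_mem I (hg₂u.pow m)).mp h5
    rw [← hag'] at h6
    exact (Ideal.mul_unit_mem_iff_mem I hgu).mp h6


open AlgebraicGeometry in
open CategoryTheory in
/-- Let f : X → Y be a morphism of schemes such that (1) the underlying continuous map of f is a
homeomorphism onto a closed subset of Y and (2) the map of sheaves of rings O_Y → f_*O_X is
surjective (locally surjective on sections). Then f is a closed immersion in the sense of locally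
ringed spaces: (1) and (2) hold and (3) the kernel of O_Y → f_*O_X is locally generated by sections,
i.e. around every point of Y there are sections of O_Y killed in f_*O_X whose germs generate the
kernel of the stalk map O_{Y,y} → (f_*O_X)_y at every nearby point y. (For a morphism of schemes (1)
and (2) alone already give surjective stalk maps; the content of this row is condition (3).) -/
theorem result
    {X Y : Scheme.{u}} (f : X ⟶ Y) (h1 : Topology.IsClosedEmbedding f)
    (h2 : TopCat.Presheaf.IsLocallySurjective f.c) :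
    LRSImm.IsClosedImmersion f.toLRSHom := by
  exact ⟨h1, h2, kerLocGen f h1⟩

end Groth.Agent.S9502
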