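import Groth.Statements.S9505
import Groth.Agent.Lib.Helper91.LRSClosed
import Mathlib

set_option autoImplicit false
universe u
open LRSImm

set_option linter.unusedSectionVars false

namespace Groth.Agent.S9505Aux

set_option backward.isDefEq.respectTransparency.types false

open AlgebraicGeometry CategoryTheory Opposite TopologicalSpace Groth.Agent.Helper91.LRSClosed

section General

variable {Z X : LocallyRingedSpace.{u}} (i : Z ⟶ X)

/-- stalkwise kernel, general target -/
noncomputable def Kg (x : X) : Ideal (X.presheaf.stalk x) :=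
  RingHom.ker ((TopCat.Presheaf.stalkFunctor CommRingCat x).map i.c).hom

theorem Kg_eq_top (hcl : IsClosed (Set.range i.base)) (x : X)
    (hx : x ∉ Set.range i.base) : Kg i x = ⊤ := by
  rw [Ideal.eq_top_iff_one]
  let U : Opens X.toTopCat := ⟨(Set.range i.base)ᶜ, hcl.isOpen_compl⟩
  have hxU : x ∈ U := hx
  have hV : (Opens.map i.base).obj U = ⊥ := by
    ext z
    simp only [Opens.map_coe, Set.mem_preimage, SetLike.mem_coe, Opens.coe_bot,
      Set.mem_empty_iff_false, iff_false]
    intro hz
    exact hz ⟨z, rfl⟩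
  have h1 := TopCat.Presheaf.stalkFunctor_map_germ_apply (C := CommRingCat) U x hxU i.c 1
  have h2 : (i.c.app (op U)) 1 = 0 := section_eq_zero_of_eq_bot _ hV _
  rw [h2, map_zero, map_one] at h1
  exact h1

theorem stalkMap_eq_g (z : Z) (ξ : X.presheaf.stalk (i.base z)) :
    i.stalkMap z ξ = (Z.presheaf.stalkPushforward CommRingCat i.base z)
      (((TopCat.Presheaf.stalkFunctor CommRingCat (i.base z)).map i.c) ξ) := rfl

theorem mem_Kg_iff (hemb : Topology.IsInducing i.base) (z : Z)
    (ξ : X.presheaf.stalk (i.base z)) :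
    ξ ∈ Kg i (i.base z) ↔ i.stalkMap z ξ = 0 := by
  have hiso := TopCat.Presheaf.stalkPushforward.stalkPushforward_iso_of_isInducing
    (C := CommRingCat) (f := i.base) hemb Z.presheaf z
  have hinj : Function.Injective (Z.presheaf.stalkPushforward CommRingCat i.base z) :=
    (ConcreteCategory.bijective_of_isIso _).1
  constructor
  · intro h
    have h' : ((TopCat.Presheaf.stalkFunctor CommRingCat (i.base z)).map i.c) ξ = 0 := h
    rw [stalkMap_eq_g, h']
    exact map_zero _
  · intro h
    rw [stalkMap_eq_g] at h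
    have h' : ((TopCat.Presheaf.stalkFunctor CommRingCat (i.base z)).map i.c) ξ = 0 := by
      apply hinj
      rw [h]
      exact (map_zero _).symm
    exact h'

theorem stalkMap_surjective_g (hemb : Topology.IsInducing i.base)
    (hsurj : TopCat.Presheaf.IsLocallySurjective i.c) (z : Z) :
    Function.Surjective (i.stalkMap z) := by
  have h1 := (TopCat.Presheaf.locally_surjective_iff_surjective_on_stalks i.c).mp hsurj (i.base z)
  have hiso := TopCat.Presheaf.stalkPushforward.stalkPushforward_iso_of_isInducing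
    (C := CommRingCat) (f := i.base) hemb Z.presheaf z
  have hs : Function.Surjective (Z.presheaf.stalkPushforward CommRingCat i.base z) :=
    (ConcreteCategory.bijective_of_isIso _).2
  intro ζ
  obtain ⟨η, hη⟩ := hs ζ
  obtain ⟨ξ, hξ⟩ := h1 η
  refine ⟨ξ, ?_⟩
  rw [stalkMap_eq_g]
  erw [hξ]
  exact hη

theorem mem_Kg_congr (x₁ x₂ : X) (h : x₁ = x₂) (ξ : X.presheaf.stalk x₁) :
    ξ ∈ Kg i x₁ ↔
      X.presheaf.stalkSpecializes (specializes_of_eq h.symm) ξ ∈ Kg i x₂ := by
  subst h
  have : X.presheaf.stalkSpecializes (specializes_of_eq (rfl : x₁ = x₁)) = 𝟙 _ :=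
    TopCat.Presheaf.stalkSpecializes_refl _ _
  rw [this]
  rfl

end General

section Transport

variable {Z Z' X W : LocallyRingedSpace.{u}} (i : Z ⟶ X) (j : W ⟶ X)
  [LocallyRingedSpace.IsOpenImmersion j] (ι : Z' ⟶ Z) [LocallyRingedSpace.IsOpenImmersion ι]
  (i' : Z' ⟶ W) (hcomm : i' ≫ j = ι ≫ i)

include hcomm in
theorem base_comm (z' : Z') : j.base (i'.base z') = i.base (ι.base z') := by
  have := congrArg (fun f : Z' ⟶ X => f.base z') hcomm
  exact this

include hcomm in
/-- the stalk-map relation -/
theorem stalkMap_rel (z' : Z') (ξ : X.presheaf.stalk (j.base (i'.base z'))) :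
    i'.stalkMap z' (j.stalkMap (i'.base z') ξ) =
      ι.stalkMap z' (i.stalkMap (ι.base z')
        (X.presheaf.stalkSpecializes
          (specializes_of_eq (base_comm i j ι i' hcomm z').symm) ξ)) := by
  have h1 := LocallyRingedSpace.stalkMap_congr_hom (i' ≫ j) (ι ≫ i) hcomm z'
  rw [LocallyRingedSpace.stalkMap_comp, LocallyRingedSpace.stalkMap_comp] at h1
  have h2 := congrArg (fun f => f.hom ξ) h1
  exact h2

include hcomm in
theorem Kg_transport (hi : Topology.IsClosedEmbedding i.base)
    (hi' : Topology.IsClosedEmbedding i'.base)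
    (hrange : ∀ w, j.base w ∈ Set.range i.base → w ∈ Set.range i'.base) (w : W) :
    Kg i' w = (Kg i (j.base w)).map (j.stalkMap w).hom := by
  by_cases hw : w ∈ Set.range i'.base
  · obtain ⟨z', rfl⟩ := hw
    have hjbij : Function.Bijective (j.stalkMap (i'.base z')).hom :=
      ConcreteCategory.bijective_of_isIso (j.stalkMap (i'.base z'))
    have hιinj : Function.Injective (ι.stalkMap z').hom :=
      (ConcreteCategory.bijective_of_isIso (ι.stalkMap z')).1
    ext η
    obtain ⟨ξ, rfl⟩ := hjbij.2 η
    rw [mem_Kg_iff i' hi'.isInducing z']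
    have hrel := stalkMap_rel i j ι i' hcomm z' ξ
    have hmap : (j.stalkMap (i'.base z')).hom ξ ∈
        (Kg i (j.base (i'.base z'))).map (j.stalkMap (i'.base z')).hom ↔
          ξ ∈ Kg i (j.base (i'.base z')) := by
      constructor
      · intro h
        rw [Ideal.mem_map_iff_of_surjective _ hjbij.2] at h
        obtain ⟨ξ', hξ', he⟩ := h
        rw [← hjbij.1 he]; exact hξ'
      · intro h
        exact Ideal.mem_map_of_mem _ h
    rw [hmap, mem_Kg_congr i _ _ (base_comm i j ι i' hcomm z') ξ,
      mem_Kg_iff i hi.isInducing (ι.base z')]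
    constructor
    · intro h
      have h0 : i'.stalkMap z' (j.stalkMap (i'.base z') ξ) = 0 := h
      rw [hrel] at h0
      apply hιinj
      rw [map_zero]
      exact h0
    · intro h
      have h0 : i'.stalkMap z' (j.stalkMap (i'.base z') ξ) = 0 := by
        rw [hrel, h, map_zero]
      exact h0
  · have hjw : j.base w ∉ Set.range i.base := fun h => hw (hrange w h)
    rw [Kg_eq_top i' hi'.isClosed_range w hw, Kg_eq_top i hi.isClosed_range _ hjw, Ideal.map_top]

end Transport

section Chart

variable {Z X : LocallyRingedSpace.{u}} (i : Z ⟶ X)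
  {R : Type u} [CommRing R] (j : (Spec (CommRingCat.of R)).toLocallyRingedSpace ⟶ X)
  [H : LocallyRingedSpace.IsOpenImmersion j]

/-- V = i⁻¹(range j) -/
noncomputable def V : Opens Z.toTopCat :=
  (Opens.map i.base).obj ⟨Set.range j.base, H.base_open.isOpen_range⟩

/-- the restricted space -/
noncomputable abbrev Zr : LocallyRingedSpace := Z.restrict (V i j).isOpenEmbedding

/-- the inclusion -/
noncomputable abbrev iota : Zr i j ⟶ Z := Z.ofRestrict (V i j).isOpenEmbedding

theorem range_sub : Set.range (iota i j ≫ i).base ⊆ Set.range j.base := by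
  rintro _ ⟨v, rfl⟩
  exact v.2

/-- the restricted morphism to the chart -/
noncomputable def ir : Zr i j ⟶ (Spec (CommRingCat.of R)).toLocallyRingedSpace :=
  LocallyRingedSpace.IsOpenImmersion.lift j (iota i j ≫ i) (range_sub i j)

theorem ir_comm : ir i j ≫ j = iota i j ≫ i :=
  LocallyRingedSpace.IsOpenImmersion.lift_fac _ _ _

theorem ir_hrange (w : (Spec (CommRingCat.of R)).toLocallyRingedSpace)
    (hw : j.base w ∈ Set.range i.base) : w ∈ Set.range (ir i j).base := by
  obtain ⟨z, hz⟩ := hw
  have hzV : z ∈ V i j := by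
    change i.base z ∈ Set.range j.base
    rw [hz]; exact ⟨w, rfl⟩
  refine ⟨⟨z, hzV⟩, ?_⟩
  apply H.base_open.injective
  have h1 := base_comm i j (iota i j) (ir i j) (ir_comm i j) ⟨z, hzV⟩
  exact h1.trans hz

theorem ir_isClosedEmbedding (hi : Topology.IsClosedEmbedding i.base) :
    Topology.IsClosedEmbedding (ir i j).base := by
  have hcomp : j.base ∘ (ir i j).base = i.base ∘ (iota i j).base := by
    funext v
    exact base_comm i j (iota i j) (ir i j) (ir_comm i j) v
  have hιemb : Topology.IsEmbedding (iota i j).base :=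
    (V i j).isOpenEmbedding.isEmbedding
  have hemb : Topology.IsEmbedding (ir i j).base := by
    refine Topology.IsEmbedding.of_comp (ir i j).base.hom.continuous j.base.hom.continuous ?_
    rw [hcomp]
    exact hi.isEmbedding.comp hιemb
  refine ⟨hemb, ?_⟩
  have hr : Set.range (ir i j).base = j.base ⁻¹' (Set.range i.base) := by
    ext w
    constructor
    · rintro ⟨v, rfl⟩
      exact ⟨(iota i j).base v, (base_comm i j (iota i j) (ir i j) (ir_comm i j) v).symm⟩
    · intro hw
      exact ir_hrange i j w hw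
  rw [hr]
  exact hi.isClosed_range.preimage j.base.hom.continuous

theorem stalkSpecializes_surjective_of_eq (x₁ x₂ : X) (h : x₂ = x₁) :
    Function.Surjective (X.presheaf.stalkSpecializes (specializes_of_eq h)) := by
  subst h
  have : X.presheaf.stalkSpecializes (specializes_of_eq (rfl : x₂ = x₂)) = 𝟙 _ :=
    TopCat.Presheaf.stalkSpecializes_refl _ _
  rw [this]
  exact fun y => ⟨y, rfl⟩

theorem ir_stalkMap_surjective (hi : LRSImm.IsClosedImmersion i) (v : Zr i j) :
    Function.Surjective ((ir i j).stalkMap v) := by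
  intro ζ
  have hιbij : Function.Bijective ((iota i j).stalkMap v).hom :=
    ConcreteCategory.bijective_of_isIso ((iota i j).stalkMap v)
  obtain ⟨ζ₁, rfl⟩ := hιbij.2 ζ
  obtain ⟨ξ₁, rfl⟩ := stalkMap_surjective_g i hi.1.isInducing hi.2.1 ((iota i j).base v) ζ₁
  obtain ⟨ξ, rfl⟩ := stalkSpecializes_surjective_of_eq _ _
    (base_comm i j (iota i j) (ir i j) (ir_comm i j) v).symm ξ₁
  exact ⟨j.stalkMap ((ir i j).base v) ξ, stalkMap_rel i j (iota i j) (ir i j) (ir_comm i j) v ξ⟩

theorem ir_hyp (hi : LRSImm.IsClosedImmersion i) : Hyp (ir i j) := by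
  refine ⟨ir_isClosedEmbedding i j hi.1, ir_stalkMap_surjective i j hi, fun q => ?_⟩
  obtain ⟨U', hxU', ι, s, -, hspan⟩ := hi.2.2 (j.base q)
  let W' : Opens (Spec (CommRingCat.of R)).toLocallyRingedSpace.toTopCat :=
    (Opens.map j.base).obj U'
  have hqW' : q ∈ W' := hxU'
  let t : ι → (Spec (CommRingCat.of R)).toLocallyRingedSpace.presheaf.obj (op W') :=
    fun k => j.c.app (op U') (s k)
  refine locGen_of_sections (ir i j) q W' hqW' ι t ?_
  intro q' hq'
  have htr := Kg_transport i j (iota i j) (ir i j) (ir_comm i j) hi.1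
    (ir_isClosedEmbedding i j hi.1) (ir_hrange i j) q'
  have hsp := hspan (j.base q') hq'
  have hgerm : ∀ k, (Spec (CommRingCat.of R)).toLocallyRingedSpace.presheaf.germ W' q' hq' (t k) =
      (j.stalkMap q').hom (X.presheaf.germ U' (j.base q') hq' (s k)) := fun k =>
    (LocallyRingedSpace.stalkMap_germ_apply j U' q' hq' (s k)).symm
  have hrange : (Set.range fun k =>
      (Spec (CommRingCat.of R)).toLocallyRingedSpace.presheaf.germ W' q' hq' (t k)) =
      (j.stalkMap q').hom '' (Set.range fun k => X.presheaf.germ U' (j.base q') hq' (s k)) := by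
    rw [← Set.range_comp]
    congr 1
    funext k
    exact hgerm k
  rw [hrange, ← Ideal.map_span, hsp]
  exact htr.symm

end Chart


theorem main (X : Scheme.{u}) (Z : LocallyRingedSpace.{u}) (i : Z ⟶ X.toLocallyRingedSpace)
    (hi : LRSImm.IsClosedImmersion i) :
    ∃ (Z' : Scheme.{u}) (e : Z'.toLocallyRingedSpace ≅ Z),
      AlgebraicGeometry.IsClosedImmersion (Scheme.Hom.mk (e.hom ≫ i) : Z' ⟶ X) := by
  have hla : ∀ z : Z, ∃ (U : OpenNhds z) (R : CommRingCat),
      Nonempty (Z.restrict U.isOpenEmbedding ≅ Spec.toLocallyRingedSpace.obj (op R)) := by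
    intro z
    obtain ⟨U, R, ⟨φ⟩⟩ := X.local_affine (i.base z)
    let j : (Spec (CommRingCat.of R)).toLocallyRingedSpace ⟶ X.toLocallyRingedSpace :=
      φ.inv ≫ X.toLocallyRingedSpace.ofRestrict U.isOpenEmbedding
    haveI : LocallyRingedSpace.IsOpenImmersion j := inferInstance
    have hzV : z ∈ V i j := by
      change i.base z ∈ Set.range j.base
      refine ⟨φ.hom.base ⟨i.base z, U.2⟩, ?_⟩
      change (X.toLocallyRingedSpace.ofRestrict U.isOpenEmbedding).base
        (φ.inv.base (φ.hom.base ⟨i.base z, U.2⟩)) = i.base z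
      rw [LocallyRingedSpace.iso_hom_base_inv_base_apply]
      rfl
    obtain ⟨e, -⟩ := Groth.Agent.Helper91.LRSClosed.main (ir i j) (ir_hyp i j hi) _ rfl
    exact ⟨⟨V i j, hzV⟩, CommRingCat.of (R ⧸ RingHom.ker (phi (ir i j)).hom), ⟨e⟩⟩
  let Z' : Scheme := { toLocallyRingedSpace := Z, local_affine := hla }
  refine ⟨Z', Iso.refl _, ?_⟩
  have hid : (Iso.refl Z'.toLocallyRingedSpace).hom ≫ i = i := Category.id_comp _
  rw [hid, isClosedImmersion_iff]
  refine ⟨⟨fun x => ?_⟩, hi.1⟩
  exact stalkMap_surjective_g i hi.1.isInducing hi.2.1 x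

end Groth.Agent.S9505Aux

namespace Groth.Agent.S9505

open AlgebraicGeometry in
open CategoryTheory in
/-- Let X be a scheme and i : Z → X a closed immersion of locally ringed spaces: a homeomorphism onto a
closed subset of X such that O_X → i_*O_Z is surjective as a map of sheaves and its kernel is
locally generated by sections. Then the locally ringed space Z is a scheme and i is a closed
immersion of schemes (affine-locally of the form Spec(R/I) → Spec R): there are a scheme Z' and an
isomorphism of locally ringed spaces Z' ≅ Z whose composite with i is a closed immersion of schemes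
Z' → X. -/
theorem result
    (X : Scheme.{u}) (Z : LocallyRingedSpace.{u}) (i : Z ⟶ X.toLocallyRingedSpace)
    (hi : LRSImm.IsClosedImmersion i) :
    ∃ (Z' : Scheme.{u}) (e : Z'.toLocallyRingedSpace ≅ Z),
      AlgebraicGeometry.IsClosedImmersion (Scheme.Hom.mk (e.hom ≫ i) : Z' ⟶ X) := by
  exact Groth.Agent.S9505Aux.main X Z i hi

end Groth.Agent.S9505
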