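import Groth.Statements.S9506
import Mathlib

set_option autoImplicit false
universe u
open LRSImm

set_option linter.unusedSectionVars false

namespace Groth.Agent.S9506Aux

/-- L1: local membership on `D(h)` implies membership after multiplying by a power of `h`. -/
theorem exists_pow_mul_mem {R : Type u} [CommRing R]
    (S : PrimeSpectrum R → Type u) [∀ q, CommRing (S q)] [∀ q, Algebra R (S q)]
    [∀ q : PrimeSpectrum R, IsLocalization.AtPrime (S q) q.asIdeal]
    (J : Ideal R) (a h : R)
    (H : ∀ q' : PrimeSpectrum R, h ∉ q'.asIdeal →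
      algebraMap R (S q') a ∈ J.map (algebraMap R (S q'))) :
    ∃ N : ℕ, h ^ N * a ∈ J := by
  let C : Ideal R := Submodule.colon J ({a} : Set R)
  have hC : ∀ r, r ∈ C ↔ r * a ∈ J := fun r => by
    simp only [C, Submodule.mem_colon_singleton, smul_eq_mul]
  have hrad : h ∈ C.radical := by
    rw [Ideal.radical_eq_sInf, Ideal.mem_sInf]
    rintro P ⟨hCP, hP⟩
    by_contra hh
    have hH := H ⟨P, hP⟩ hh
    haveI : IsLocalization P.primeCompl (S ⟨P, hP⟩) :=
      (inferInstance : IsLocalization.AtPrime (S ⟨P, hP⟩) (⟨P, hP⟩ : PrimeSpectrum R).asIdeal)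
    rw [IsLocalization.mem_map_algebraMap_iff P.primeCompl] at hH
    obtain ⟨⟨j, u⟩, hju⟩ := hH
    simp only at hju
    rw [← map_mul, IsLocalization.eq_iff_exists P.primeCompl] at hju
    obtain ⟨v, hv⟩ := hju
    have hmem : (v : R) * u ∈ C := by
      rw [hC]
      have : (v : R) * u * a = v * (a * u) := by ring
      rw [this, hv]
      exact J.mul_mem_left _ j.2
    have := hCP hmem
    rcases hP.mem_or_mem this with h1 | h1
    · exact v.2 h1
    · exact u.2 h1
  obtain ⟨N, hN⟩ := hrad
  exact ⟨N, (hC _).mp hN⟩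

/-- Sub-claim: if `a/1 ∈ K q'` on `D(f)`, then `f^m a ∈ I` for some `m`. -/
theorem exists_pow_mul_mem_global {R : Type u} [CommRing R]
    (S : PrimeSpectrum R → Type u) [∀ q, CommRing (S q)] [∀ q, Algebra R (S q)]
    [∀ q : PrimeSpectrum R, IsLocalization.AtPrime (S q) q.asIdeal]
    (K : ∀ q, Ideal (S q))
    (hK : ∀ q : PrimeSpectrum R, ∃ (g : R) (T : Set R), g ∉ q.asIdeal ∧
      ∀ q' : PrimeSpectrum R, g ∉ q'.asIdeal →
        K q' = Ideal.span ((algebraMap R (S q')) '' T))
    (a f : R) (h : ∀ q' : PrimeSpectrum R, f ∉ q'.asIdeal → algebraMap R (S q') a ∈ K q') :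
    ∃ m : ℕ, ∀ q' : PrimeSpectrum R, algebraMap R (S q') (f ^ m * a) ∈ K q' := by
  choose g T hg hT using hK
  -- finite subcover
  have htop : Ideal.span (Set.range g) = ⊤ := by
    by_contra hne
    obtain ⟨M, hM, hle⟩ := Ideal.exists_le_maximal _ hne
    exact hg ⟨M, hM.isPrime⟩ (hle (Ideal.subset_span ⟨_, rfl⟩))
  have h1 : (1 : R) ∈ Ideal.span (Set.range g) := htop ▸ Submodule.mem_top
  obtain ⟨F, hF, h1F⟩ := Submodule.mem_span_finite_of_mem_span h1
  -- F : Finset R ⊆ range g
  have hN : ∀ x ∈ F, ∃ N : ℕ, ∀ q' : PrimeSpectrum R, x ∉ q'.asIdeal →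
      algebraMap R (S q') (f ^ N * a) ∈ K q' := by
    intro x hx
    obtain ⟨q, rfl⟩ := hF hx
    obtain ⟨N, hN⟩ := exists_pow_mul_mem S (Ideal.span (T q)) a (g q * f) (by
      intro q' hq'
      have hgq' : g q ∉ q'.asIdeal := fun hh => hq' (q'.asIdeal.mul_mem_right _ hh)
      have hfq' : f ∉ q'.asIdeal := fun hh => hq' (q'.asIdeal.mul_mem_left _ hh)
      have := h q' hfq'
      rw [hT q q' hgq'] at this
      rwa [Ideal.map_span])
    refine ⟨N, fun q' hq' => ?_⟩
    rw [hT q q' hq']
    have hmem : algebraMap R (S q') ((g q * f) ^ N * a) ∈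
        Ideal.span ((algebraMap R (S q')) '' T q) := by
      rw [← Ideal.map_span]
      exact Ideal.mem_map_of_mem _ hN
    have hunit : IsUnit (algebraMap R (S q') (g q ^ N)) :=
      IsLocalization.map_units (S q') (⟨g q ^ N, fun hh => hq' (q'.isPrime.mem_of_pow_mem _ hh)⟩ :
        q'.asIdeal.primeCompl)
    have heq : algebraMap R (S q') ((g q * f) ^ N * a) =
        algebraMap R (S q') (g q ^ N) * algebraMap R (S q') (f ^ N * a) := by
      rw [← map_mul]; congr 1; ring
    rw [heq] at hmem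
    obtain ⟨w, hw⟩ := hunit
    have : algebraMap R (S q') (f ^ N * a) =
        (↑w⁻¹ : S q') * (algebraMap R (S q') (g q ^ N) * algebraMap R (S q') (f ^ N * a)) := by
      rw [← hw, ← mul_assoc, Units.inv_mul, one_mul]
    rw [this]
    exact Ideal.mul_mem_left _ _ hmem
  choose! N hN using hN
  refine ⟨F.sup N, fun q' => ?_⟩
  -- some x ∈ F is not in q'
  have hex : ∃ x ∈ F, x ∉ q'.asIdeal := by
    by_contra hcon
    push Not at hcon
    have : Ideal.span (F : Set R) ≤ q'.asIdeal := Ideal.span_le.mpr (fun x hx => hcon x hx)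
    exact q'.isPrime.ne_top (Ideal.eq_top_of_isUnit_mem _ (this h1F) isUnit_one)
  obtain ⟨x, hxF, hxq⟩ := hex
  have hle : N x ≤ F.sup N := Finset.le_sup hxF
  have := hN x hxF q' hxq
  have heq : f ^ (F.sup N) * a = f ^ (F.sup N - N x) * (f ^ N x * a) := by
    rw [← mul_assoc, ← pow_add, Nat.sub_add_cancel hle]
  rw [heq, map_mul]
  exact Ideal.mul_mem_left _ _ this

/-- The algebraic lemma: a stalkwise locally generated family of ideals is the localisation of
its global ideal. -/
theorem ker_eq_map_of_locGen {R : Type u} [CommRing R]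
    (S : PrimeSpectrum R → Type u) [∀ q, CommRing (S q)] [∀ q, Algebra R (S q)]
    [∀ q : PrimeSpectrum R, IsLocalization.AtPrime (S q) q.asIdeal]
    (K : ∀ q, Ideal (S q))
    (hK : ∀ q : PrimeSpectrum R, ∃ (g : R) (T : Set R), g ∉ q.asIdeal ∧
      ∀ q' : PrimeSpectrum R, g ∉ q'.asIdeal →
        K q' = Ideal.span ((algebraMap R (S q')) '' T))
    (I : Ideal R) (hI : ∀ a, a ∈ I ↔ ∀ q, algebraMap R (S q) a ∈ K q) (q : PrimeSpectrum R) :
    K q = I.map (algebraMap R (S q)) := by
  apply le_antisymm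
  · obtain ⟨g, T, hg, hT⟩ := hK q
    rw [hT q hg, Ideal.span_le]
    rintro _ ⟨t, ht, rfl⟩
    obtain ⟨m, hm⟩ := exists_pow_mul_mem_global S K hK t g (by
      intro q' hq'
      rw [hT q' hq']
      exact Ideal.subset_span ⟨t, ht, rfl⟩)
    have hmem : g ^ m * t ∈ I := (hI _).mpr hm
    have hmem' := Ideal.mem_map_of_mem (algebraMap R (S q)) hmem
    rw [map_mul] at hmem'
    have hunit : IsUnit (algebraMap R (S q) (g ^ m)) :=
      IsLocalization.map_units (S q) (⟨g ^ m, fun hh => hg (q.isPrime.mem_of_pow_mem _ hh)⟩ :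
        q.asIdeal.primeCompl)
    obtain ⟨w, hw⟩ := hunit
    have : algebraMap R (S q) t =
        (↑w⁻¹ : S q) * (algebraMap R (S q) (g ^ m) * algebraMap R (S q) t) := by
      rw [← hw, ← mul_assoc, Units.inv_mul, one_mul]
    rw [SetLike.mem_coe, this]
    exact Ideal.mul_mem_left _ _ hmem'
  · rw [Ideal.map_le_iff_le_comap]
    intro a ha
    exact (hI a).mp ha q


set_option backward.isDefEq.respectTransparency.types false

open AlgebraicGeometry CategoryTheory Opposite TopologicalSpace

variable {R : Type u} [CommRing R] {Z : LocallyRingedSpace.{u}}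
  (i : Z ⟶ (Spec (CommRingCat.of R)).toLocallyRingedSpace)

/-- stalkwise kernel -/
noncomputable def K (q : PrimeSpectrum R) : Ideal ((Spec.structureSheaf R).presheaf.stalk q) :=
  RingHom.ker ((TopCat.Presheaf.stalkFunctor CommRingCat q).map i.c).hom

/-- the global ring map -/
noncomputable def phi : CommRingCat.of R ⟶ LocallyRingedSpace.Γ.obj (op Z) :=
  (Scheme.ΓSpecIso (CommRingCat.of R)).inv ≫ i.c.app (op ⊤)

/-- image point as a prime -/
noncomputable def pt (z : Z) : PrimeSpectrum R := i.base z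

theorem toStalk_stalkMap (z : Z) (a : R) :
    i.stalkMap z (algebraMap R ((Spec.structureSheaf R).presheaf.stalk (pt i z)) a) =
      Z.presheaf.germ ⊤ z trivial ((phi i).hom a) := by
  have h := LocallyRingedSpace.stalkMap_germ_apply i ⊤ z trivial
    ((Scheme.ΓSpecIso (CommRingCat.of R)).inv.hom a)
  exact h

theorem stalkMap_eq (z : Z) (ξ : (Spec.structureSheaf R).presheaf.stalk (pt i z)) :
    i.stalkMap z ξ = (Z.presheaf.stalkPushforward CommRingCat i.base z)
      (((TopCat.Presheaf.stalkFunctor CommRingCat (pt i z)).map i.c) ξ) := rfl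

theorem mem_K_iff (hemb : Topology.IsInducing i.base) (z : Z)
    (ξ : (Spec.structureSheaf R).presheaf.stalk (pt i z)) :
    ξ ∈ K i (pt i z) ↔ i.stalkMap z ξ = 0 := by
  have hiso := TopCat.Presheaf.stalkPushforward.stalkPushforward_iso_of_isInducing
    (C := CommRingCat) (f := i.base) hemb Z.presheaf z
  have hinj : Function.Injective (Z.presheaf.stalkPushforward CommRingCat i.base z) :=
    (ConcreteCategory.bijective_of_isIso _).1
  constructor
  · intro h
    have h' : ((TopCat.Presheaf.stalkFunctor CommRingCat (pt i z)).map i.c) ξ = 0 := h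
    rw [stalkMap_eq, h']
    exact map_zero _
  · intro h
    rw [stalkMap_eq] at h
    have h' : ((TopCat.Presheaf.stalkFunctor CommRingCat (pt i z)).map i.c) ξ = 0 := by
      apply hinj
      rw [h]
      exact (map_zero _).symm
    exact h'

theorem mem_ker_phi_iff (hemb : Topology.IsInducing i.base) (a : R) :
    (phi i).hom a = 0 ↔
      ∀ q : PrimeSpectrum R, algebraMap R ((Spec.structureSheaf R).presheaf.stalk q) a ∈ K i q := by
  constructor
  · intro h q
    have h1 := TopCat.Presheaf.stalkFunctor_map_germ_apply (C := CommRingCat) (⊤ : Opens _) q trivial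
      i.c ((Scheme.ΓSpecIso (CommRingCat.of R)).inv.hom a)
    have h2 : (i.c.app (op ⊤)) ((Scheme.ΓSpecIso (CommRingCat.of R)).inv.hom a) = 0 := h
    rw [h2, map_zero] at h1
    exact h1
  · intro h
    apply TopCat.Presheaf.section_ext Z.sheaf ⊤
    intro z hz
    have h3 := (mem_K_iff i hemb z _).mp (h (pt i z))
    rw [toStalk_stalkMap] at h3
    exact h3.trans (map_zero _).symm

theorem span_eq_of_units {A : Type*} [CommRing A] {ι : Type*} (x y : ι → A) (u : ι → A)
    (hu : ∀ j, IsUnit (u j)) (h : ∀ j, x j * u j = y j) :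
    Ideal.span (Set.range x) = Ideal.span (Set.range y) := by
  apply le_antisymm
  · rw [Ideal.span_le]
    rintro _ ⟨j, rfl⟩
    obtain ⟨w, hw⟩ := hu j
    have : x j = y j * (↑w⁻¹ : A) := by
      rw [← h j, ← hw, mul_assoc, Units.mul_inv, mul_one]
    rw [SetLike.mem_coe, this]
    exact Ideal.mul_mem_right _ _ (Ideal.subset_span ⟨j, rfl⟩)
  · rw [Ideal.span_le]
    rintro _ ⟨j, rfl⟩
    rw [SetLike.mem_coe, ← h j]
    exact Ideal.mul_mem_right _ _ (Ideal.subset_span ⟨j, rfl⟩)

theorem locGen_of_kerLocallyGenerated (h3 : LRSImm.KerLocallyGenerated i) (q : PrimeSpectrum R) :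
    ∃ (g : R) (T : Set R), g ∉ q.asIdeal ∧ ∀ q' : PrimeSpectrum R, g ∉ q'.asIdeal →
      K i q' = Ideal.span ((algebraMap R ((Spec.structureSheaf R).presheaf.stalk q')) '' T) := by
  obtain ⟨U, hqU, ι, s, hs0, hspan⟩ := h3 q
  have hbasis : ∀ (U : Opens (PrimeSpectrum R)) (x : PrimeSpectrum R), x ∈ U →
      ∃ U' ∈ Set.range (@PrimeSpectrum.basicOpen R _), x ∈ U' ∧ U' ≤ U := fun U x hx =>
    Opens.isBasis_iff_nbhd.mp (PrimeSpectrum.isBasis_basic_opens (R := R)) hx
  obtain ⟨_, ⟨g, rfl⟩, hqg, hgU⟩ := hbasis U q hqU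
  -- restrict sections to basic open
  let s' : ι → (Spec.structureSheaf R).obj.obj (op (PrimeSpectrum.basicOpen g)) := fun j =>
    (Spec.structureSheaf R).obj.map (homOfLE hgU).op (s j)
  have hsurj := fun j => IsLocalization.surj (Submonoid.powers g) (s' j)
  choose bm hbm using hsurj
  refine ⟨g, Set.range (fun j => (bm j).1), hqg, fun q' hq' => ?_⟩
  have hq'g : q' ∈ PrimeSpectrum.basicOpen g := hq'
  have hq'U : q' ∈ U := hgU hq'g
  have h1 := hspan q' hq'U
  have hK : K i q' = Ideal.span (Set.range fun j =>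
      (Spec.structureSheaf R).presheaf.germ U q' hq'U (s j)) := h1.symm
  rw [hK, ← Set.range_comp]
  refine span_eq_of_units _ _
    (fun j => algebraMap R ((Spec.structureSheaf R).presheaf.stalk q') ((bm j).2 : R)) ?_ ?_
  · intro j
    obtain ⟨n, hn⟩ := (bm j).2.2
    exact IsLocalization.map_units ((Spec.structureSheaf R).presheaf.stalk q')
      (⟨((bm j).2 : R), by
        rw [← hn]
        exact fun hh => hq' (q'.isPrime.mem_of_pow_mem _ hh)⟩ : q'.asIdeal.primeCompl)
  · intro j
    have h2 := congrArg ((Spec.structureSheaf R).presheaf.germ (PrimeSpectrum.basicOpen g) q' hq'g)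
      (hbm j)
    rw [map_mul] at h2
    have h3 : (Spec.structureSheaf R).presheaf.germ (PrimeSpectrum.basicOpen g) q' hq'g (s' j) =
        (Spec.structureSheaf R).presheaf.germ U q' hq'U (s j) :=
      TopCat.Presheaf.germ_res_apply (Spec.structureSheaf R).presheaf (homOfLE hgU) q' hq'g (s j)
    have h4 : ∀ r : R, (Spec.structureSheaf R).presheaf.germ (PrimeSpectrum.basicOpen g) q' hq'g
        (algebraMap R _ r) = algebraMap R ((Spec.structureSheaf R).presheaf.stalk q') r := fun r =>
      StructureSheaf.algebraMap_germ_apply (PrimeSpectrum.basicOpen g) q' hq'g r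
    rw [h3, h4, h4] at h2
    exact h2

/-- the quotient map φ' : R/I → Γ(Z) -/
noncomputable def phi' (I : Ideal R) (hI : I = RingHom.ker (phi i).hom) :
    CommRingCat.of (R ⧸ I) ⟶ LocallyRingedSpace.Γ.obj (op Z) :=
  CommRingCat.ofHom (Ideal.Quotient.lift I (phi i).hom (by
    intro a ha; rw [hI] at ha; exact ha))

theorem mk_phi' (I : Ideal R) (hI : I = RingHom.ker (phi i).hom) :
    CommRingCat.ofHom (Ideal.Quotient.mk I) ≫ phi' i I hI = phi i := by
  ext a
  rfl

noncomputable def phiOp : LocallyRingedSpace.Γ.rightOp.obj Z ⟶ op (CommRingCat.of R) :=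
  (phi i).op

noncomputable def phiOp' (I : Ideal R) (hI : I = RingHom.ker (phi i).hom) :
    LocallyRingedSpace.Γ.rightOp.obj Z ⟶ op (CommRingCat.of (R ⧸ I)) :=
  (phi' i I hI).op

noncomputable def psi (I : Ideal R) (hI : I = RingHom.ker (phi i).hom) :
    Z ⟶ (Spec (CommRingCat.of (R ⧸ I))).toLocallyRingedSpace :=
  ΓSpec.locallyRingedSpaceAdjunction.homEquiv Z (op (CommRingCat.of (R ⧸ I))) (phiOp' i I hI)

theorem eq_homEquiv_phi :
    i = ΓSpec.locallyRingedSpaceAdjunction.homEquiv Z (op (CommRingCat.of R)) (phiOp i) := by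
  apply (ΓSpec.locallyRingedSpaceAdjunction.homEquiv Z (op (CommRingCat.of R))).symm.injective
  rw [Equiv.symm_apply_apply, Adjunction.homEquiv_counit]
  rfl

theorem psi_comp (I : Ideal R) (hI : I = RingHom.ker (phi i).hom) :
    psi i I hI ≫ (Spec.map (CommRingCat.ofHom (Ideal.Quotient.mk I))).toLRSHom = i := by
  have h2 := ΓSpec.locallyRingedSpaceAdjunction.homEquiv_naturality_right (X := Z)
    (f := phiOp' i I hI) (g := (CommRingCat.ofHom (Ideal.Quotient.mk I)).op)
  have h3 : phiOp' i I hI ≫ (CommRingCat.ofHom (Ideal.Quotient.mk I)).op = phiOp i := by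
    unfold phiOp' phiOp
    rw [← mk_phi' i I hI]
    rfl
  rw [h3] at h2
  exact h2.symm.trans (eq_homEquiv_phi i).symm

theorem psi_app_top (I : Ideal R) (hI : I = RingHom.ker (phi i).hom) :
    CommRingCat.ofHom (algebraMap (R ⧸ I) _) ≫ (psi i I hI).c.app (op ⊤) = phi' i I hI := by
  have := ΓSpec.toOpen_comp_locallyRingedSpaceAdjunction_homEquiv_app (X := Z) (R := R ⧸ I)
    (phiOp' i I hI) (op ⊤)
  refine this.trans ?_
  unfold phiOp'
  have h5 : (homOfLE (le_top : (⊤ : Opens Z.toTopCat) ≤ ⊤)).op = 𝟙 (op ⊤) := rfl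
  rw [Quiver.Hom.unop_op]
  erw [h5, Z.presheaf.map_id, Category.comp_id]


/-- G3: the key lemma. -/
theorem K_eq_map (hi : LRSImm.IsClosedImmersion i) (q : PrimeSpectrum R) :
    K i q = (RingHom.ker (phi i).hom).map
      (algebraMap R ((Spec.structureSheaf R).presheaf.stalk q)) :=
  ker_eq_map_of_locGen (fun q : PrimeSpectrum R => (Spec.structureSheaf R).presheaf.stalk q)
    (K i) (locGen_of_kerLocallyGenerated i hi.2.2) (RingHom.ker (phi i).hom)
    (fun a => RingHom.mem_ker.trans (mem_ker_phi_iff i hi.1.isInducing a)) q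

theorem section_eq_zero_of_eq_bot (V : Opens Z.toTopCat) (hV : V = ⊥)
    (s : Z.presheaf.obj (op V)) : s = 0 := by
  apply TopCat.Presheaf.section_ext Z.sheaf V
  intro x hx
  subst hV
  exact absurd hx (by simp)

theorem K_eq_top_of_notMem_range (hcl : IsClosed (Set.range i.base)) (q : PrimeSpectrum R)
    (hq : q ∉ Set.range i.base) : K i q = ⊤ := by
  rw [Ideal.eq_top_iff_one]
  let U : Opens (Spec (CommRingCat.of R)).toLocallyRingedSpace.toTopCat :=
    ⟨(Set.range i.base)ᶜ, hcl.isOpen_compl⟩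
  have hqU : q ∈ U := hq
  have hV : (Opens.map i.base).obj U = ⊥ := by
    ext z
    simp only [Opens.map_coe, Set.mem_preimage, SetLike.mem_coe, Opens.coe_bot,
      Set.mem_empty_iff_false, iff_false]
    intro hz
    exact hz ⟨z, rfl⟩
  have h1 := TopCat.Presheaf.stalkFunctor_map_germ_apply (C := CommRingCat) U q hqU i.c 1
  have h2 : (i.c.app (op U)) 1 = 0 := section_eq_zero_of_eq_bot _ hV _
  rw [h2, map_zero, map_one] at h1
  exact h1

theorem mem_range_of_ker_le (hi : LRSImm.IsClosedImmersion i) (q : PrimeSpectrum R)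
    (hq : RingHom.ker (phi i).hom ≤ q.asIdeal) : q ∈ Set.range i.base := by
  by_contra hcon
  have h1 := K_eq_top_of_notMem_range i hi.1.isClosed_range q hcon
  rw [K_eq_map i hi q] at h1
  have h2 := (IsLocalization.map_algebraMap_ne_top_iff_disjoint q.asIdeal.primeCompl
    ((Spec.structureSheaf R).presheaf.stalk q) (RingHom.ker (phi i).hom)).mpr (by
      rw [Set.disjoint_left]
      intro x hx hx'
      exact hx (hq hx'))
  exact h2 h1


theorem pt_eq_comap (I : Ideal R) (hI : I = RingHom.ker (phi i).hom) (z : Z) :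
    pt i z = PrimeSpectrum.comap (Ideal.Quotient.mk I) (pt (psi i I hI) z) := by
  have h := congrArg (fun f : Z ⟶ (Spec (CommRingCat.of R)).toLocallyRingedSpace => f.base z)
    (psi_comp i I hI)
  exact h.symm

theorem psi_base_isClosedEmbedding (hi : LRSImm.IsClosedImmersion i) (I : Ideal R)
    (hI : I = RingHom.ker (phi i).hom) : Topology.IsClosedEmbedding (psi i I hI).base := by
  have hc : Topology.IsClosedEmbedding (PrimeSpectrum.comap (Ideal.Quotient.mk I)) :=
    PrimeSpectrum.isClosedEmbedding_comap_of_surjective _ _ Ideal.Quotient.mk_surjective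
  have hcomp : (PrimeSpectrum.comap (Ideal.Quotient.mk I)) ∘ (psi i I hI).base = i.base := by
    funext z
    exact (pt_eq_comap i I hI z).symm
  have h1 : Topology.IsClosedEmbedding
      ((PrimeSpectrum.comap (Ideal.Quotient.mk I)) ∘ (psi i I hI).base) := by
    rw [hcomp]; exact hi.1
  exact (Topology.IsClosedEmbedding.of_comp_iff hc).mp h1

theorem psi_base_surjective (hi : LRSImm.IsClosedImmersion i) (I : Ideal R)
    (hI : I = RingHom.ker (phi i).hom) : Function.Surjective (psi i I hI).base := by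
  intro P
  have hP : RingHom.ker (phi i).hom ≤
      (PrimeSpectrum.comap (Ideal.Quotient.mk I) P).asIdeal := by
    intro a ha
    rw [← hI] at ha
    change Ideal.Quotient.mk I a ∈ P.asIdeal
    rw [Ideal.Quotient.eq_zero_iff_mem.mpr ha]
    exact P.asIdeal.zero_mem
  obtain ⟨z, hz⟩ := mem_range_of_ker_le i hi _ hP
  refine ⟨z, ?_⟩
  have h1 : pt i z = PrimeSpectrum.comap (Ideal.Quotient.mk I) P := hz
  rw [pt_eq_comap i I hI z] at h1
  exact PrimeSpectrum.comap_injective_of_surjective _ Ideal.Quotient.mk_surjective h1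


theorem psi_stalkMap_algebraMap (I : Ideal R) (hI : I = RingHom.ker (phi i).hom) (z : Z) (a : R) :
    (psi i I hI).stalkMap z (algebraMap (R ⧸ I)
      ((Spec.structureSheaf (R ⧸ I)).presheaf.stalk (pt (psi i I hI) z)) (Ideal.Quotient.mk I a)) =
      Z.presheaf.germ ⊤ z trivial ((phi i).hom a) := by
  rw [toStalk_stalkMap]
  have h1 : phi (psi i I hI) = phi' i I hI := psi_app_top i I hI
  rw [h1]
  rfl

theorem mk_notMem (I : Ideal R) (hI : I = RingHom.ker (phi i).hom) (z : Z) (s : R)
    (hs : s ∉ (pt i z).asIdeal) : Ideal.Quotient.mk I s ∉ (pt (psi i I hI) z).asIdeal := by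
  intro h
  apply hs
  rw [pt_eq_comap i I hI z]
  exact h

theorem psi_stalkMap_injective (hi : LRSImm.IsClosedImmersion i) (I : Ideal R)
    (hI : I = RingHom.ker (phi i).hom) (z : Z) :
    Function.Injective ((psi i I hI).stalkMap z) := by
  rw [injective_iff_map_eq_zero]
  intro ξ hξ0
  obtain ⟨⟨a', s'⟩, hξ⟩ := IsLocalization.surj
    (S := (Spec.structureSheaf (R ⧸ I)).presheaf.stalk (pt (psi i I hI) z))
    (pt (psi i I hI) z).asIdeal.primeCompl ξ
  simp only at hξ
  obtain ⟨a, rfl⟩ := Ideal.Quotient.mk_surjective a'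
  let f : (Spec.structureSheaf (R ⧸ I)).presheaf.stalk (pt (psi i I hI) z) →+* Z.presheaf.stalk z :=
    ((psi i I hI).stalkMap z).hom
  have hf0 : f ξ = 0 := hξ0
  have h1 := congrArg f hξ
  rw [map_mul, hf0, zero_mul] at h1
  have h1 := h1.trans (psi_stalkMap_algebraMap i I hI z a)
  -- so i.stalkMap z (alg a) = 0
  have h2 : i.stalkMap z (algebraMap R ((Spec.structureSheaf R).presheaf.stalk (pt i z)) a) = 0 := by
    rw [toStalk_stalkMap]; exact h1.symm
  have h3 := (mem_K_iff i hi.1.isInducing z _).mpr h2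
  rw [K_eq_map i hi, IsLocalization.mem_map_algebraMap_iff (pt i z).asIdeal.primeCompl] at h3
  obtain ⟨⟨j, u⟩, hju⟩ := h3
  simp only at hju
  rw [← map_mul, IsLocalization.eq_iff_exists (pt i z).asIdeal.primeCompl] at hju
  obtain ⟨v, hv⟩ := hju
  have hmemI : (v : R) * u * a ∈ I := by
    have : (v : R) * u * a = v * (a * u) := by ring
    rw [this, hv, hI]
    exact Ideal.mul_mem_left _ _ j.2
  have hvu : (v : R) * u ∉ (pt i z).asIdeal := by
    intro h
    rcases (pt i z).isPrime.mem_or_mem h with h' | h'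
    · exact v.2 h'
    · exact u.2 h'
  have hzero : algebraMap (R ⧸ I)
      ((Spec.structureSheaf (R ⧸ I)).presheaf.stalk (pt (psi i I hI) z))
      (Ideal.Quotient.mk I a) = 0 := by
    rw [IsLocalization.map_eq_zero_iff (pt (psi i I hI) z).asIdeal.primeCompl]
    refine ⟨⟨Ideal.Quotient.mk I ((v : R) * u), mk_notMem i I hI z _ hvu⟩, ?_⟩
    simp only
    rw [← map_mul]
    exact Ideal.Quotient.eq_zero_iff_mem.mpr hmemI
  rw [hzero] at hξ
  have hunit : IsUnit (algebraMap (R ⧸ I)
      ((Spec.structureSheaf (R ⧸ I)).presheaf.stalk (pt (psi i I hI) z)) (s' : R ⧸ I)) :=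
    IsLocalization.map_units _ s'
  exact (hunit.mul_left_eq_zero).mp hξ

theorem stalkMap_surjective (hi : LRSImm.IsClosedImmersion i) (z : Z) :
    Function.Surjective (i.stalkMap z) := by
  have h1 := (TopCat.Presheaf.locally_surjective_iff_surjective_on_stalks i.c).mp hi.2.1 (pt i z)
  have hiso := TopCat.Presheaf.stalkPushforward.stalkPushforward_iso_of_isInducing
    (C := CommRingCat) (f := i.base) hi.1.isInducing Z.presheaf z
  have hsurj : Function.Surjective (Z.presheaf.stalkPushforward CommRingCat i.base z) :=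
    (ConcreteCategory.bijective_of_isIso _).2
  intro ζ
  obtain ⟨η, hη⟩ := hsurj ζ
  obtain ⟨ξ, hξ⟩ := h1 η
  refine ⟨ξ, ?_⟩
  rw [stalkMap_eq]
  erw [hξ]
  exact hη

theorem psi_stalkMap_surjective (hi : LRSImm.IsClosedImmersion i) (I : Ideal R)
    (hI : I = RingHom.ker (phi i).hom) (z : Z) :
    Function.Surjective ((psi i I hI).stalkMap z) := by
  intro ζ
  obtain ⟨ξ, rfl⟩ := stalkMap_surjective i hi z ζ
  obtain ⟨⟨a, s⟩, hξ⟩ := IsLocalization.surj
    (S := (Spec.structureSheaf R).presheaf.stalk (pt i z)) (pt i z).asIdeal.primeCompl ξ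
  simp only at hξ
  let f : (Spec.structureSheaf R).presheaf.stalk (pt i z) →+* Z.presheaf.stalk z :=
    (i.stalkMap z).hom
  have h1 := congrArg f hξ
  rw [map_mul] at h1
  have e1 : f (algebraMap R _ (s : R)) = Z.presheaf.germ ⊤ z trivial ((phi i).hom (s : R)) :=
    toStalk_stalkMap i z _
  have e2 : f (algebraMap R _ a) = Z.presheaf.germ ⊤ z trivial ((phi i).hom a) :=
    toStalk_stalkMap i z _
  rw [e1, e2] at h1
  have hunit : IsUnit (Z.presheaf.germ ⊤ z trivial ((phi i).hom (s : R))) := by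
    rw [← e1]
    exact (IsLocalization.map_units
      ((Spec.structureSheaf R).presheaf.stalk (pt i z)) s).map f
  let ξ' := IsLocalization.mk' ((Spec.structureSheaf (R ⧸ I)).presheaf.stalk (pt (psi i I hI) z))
    (Ideal.Quotient.mk I a)
    (⟨Ideal.Quotient.mk I (s : R), mk_notMem i I hI z _ s.2⟩ :
      (pt (psi i I hI) z).asIdeal.primeCompl)
  have h2 : ξ' * algebraMap (R ⧸ I) _ (Ideal.Quotient.mk I (s : R)) =
      algebraMap (R ⧸ I) _ (Ideal.Quotient.mk I a) := IsLocalization.mk'_spec _ _ _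
  let f' : (Spec.structureSheaf (R ⧸ I)).presheaf.stalk (pt (psi i I hI) z) →+*
      Z.presheaf.stalk z := ((psi i I hI).stalkMap z).hom
  have h3 := congrArg f' h2
  rw [map_mul] at h3
  have e3 : f' (algebraMap (R ⧸ I) _ (Ideal.Quotient.mk I (s : R))) =
      Z.presheaf.germ ⊤ z trivial ((phi i).hom (s : R)) := psi_stalkMap_algebraMap i I hI z _
  have e4 : f' (algebraMap (R ⧸ I) _ (Ideal.Quotient.mk I a)) =
      Z.presheaf.germ ⊤ z trivial ((phi i).hom a) := psi_stalkMap_algebraMap i I hI z _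
  rw [e3, e4] at h3
  refine ⟨ξ', ?_⟩
  exact hunit.mul_left_injective (h3.trans h1.symm)


theorem isIso_psi (hi : LRSImm.IsClosedImmersion i) (I : Ideal R)
    (hI : I = RingHom.ker (phi i).hom) : IsIso (psi i I hI) := by
  haveI hbij : ∀ z : Z.1, IsIso ((psi i I hI).stalkMap z) := fun z =>
    (ConcreteCategory.isIso_iff_bijective _).mpr
      ⟨psi_stalkMap_injective i hi I hI z, psi_stalkMap_surjective i hi I hI z⟩
  have hce := psi_base_isClosedEmbedding i hi I hI
  have hsurj := psi_base_surjective i hi I hI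
  have hopen : Topology.IsOpenEmbedding (psi i I hI).base :=
    (hce.isEmbedding.toHomeomorphOfSurjective hsurj).isOpenEmbedding
  haveI : LocallyRingedSpace.IsOpenImmersion (psi i I hI) :=
    LocallyRingedSpace.IsOpenImmersion.of_stalk_iso _ hopen
  haveI : Epi (psi i I hI).base := (TopCat.epi_iff_surjective _).mpr hsurj
  exact LocallyRingedSpace.IsOpenImmersion.to_iso _

theorem main (R : Type u) [CommRing R] (Z : LocallyRingedSpace.{u})
    (i : Z ⟶ (Spec (CommRingCat.of R)).toLocallyRingedSpace) (hi : LRSImm.IsClosedImmersion i)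
    (I : Ideal R)
    (hI : I = RingHom.ker ((Scheme.ΓSpecIso (CommRingCat.of R)).inv ≫ i.c.app (op ⊤)).hom) :
    ∃ e : Z ≅ (Spec (CommRingCat.of (R ⧸ I))).toLocallyRingedSpace,
      e.hom ≫ (Spec.map (CommRingCat.ofHom (Ideal.Quotient.mk I))).toLRSHom = i := by
  have hI' : I = RingHom.ker (phi i).hom := hI
  haveI := isIso_psi i hi I hI'
  exact ⟨asIso (psi i I hI'), psi_comp i I hI'⟩

end Groth.Agent.S9506Aux

namespace Groth.Agent.S9506

open AlgebraicGeometry in
open CategoryTheory Opposite in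
/-- Let R be a commutative ring and i : Z → Spec R a closed immersion of locally ringed spaces (a
homeomorphism onto a closed subset such that O → i_*O_Z is surjective as a map of sheaves with
kernel locally generated by sections). Let I ⊆ R be the kernel of the composite R = Γ(Spec R, O) →
Γ(Z, O_Z). Then Z is identified with Spec(R/I) over Spec R: there is an isomorphism of locally
ringed spaces Z ≅ Spec(R/I) whose composite with the morphism Spec(R/I) → Spec R induced by R → R/I
is i (in particular the ideal I with this property is unique). -/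
theorem result
    (R : Type u) [CommRing R] (Z : LocallyRingedSpace.{u})
    (i : Z ⟶ (Spec (CommRingCat.of R)).toLocallyRingedSpace) (hi : LRSImm.IsClosedImmersion i)
    (I : Ideal R)
    (hI : I = RingHom.ker ((Scheme.ΓSpecIso (CommRingCat.of R)).inv ≫ i.c.app (op ⊤)).hom) :
    ∃ e : Z ≅ (Spec (CommRingCat.of (R ⧸ I))).toLocallyRingedSpace,
      e.hom ≫ (Spec.map (CommRingCat.ofHom (Ideal.Quotient.mk I))).toLRSHom = i := by
  exact Groth.Agent.S9506Aux.main R Z i hi I hI

end Groth.Agent.S9506
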