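import Groth.Statements.S9507
import Mathlib

set_option autoImplicit false
set_option linter.style.haveILetI false
universe u
open LRSImm

namespace Groth.Agent.S9507


open AlgebraicGeometry CategoryTheory Opposite TopologicalSpace

variable {Z X Y : LocallyRingedSpace.{u}}

theorem section_eq_zero_of_eq_bot (V : Opens Z.toTopCat) (hV : V = ⊥)
    (s : Z.presheaf.obj (op V)) : s = 0 := by
  apply TopCat.Presheaf.section_ext Z.sheaf V
  intro x hx
  subst hV
  exact absurd hx (by simp)

/-- the stalk map of a closed immersion of LRS is surjective -/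
theorem stalkMap_surjective (i : Z ⟶ X) (hi : LRSImm.IsClosedImmersion i) (z : Z) :
    Function.Surjective (i.stalkMap z) := by
  have h1 := (TopCat.Presheaf.locally_surjective_iff_surjective_on_stalks i.c).mp hi.2.1 (i.base z)
  have hiso := TopCat.Presheaf.stalkPushforward.stalkPushforward_iso_of_isInducing
    (C := CommRingCat) (f := i.base) hi.1.isInducing Z.presheaf z
  have hsurj : Function.Surjective (Z.presheaf.stalkPushforward CommRingCat i.base z) :=
    (ConcreteCategory.bijective_of_isIso _).2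
  intro ζ
  obtain ⟨η, hη⟩ := hsurj ζ
  obtain ⟨ξ, hξ⟩ := h1 η
  refine ⟨ξ, ?_⟩
  change (Z.presheaf.stalkPushforward CommRingCat i.base z)
    (((TopCat.Presheaf.stalkFunctor CommRingCat (i.base z)).map i.c) ξ) = ζ
  rw [hξ]
  exact hη

theorem mono_of_isClosedImmersion (i : Z ⟶ X) (hi : LRSImm.IsClosedImmersion i) : Mono i := by
  refine LocallyRingedSpace.forgetToSheafedSpace.mono_of_mono_map ?_
  apply SheafedSpace.mono_of_base_injective_of_stalk_epi
  · exact hi.1.injective
  · exact fun z ↦ ConcreteCategory.epi_of_surjective _ (stalkMap_surjective i hi z)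

/-- the image of `f` lies in the image of `i` -/
theorem range_subset (i : Z ⟶ X) (hi : LRSImm.IsClosedImmersion i) (f : Y ⟶ X)
    (H : ∀ (U : Opens X.toTopCat) (s : X.presheaf.obj (op U)),
        i.c.app (op U) s = 0 → f.c.app (op U) s = 0) (y : Y) :
    f.base y ∈ Set.range i.base := by
  by_contra hy
  let U : Opens X.toTopCat := ⟨(Set.range i.base)ᶜ, hi.1.isClosed_range.isOpen_compl⟩
  have hyU : f.base y ∈ U := hy
  have hV : (Opens.map i.base).obj U = ⊥ := by
    ext z
    simp only [Opens.map_coe, Set.mem_preimage, SetLike.mem_coe, Opens.coe_bot,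
      Set.mem_empty_iff_false, iff_false]
    intro hz
    exact hz ⟨z, rfl⟩
  have h2 : (i.c.app (op U)) 1 = 0 := section_eq_zero_of_eq_bot _ hV _
  have h3 := H U 1 h2
  rw [map_one] at h3
  have hy' : y ∈ (Opens.map f.base).obj U := hyU
  have h4 := congrArg (Y.presheaf.germ _ y hy') h3
  rw [map_one, map_zero] at h4
  haveI := Y.isLocalRing y
  exact one_ne_zero h4


section Construction

variable (i : Z ⟶ X) (hi : LRSImm.IsClosedImmersion i) (f : Y ⟶ X)
  (H : ∀ (U : Opens X.toTopCat) (s : X.presheaf.obj (op U)),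
        i.c.app (op U) s = 0 → f.c.app (op U) s = 0)

/-- the quotient presheaf `O_X / ker(i.c)` -/
noncomputable def quotPre : (Opens X.toTopCat)ᵒᵖ ⥤ CommRingCat.{u} where
  obj U := CommRingCat.of (X.presheaf.obj U ⧸ RingHom.ker (i.c.app U).hom)
  map {U V} h := CommRingCat.ofHom (Ideal.quotientMap _ (X.presheaf.map h).hom (by
    intro a ha
    rw [Ideal.mem_comap, RingHom.mem_ker]
    rw [RingHom.mem_ker] at ha
    have := congrArg (fun φ => φ.hom a) (i.c.naturality h)
    simp only [CommRingCat.hom_comp, RingHom.coe_comp, Function.comp_apply] at this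
    rw [this, ha, map_zero]))
  map_id U := by
    ext a
    simp
  map_comp h h' := by
    ext a
    simp

/-- `O_X / ker(i.c) → i_* O_Z` -/
noncomputable def quotToZ : quotPre i ⟶ (TopCat.Presheaf.pushforward CommRingCat i.base).obj Z.presheaf where
  app U := CommRingCat.ofHom (Ideal.Quotient.lift _ (i.c.app U).hom (fun a ha => ha))
  naturality U V h := by
    ext a
    obtain ⟨a, rfl⟩ := Ideal.Quotient.mk_surjective (I := RingHom.ker (i.c.app U).hom) a
    have := congrArg (fun φ => φ.hom a) (i.c.naturality h)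
    simp only [CommRingCat.hom_comp, RingHom.coe_comp, Function.comp_apply] at this
    simp only [quotPre, CommRingCat.hom_comp, CommRingCat.hom_ofHom, RingHom.coe_comp,
      Function.comp_apply, Ideal.quotientMap_mk, Ideal.Quotient.lift_mk]
    exact this

/-- `O_X / ker(i.c) → f_* O_Y` -/
noncomputable def quotToY : quotPre i ⟶ (TopCat.Presheaf.pushforward CommRingCat f.base).obj Y.presheaf where
  app U := CommRingCat.ofHom (Ideal.Quotient.lift _ (f.c.app U).hom (fun a ha => H U.unop a ha))
  naturality U V h := by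
    ext a
    obtain ⟨a, rfl⟩ := Ideal.Quotient.mk_surjective (I := RingHom.ker (i.c.app U).hom) a
    have := congrArg (fun φ => φ.hom a) (f.c.naturality h)
    simp only [CommRingCat.hom_comp, RingHom.coe_comp, Function.comp_apply] at this
    simp only [quotPre, CommRingCat.hom_comp, CommRingCat.hom_ofHom, RingHom.coe_comp,
      Function.comp_apply, Ideal.quotientMap_mk, Ideal.Quotient.lift_mk]
    exact this


/-- `O_X → O_X / ker(i.c)` -/
noncomputable def toQuot : X.presheaf ⟶ quotPre i where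
  app U := CommRingCat.ofHom (Ideal.Quotient.mk _)
  naturality U V h := by
    ext a
    rfl

theorem toQuot_quotToZ : toQuot i ≫ quotToZ i = i.c := by
  ext U a
  rfl

theorem toQuot_quotToY : toQuot i ≫ quotToY i f H = f.c := by
  ext U a
  rfl

include hi H in
theorem exists_psi : ∃ ψ : (TopCat.Presheaf.pushforward CommRingCat i.base).obj Z.presheaf ⟶
    (TopCat.Presheaf.pushforward CommRingCat f.base).obj Y.presheaf, i.c ≫ ψ = f.c := by
  have hW : (Opens.grothendieckTopology X.toTopCat).W (quotToZ i) := by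
    haveI : Presheaf.IsLocallyInjective (Opens.grothendieckTopology X.toTopCat) (quotToZ i) := by
      apply Presheaf.isLocallyInjective_of_injective
      intro U
      exact RingHom.kerLift_injective (i.c.app U).hom
    haveI : Presheaf.IsLocallySurjective (Opens.grothendieckTopology X.toTopCat) (quotToZ i) := by
      haveI : Presheaf.IsLocallySurjective (Opens.grothendieckTopology X.toTopCat) i.c := hi.2.1
      exact Presheaf.isLocallySurjective_of_isLocallySurjective_fac _ (toQuot_quotToZ i)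
    exact GrothendieckTopology.W_of_isLocallyBijective _ _
  have hsheaf : Presheaf.IsSheaf (Opens.grothendieckTopology X.toTopCat)
      ((TopCat.Presheaf.pushforward CommRingCat f.base).obj Y.presheaf) :=
    ((TopCat.Sheaf.pushforward CommRingCat f.base).obj Y.sheaf).2
  obtain ⟨ψ, hψ⟩ := (hW _ hsheaf).2 (quotToY i f H)
  refine ⟨ψ, ?_⟩
  rw [← toQuot_quotToZ i, Category.assoc]
  rw [show quotToZ i ≫ ψ = quotToY i f H from hψ, toQuot_quotToY]


include hi H in
theorem exists_base : ∃ g₀ : Y.toTopCat ⟶ Z.toTopCat, g₀ ≫ i.base = f.base := by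
  choose φ hφ using range_subset i hi f H
  have hcont : Continuous φ := by
    rw [hi.1.isInducing.continuous_iff]
    have : (i.base : Z → X) ∘ φ = f.base := funext hφ
    rw [this]
    exact f.base.hom.continuous
  exact ⟨TopCat.ofHom ⟨φ, hcont⟩, by ext y; exact hφ y⟩

/-- the largest open of `X` with preimage `V` -/
def jOpen (V : Opens Z.toTopCat) : Opens X.toTopCat :=
  ⟨(i.base '' (V : Set Z)ᶜ)ᶜ, (hi.1.isClosedMap _ V.isOpen.isClosed_compl).isOpen_compl⟩

theorem mem_jOpen (V : Opens Z.toTopCat) (x : X) :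
    x ∈ jOpen i hi V ↔ ∀ z, i.base z = x → z ∈ V := by
  change x ∈ (i.base '' (V : Set Z)ᶜ)ᶜ ↔ _
  simp only [Set.mem_compl_iff, Set.mem_image, not_exists, not_and, SetLike.mem_coe]
  constructor
  · intro h z hz
    by_contra hzV
    exact h z hzV hz
  · intro h z hzV hz
    exact hzV (h z hz)

theorem map_jOpen (V : Opens Z.toTopCat) : (Opens.map i.base).obj (jOpen i hi V) = V := by
  ext z
  change i.base z ∈ jOpen i hi V ↔ z ∈ V
  rw [mem_jOpen]
  constructor
  · intro h
    exact h z rfl
  · intro h z' hz'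
    rw [hi.1.injective hz']
    exact h

theorem jOpen_mono {V V' : Opens Z.toTopCat} (h : V' ≤ V) : jOpen i hi V' ≤ jOpen i hi V := by
  intro x hx
  rw [mem_jOpen] at hx ⊢
  exact fun z hz => h (hx z hz)

theorem le_jOpen_map (U : Opens X.toTopCat) : U ≤ jOpen i hi ((Opens.map i.base).obj U) := by
  intro x hx
  rw [mem_jOpen]
  intro z hz
  change i.base z ∈ U
  rw [hz]
  exact hx

theorem map_f_jOpen (g₀ : Y.toTopCat ⟶ Z.toTopCat) (hg₀ : g₀ ≫ i.base = f.base)
    (V : Opens Z.toTopCat) :
    (Opens.map f.base).obj (jOpen i hi V) = (Opens.map g₀).obj V := by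
  ext y
  have hy : f.base y = i.base (g₀ y) := by rw [← hg₀]; rfl
  change f.base y ∈ jOpen i hi V ↔ g₀ y ∈ V
  rw [hy]
  change g₀ y ∈ (Opens.map i.base).obj (jOpen i hi V) ↔ _
  rw [map_jOpen i hi V]


variable (g₀ : Y.toTopCat ⟶ Z.toTopCat) (hg₀ : g₀ ≫ i.base = f.base)
    (ψ : (TopCat.Presheaf.pushforward CommRingCat i.base).obj Z.presheaf ⟶
      (TopCat.Presheaf.pushforward CommRingCat f.base).obj Y.presheaf)

/-- components of the lifted sheaf map -/
noncomputable def cApp (V : Opens Z.toTopCat) :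
    Z.presheaf.obj (op V) ⟶ Y.presheaf.obj (op ((Opens.map g₀).obj V)) :=
  Z.presheaf.map (homOfLE (map_jOpen i hi V).le).op ≫ ψ.app (op (jOpen i hi V)) ≫
    Y.presheaf.map (homOfLE (map_f_jOpen i hi f g₀ hg₀ V).ge).op

theorem cApp_naturality {V V' : Opens Z.toTopCat} (h : V' ⟶ V) :
    Z.presheaf.map h.op ≫ cApp i hi f g₀ hg₀ ψ V' =
      cApp i hi f g₀ hg₀ ψ V ≫ Y.presheaf.map ((Opens.map g₀).map h).op := by
  have hk : jOpen i hi V' ≤ jOpen i hi V := jOpen_mono i hi (leOfHom h)
  have nat : Z.presheaf.map ((Opens.map i.base).map (homOfLE hk)).op ≫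
      ψ.app (op (jOpen i hi V')) = ψ.app (op (jOpen i hi V)) ≫
        Y.presheaf.map ((Opens.map f.base).map (homOfLE hk)).op :=
    ψ.naturality (homOfLE hk).op
  unfold cApp
  rw [← Functor.map_comp_assoc, Category.assoc, Category.assoc, ← Functor.map_comp]
  have e1 : h.op ≫ (homOfLE (map_jOpen i hi V').le).op =
      (homOfLE (map_jOpen i hi V).le).op ≫
        ((Opens.map i.base).map (homOfLE hk)).op := Subsingleton.elim _ _
  rw [e1, Functor.map_comp_assoc, reassoc_of% nat, ← Functor.map_comp]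
  congr 2

/-- the lifted morphism of presheafed spaces -/
noncomputable def liftHom : Y.toPresheafedSpace ⟶ Z.toPresheafedSpace where
  base := g₀
  c :=
    { app := fun V => cApp i hi f g₀ hg₀ ψ V.unop
      naturality := fun V V' h => cApp_naturality i hi f g₀ hg₀ ψ h.unop }


include hg₀ in
theorem map_g₀_le (U : Opens X.toTopCat) :
    (Opens.map g₀).obj ((Opens.map i.base).obj U) ≤ (Opens.map f.base).obj U := by
  intro y hy
  have hy' : f.base y = i.base (g₀ y) := by rw [← hg₀]; rfl
  change f.base y ∈ U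
  rw [hy']
  exact hy

theorem cApp_comp (hψ : i.c ≫ ψ = f.c) (U : Opens X.toTopCat) :
    i.c.app (op U) ≫ cApp i hi f g₀ hg₀ ψ ((Opens.map i.base).obj U) =
      f.c.app (op U) ≫ Y.presheaf.map (homOfLE (map_g₀_le i f g₀ hg₀ U)).op := by
  have hUW := le_jOpen_map i hi U
  have nat : Z.presheaf.map ((Opens.map i.base).map (homOfLE hUW)).op ≫ ψ.app (op U) =
      ψ.app (op (jOpen i hi ((Opens.map i.base).obj U))) ≫
        Y.presheaf.map ((Opens.map f.base).map (homOfLE hUW)).op :=
    ψ.naturality (homOfLE hUW).op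
  have hψU : i.c.app (op U) ≫ ψ.app (op U) = f.c.app (op U) := by rw [← hψ]; rfl
  unfold cApp
  have e1 : (homOfLE (map_f_jOpen i hi f g₀ hg₀ ((Opens.map i.base).obj U)).ge).op =
      ((Opens.map f.base).map (homOfLE hUW)).op ≫ (homOfLE (map_g₀_le i f g₀ hg₀ U)).op :=
    Subsingleton.elim _ _
  rw [e1, Functor.map_comp, ← hψU]
  have e2 : (homOfLE (map_jOpen i hi ((Opens.map i.base).obj U)).le).op ≫
      ((Opens.map i.base).map (homOfLE hUW)).op = 𝟙 _ := Subsingleton.elim _ _
  calc i.c.app (op U) ≫ Z.presheaf.map (homOfLE (map_jOpen i hi ((Opens.map i.base).obj U)).le).op ≫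
        ψ.app (op (jOpen i hi ((Opens.map i.base).obj U))) ≫
          Y.presheaf.map ((Opens.map f.base).map (homOfLE hUW)).op ≫
            Y.presheaf.map (homOfLE (map_g₀_le i f g₀ hg₀ U)).op
      = i.c.app (op U) ≫ Z.presheaf.map (homOfLE (map_jOpen i hi ((Opens.map i.base).obj U)).le).op ≫
        (Z.presheaf.map ((Opens.map i.base).map (homOfLE hUW)).op ≫ ψ.app (op U)) ≫
            Y.presheaf.map (homOfLE (map_g₀_le i f g₀ hg₀ U)).op := by
        rw [nat, Category.assoc]
    _ = i.c.app (op U) ≫ (Z.presheaf.map ((homOfLE (map_jOpen i hi ((Opens.map i.base).obj U)).le).op ≫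
          ((Opens.map i.base).map (homOfLE hUW)).op)) ≫ ψ.app (op U) ≫
            Y.presheaf.map (homOfLE (map_g₀_le i f g₀ hg₀ U)).op := by
        rw [Functor.map_comp]
        simp only [Category.assoc]
    _ = (i.c.app (op U) ≫ ψ.app (op U)) ≫
            Y.presheaf.map (homOfLE (map_g₀_le i f g₀ hg₀ U)).op := by
        rw [e2]
        simp

include hg₀ in
theorem le_map_g₀ (U : Opens X.toTopCat) :
    (Opens.map f.base).obj U ≤ (Opens.map g₀).obj ((Opens.map i.base).obj U) := by
  intro y hy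
  have hy' : f.base y = i.base (g₀ y) := by rw [← hg₀]; rfl
  change i.base (g₀ y) ∈ U
  rw [← hy']
  exact hy

theorem cApp_comp' (hψ : i.c ≫ ψ = f.c) (U : Opens X.toTopCat) :
    i.c.app (op U) ≫ cApp i hi f g₀ hg₀ ψ ((Opens.map i.base).obj U) ≫
      Y.presheaf.map (homOfLE (le_map_g₀ i f g₀ hg₀ U)).op = f.c.app (op U) := by
  rw [← Category.assoc, cApp_comp i hi f g₀ hg₀ ψ hψ U, Category.assoc, ← Functor.map_comp]
  have e : (homOfLE (map_g₀_le i f g₀ hg₀ U)).op ≫ (homOfLE (le_map_g₀ i f g₀ hg₀ U)).op = 𝟙 _ :=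
    Subsingleton.elim _ _
  rw [e]
  simp

end Construction

theorem presheafedSpace_ext' {A B : PresheafedSpace CommRingCat.{u}} (α β : A ⟶ B)
    (hb : α.base = β.base)
    (h : ∀ U : Opens B, ∃ (hle : (Opens.map β.base).obj U ≤ (Opens.map α.base).obj U),
      α.c.app (op U) ≫ A.presheaf.map (homOfLE hle).op = β.c.app (op U)) : α = β := by
  refine PresheafedSpace.ext _ _ hb ?_
  ext U : 2
  obtain ⟨hle, hU⟩ := h U
  refine congrArg CommRingCat.Hom.hom ?_
  rw [NatTrans.comp_app, ← hU]
  exact congrArg (fun t => α.c.app (op U) ≫ A.presheaf.map t) (Subsingleton.elim _ _)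

section Construction2

variable (i : Z ⟶ X) (hi : LRSImm.IsClosedImmersion i) (f : Y ⟶ X)
  (g₀ : Y.toTopCat ⟶ Z.toTopCat) (hg₀ : g₀ ≫ i.base = f.base)
    (ψ : (TopCat.Presheaf.pushforward CommRingCat i.base).obj Z.presheaf ⟶
      (TopCat.Presheaf.pushforward CommRingCat f.base).obj Y.presheaf)

theorem liftHom_comp (hψ : i.c ≫ ψ = f.c) :
    liftHom i hi f g₀ hg₀ ψ ≫ i.toHom = f.toHom := by
  refine presheafedSpace_ext' _ _ hg₀ ?_
  intro U
  refine ⟨le_map_g₀ i f g₀ hg₀ U, ?_⟩
  rw [PresheafedSpace.comp_c_app]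
  show (i.c.app (op U) ≫ cApp i hi f g₀ hg₀ ψ ((Opens.map i.base).obj U)) ≫
    Y.presheaf.map (homOfLE (le_map_g₀ i f g₀ hg₀ U)).op = f.c.app (op U)
  rw [Category.assoc]
  exact cApp_comp' i hi f g₀ hg₀ ψ hψ U


include hi in
theorem liftHom_isLocalHom (hψ : i.c ≫ ψ = f.c) (y : Y) :
    IsLocalHom ((liftHom i hi f g₀ hg₀ ψ).stalkMap y).hom := by
  have hcomp := liftHom_comp i hi f g₀ hg₀ ψ hψ
  have h1 := PresheafedSpace.stalkMap.comp (liftHom i hi f g₀ hg₀ ψ) i.toHom y
  have h2 := PresheafedSpace.stalkMap.congr_hom _ _ hcomp y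
  rw [h1] at h2
  refine ⟨fun t ht => ?_⟩
  obtain ⟨s, rfl⟩ := stalkMap_surjective i hi (g₀ y) t
  have ht' : IsUnit ((f.toHom.stalkMap y).hom ((eqToHom (by rw [hcomp]) :
      X.presheaf.stalk ((liftHom i hi f g₀ hg₀ ψ ≫ i.toHom).base y) ⟶
        X.presheaf.stalk (f.toHom.base y)).hom s)) := by
    have : IsUnit ((eqToHom (by rw [hcomp]) ≫ f.toHom.stalkMap y :
      X.presheaf.stalk ((liftHom i hi f g₀ hg₀ ψ ≫ i.toHom).base y) ⟶ _).hom s) := by
      rw [← h2]
      exact ht
    exact this
  haveI := f.prop y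
  have h4 := (isUnit_map_iff (f.toHom.stalkMap y).hom _).mp ht'
  have h5 : IsUnit s := (isUnit_map_iff (eqToHom _ : X.presheaf.stalk _ ⟶ X.presheaf.stalk _).hom s).mp h4
  exact h5.map _

end Construction2


open AlgebraicGeometry in
open CategoryTheory Opposite TopologicalSpace in
/-- Take a morphism i : Z → X of locally ringed spaces that is a closed immersion (a homeomorphism onto
a closed subset, O_X → i_*O_Z surjective as a map of sheaves, kernel I locally generated by
sections), and let f : Y → X be a morphism of locally ringed spaces. Then f factors through i if and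
only if the composite I → O_X → f_*O_Y vanishes, i.e. every local section of O_X that maps to zero
in i_*O_Z maps to zero in f_*O_Y (equivalently f^*I → O_Y is zero); moreover the factorisation Y → Z
is unique. (The published statement is phrased for the closed subspace cut out by a sheaf of ideals
locally generated by sections; here it is phrased for any closed immersion of locally ringed spaces
with I the kernel of O_X → i_*O_Z, which is the situation its proof treats.) -/
theorem result
    {Z X Y : LocallyRingedSpace.{u}} (i : Z ⟶ X) (hi : LRSImm.IsClosedImmersion i) (f : Y ⟶ X) :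
    ((∃ g : Y ⟶ Z, g ≫ i = f) ↔
      ∀ (U : Opens X.toTopCat) (s : X.presheaf.obj (op U)),
        i.c.app (op U) s = 0 → f.c.app (op U) s = 0) ∧
    ∀ g g' : Y ⟶ Z, g ≫ i = f → g' ≫ i = f → g = g' := by
  refine ⟨⟨?_, ?_⟩, ?_⟩
  · rintro ⟨g, rfl⟩ U s hs
    rw [LocallyRingedSpace.comp_c_app]
    change g.c.app _ (i.c.app (op U) s) = 0
    rw [hs, map_zero]
  · intro H
    obtain ⟨g₀, hg₀⟩ := exists_base i hi f H
    obtain ⟨ψ, hψ⟩ := exists_psi i hi f H
    exact ⟨⟨liftHom i hi f g₀ hg₀ ψ, liftHom_isLocalHom i hi f g₀ hg₀ ψ hψ⟩,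
      LocallyRingedSpace.Hom.ext' (liftHom_comp i hi f g₀ hg₀ ψ hψ)⟩
  · intro g g' h h'
    haveI := mono_of_isClosedImmersion i hi
    exact (cancel_mono i).mp (h.trans h'.symm)

end Groth.Agent.S9507
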