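import Groth.Statements.S9509
-- import your own Groth.Agent.* helpers here

set_option autoImplicit false
universe u
open SchMor

namespace Groth.Agent.S9509

open AlgebraicGeometry in
open CategoryTheory in
/-- (3) ⇒ (1): Let f : X → S be a morphism of schemes. Suppose S is covered by affine opens W_i, each
preimage f⁻¹(W_i) is covered by affine opens V_{i,j}, and any two V_{i,j}, V_{i,j'} with the same
index i meet in a quasi-compact open (one covered by finitely many affine opens). Then f is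
quasi-separated. -/
theorem result
    {X S : Scheme.{u}} (f : X ⟶ S) {ι : Type u} (W : ι → S.affineOpens)
    (hW : ⨆ i, (W i : S.Opens) = ⊤) {κ : ι → Type u} (V : ∀ i, κ i → X.affineOpens)
    (hV : ∀ i, ⨆ j, (V i j : X.Opens) = f ⁻¹ᵁ (W i : S.Opens))
    (hVV : ∀ i (j j' : κ i), IsCompact ((V i j : Set X) ∩ (V i j' : Set X))) :
    QuasiSeparated f := by
  refine HasAffineProperty.of_iSup_eq_top (P := @QuasiSeparated) W hW fun i => ?_
  show QuasiSeparatedSpace ↥(f ⁻¹ᵁ (W i).1)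
  refine (isQuasiSeparated_iff_quasiSeparatedSpace _ (f ⁻¹ᵁ (W i).1).2).mp ?_
  have key : ∀ (j j' : κ i) (A B : Set X), A ⊆ (V i j : Set X) → B ⊆ (V i j' : Set X) →
      IsOpen A → IsCompact A → IsOpen B → IsCompact B → IsCompact (A ∩ B) := by
    intro j j' A B hA hB hAo hAc hBo hBc
    have hoo : IsOpen ((V i j : Set X) ∩ (V i j' : Set X)) := (V i j).1.2.inter (V i j').1.2
    have h1 : IsCompact (A ∩ ((V i j : Set X) ∩ (V i j' : Set X))) :=
      (V i j).2.isQuasiSeparated A _ hA hAo hAc Set.inter_subset_left hoo (hVV i j j')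
    have h2 := (V i j').2.isQuasiSeparated (A ∩ ((V i j : Set X) ∩ (V i j' : Set X))) B
      (fun x hx => hx.2.2) (hAo.inter hoo) h1 hB hBo hBc
    convert h2 using 1
    ext x; constructor
    · rintro ⟨hxA, hxB⟩; exact ⟨⟨hxA, hA hxA, hB hxB⟩, hxB⟩
    · rintro ⟨⟨hxA, -⟩, hxB⟩; exact ⟨hxA, hxB⟩
  have decomp : ∀ (U' : Set X), U' ⊆ (f ⁻¹ᵁ (W i).1 : Set X) → IsOpen U' → IsCompact U' →
      ∃ (t : Finset U') (A : U' → Set X) (j : U' → κ i),
        (∀ x, A x ⊆ (V i (j x) : Set X) ∧ IsOpen (A x) ∧ IsCompact (A x) ∧ A x ⊆ U') ∧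
        U' = ⋃ x ∈ t, A x := by
    intro U' hU' hU'o hU'c
    have : ∀ x : U', ∃ (j : κ i) (A : Set X), A ⊆ (V i j : Set X) ∧ IsOpen A ∧ IsCompact A ∧
        A ⊆ U' ∧ x.1 ∈ A := by
      intro x
      have hx : x.1 ∈ ⨆ j, (V i j : X.Opens) := by rw [hV i]; exact hU' x.2
      obtain ⟨j, hj⟩ := TopologicalSpace.Opens.mem_iSup.mp hx
      obtain ⟨_, ⟨A, hA, rfl⟩, hxA, hAsub⟩ :=
        X.isBasis_affineOpens.exists_subset_of_mem_open
          (show x.1 ∈ U' ∩ (V i j : Set X) from ⟨x.2, hj⟩) (hU'o.inter (V i j).1.2)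
      have hA' : IsAffineOpen A := hA
      exact ⟨j, A, fun y hy => (hAsub hy).2, A.2, hA'.isCompact, fun y hy => (hAsub hy).1, hxA⟩
    choose j A hA1 hA2 hA3 hA4 hA5 using this
    obtain ⟨t, ht⟩ := hU'c.elim_nhds_subcover' (fun x hx => A ⟨x, hx⟩)
      (fun x hx => (hA2 ⟨x, hx⟩).mem_nhds (hA5 ⟨x, hx⟩))
    refine ⟨t, A, j, fun x => ⟨hA1 x, hA2 x, hA3 x, hA4 x⟩, ?_⟩
    apply Set.Subset.antisymm
    · exact ht
    · exact Set.iUnion₂_subset fun x _ => hA4 x
  intro U' V' hU' hU'o hU'c hV' hV'o hV'c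
  obtain ⟨t, A, j, hA, hUeq⟩ := decomp U' hU' hU'o hU'c
  obtain ⟨t', B, j', hB, hVeq⟩ := decomp V' hV' hV'o hV'c
  rw [hUeq, hVeq, Set.iUnion₂_inter]
  refine t.finite_toSet.isCompact_biUnion fun x _ => ?_
  rw [Set.inter_iUnion₂]
  refine t'.finite_toSet.isCompact_biUnion fun y _ => ?_
  exact key (j x) (j' y) (A x) (B y) (hA x).1 (hB y).1 (hA x).2.1 (hA x).2.2.1 (hB y).2.1 (hB y).2.2.1

end Groth.Agent.S9509
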