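import Groth.Statements.S9512
import Mathlib.AlgebraicGeometry.GammaSpecAdjunction

set_option autoImplicit false
universe u
open LRSImm

namespace Groth.Agent.S9512

open AlgebraicGeometry CategoryTheory Opposite TopologicalSpace in
theorem aux (R : CommRingCat.{u}) (p : Spec R) :
    p = PrimeSpectrum.comap
      ((Scheme.ΓSpecIso R).inv ≫ (Spec R).presheaf.germ ⊤ p trivial).hom
      (IsLocalRing.closedPoint ((Spec R).presheaf.stalk p)) := by
  let _ : Algebra R ((Spec R).presheaf.stalk p) := StructureSheaf.stalkAlgebra (R := R) p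
  have _ : IsLocalization.AtPrime ((Spec R).presheaf.stalk p) p.asIdeal :=
    StructureSheaf.IsLocalization.to_stalk (R := R) p
  have : ((Scheme.ΓSpecIso R).inv ≫ (Spec R).presheaf.germ ⊤ p trivial).hom =
      algebraMap R ((Spec R).presheaf.stalk p) := rfl
  rw [this]
  refine PrimeSpectrum.ext (Ideal.ext fun r => ?_)
  change r ∈ p.asIdeal ↔ algebraMap R ((Spec R).presheaf.stalk p) r ∈
    IsLocalRing.maximalIdeal _
  rw [IsLocalization.AtPrime.to_map_mem_maximal_iff _ p.asIdeal]


open AlgebraicGeometry in
open CategoryTheory Opposite in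
/-- Let X be a locally ringed space, Y = Spec R an affine scheme and f : X → Y a morphism of locally
ringed spaces. Given a point x of X, the image f(x) is the prime of R obtained as the inverse image
of the maximal ideal of O_{X,x} under the composite R = Γ(Y, O_Y) → Γ(X, O_X) → O_{X,x}. -/
theorem result
    (X : LocallyRingedSpace.{u}) (R : CommRingCat.{u})
    (f : X ⟶ (Spec R).toLocallyRingedSpace) (x : X.toTopCat) :
    f.base x = PrimeSpectrum.comap
      ((Scheme.ΓSpecIso R).inv ≫ f.c.app (op ⊤) ≫ X.presheaf.germ ⊤ x trivial).hom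
      (IsLocalRing.closedPoint (X.presheaf.stalk x)) := by
  have h1 := LocallyRingedSpace.stalkMap_germ f ⊤ x trivial
  have h2 : (Scheme.ΓSpecIso R).inv ≫ f.c.app (op ⊤) ≫ X.presheaf.germ ⊤ x trivial =
      ((Scheme.ΓSpecIso R).inv ≫ (Spec R).presheaf.germ ⊤ (f.base x) trivial) ≫ f.stalkMap x := by
    rw [Category.assoc, h1]
    rfl
  rw [h2, CommRingCat.hom_comp, PrimeSpectrum.comap_comp_apply,
    IsLocalRing.comap_closedPoint (f.stalkMap x).hom]
  exact aux R (f.base x)

end Groth.Agent.S9512
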