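import Groth.Statements.S9516
import Groth.Agent.Lib.Helper21.PowFactor

set_option autoImplicit false
universe u
open CategoryTheory CategoryTheory.Limits AlgebraicGeometry
attribute [local instance] HasDerivedCategory.standard
open Coherent

namespace Groth.Agent.S9516

/-- Let X be a Noetherian scheme, F a quasi-coherent O_X-module, G a coherent O_X-module and I a
quasi-coherent sheaf of ideals, with U the open complement of the closed subset cut out by I. If a
morphism ψ : I^n G → F restricts to zero on U, then ψ vanishes on I^N G for some N: there is a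
morphism ι : I^N G → I^n G commuting with the inclusions into G and with ι ≫ ψ = 0. (Together with
the surjectivity statement this says that colim_n Hom(I^n G, F) → Hom(G|_U, F|_U) is bijective.) -/
theorem result (X : Scheme.{u}) [IsNoetherian X] (F G : X.Modules)
    (hF : Coh.IsQCoh F) (hG : Coh.IsCoh G) (I : X.IdealSheafData)
    (U : X.Opens) (hU : (U : Set X) = (I.support : Set X)ᶜ) (n : ℕ)
    (ψ : (Dual3.idealMul (I ^ n)).obj G ⟶ F)
    (hψ : (Scheme.Modules.restrictFunctor U.ι).map ψ = 0) :
    ∃ (N : ℕ) (ι : (Dual3.idealMul (I ^ N)).obj G ⟶ (Dual3.idealMul (I ^ n)).obj G),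
      ι ≫ Dual3.idealMulι (I ^ n) G = Dual3.idealMulι (I ^ N) G ∧ ι ≫ ψ = 0 := by
  haveI : F.IsQuasicoherent := hF
  haveI : G.IsQuasicoherent := hG.1
  have hS₀ : Coh.IsCoh ((Dual3.idealMul (I ^ n)).obj G) :=
    ⟨inferInstance, Groth.Agent.Lib.Helper21.CohNoeth.isFiniteType_of_mono
      (Dual3.idealMulι (I ^ n) G) hG.2⟩
  haveI := hS₀.1
  haveI hKq : (CategoryTheory.Limits.kernel ψ).IsQuasicoherent :=
    Groth.Agent.Lib.Helper2.KerSec.isQuasicoherent_kernel ψ
  have hK : Coh.IsCoh (CategoryTheory.Limits.kernel ψ) :=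
    ⟨hKq, Groth.Agent.Lib.Helper21.CohNoeth.isFiniteType_of_mono
      (CategoryTheory.Limits.kernel.ι ψ) hS₀.2⟩
  haveI : CategoryTheory.Mono (CategoryTheory.Limits.kernel.ι ψ ≫ Dual3.idealMulι (I ^ n) G) :=
    CategoryTheory.mono_comp _ _
  have hsupp : CohB1.support (CategoryTheory.Limits.cokernel
      (CategoryTheory.Limits.kernel.ι ψ ≫ Dual3.idealMulι (I ^ n) G)) ⊆ (I.support : Set X) := by
    intro x hx
    by_contra hxI
    have hxU : x ∈ U := by
      rw [← SetLike.mem_coe, hU]
      exact hxI
    apply hx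
    refine Groth.Agent.Lib.Helper21.CohStalkLocal.subsingleton_stalk_cokernel _ x ?_
    rw [Groth.Agent.Lib.Helper21.StalkBiprod.stalkMap_comp]
    have h1 := Groth.Agent.Lib.Helper21.PowFactor.stalkMap_kernelι_surjective_of_zero ψ x
      (Groth.Agent.Lib.Helper21.PowFactor.stalkMap_eq_zero_of_restrict_eq_zero ψ U hψ x hxU)
    have hxn : x ∉ ((I ^ n).support : Set X) := by
      intro h
      apply hxI
      cases n with
      | zero =>
        rw [pow_zero, AlgebraicGeometry.Scheme.IdealSheafData.one_eq_top,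
          AlgebraicGeometry.Scheme.IdealSheafData.support_top] at h
        exact absurd h (Set.notMem_empty _)
      | succ n =>
        rw [AlgebraicGeometry.Scheme.IdealSheafData.support_pow_succ] at h
        exact h
    have h2 := (Groth.Agent.Lib.Helper21.RootStep.stalkMap_idealMulι_bijective (I ^ n) G x hxn).2
    exact h2.comp h1
  obtain ⟨k, l, hl⟩ := Groth.Agent.Lib.Helper21.PowFactor.exists_pow_factor hK hG
    (CategoryTheory.Limits.kernel.ι ψ ≫ Dual3.idealMulι (I ^ n) G) I hsupp
  refine ⟨k, l ≫ CategoryTheory.Limits.kernel.ι ψ, ?_, ?_⟩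
  · rw [CategoryTheory.Category.assoc]
    exact hl
  · rw [CategoryTheory.Category.assoc, CategoryTheory.Limits.kernel.condition,
      CategoryTheory.Limits.comp_zero]

end Groth.Agent.S9516
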