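import Groth.Statements.S9525
import Groth.Agent.Lib.Helper21.CohStalkLocal

set_option autoImplicit false
universe u
open Coherent

namespace Groth.Agent.S9525

open CategoryTheory CategoryTheory.Limits AlgebraicGeometry in
/-- Let X be a locally Noetherian scheme, F and G coherent O_X-modules, φ : G → F a morphism and x ∈ X.
(1) If F_x = 0 there is an open neighbourhood U of x with F|_U = 0. (2) If the stalk map φ_x : G_x →
F_x is injective there is an open neighbourhood U of x with φ|_U injective. (4) If φ_x is bijective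
there is an open neighbourhood U of x with φ|_U an isomorphism. (Part (3), surjectivity, is the
finite-type statement valid on any ringed space and is not restated.) -/
theorem result (X : Scheme.{u}) [IsLocallyNoetherian X]
    (F G : X.Modules) (hF : Coh.IsCoh F) (hG : Coh.IsCoh G) (φ : G ⟶ F) (x : X) :
    (Subsingleton ↑(F.presheaf.stalk x) →
      ∃ U : X.Opens, x ∈ U ∧ IsZero ((Scheme.Modules.restrictFunctor U.ι).obj F)) ∧
    (Function.Injective ((TopCat.Presheaf.stalkFunctor _ x).map φ.mapPresheaf).hom →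
      ∃ U : X.Opens, x ∈ U ∧ Mono ((Scheme.Modules.restrictFunctor U.ι).map φ)) ∧
    (Function.Bijective ((TopCat.Presheaf.stalkFunctor _ x).map φ.mapPresheaf).hom →
      ∃ U : X.Opens, x ∈ U ∧ IsIso ((Scheme.Modules.restrictFunctor U.ι).map φ)) := by
  haveI : F.IsQuasicoherent := hF.1
  haveI : G.IsQuasicoherent := hG.1
  refine ⟨fun hs => ?_, fun hinj => ?_, fun hbij => ?_⟩
  · obtain ⟨U, hxU, hU⟩ :=
      Groth.Agent.Lib.Helper21.CohStalkLocal.exists_open_sections_subsingleton F hF.2 x hs
    exact ⟨U, hxU,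
      Groth.Agent.Lib.Helper21.CohStalkLocal.isZero_restrict_of_sections_subsingleton F U hU⟩
  · obtain ⟨U, hxU, hU⟩ :=
      Groth.Agent.Lib.Helper21.CohStalkLocal.exists_open_kernel_sections_subsingleton hG.2 φ x hinj
    exact ⟨U, hxU,
      Groth.Agent.Lib.Helper21.CohStalkLocal.mono_restrict_of_kernel_sections_subsingleton φ U hU⟩
  · obtain ⟨U₁, hxU₁, hU₁⟩ :=
      Groth.Agent.Lib.Helper21.CohStalkLocal.exists_open_kernel_sections_subsingleton hG.2 φ x
        hbij.1
    obtain ⟨U₂, hxU₂, hU₂⟩ :=
      Groth.Agent.Lib.Helper21.CohStalkLocal.exists_open_cokernel_sections_subsingleton hF.2 φ x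
        hbij.2
    refine ⟨U₁ ⊓ U₂, ⟨hxU₁, hxU₂⟩, ?_⟩
    haveI := Groth.Agent.Lib.Helper21.CohStalkLocal.mono_restrict_of_kernel_sections_subsingleton
      φ (U₁ ⊓ U₂) (fun W hW => hU₁ W (hW.trans inf_le_left))
    haveI := Groth.Agent.Lib.Helper21.CohStalkLocal.epi_restrict_of_cokernel_sections_subsingleton
      φ (U₁ ⊓ U₂) (fun W hW => hU₂ W (hW.trans inf_le_right))
    exact isIso_of_mono_of_epi _

end Groth.Agent.S9525
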