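import Groth.Statements.S9526
import Groth.Agent.Lib.Helper21.StalkSpread

set_option autoImplicit false
universe u
open Coherent

namespace Groth.Agent.S9526

open CategoryTheory CategoryTheory.Limits AlgebraicGeometry in
/-- Let X be a locally Noetherian scheme, F and G coherent O_X-modules, x ∈ X and ψ : G_x → F_x an
O_{X,x}-linear map. Then there are an open neighbourhood U of x and a morphism φ : G|_U → F|_U with
φ_x = ψ (the stalk map of φ at x, composed with the canonical identifications of the stalks of G|_U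
and F|_U at x with G_x and F_x, is ψ). -/
theorem result (X : Scheme.{u}) [IsLocallyNoetherian X]
    (F G : X.Modules) (hF : Coh.IsCoh F) (hG : Coh.IsCoh G) (x : X)
    (ψ : ↑(G.presheaf.stalk x) →ₗ[X.presheaf.stalk x] ↑(F.presheaf.stalk x)) :
    ∃ (U : X.Opens) (hx : x ∈ U)
      (φ : (Scheme.Modules.restrictFunctor U.ι).obj G ⟶ (Scheme.Modules.restrictFunctor U.ι).obj F),
      (Scheme.Modules.restrictStalkNatIso U.ι (⟨x, hx⟩ : U)).inv.app G ≫
          (TopCat.Presheaf.stalkFunctor _ (⟨x, hx⟩ : U)).map φ.mapPresheaf ≫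
            (Scheme.Modules.restrictStalkNatIso U.ι (⟨x, hx⟩ : U)).hom.app F =
        AddCommGrpCat.ofHom ψ.toAddMonoidHom := by
  obtain ⟨U, hx, φ, hφ⟩ :=
    Groth.Agent.Lib.Helper21.StalkSpread.exists_hom_restrict F G hF hG x ψ
  refine ⟨U, hx, φ, ?_⟩
  let x' : (U : Scheme.{u}) := ⟨x, hx⟩
  let eG := (Scheme.Modules.restrictStalkNatIso U.ι x').app G
  let eF := (Scheme.Modules.restrictStalkNatIso U.ι x').app F
  refine (Iso.inv_comp_eq eG).mpr ?_
  refine TopCat.Presheaf.stalk_hom_ext _ (fun V' hxV' => ?_)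
  ext m
  have h1 := TopCat.Presheaf.stalkFunctor_map_germ_apply V' x' hxV' φ.mapPresheaf m
  have h2 := congr($(Scheme.Modules.germ_restrictStalkNatIso_hom_app U.ι x' F hxV') (φ.app V' m))
  have h3 := congr($(Scheme.Modules.germ_restrictStalkNatIso_hom_app U.ι x' G hxV') m)
  have h4 := hφ V' hxV' m
  exact ((congrArg (fun z => eF.hom z) h1).trans (h2.trans (h4.trans (congrArg ψ h3.symm))))

end Groth.Agent.S9526
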