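import Groth.Statements.S9530
import Groth.Agent.Lib.Helper55.CohFormal

set_option autoImplicit false
universe u
open CategoryTheory CategoryTheory.Limits AlgebraicGeometry Opposite
open Algz

namespace Groth.Agent.S9530

/-- The functor from Coh(X, I O_X) to pro-objects of quasi-coherent modules is fully faithful: for the
ideal sheaf I O_X of an ideal I of a base ring A and with positions shifted by one. Let X be a
Noetherian scheme over Spec A and F, G objects of Coh(X, I O_X). Let m be a monotone self-map of ℕ
with n ≤ m n, let π be the levelwise map from the re-indexed system n ↦ F_(m n) to F whose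
components are the transition maps of F, and let α be any levelwise map from the re-indexed system
to G. Then α factors as π followed by a unique morphism of systems β from F to G. (Existence is
fullness on this representative of a pro-morphism, uniqueness is faithfulness.) -/
theorem result (A : Type u) [CommRing A] (I : Ideal A) (X : Scheme.{u})
    [X.Over (Spec (CommRingCat.of A))] [IsNoetherian X] (F G : ℕᵒᵖ ⥤ X.Modules)
    (hF : Formal.IsCohFormal I F) (hG : Formal.IsCohFormal I G) (m : ℕ → ℕ) (hm : Monotone m)
    (hle : ∀ n : ℕ, n ≤ m n) (π : DerCA.reindex F hm ⟶ F)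
    (hπ : ∀ n : ℕ, π.app (op n) = F.map (homOfLE (hle n)).op) (α : DerCA.reindex F hm ⟶ G) :
    ∃! β : F ⟶ G, π ≫ β = α := by
  classical
  have hfac : ∀ n : ℕ, ∃ ψ : F.obj (op n) ⟶ G.obj (op n),
      F.map (homOfLE (hle n)).op ≫ ψ = α.app (op n) := fun n =>
    Lib.Helper55.CohFormal.exists_factor hF (hle n) (hG.2.1 n) (α.app (op n))
  choose ψ hψ using hfac
  have hepi : ∀ n : ℕ, Epi (π.app (op n)) := fun n => by
    rw [hπ n]
    exact Lib.Helper55.CohFormal.epi_tr hF (hle n)
  have hπψ : ∀ n : ℕ, π.app (op n) ≫ ψ n = α.app (op n) := fun n => by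
    rw [hπ n]
    exact hψ n
  refine ⟨⟨fun n => ψ n.unop, ?_⟩, ?_, ?_⟩
  · intro a b f
    have := hepi a.unop
    rw [← cancel_epi (π.app (op a.unop))]
    have e1 : π.app (op a.unop) ≫ F.map f ≫ ψ b.unop =
        (DerCA.reindex F hm).map f ≫ α.app b := by
      rw [← Category.assoc]
      have := π.naturality f
      rw [← this, Category.assoc]
      have h2 := hπψ b.unop
      rw [h2]
    have e2 : π.app (op a.unop) ≫ ψ a.unop ≫ G.map f = (DerCA.reindex F hm).map f ≫ α.app b := by
      rw [← Category.assoc, hπψ a.unop]
      exact (α.naturality f).symm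
    exact e1.trans e2.symm
  · refine NatTrans.ext (funext fun n => ?_)
    exact hπψ n.unop
  · intro β' hβ'
    refine NatTrans.ext (funext fun n => ?_)
    have := hepi n.unop
    rw [← cancel_epi (π.app (op n.unop))]
    have h1 : π.app (op n.unop) ≫ β'.app n = α.app n := by
      rw [← hβ']
      rfl
    rw [h1]
    exact (hπψ n.unop).symm

end Groth.Agent.S9530
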