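import Groth.Statements.S9831
import Groth.Agent.S10848
import Groth.Agent.S2249

set_option autoImplicit false
universe u
open CategoryTheory CategoryTheory.Limits AlgebraicGeometry TopologicalSpace Opposite
open Props

namespace Groth.Agent.S9831

theorem quasiCompact_ι {X : Scheme.{u}} [QuasiSeparatedSpace X]
    (U : X.Opens) (hU : IsCompact (U : Set X)) : QuasiCompact U.ι := by
  constructor
  intro V hVo hVc
  rw [U.ι.isOpenEmbedding.isInducing.isCompact_iff]
  have h := QuasiSeparatedSpace.inter_isCompact _ _ hVo hVc U.isOpen hU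
  convert h using 1
  ext x
  constructor
  · rintro ⟨y, hy, rfl⟩
    exact ⟨hy, y.2⟩
  · rintro ⟨hxV, hxU⟩
    exact ⟨⟨x, hxU⟩, hxV, rfl⟩

/-- On a quasi-compact quasi-separated scheme, a quasi-coherent module of finite type on a quasi-compact
open U is the restriction of a quasi-coherent module of finite type on the whole scheme. -/
theorem result {X : Scheme.{u}} [CompactSpace X]
    [QuasiSeparatedSpace X] (U : X.Opens) (hU : IsCompact (U : Set X)) (G : (U : Scheme.{u}).Modules)
    [Coh.IsQCoh G] (hG : CohB1.IsFT G) :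
    ∃ G' : X.Modules, Coh.IsQCoh G' ∧ CohB1.IsFT G' ∧ Nonempty (G'.restrict U.ι ≅ G) := by
  haveI := quasiCompact_ι U hU
  haveI : ((Scheme.Modules.pushforward U.ι).obj G).IsQuasicoherent :=
    Groth.Agent.S2249.isQuasicoherent_pushforward_of_qcqs U.ι G
  obtain ⟨G', i', e, -, hq, hft, -⟩ := Groth.Agent.S10848.result U hU
    ((Scheme.Modules.pushforward U.ι).obj G) G hG
    (inv ((Scheme.Modules.restrictAdjunction U.ι).counit.app G))
  exact ⟨G', hq, hft, ⟨e⟩⟩

end Groth.Agent.S9831
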