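import Groth.Statements.S9531
import Groth.Agent.Lib.Helper55.CohFormal
import Groth.Agent.Lib.Helper55.ProSys
import Groth.Agent.Lib.Helper55.TildeEpi
import Groth.Agent.Lib.Helper40.FormalRestrict
import Groth.Agent.Lib.Helper40.QCohSmall
import Groth.Agent.Lib.Helper2.KerSec
import Groth.Agent.S9831

set_option autoImplicit false
universe u
open CategoryTheory CategoryTheory.Limits AlgebraicGeometry Opposite
open Algz

namespace Groth.Agent.S9531

open CategoryTheory CategoryTheory.Limits AlgebraicGeometry Opposite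
open Groth.Agent.Lib.Helper55 Groth.Agent.Lib.Helper40.FormalUP Groth.Agent.Lib.Helper40.FormalRestrict

section Gen
variable {A : Type u} [CommRing A] {X : Scheme.{u}} [X.Over (Spec (CommRingCat.of A))]

/-- pro-isomorphic coherent formal systems are isomorphic -/
theorem iso_of_isProIsomorphic (I : Ideal A) {F G : ℕᵒᵖ ⥤ X.Modules}
    (hF : Formal.IsCohFormal I F) (hG : Formal.IsCohFormal I G)
    (h : Algz.IsProIsomorphic F G) : Nonempty (F ≅ G) := by
  obtain ⟨m, hm, hle, a, hnat, hpro⟩ := ProSys.exists_data h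
  have hfac : ∀ n, ∃ ψ : F.obj (op n) ⟶ G.obj (op n), ARSys.tr F (hle n) ≫ ψ = a n := fun n =>
    CohFormal.exists_factor hF (hle n) (hG.2.1 n) (a n)
  choose β hβ using hfac
  have hepiF : ∀ {n k : ℕ} (h : n ≤ k), Epi (ARSys.tr F h) := fun h => CohFormal.epi_tr hF h
  have hepiG : ∀ {n k : ℕ} (h : n ≤ k), Epi (ARSys.tr G h) := fun h => CohFormal.epi_tr hG h
  have hβnat : ∀ {n k : ℕ} (h : n ≤ k), ARSys.tr F h ≫ β n = β k ≫ ARSys.tr G h := by
    intro n k h
    haveI := hepiF (hle k)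
    rw [← cancel_epi (ARSys.tr F (hle k))]
    calc ARSys.tr F (hle k) ≫ ARSys.tr F h ≫ β n
        = ARSys.tr F (h.trans (hle k)) ≫ β n := by rw [← Category.assoc, ProSys.tr_comp]
      _ = (ARSys.tr F (hm h) ≫ ARSys.tr F (hle n)) ≫ β n := by rw [ProSys.tr_comp]
      _ = ARSys.tr F (hm h) ≫ a n := by rw [Category.assoc, hβ n]
      _ = a k ≫ ARSys.tr G h := (hnat h).symm
      _ = ARSys.tr F (hle k) ≫ β k ≫ ARSys.tr G h := by rw [← Category.assoc, hβ k]
  have hδ : ∀ n, ∃ δ : G.obj (op n) ⟶ F.obj (op n), β n ≫ δ = 𝟙 _ ∧ δ ≫ β n = 𝟙 _ := by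
    intro n
    obtain ⟨k, hk, b, hb1, hb2⟩ := hpro n
    obtain ⟨δ, hδ⟩ := CohFormal.exists_factor hG hk (hF.2.1 n) (b ≫ ARSys.tr F (hle n))
    refine ⟨δ, ?_, ?_⟩
    · have hnk : n ≤ m k := hk.trans (hle k)
      haveI := hepiF hnk
      rw [← cancel_epi (ARSys.tr F hnk), Category.comp_id]
      calc ARSys.tr F hnk ≫ β n ≫ δ
          = (ARSys.tr F (hle k) ≫ ARSys.tr F hk) ≫ β n ≫ δ := by rw [ProSys.tr_comp]
        _ = ARSys.tr F (hle k) ≫ (ARSys.tr F hk ≫ β n) ≫ δ := by simp only [Category.assoc]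
        _ = ARSys.tr F (hle k) ≫ (β k ≫ ARSys.tr G hk) ≫ δ := by rw [hβnat hk]
        _ = (ARSys.tr F (hle k) ≫ β k) ≫ (ARSys.tr G hk ≫ δ) := by simp only [Category.assoc]
        _ = a k ≫ (b ≫ ARSys.tr F (hle n)) := by rw [hβ k, hδ]
        _ = ARSys.tr F (hm hk) ≫ ARSys.tr F (hle n) := by rw [← Category.assoc, hb1]
        _ = ARSys.tr F hnk := ProSys.tr_comp F _ _
    · haveI := hepiG hk
      rw [← cancel_epi (ARSys.tr G hk), Category.comp_id, ← Category.assoc, hδ, Category.assoc,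
        hβ n, hb2]
  choose δ hδ1 hδ2 using hδ
  refine ⟨NatIso.ofComponents (fun n => ⟨β n.unop, δ n.unop, hδ1 _, hδ2 _⟩) ?_⟩
  intro j k f
  have hkj : k.unop ≤ j.unop := f.unop.le
  have h2 : f = (homOfLE hkj).op := Subsingleton.elim _ _
  subst h2
  exact hβnat hkj

end Gen

section Aff
variable {A : Type u} [CommRing A]

theorem isCohFormal_restrictSys (I : Ideal A) (U : (Spec (CommRingCat.of A)).Opens)
    (G' : ℕᵒᵖ ⥤ (Spec (CommRingCat.of A)).Modules)
    (hG' : @Formal.IsCohFormal A _ (Spec (CommRingCat.of A)) ⟨𝟙 (Spec (CommRingCat.of A))⟩ I G') :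
    Formal.IsCohFormal I (Algz.restrictSys U G') := by
  letI : (Spec (CommRingCat.of A)).Over (Spec (CommRingCat.of A)) := ⟨𝟙 (Spec (CommRingCat.of A))⟩
  have hf : U.ι ≫ ((Spec (CommRingCat.of A)) ↘ Spec (CommRingCat.of A)) =
      (U : Scheme.{u}) ↘ Spec (CommRingCat.of A) := Category.comp_id _
  obtain ⟨hcoh, hkill, hcok⟩ := hG'
  refine ⟨fun n => ?_, fun n => ?_, fun n => ?_⟩
  · haveI : (G'.obj (op n)).IsQuasicoherent := (hcoh n).1
    exact ⟨inferInstanceAs ((G'.obj (op n)).restrict U.ι).IsQuasicoherent,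
      Groth.Agent.Lib.Helper40.QCohSmall.isFiniteType_restrict U _ (hcoh n).2⟩
  · exact leftAdj_killedBy U.ι hf (Scheme.Modules.restrictAdjunction U.ι) (hkill n)
  · obtain ⟨h0, hiso⟩ := hcok n
    have hq := leftAdj_isQuot U.ι hf (Scheme.Modules.restrictAdjunction U.ι)
      (isQuot_of_isIso_desc h0 hiso)
    exact ⟨hq.zero, hq.isIso_desc⟩

theorem restrict_sectSys_iso (U : (Spec (CommRingCat.of A)).Opens) [QuasiCompact U.ι]
    (G : ℕᵒᵖ ⥤ (U : Scheme.{u}).Modules) (hG : ∀ n, (G.obj n).IsQuasicoherent) :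
    Nonempty (Algz.restrictSys U (Algz.sectSys A U G) ≅ G) := by
  haveI : ∀ n, ((Scheme.Modules.pushforward U.ι).obj (G.obj n)).IsQuasicoherent := fun n => by
    haveI := hG n
    exact Groth.Agent.Lib.Helper2.KerSec.isQuasicoherent_pushforward_of_qcqs U.ι _
  have hε : ∀ n, IsIso ((Scheme.Modules.fromTildeΓNatTrans (R := CommRingCat.of A)).app ((Scheme.Modules.pushforward U.ι).obj (G.obj n))) := fun n =>
    TildeEpi.isIso_counit_app _
  let c := (Scheme.Modules.restrictAdjunction U.ι).counit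
  refine ⟨NatIso.ofComponents (fun n =>
    (Scheme.Modules.restrictFunctor U.ι).mapIso
      (@asIso _ _ _ _ ((Scheme.Modules.fromTildeΓNatTrans (R := CommRingCat.of A)).app ((Scheme.Modules.pushforward U.ι).obj (G.obj n))) (hε n)) ≪≫
      asIso (c.app (G.obj n))) ?_⟩
  intro j k f
  have h1 := (Scheme.Modules.fromTildeΓNatTrans (R := CommRingCat.of A)).naturality ((Scheme.Modules.pushforward U.ι).map (G.map f))
  have h2 := c.naturality (G.map f)
  change (Scheme.Modules.restrictFunctor U.ι).map ((tilde.functor (CommRingCat.of A)).map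
      ((moduleSpecΓFunctor (R := CommRingCat.of A)).map
        ((Scheme.Modules.pushforward U.ι).map (G.map f)))) ≫
      ((Scheme.Modules.restrictFunctor U.ι).map
        ((Scheme.Modules.fromTildeΓNatTrans (R := CommRingCat.of A)).app ((Scheme.Modules.pushforward U.ι).obj (G.obj k))) ≫ c.app (G.obj k)) =
    ((Scheme.Modules.restrictFunctor U.ι).map
        ((Scheme.Modules.fromTildeΓNatTrans (R := CommRingCat.of A)).app ((Scheme.Modules.pushforward U.ι).obj (G.obj j))) ≫ c.app (G.obj j)) ≫ G.map f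
  rw [← Category.assoc, ← CategoryTheory.Functor.map_comp]
  have h1' : (tilde.functor (CommRingCat.of A)).map
      ((moduleSpecΓFunctor (R := CommRingCat.of A)).map
        ((Scheme.Modules.pushforward U.ι).map (G.map f))) ≫
      (Scheme.Modules.fromTildeΓNatTrans (R := CommRingCat.of A)).app ((Scheme.Modules.pushforward U.ι).obj (G.obj k)) =
      (Scheme.Modules.fromTildeΓNatTrans (R := CommRingCat.of A)).app ((Scheme.Modules.pushforward U.ι).obj (G.obj j)) ≫
        (Scheme.Modules.pushforward U.ι).map (G.map f) := h1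
  rw [h1', CategoryTheory.Functor.map_comp, Category.assoc, Category.assoc]
  congr 1

end Aff

/-- Let A be a Noetherian ring, I ⊆ 𝔞 ideals, U = Spec A ∖ V(𝔞), and take (F_n) in Coh(U, I O_U).
Suppose (F_n) extends canonically to Spec A; then (F_n) extends to Spec A: there is an object of
Coh(Spec A, I O) whose restriction to U is isomorphic to (F_n). (Spec A is regarded over itself
through the identity.) -/
theorem result (A : Type u) [CommRing A] [IsNoetherianRing A] (I 𝔞 : Ideal A) (hI𝔞 : I ≤ 𝔞)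
    (G : ℕᵒᵖ ⥤ (↑(LocCoh.puncturedOpen A 𝔞) : Scheme.{u}).Modules) (hG : Formal.IsCohFormal I G)
    (h : Algz.CanonicallyExtends A I (LocCoh.puncturedOpen A 𝔞) G) :
    @Algz.Extends A _ (Spec (CommRingCat.of A)) ⟨𝟙 (Spec (CommRingCat.of A))⟩ I (LocCoh.puncturedOpen A 𝔞) G := by
  obtain ⟨G', hG', hpro⟩ := h
  refine ⟨G', hG', ?_⟩
  have hUc : IsCompact ((LocCoh.puncturedOpen A 𝔞 : (Spec (CommRingCat.of A)).Opens) :
      Set (Spec (CommRingCat.of A))) :=
    TopologicalSpace.NoetherianSpace.isCompact _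
  haveI := Groth.Agent.S9831.quasiCompact_ι (LocCoh.puncturedOpen A 𝔞) hUc
  obtain ⟨e⟩ := restrict_sectSys_iso (LocCoh.puncturedOpen A 𝔞) G (fun n => (hG.1 n.unop).1)
  have h1 := ProSys.isProIsomorphic_comp
    (Scheme.Modules.restrictFunctor (LocCoh.puncturedOpen A 𝔞).ι) hpro
  have h2 := ProSys.isProIsomorphic_of_iso_left e h1
  obtain ⟨e2⟩ := iso_of_isProIsomorphic I hG
    (isCohFormal_restrictSys I (LocCoh.puncturedOpen A 𝔞) G' hG') h2
  exact ⟨e2.symm⟩

end Groth.Agent.S9531
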