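import Groth.Statements.S9536
import Groth.Agent.Lib.Helper40.FormalRestrict
import Groth.Agent.S9831

set_option autoImplicit false
universe u
open CategoryTheory CategoryTheory.Limits AlgebraicGeometry Opposite
open Algz

namespace Groth.Agent.S9536

open CategoryTheory CategoryTheory.Limits AlgebraicGeometry Opposite
open Groth.Agent.Lib.Helper40.FormalUP Groth.Agent.Lib.Helper40.FormalRestrict

/-- restriction to an open of `Spec A` of the completion system -/
theorem nonempty_iso_restrict {A : Type u} [CommRing A] (I : Ideal A)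
    (U : (Spec (CommRingCat.of A)).Opens) (F' : (Spec (CommRingCat.of A)).Modules)
    (F : (U : Scheme.{u}).Modules) (e0 : F'.restrict U.ι ≅ F) :
    Nonempty (Formal.completion I F ≅
      Algz.restrictSys U
        (@Formal.completion A _ (Spec (CommRingCat.of A)) ⟨𝟙 (Spec (CommRingCat.of A))⟩ I F')) := by
  letI : (Spec (CommRingCat.of A)).Over (Spec (CommRingCat.of A)) := ⟨𝟙 (Spec (CommRingCat.of A))⟩
  have hf : U.ι ≫ ((Spec (CommRingCat.of A)) ↘ Spec (CommRingCat.of A)) =
      (U : Scheme.{u}) ↘ Spec (CommRingCat.of A) := Category.comp_id _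
  refine Groth.Agent.S0832.nonempty_iso_of_isQuot (I := I)
    (F := Algz.restrictSys U (Formal.completion I F')) F
    (fun n => e0.inv ≫ (Scheme.Modules.restrictFunctor U.ι).map (Formal.modPowπ I (n + 1) F')) ?_ ?_
  · intro n
    rw [Category.assoc]
    congr 1
    change (Scheme.Modules.restrictFunctor U.ι).map _ ≫ (Scheme.Modules.restrictFunctor U.ι).map
      ((Formal.completion I F').map (homOfLE (Nat.le_succ n)).op) = _
    rw [← Functor.map_comp, completion_map_succ]
    exact congrArg (Scheme.Modules.restrictFunctor U.ι).map (Formal.modPowπ_trans I (n + 1) F')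
  · intro n
    exact IsQuot.iso_comp _ (leftAdj_isQuot U.ι hf (Scheme.Modules.restrictAdjunction U.ι)
      (isQuot_π (I ^ (n + 1)) F'))

/-- (2) ⇒ (6): Let A be a Noetherian ring, I ⊆ 𝔞 ideals, U = Spec A ∖ V(𝔞) and (F_n) an object of Coh(U,
I O_U). If (F_n) is isomorphic to the completion of a coherent O_U-module, then (F_n) extends to
Spec A. -/
theorem result (A : Type u) [CommRing A] [IsNoetherianRing A] (I 𝔞 : Ideal A) (hI𝔞 : I ≤ 𝔞)
    (G : ℕᵒᵖ ⥤ (↑(LocCoh.puncturedOpen A 𝔞) : Scheme.{u}).Modules) (hG : Formal.IsCohFormal I G)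
    (F : (↑(LocCoh.puncturedOpen A 𝔞) : Scheme.{u}).Modules) (hF : Coh.IsCoh F) (e : Formal.completion I F ≅ G) :
    @Algz.Extends A _ (Spec (CommRingCat.of A)) ⟨𝟙 (Spec (CommRingCat.of A))⟩ I (LocCoh.puncturedOpen A 𝔞) G := by
  obtain ⟨hq, hft⟩ := hF
  haveI : F.IsQuasicoherent := hq
  have hUc : IsCompact ((LocCoh.puncturedOpen A 𝔞 : (Spec (CommRingCat.of A)).Opens) :
      Set (Spec (CommRingCat.of A))) :=
    TopologicalSpace.NoetherianSpace.isCompact _
  obtain ⟨F', hq', hft', ⟨e0⟩⟩ := Groth.Agent.S9831.result (LocCoh.puncturedOpen A 𝔞) hUc F hft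
  obtain ⟨e1⟩ := nonempty_iso_restrict I (LocCoh.puncturedOpen A 𝔞) F' F e0
  refine ⟨@Formal.completion A _ (Spec (CommRingCat.of A)) ⟨𝟙 (Spec (CommRingCat.of A))⟩ I F',
    @isCohFormal_completion A _ (Spec (CommRingCat.of A)) ⟨𝟙 (Spec (CommRingCat.of A))⟩ I F'
      ⟨hq', hft'⟩, ⟨e1.symm ≪≫ e⟩⟩

end Groth.Agent.S9536
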