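import Groth.Statements.S9535
import Groth.Agent.Lib.Helper40.AdicLim
import Groth.Agent.Lib.Helper40.TildeQuot
import Groth.Agent.Lib.Helper40.QCohSmall
import Groth.Agent.Lib.Lead.CohAff3
import Groth.Agent.S0832
import Groth.Agent.S9536

set_option autoImplicit false
universe u
open CategoryTheory CategoryTheory.Limits AlgebraicGeometry Opposite
open Algz

namespace Groth.Agent.S9535

open CategoryTheory CategoryTheory.Limits AlgebraicGeometry Opposite
open Groth.Agent.Lib.Helper40 Groth.Agent.Lib.Helper40.FormalUP Groth.Agent.Lib.Helper40.TildeQuot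

variable {A : Type u} [CommRing A]

section Main

attribute [local instance 10000] specOver

section Sys
variable (G' : ℕᵒᵖ ⥤ (Spec (CommRingCat.of A)).Modules)

/-- global sections of the system, as `A`-modules -/
noncomputable abbrev NN (m : ℕ) : ModuleCat.{u} A :=
  (moduleSpecΓFunctor (R := CommRingCat.of A)).obj (G'.obj (op m))

/-- transition maps -/
noncomputable def trN (m k : ℕ) (h : m ≤ k) : NN G' k →ₗ[A] NN G' m :=
  ((moduleSpecΓFunctor (R := CommRingCat.of A)).map (G'.map (homOfLE h).op)).hom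

theorem trN_id (m : ℕ) (x : NN G' m) : trN G' m m le_rfl x = x := by
  have : (homOfLE (le_refl m)).op = 𝟙 (op m) := rfl
  unfold trN
  rw [this, G'.map_id, CategoryTheory.Functor.map_id]
  rfl

theorem trN_comp (m k l : ℕ) (h1 : m ≤ k) (h2 : k ≤ l) (x : NN G' l) :
    trN G' m k h1 (trN G' k l h2 x) = trN G' m l (h1.trans h2) x := by
  have : (homOfLE (h1.trans h2)).op = (homOfLE h2).op ≫ (homOfLE h1).op := rfl
  unfold trN
  rw [this, G'.map_comp, CategoryTheory.Functor.map_comp]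
  rfl

end Sys

theorem mem_smul_top_of_sec (G' : ℕᵒᵖ ⥤ (Spec (CommRingCat.of A)).Modules) (m : ℕ) (J : Ideal A)
    (x : Groth.Agent.S0852.Sec G' ⊤ m)
    (hx : x ∈ J • (⊤ : Submodule A (Groth.Agent.S0852.Sec G' ⊤ m))) :
    (show ↑(NN G' m) from x) ∈ J • (⊤ : Submodule A (NN G' m)) := by
  refine Submodule.smul_induction_on
    (p := fun (x : Groth.Agent.S0852.Sec G' ⊤ m) =>
      (show ↑(NN G' m) from x) ∈ J • (⊤ : Submodule A (NN G' m))) hx ?_ ?_
  · intro a ha y _
    have h1 : (show ↑(NN G' m) from (a • y : Groth.Agent.S0852.Sec G' ⊤ m)) =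
        (a • (show ↑(NN G' m) from y)) := by
      rw [smul_Γ]; rfl
    change (show ↑(NN G' m) from (a • y : Groth.Agent.S0852.Sec G' ⊤ m)) ∈ _
    rw [h1]
    exact Submodule.smul_mem_smul ha Submodule.mem_top
  · intro x y hx hy
    exact add_mem hx hy


open Groth.Agent.Lib.Helper21.QCohSections (app_surjective_of_epi) in
/-- algebraization on `Spec A` for `A` complete -/
theorem key [IsNoetherianRing A] (I : Ideal A) [IsAdicComplete I A]
    (G' : ℕᵒᵖ ⥤ (Spec (CommRingCat.of A)).Modules) (hG' : Formal.IsCohFormal I G') :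
    ∃ F' : (Spec (CommRingCat.of A)).Modules, Coh.IsCoh F' ∧
      Nonempty (Formal.completion I F' ≅ G') := by
  have hepi : ∀ m, Epi (G'.map (homOfLE (Nat.le_succ m)).op) := fun m =>
    Groth.Agent.Lib.Helper55.CohFormal.epi_tr hG' (Nat.le_succ m)
  obtain ⟨hcoh, hkill, hcok⟩ := hG'
  haveI : ∀ m, (G'.obj (op m)).IsQuasicoherent := fun m => (hcoh m).1
  have hI : I.FG := IsNoetherian.noetherian I
  have hsurj : ∀ m, Function.Surjective (trN G' m (m + 1) (Nat.le_succ m)) := by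
    intro m
    haveI := hepi m
    haveI := Groth.Agent.Lib.Helper55.TildeEpi.epi_Γ_map_of_epi
      (G'.map (homOfLE (Nat.le_succ m)).op)
    exact (ModuleCat.epi_iff_surjective _).mp inferInstance
  have hkl : ∀ m, ∀ a ∈ I ^ (m + 1), ∀ x : NN G' m, a • x = 0 := by
    intro m a ha x
    rw [smul_Γ, hkill m a ha]
    rfl
  have hker : ∀ m (x : NN G' (m + 1)), trN G' m (m + 1) (Nat.le_succ m) x = 0 →
      x ∈ I ^ (m + 1) • (⊤ : Submodule A (NN G' (m + 1))) := by
    intro m x hx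
    obtain ⟨h0, hiso⟩ := hcok m
    exact mem_smul_top_of_sec G' (m + 1) (I ^ (m + 1)) x
      (Groth.Agent.S0852.ker_le (I ^ (m + 1)) _ h0 hiso (isAffineOpen_top _) x hx)
  haveI : Module.Finite A (NN G' 0) :=
    (finite_Γ_iff _).mpr (Groth.Agent.Lib.Lead.CohAff.finite_sections_of_isFiniteType _
      (hcoh 0).2 (isAffineOpen_top _))
  have hfin : Module.Finite A (AdicLim.lim (fun m => ↑(NN G' m)) (trN G')) :=
    AdicLim.finite_lim I (trN_id G') (trN_comp G') hsurj hkl hker hI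
  let Mc : ModuleCat.{u} A := ModuleCat.of A (AdicLim.lim (fun m => ↑(NN G' m)) (trN G'))
  let p : ∀ n, Mc ⟶ NN G' n := fun n =>
    ModuleCat.ofHom (X := ↥(AdicLim.lim (fun m => ↑(NN G' m)) (trN G'))) (Y := ↑(NN G' n))
      (AdicLim.ev (fun m => ↑(NN G' m)) (trN G') n)
  have hp : ∀ n, (p n).hom = AdicLim.ev (fun m => ↑(NN G' m)) (trN G') n := fun n => rfl
  let F' : (Spec (CommRingCat.of A)).Modules := (tilde.functor (CommRingCat.of A)).obj Mc
  let ε := Scheme.Modules.fromTildeΓNatTrans (R := CommRingCat.of A)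
  haveI : ∀ n, IsIso (ε.app (G'.obj (op n))) := fun n =>
    Groth.Agent.Lib.Helper55.TildeEpi.isIso_counit_app _
  let θ : ∀ n, F' ⟶ G'.obj (op n) := fun n =>
    (tilde.functor (CommRingCat.of A)).map (p n) ≫ ε.app (G'.obj (op n))
  have hθ : ∀ n, θ (n + 1) ≫ G'.map (homOfLE (Nat.le_succ n)).op = θ n := by
    intro n
    have h1 := ε.naturality (G'.map (homOfLE (Nat.le_succ n)).op)
    have h2 : p (n + 1) ≫ (moduleSpecΓFunctor (R := CommRingCat.of A)).map
        (G'.map (homOfLE (Nat.le_succ n)).op) = p n := by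
      ext x
      change trN G' n (n + 1) (Nat.le_succ n) ((p (n + 1)).hom x) = (p n).hom x
      rw [hp, hp]
      exact AdicLim.tr_ev _ (trN G') n (n + 1) (Nat.le_succ n) x
    change ((tilde.functor (CommRingCat.of A)).map (p (n + 1)) ≫ ε.app (G'.obj (op (n + 1)))) ≫
      G'.map (homOfLE (Nat.le_succ n)).op = (tilde.functor (CommRingCat.of A)).map (p n) ≫
        ε.app (G'.obj (op n))
    rw [Category.assoc]
    have h3 : ε.app (G'.obj (op (n + 1))) ≫ G'.map (homOfLE (Nat.le_succ n)).op =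
        (tilde.functor (CommRingCat.of A)).map ((moduleSpecΓFunctor (R := CommRingCat.of A)).map
          (G'.map (homOfLE (Nat.le_succ n)).op)) ≫ ε.app (G'.obj (op n)) := h1.symm
    rw [h3, ← Category.assoc, ← CategoryTheory.Functor.map_comp, h2]
  have hq : ∀ n, IsQuot (I ^ (n + 1)) (θ n) := by
    intro n
    refine IsQuot.comp_iso (isQuot_tilde (I ^ (n + 1)) (p n) ?_ ?_ (hkl n)) _
    · rw [hp]
      exact AdicLim.ev_surjective (trN_id G') (trN_comp G') hsurj n
    · rw [hp]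
      exact (AdicLim.ker_ev I (trN_comp G') hsurj hkl hker hI n).le
  obtain ⟨e1⟩ := Groth.Agent.S0832.nonempty_iso_of_isQuot (I := I) (F := G') F' θ hθ hq
  haveI hqF' : F'.IsQuasicoherent :=
    inferInstanceAs (tilde (R := CommRingCat.of A) Mc).IsQuasicoherent
  refine ⟨F', ⟨hqF', ?_⟩, ⟨e1⟩⟩
  refine Groth.Agent.Lib.Lead.CohAff.isFiniteType_of_finite_sections F' (fun x => ?_)
  refine ⟨⊤, isAffineOpen_top _, trivial, (finite_Γ_iff F').mp ?_⟩
  haveI : Module.Finite A ↑((𝟭 (ModuleCat.{u} A)).obj Mc) := hfin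
  exact Module.Finite.equiv
    ((tilde.toTildeΓNatIso (R := CommRingCat.of A)).app Mc).toLinearEquiv

end Main

/-- (6) ⇒ (2): Let A be a Noetherian ring complete for the I-adic topology, I ⊆ 𝔞 ideals, U = Spec A ∖
V(𝔞) and (F_n) an object of Coh(U, I O_U). If (F_n) extends to Spec A, then (F_n) is isomorphic to
the completion of a coherent O_U-module. -/
theorem result (A : Type u) [CommRing A] [IsNoetherianRing A] (I 𝔞 : Ideal A) (hI𝔞 : I ≤ 𝔞)
    (G : ℕᵒᵖ ⥤ (↑(LocCoh.puncturedOpen A 𝔞) : Scheme.{u}).Modules) (hG : Formal.IsCohFormal I G) [IsAdicComplete I A]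
    (h : @Algz.Extends A _ (Spec (CommRingCat.of A)) ⟨𝟙 (Spec (CommRingCat.of A))⟩ I (LocCoh.puncturedOpen A 𝔞) G) :
    ∃ F : (↑(LocCoh.puncturedOpen A 𝔞) : Scheme.{u}).Modules, Coh.IsCoh F ∧ Nonempty (Formal.completion I F ≅ G) := by
  obtain ⟨G', hG', ⟨e⟩⟩ := h
  obtain ⟨F', hF', ⟨e1⟩⟩ := key I G' hG'
  haveI : F'.IsQuasicoherent := hF'.1
  obtain ⟨e2⟩ := Groth.Agent.S9536.nonempty_iso_restrict I (LocCoh.puncturedOpen A 𝔞) F'
    (F'.restrict (LocCoh.puncturedOpen A 𝔞).ι) (Iso.refl _)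
  refine ⟨F'.restrict (LocCoh.puncturedOpen A 𝔞).ι, ⟨inferInstance,
    Groth.Agent.Lib.Helper40.QCohSmall.isFiniteType_restrict _ F' hF'.2⟩, ⟨?_⟩⟩
  exact e2 ≪≫ Functor.isoWhiskerRight e1
    (Scheme.Modules.restrictFunctor (LocCoh.puncturedOpen A 𝔞).ι) ≪≫ e

end Groth.Agent.S9535
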