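import Groth.Statements.S9533
import Groth.Agent.S9535
import Groth.Agent.Lib.Helper55.ProSys

set_option autoImplicit false
universe u
open CategoryTheory CategoryTheory.Limits AlgebraicGeometry Opposite
open Algz

namespace Groth.Agent.S9533

open CategoryTheory CategoryTheory.Limits AlgebraicGeometry Opposite
open Groth.Agent.Lib.Helper40 Groth.Agent.Lib.Helper40.FormalUP Groth.Agent.Lib.Helper40.TildeQuot
open Groth.Agent.Lib.Helper55
open Groth.Agent.S9535 (NN trN trN_id trN_comp mem_smul_top_of_sec)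

variable {A : Type u} [CommRing A]

section Lim
variable (S : ℕᵒᵖ ⥤ ModuleCat.{u} A)

theorem lim_ext (x y : ↑(limit S))
    (h : ∀ n, (limit.π S (op n)).hom x = (limit.π S (op n)).hom y) : x = y :=
  Concrete.limit_ext S x y (fun j => h j.unop)

theorem lim_exists (x : ∀ n, S.obj (op n))
    (hx : ∀ n k (h : n ≤ k), (S.map (homOfLE h).op).hom (x k) = x n) :
    ∃ z : ↑(limit S), ∀ n, (limit.π S (op n)).hom z = x n := by
  have hc := limit.isLimit S
  have hc' := isLimitOfPreserves (forget (ModuleCat.{u} A)) hc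
  let e := Types.isLimitEquivSections hc'
  let sec : (S ⋙ forget (ModuleCat.{u} A)).sections := ⟨fun j => x j.unop, by
    intro j j' f
    have := hx j'.unop j.unop (leOfHom f.unop)
    rw [Groth.Agent.S0852.hom_eq f]
    exact this⟩
  refine ⟨e.symm sec, fun n => ?_⟩
  exact Types.isLimitEquivSections_symm_apply hc' sec (op n)

end Lim

section Sys

attribute [local instance 10000] specOver

variable (I : Ideal A) (G' : ℕᵒᵖ ⥤ (Spec (CommRingCat.of A)).Modules)
  (hG' : Formal.IsCohFormal I G')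

include hG' in
theorem trN_surj (m : ℕ) : Function.Surjective (trN G' m (m + 1) (Nat.le_succ m)) := by
  haveI : ∀ m, (G'.obj (op m)).IsQuasicoherent := fun m => (hG'.1 m).1
  haveI : Epi (G'.map (homOfLE (Nat.le_succ m)).op) :=
    Groth.Agent.Lib.Helper55.CohFormal.epi_tr hG' (Nat.le_succ m)
  haveI := Groth.Agent.Lib.Helper55.TildeEpi.epi_Γ_map_of_epi
    (G'.map (homOfLE (Nat.le_succ m)).op)
  exact (ModuleCat.epi_iff_surjective _).mp inferInstance

include hG' in
theorem NN_kill (m : ℕ) (a : A) (ha : a ∈ I ^ (m + 1)) (x : NN G' m) : a • x = 0 := by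
  rw [smul_Γ, hG'.2.1 m a ha]
  rfl

include hG' in
theorem trN_ker (m : ℕ) (x : NN G' (m + 1)) (hx : trN G' m (m + 1) (Nat.le_succ m) x = 0) :
    x ∈ I ^ (m + 1) • (⊤ : Submodule A (NN G' (m + 1))) := by
  haveI : ∀ m, (G'.obj (op m)).IsQuasicoherent := fun m => (hG'.1 m).1
  obtain ⟨h0, hiso⟩ := hG'.2.2 m
  exact mem_smul_top_of_sec G' (m + 1) (I ^ (m + 1)) x
    (Groth.Agent.S0852.ker_le (I ^ (m + 1)) _ h0 hiso (isAffineOpen_top _) x hx)

theorem comp_hom_apply {X Y Z : ModuleCat.{u} A} (f : X ⟶ Y) (g : Y ⟶ Z) (x : X) :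
    (f ≫ g).hom x = g.hom (f.hom x) := rfl

include hG' in
theorem main_aux (S : ℕᵒᵖ ⥤ ModuleCat.{u} A)
    (h2 : Algz.IsProIsomorphic S (G' ⋙ moduleSpecΓFunctor (R := CommRingCat.of A)))
    (hI : I.FG) (k : ℕ) :
    ∃ n : ℕ, LinearMap.ker (limit.π S (op n)).hom ≤ I ^ k • (⊤ : Submodule A ↑(limit S)) := by
  obtain ⟨m, hm, hle, a, hnat, hb⟩ := ProSys.exists_data h2
  cases k with
  | zero =>
    refine ⟨0, fun x _ => ?_⟩
    rw [pow_zero, Ideal.one_eq_top, Submodule.top_smul]
    exact Submodule.mem_top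
  | succ k' =>
    refine ⟨m k', fun x hx => ?_⟩
    rw [LinearMap.mem_ker] at hx
    choose kk hkk b hb1 hb2 using hb
    -- transition maps of `G' ⋙ Γ` are `trN`
    have htrN : ∀ {l j : ℕ} (h : l ≤ j) (y : NN G' j),
        (ARSys.tr (G' ⋙ moduleSpecΓFunctor (R := CommRingCat.of A)) h).hom y = trN G' l j h y :=
      fun _ _ => rfl
    have hπS : ∀ {l j : ℕ} (h : l ≤ j) (z : ↑(limit S)),
        (ARSys.tr S h).hom ((limit.π S (op j)).hom z) = (limit.π S (op l)).hom z := by
      intro l j h z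
      have := limit.w S (homOfLE h).op
      rw [← comp_hom_apply]
      exact congrArg (fun φ => (ModuleCat.Hom.hom φ) z) this
    have htrS : ∀ {i l j : ℕ} (h1 : i ≤ l) (h2 : l ≤ j) (z : S.obj (op j)),
        (ARSys.tr S h1).hom ((ARSys.tr S h2).hom z) = (ARSys.tr S (h1.trans h2)).hom z := by
      intro i l j h1 h2 z
      rw [← comp_hom_apply, ProSys.tr_comp]
    -- key relation
    have P : ∀ (Y : ∀ l, NN G' l) (_ : ∀ l j (h : l ≤ j), trN G' l j h (Y j) = Y l) (n q : ℕ)
        (hq : kk n ≤ q) (z : S.obj (op (m q))), (a q).hom z = Y q →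
        (b n).hom (Y (kk n)) = (ARSys.tr S (hm ((hkk n).trans hq))).hom z := by
      intro Y hY n q hq z hz
      have e1 : Y (kk n) = (a (kk n)).hom ((ARSys.tr S (hm hq)).hom z) := by
        rw [← comp_hom_apply, ← hnat hq, comp_hom_apply, hz, htrN, hY]
      rw [e1, ← comp_hom_apply (a (kk n)) (b n), hb1 n, htrS]
    have E : ∀ (Y : ∀ l, NN G' l) (_ : ∀ l j (h : l ≤ j), trN G' l j h (Y j) = Y l) (q : ℕ),
        (a q).hom ((b q).hom (Y (kk q))) = Y q := by
      intro Y hY q
      rw [← comp_hom_apply, hb2 q, htrN, hY]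
    have W : ∀ (Y : ∀ l, NN G' l) (_ : ∀ l j (h : l ≤ j), trN G' l j h (Y j) = Y l) (n q : ℕ)
        (hq : kk n ≤ q) (z : S.obj (op (m q))), (a q).hom z = Y q →
        (ARSys.tr S (hle n)).hom ((b n).hom (Y (kk n))) =
          (ARSys.tr S ((hle n).trans (hm ((hkk n).trans hq)))).hom z := by
      intro Y hY n q hq z hz
      rw [P Y hY n q hq z hz, htrS]
    -- the compatible family attached to x
    let yf : ∀ l, NN G' l := fun l => (a l).hom ((limit.π S (op (m l))).hom x)
    have hyf : ∀ l j (h : l ≤ j), trN G' l j h (yf j) = yf l := by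
      intro l j h
      change trN G' l j h ((a j).hom ((limit.π S (op (m j))).hom x)) =
        (a l).hom ((limit.π S (op (m l))).hom x)
      rw [← htrN, ← comp_hom_apply, hnat h, comp_hom_apply, hπS]
    have hy0 : yf k' = 0 := by
      change (a k').hom ((limit.π S (op (m k'))).hom x) = 0
      rw [hx, map_zero]
    obtain ⟨r, g, Y, hg, hY, hsum⟩ := AdicSys.exists_decomp I (trN_comp G') (trN_surj I G' hG')
      (NN_kill I G' hG') (trN_ker I G' hG') hI k' yf hyf hy0
    have hψ : ∀ j, ∃ z : ↑(limit S), ∀ n, (limit.π S (op n)).hom z =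
        (ARSys.tr S (hle n)).hom ((b n).hom (Y j (kk n))) := by
      intro j
      apply lim_exists
      intro n n' hnn'
      have hq1 : kk n ≤ max (kk n) (kk n') := le_max_left _ _
      have hq2 : kk n' ≤ max (kk n) (kk n') := le_max_right _ _
      have hz := E (Y j) (hY j) (max (kk n) (kk n'))
      rw [W (Y j) (hY j) n _ hq1 _ hz, W (Y j) (hY j) n' _ hq2 _ hz]
      exact htrS _ _ _
    choose ψ hψ using hψ
    have hx_eq : x = ∑ j, g j • ψ j := by
      apply lim_ext
      intro n
      rw [map_sum]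
      simp only [map_smul, hψ]
      have h3 : ∑ j, g j • Y j (kk n) = yf (kk n) := (hsum (kk n)).symm
      have h4 : ∑ j, g j • (ARSys.tr S (hle n)).hom ((b n).hom (Y j (kk n))) =
          (ARSys.tr S (hle n)).hom ((b n).hom (∑ j, g j • Y j (kk n))) := by
        rw [map_sum, map_sum]
        simp only [map_smul]
      rw [h4, h3]
      change _ = (ARSys.tr S (hle n)).hom ((b n).hom ((a (kk n)).hom
        ((limit.π S (op (m (kk n)))).hom x)))
      rw [← comp_hom_apply (a (kk n)) (b n), hb1 n, hπS, hπS]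
    rw [hx_eq]
    exact Submodule.sum_mem _ (fun j _ => Submodule.smul_mem_smul (hg j) Submodule.mem_top)

end Sys

/-- Let A be a Noetherian ring, I ⊆ 𝔞 ideals, U = Spec A ∖ V(𝔞), (F_n) an object of Coh(U, I O_U), and M
= lim_n H^0(U, F_n). If (F_n) canonically extends to Spec A, then the limit topology of M agrees
with the I-adic one: for every k some kernel of M → H^0(U, F_n) lies inside I^k M. (Each such kernel
contains I^(n+1) M automatically. The other part of (4), that M is finitely generated over the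
completion of A with respect to I, is not stated here.) -/
theorem result (A : Type u) [CommRing A] [IsNoetherianRing A] (I 𝔞 : Ideal A) (hI𝔞 : I ≤ 𝔞)
    (G : ℕᵒᵖ ⥤ (↑(LocCoh.puncturedOpen A 𝔞) : Scheme.{u}).Modules) (hG : Formal.IsCohFormal I G)
    (h : Algz.CanonicallyExtends A I (LocCoh.puncturedOpen A 𝔞) G) (k : ℕ) :
    ∃ n : ℕ, LinearMap.ker (limit.π (Algz.sectMod A (LocCoh.puncturedOpen A 𝔞) G) (op n)).hom ≤
      I ^ k • (⊤ : Submodule A ↑(limit (Algz.sectMod A (LocCoh.puncturedOpen A 𝔞) G))) := by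
  obtain ⟨G', hG', hpro⟩ := h
  have hI : I.FG := IsNoetherian.noetherian I
  have h1 := ProSys.isProIsomorphic_comp (moduleSpecΓFunctor (R := CommRingCat.of A)) hpro
  have e : Algz.sectSys A (LocCoh.puncturedOpen A 𝔞) G ⋙ moduleSpecΓFunctor (R := CommRingCat.of A) ≅
      Algz.sectMod A (LocCoh.puncturedOpen A 𝔞) G :=
    Functor.associator _ _ _ ≪≫
      Functor.isoWhiskerLeft _ (tilde.toTildeΓNatIso (R := CommRingCat.of A)).symm ≪≫
      Functor.rightUnitor _
  have h2 := ProSys.isProIsomorphic_of_iso_left e h1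
  exact main_aux I G' hG' _ h2 hI k

end Groth.Agent.S9533
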