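import Groth.Statements.S9534
import Groth.Agent.Lib.Helper40.AdicPro
import Groth.Agent.S9535
import Groth.Agent.S0835
import Groth.Agent.Lib.Lead.CohAff3

set_option autoImplicit false
universe u
open CategoryTheory CategoryTheory.Limits AlgebraicGeometry Opposite
open Algz

namespace Groth.Agent.S9534

open CategoryTheory CategoryTheory.Limits AlgebraicGeometry Opposite
open Groth.Agent.Lib.Helper40 Groth.Agent.Lib.Helper40.FormalUP Groth.Agent.Lib.Helper40.TildeQuot
open Groth.Agent.Lib.Helper40.AdicPro Groth.Agent.Lib.Helper55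

variable {A : Type u} [CommRing A]

section Main

attribute [local instance 10000] specOver

/-- tilde of a module killed by `a` is killed by `a` -/
theorem smulMod_tilde_eq_zero (Nc : ModuleCat.{u} A) (a : A) (h : ∀ y : Nc, a • y = 0) :
    Formal.smulMod A ((tilde.functor (CommRingCat.of A)).obj Nc) a = 0 := by
  apply ((tilde.adjunction (R := CommRingCat.of A)).homEquiv _ _).injective
  ext y
  have := homEquiv_smul (𝟙 ((tilde.functor (CommRingCat.of A)).obj Nc)) a y
  rw [Category.comp_id] at this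
  rw [← this, h y, map_zero, Adjunction.homEquiv_unit]
  rfl

theorem isCohFormal_Qsys (I : Ideal A) (M : Type u) [AddCommGroup M] [Module A M]
    (hfin : ∀ k, Module.Finite A (M ⧸ (I ^ k • ⊤ : Submodule A M))) :
    Formal.IsCohFormal I (Qsys I M ⋙ tilde.functor (CommRingCat.of A)) := by
  have hkillQ : ∀ n, ∀ a ∈ I ^ (n + 1), ∀ y : M ⧸ (I ^ (n + 1) • ⊤ : Submodule A M), a • y = 0 := by
    intro n a ha y
    obtain ⟨x, rfl⟩ := Submodule.Quotient.mk_surjective _ y
    rw [← Submodule.Quotient.mk_smul, Submodule.Quotient.mk_eq_zero]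
    exact Submodule.smul_mem_smul ha Submodule.mem_top
  refine ⟨fun n => ?_, fun n => ?_, fun n => ?_⟩
  · change Coh.IsCoh ((tilde.functor (CommRingCat.of A)).obj ((Qsys I M).obj (op n)))
    have hq : ((tilde.functor (CommRingCat.of A)).obj ((Qsys I M).obj (op n))).IsQuasicoherent :=
      inferInstanceAs (tilde (R := CommRingCat.of A) ((Qsys I M).obj (op n))).IsQuasicoherent
    refine ⟨hq, ?_⟩
    haveI := hq
    refine Groth.Agent.Lib.Lead.CohAff.isFiniteType_of_finite_sections _ (fun x => ?_)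
    refine ⟨⊤, isAffineOpen_top _, trivial, (finite_Γ_iff _).mp ?_⟩
    haveI : Module.Finite A ↑((𝟭 (ModuleCat.{u} A)).obj ((Qsys I M).obj (op n))) := hfin (n + 1)
    exact Module.Finite.equiv
      ((tilde.toTildeΓNatIso (R := CommRingCat.of A)).app ((Qsys I M).obj (op n))).toLinearEquiv
  · intro a ha
    exact smulMod_tilde_eq_zero _ a (hkillQ n a ha)
  · have hq := isQuot_tilde (I ^ (n + 1)) ((Qsys I M).map (homOfLE (Nat.le_succ n)).op) ?_ ?_
      (hkillQ n)
    · exact ⟨hq.zero, hq.isIso_desc⟩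
    · exact Submodule.factor_surjective (pow_smul_top_le' I M (Nat.le_succ n))
    · intro y hy
      obtain ⟨x, rfl⟩ := Submodule.Quotient.mk_surjective _ y
      rw [LinearMap.mem_ker] at hy
      have hx : x ∈ (I ^ (n + 1) • ⊤ : Submodule A M) :=
        (Submodule.Quotient.mk_eq_zero _).mp hy
      exact AdicSys.map_mem_smul_top (Submodule.mkQ _) (I ^ (n + 1)) x hx

theorem sectMod_kill (I : Ideal A) (U : (Spec (CommRingCat.of A)).Opens)
    (G : ℕᵒᵖ ⥤ (U : Scheme.{u}).Modules) (hG : Formal.IsCohFormal I G) (j : ℕ) (a : A)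
    (ha : a ∈ I ^ (j + 1)) (y : (Algz.sectMod A U G).obj (op j)) : a • y = 0 := by
  have hf : U.ι ≫ ((Spec (CommRingCat.of A)) ↘ Spec (CommRingCat.of A)) =
      (U : Scheme.{u}) ↘ Spec (CommRingCat.of A) := Category.comp_id _
  change a • (show ↑((moduleSpecΓFunctor (R := CommRingCat.of A)).obj
    ((Scheme.Modules.pushforward U.ι).obj (G.obj (op j)))) from y) = 0
  rw [smul_Γ, ← Groth.Agent.S0835.pushforward_smulMod U.ι hf, hG.2.1 j a ha]
  rfl

end Main

/-- Let A be a Noetherian ring, I ⊆ 𝔞 ideals, U = Spec A ∖ V(𝔞), (F_n) an object of Coh(U, I O_U), and M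
= lim_n H^0(U, F_n). Assume (a) the system H^0(U, F_n) is Mittag-Leffler, (b) the limit topology of
M agrees with the I-adic one, i.e. for every k some kernel of M → H^0(U, F_n) lies in I^k M, and (c)
for each n, the A-submodule of H^0(U, F_n) given by the image of M is finitely generated. Then (F_n)
canonically extends to Spec A. (The addendum for I-adically complete A is not restated.) -/
theorem result (A : Type u) [CommRing A] [IsNoetherianRing A] (I 𝔞 : Ideal A) (hI𝔞 : I ≤ 𝔞)
    (G : ℕᵒᵖ ⥤ (↑(LocCoh.puncturedOpen A 𝔞) : Scheme.{u}).Modules) (hG : Formal.IsCohFormal I G)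
    (ha : ARSys.IsML (Algz.sectMod A (LocCoh.puncturedOpen A 𝔞) G))
    (hb : ∀ k : ℕ, ∃ n : ℕ, LinearMap.ker (limit.π (Algz.sectMod A (LocCoh.puncturedOpen A 𝔞) G) (op n)).hom ≤
      I ^ k • (⊤ : Submodule A ↑(limit (Algz.sectMod A (LocCoh.puncturedOpen A 𝔞) G))))
    (hc : ∀ n : ℕ, Module.Finite A ↥(LinearMap.range (limit.π (Algz.sectMod A (LocCoh.puncturedOpen A 𝔞) G) (op n)).hom)) :
    Algz.CanonicallyExtends A I (LocCoh.puncturedOpen A 𝔞) G := by
  have hkill := sectMod_kill I (LocCoh.puncturedOpen A 𝔞) G hG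
  have hpro := proIso_Qsys I (Algz.sectMod A (LocCoh.puncturedOpen A 𝔞) G) hkill ha hb
  have hfin := finite_quot I (Algz.sectMod A (LocCoh.puncturedOpen A 𝔞) G) hb hc
  refine ⟨Qsys I ↑(limit (Algz.sectMod A (LocCoh.puncturedOpen A 𝔞) G)) ⋙
    tilde.functor (CommRingCat.of A), isCohFormal_Qsys I _ hfin, ?_⟩
  exact ProSys.isProIsomorphic_comp (tilde.functor (CommRingCat.of A)) hpro

end Groth.Agent.S9534
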