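import Groth.Statements.S9551
import Groth.Agent.Lib.Helper40.MLLimit
import Groth.Agent.S9531

set_option autoImplicit false
universe u
open CategoryTheory CategoryTheory.Limits AlgebraicGeometry Opposite
open Algz

namespace Groth.Agent.S9551

open CategoryTheory CategoryTheory.Limits AlgebraicGeometry Opposite
open Groth.Agent.Lib.Helper55 Groth.Agent.Lib.Helper40.MLLimit

section Aux
variable {A : Type u} [CommRing A]

theorem epi_aux (U : (Spec (CommRingCat.of A)).Opens) [QuasiCompact U.ι]
    (G : ℕᵒᵖ ⥤ (U : Scheme.{u}).Modules) (hq : ∀ k, (G.obj (op k)).IsQuasicoherent)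
    (n s : ℕ) (hs : n ≤ s) (hepi : Epi (G.map (homOfLE hs).op))
    (hrange : LinearMap.range (trH (Algz.sectMod A U G) hs) ≤
      LinearMap.range (limit.π (Algz.sectMod A U G) (op n)).hom) :
    Epi ((Scheme.Modules.restrictFunctor U.ι).map
      ((tilde.functor (CommRingCat.of A)).map (limit.π (Algz.sectMod A U G) (op n)) ≫
        (tilde.adjunction (R := CommRingCat.of A)).counit.app
          ((Scheme.Modules.pushforward U.ι).obj (G.obj (op n)))) ≫
      (Scheme.Modules.restrictAdjunction U.ι).counit.app (G.obj (op n))) := by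
  haveI hqP : ∀ k, ((Scheme.Modules.pushforward U.ι).obj (G.obj (op k))).IsQuasicoherent :=
    fun k => by
      haveI := hq k
      exact Groth.Agent.Lib.Helper2.KerSec.isQuasicoherent_pushforward_of_qcqs _ _
  have hε : ∀ k, IsIso ((tilde.adjunction (R := CommRingCat.of A)).counit.app
      ((Scheme.Modules.pushforward U.ι).obj (G.obj (op k)))) := fun k =>
    TildeEpi.isIso_counit_app _
  -- the comparison map `κ`
  let κ : ∀ k, (Scheme.Modules.restrictFunctor U.ι).obj ((tilde.functor (CommRingCat.of A)).obj
      ((Algz.sectMod A U G).obj (op k))) ⟶ G.obj (op k) := fun k =>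
    (Scheme.Modules.restrictFunctor U.ι).map ((tilde.adjunction (R := CommRingCat.of A)).counit.app
      ((Scheme.Modules.pushforward U.ι).obj (G.obj (op k)))) ≫
      (Scheme.Modules.restrictAdjunction U.ι).counit.app (G.obj (op k))
  haveI hκ : ∀ k, IsIso (κ k) := fun k => by
    haveI := hε k
    have h1 : IsIso ((Scheme.Modules.restrictFunctor U.ι).map
        ((tilde.adjunction (R := CommRingCat.of A)).counit.app
          ((Scheme.Modules.pushforward U.ι).obj (G.obj (op k))))) := Functor.map_isIso _ _
    have h2 : IsIso ((Scheme.Modules.restrictAdjunction U.ι).counit.app (G.obj (op k))) :=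
      inferInstance
    exact @IsIso.comp_isIso _ _ _ _ _ _ _ h1 h2
  have hnat : (Scheme.Modules.restrictFunctor U.ι).map ((tilde.functor (CommRingCat.of A)).map
      (ARSys.tr (Algz.sectMod A U G) hs)) ≫ κ n = κ s ≫ G.map (homOfLE hs).op := by
    have h1 := (tilde.adjunction (R := CommRingCat.of A)).counit.naturality
      ((Scheme.Modules.pushforward U.ι).map (G.map (homOfLE hs).op))
    have h2 := (Scheme.Modules.restrictAdjunction U.ι).counit.naturality (G.map (homOfLE hs).op)
    change (Scheme.Modules.restrictFunctor U.ι).map ((tilde.functor (CommRingCat.of A)).map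
      ((moduleSpecΓFunctor (R := CommRingCat.of A)).map
        ((Scheme.Modules.pushforward U.ι).map (G.map (homOfLE hs).op)))) ≫
      ((Scheme.Modules.restrictFunctor U.ι).map
        ((tilde.adjunction (R := CommRingCat.of A)).counit.app
          ((Scheme.Modules.pushforward U.ι).obj (G.obj (op n)))) ≫
        (Scheme.Modules.restrictAdjunction U.ι).counit.app (G.obj (op n))) =
      ((Scheme.Modules.restrictFunctor U.ι).map
        ((tilde.adjunction (R := CommRingCat.of A)).counit.app
          ((Scheme.Modules.pushforward U.ι).obj (G.obj (op s)))) ≫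
        (Scheme.Modules.restrictAdjunction U.ι).counit.app (G.obj (op s))) ≫ G.map (homOfLE hs).op
    rw [← Category.assoc, ← CategoryTheory.Functor.map_comp]
    have h1' : (tilde.functor (CommRingCat.of A)).map
        ((moduleSpecΓFunctor (R := CommRingCat.of A)).map
          ((Scheme.Modules.pushforward U.ι).map (G.map (homOfLE hs).op))) ≫
        (tilde.adjunction (R := CommRingCat.of A)).counit.app
          ((Scheme.Modules.pushforward U.ι).obj (G.obj (op n))) =
        (tilde.adjunction (R := CommRingCat.of A)).counit.app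
          ((Scheme.Modules.pushforward U.ι).obj (G.obj (op s))) ≫
          (Scheme.Modules.pushforward U.ι).map (G.map (homOfLE hs).op) := h1
    rw [h1', CategoryTheory.Functor.map_comp, Category.assoc, Category.assoc]
    congr 1
  -- factor through the range
  let Rng : Submodule A ((Algz.sectMod A U G).obj (op n)) :=
    LinearMap.range (limit.π (Algz.sectMod A U G) (op n)).hom
  let π' : limit (Algz.sectMod A U G) ⟶ ModuleCat.of A Rng :=
    ModuleCat.ofHom (LinearMap.rangeRestrict (limit.π (Algz.sectMod A U G) (op n)).hom)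
  let ιR : ModuleCat.of A Rng ⟶ (Algz.sectMod A U G).obj (op n) :=
    ModuleCat.ofHom (X := ↥Rng) (Y := ↑((Algz.sectMod A U G).obj (op n))) Rng.subtype
  let t : (Algz.sectMod A U G).obj (op s) ⟶ ModuleCat.of A Rng :=
    ModuleCat.ofHom (X := ↑((Algz.sectMod A U G).obj (op s))) (Y := ↥Rng)
      (LinearMap.codRestrict Rng (trH (Algz.sectMod A U G) hs) (fun y => hrange ⟨y, rfl⟩))
  have hπ' : π' ≫ ιR = limit.π (Algz.sectMod A U G) (op n) := by
    ext x
    rfl
  have ht : t ≫ ιR = ARSys.tr (Algz.sectMod A U G) hs := by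
    ext x
    rfl
  haveI : Epi π' := (ModuleCat.epi_iff_surjective _).mpr
    (LinearMap.surjective_rangeRestrict _)
  haveI : (tilde.functor (CommRingCat.of A)).IsLeftAdjoint :=
    (tilde.adjunction (R := CommRingCat.of A)).isLeftAdjoint
  haveI : (Scheme.Modules.restrictFunctor U.ι).IsLeftAdjoint :=
    (Scheme.Modules.restrictAdjunction U.ι).isLeftAdjoint
  -- the second factor is epi
  have h2 : Epi ((Scheme.Modules.restrictFunctor U.ι).map
      ((tilde.functor (CommRingCat.of A)).map ιR) ≫ κ n) := by
    have h3 : Epi ((Scheme.Modules.restrictFunctor U.ι).map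
        ((tilde.functor (CommRingCat.of A)).map t) ≫
        ((Scheme.Modules.restrictFunctor U.ι).map
          ((tilde.functor (CommRingCat.of A)).map ιR) ≫ κ n)) := by
      rw [← Category.assoc, ← CategoryTheory.Functor.map_comp, ← CategoryTheory.Functor.map_comp,
        ht, hnat]
      exact epi_comp _ _
    exact epi_of_epi ((Scheme.Modules.restrictFunctor U.ι).map
        ((tilde.functor (CommRingCat.of A)).map t)) _
  have h4 : (Scheme.Modules.restrictFunctor U.ι).map
      ((tilde.functor (CommRingCat.of A)).map (limit.π (Algz.sectMod A U G) (op n)) ≫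
        (tilde.adjunction (R := CommRingCat.of A)).counit.app
          ((Scheme.Modules.pushforward U.ι).obj (G.obj (op n)))) ≫
      (Scheme.Modules.restrictAdjunction U.ι).counit.app (G.obj (op n)) =
      (Scheme.Modules.restrictFunctor U.ι).map ((tilde.functor (CommRingCat.of A)).map π') ≫
        ((Scheme.Modules.restrictFunctor U.ι).map
          ((tilde.functor (CommRingCat.of A)).map ιR) ≫ κ n) := by
    rw [← hπ', CategoryTheory.Functor.map_comp, CategoryTheory.Functor.map_comp,
      CategoryTheory.Functor.map_comp, Category.assoc, Category.assoc]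
  rw [h4]
  haveI := h2
  exact epi_comp _ _

end Aux

/-- Let A be a Noetherian ring, I ⊆ 𝔞 ideals, U = Spec A ∖ V(𝔞) with inclusion j, (F_n) an object of
Coh(U, I O_U) and M = lim_n H^0(U, F_n). If the system H^0(U, F_n) is Mittag-Leffler, then for every
n the canonical map from M~|_U to F_n, adjoint (under the tilde and restriction adjunctions) to the
projection M → H^0(U, F_n) = Γ(Spec A, j_*F_n), is an epimorphism. (The source states surjectivity
of (M/I^nM)~|_U → F_n; the map from M~|_U factors through it after the epimorphism M~ → (M/I^nM)~,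
so the two surjectivity statements are equivalent.) -/
theorem result (A : Type u) [CommRing A] [IsNoetherianRing A] (I 𝔞 : Ideal A) (hI𝔞 : I ≤ 𝔞)
    (G : ℕᵒᵖ ⥤ (↑(LocCoh.puncturedOpen A 𝔞) : Scheme.{u}).Modules) (hG : Formal.IsCohFormal I G)
    (ha : ARSys.IsML (Algz.sectMod A (LocCoh.puncturedOpen A 𝔞) G)) (n : ℕ) :
    Epi (((Scheme.Modules.restrictAdjunction (LocCoh.puncturedOpen A 𝔞).ι).homEquiv _ (G.obj (op n))).symm
      (((tilde.adjunction (R := CommRingCat.of A)).homEquiv (limit (Algz.sectMod A (LocCoh.puncturedOpen A 𝔞) G))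
        ((Scheme.Modules.pushforward (LocCoh.puncturedOpen A 𝔞).ι).obj (G.obj (op n)))).symm
          (limit.π (Algz.sectMod A (LocCoh.puncturedOpen A 𝔞) G) (op n)))) := by
  have hUc : IsCompact ((LocCoh.puncturedOpen A 𝔞 : (Spec (CommRingCat.of A)).Opens) :
      Set (Spec (CommRingCat.of A))) :=
    TopologicalSpace.NoetherianSpace.isCompact _
  haveI := Groth.Agent.S9831.quasiCompact_ι (LocCoh.puncturedOpen A 𝔞) hUc
  haveI hqG : ∀ k, (G.obj (op k)).IsQuasicoherent := fun k => (hG.1 k).1
  haveI hqP : ∀ k, ((Scheme.Modules.pushforward (LocCoh.puncturedOpen A 𝔞).ι).obj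
      (G.obj (op k))).IsQuasicoherent := fun k =>
    Groth.Agent.Lib.Helper2.KerSec.isQuasicoherent_pushforward_of_qcqs _ _
  have hε : ∀ k, IsIso ((Scheme.Modules.fromTildeΓNatTrans (R := CommRingCat.of A)).app
      ((Scheme.Modules.pushforward (LocCoh.puncturedOpen A 𝔞).ι).obj (G.obj (op k)))) := fun k =>
    TildeEpi.isIso_counit_app _
  rw [Adjunction.homEquiv_counit, Adjunction.homEquiv_counit]
  obtain ⟨s, hs, hrange⟩ := exists_range_le_range_π
    (Algz.sectMod A (LocCoh.puncturedOpen A 𝔞) G) ha n
  exact epi_aux (LocCoh.puncturedOpen A 𝔞) G hqG n s hs (CohFormal.epi_tr hG hs) hrange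

end Groth.Agent.S9551
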