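import Groth.Statements.S9552
import Groth.Agent.Lib.Helper55.CohFormal
import Mathlib

set_option autoImplicit false
universe u
open CategoryTheory CategoryTheory.Limits AlgebraicGeometry Opposite
open Algz

namespace Groth.Agent.S9552

section
open CategoryTheory CategoryTheory.Limits AlgebraicGeometry Opposite
open Groth.Agent.Lib.Helper55.CohFormal

variable {A : Type u} [CommRing A] {X : Scheme.{u}} [X.Over (Spec (CommRingCat.of A))]

lemma hom_sub {a b : ℕᵒᵖ} (f g : a ⟶ b) : f = g := by
  apply Quiver.Hom.unop_inj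
  apply Subsingleton.elim

lemma tr_comp (F : ℕᵒᵖ ⥤ X.Modules) {n k l : ℕ} (h1 : n ≤ k) (h2 : k ≤ l) :
    F.map (homOfLE h2).op ≫ F.map (homOfLE h1).op = F.map (homOfLE (h1.trans h2)).op := by
  rw [← F.map_comp]
  exact congrArg F.map (hom_sub _ _)

theorem main (I : Ideal A) (F G : ℕᵒᵖ ⥤ X.Modules) (hF : Formal.IsCohFormal I F)
    (hG : Formal.IsCohFormal I G) (h : Algz.IsProIsomorphic F G) : Nonempty (F ≅ G) := by
  obtain ⟨m, hm, hle, a, ha⟩ := h
  obtain ⟨a', ha'⟩ : ∃ a' : ∀ n : ℕ, F.obj (op (m n)) ⟶ G.obj (op n), ∀ n, a' n = a.app (op n) :=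
    ⟨fun n => a.app (op n), fun _ => rfl⟩
  have anat : ∀ {n k : ℕ} (h : n ≤ k), F.map (homOfLE (hm h)).op ≫ a' n =
      a' k ≫ G.map (homOfLE h).op := by
    intro n k h
    rw [ha', ha']
    exact a.naturality (homOfLE h).op
  have hb : ∀ n : ℕ, ∃ (k : ℕ) (hk : n ≤ k) (b : G.obj (op k) ⟶ F.obj (op (m n))),
      a' k ≫ b = F.map (homOfLE (hm hk)).op ∧ b ≫ a' n = G.map (homOfLE hk).op := by
    intro n
    obtain ⟨k, hk, b, hb1, hb2⟩ := ha n
    refine ⟨k, hk, b, ?_, ?_⟩
    · rw [ha']
      exact hb1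
    · rw [ha']
      exact hb2
  choose α hα using fun n => exists_factor hF (hle n) (hG.2.1 n) (a' n)
  have αnat : ∀ {n k : ℕ} (h : n ≤ k), F.map (homOfLE h).op ≫ α n = α k ≫ G.map (homOfLE h).op := by
    intro n k h
    have := epi_tr hF (hle k)
    rw [← cancel_epi (F.map (homOfLE (hle k)).op)]
    rw [← Category.assoc, tr_comp, ← Category.assoc, hα k, ← anat h, ← hα n, ← Category.assoc,
      tr_comp]
  have αiso : ∀ n, IsIso (α n) := by
    intro n
    obtain ⟨k, hk, b, hb1, hb2⟩ := hb n
    obtain ⟨β, hβ⟩ := exists_factor hG hk (hF.2.1 n) (b ≫ F.map (homOfLE (hle n)).op)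
    have hepi : Epi (α n) := by
      have h1 : Epi (G.map (homOfLE hk).op) := epi_tr hG hk
      have h2 : Epi (b ≫ a' n) := by rw [hb2]; exact h1
      have h3 : Epi (a' n) := epi_of_epi b _
      rw [← hα n] at h3
      exact epi_of_epi (F.map (homOfLE (hle n)).op) _
    have hsplit : α n ≫ β = 𝟙 _ := by
      have := epi_tr hF ((hle n).trans (hm hk))
      rw [← cancel_epi (F.map (homOfLE ((hle n).trans (hm hk))).op)]
      rw [Category.comp_id, ← tr_comp F (hle n) (hm hk), Category.assoc,
        ← Category.assoc (F.map (homOfLE (hle n)).op) (α n), hα n, ← Category.assoc, anat hk,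
        Category.assoc, hβ, ← Category.assoc, hb1]
    exact ⟨β, hsplit, by
      rw [← cancel_epi (α n), ← Category.assoc, hsplit, Category.id_comp, Category.comp_id]⟩
  refine ⟨NatIso.ofComponents (fun x => @asIso _ _ _ _ (α x.unop) (αiso x.unop)) ?_⟩
  intro x y f
  have hf : f = (homOfLE (leOfHom f.unop)).op := hom_sub _ _
  rw [hf]
  exact αnat _

end

/-- For the ideal sheaf I O_X of an ideal I of a base ring A and a Noetherian scheme X over Spec A, two
objects of Coh(X, I O_X) which are pro-isomorphic are isomorphic as inverse systems (existence of an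
isomorphism; positions shifted by one). -/
theorem result (A : Type u) [CommRing A] (I : Ideal A) (X : Scheme.{u})
    [X.Over (Spec (CommRingCat.of A))] [IsNoetherian X] (F G : ℕᵒᵖ ⥤ X.Modules)
    (hF : Formal.IsCohFormal I F) (hG : Formal.IsCohFormal I G) (h : Algz.IsProIsomorphic F G) :
    Nonempty (F ≅ G) := by
  exact Groth.Agent.S9552.main I F G hF hG h

end Groth.Agent.S9552
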