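import Groth.Statements.S9553
import Groth.Agent.S9551
import Groth.Agent.S9498
import Groth.Agent.Lib.Helper21.CohNoeth
import Groth.Agent.Lib.Helper40.QCohLim
import Groth.Agent.Lib.Helper40.AdicPro

set_option autoImplicit false
universe u
open CategoryTheory CategoryTheory.Limits AlgebraicGeometry Opposite
open Algz

namespace Groth.Agent.S9553

open CategoryTheory CategoryTheory.Limits AlgebraicGeometry Opposite
open Groth.Agent.Lib.Helper55 Groth.Agent.Lib.Helper40.MLLimit Groth.Agent.Lib.Helper40.AdicPro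

section Aux
variable {A : Type u} [CommRing A]

theorem app_comp_apply {X : Scheme.{u}} {M N K : X.Modules} (φ : M ⟶ N) (ψ : N ⟶ K) (V : X.Opens)
    (z : (Scheme.Modules.presheaf M).obj (op V)) :
    Scheme.Modules.Hom.app (φ ≫ ψ) V z =
      Scheme.Modules.Hom.app ψ V (Scheme.Modules.Hom.app φ V z) := rfl

theorem trans_eq (I : Ideal A) (M : Type u) [AddCommGroup M] [Module A M] (n : ℕ) :
    ModuleCat.ofHom (Formal2.quotPowTrans A I M n) = ARSys.tr (Qsys I M) (Nat.le_succ n) := by
  apply ModuleCat.hom_ext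
  apply Submodule.linearMap_qext
  apply LinearMap.ext
  intro m
  change (Formal2.quotPowTrans A I M n) (Submodule.Quotient.mk m) =
    (ARSys.tr (Qsys I M) (Nat.le_succ n)).hom (Submodule.Quotient.mk m)
  rw [Qsys_tr_mk]
  unfold Formal2.quotPowTrans
  rw [Submodule.mapQ_apply]
  rfl

theorem compat (I : Ideal A) (M : Type u) [AddCommGroup M] [Module A M]
    (V : (Spec (CommRingCat.of A)).Opens)
    (x : ∀ n, (Scheme.Modules.presheaf (Formal2.tmod A (Formal2.quotPow A I M n))).obj (op V))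
    (hx : ∀ n, Scheme.Modules.Hom.app (Formal2.tmodMap A (Formal2.quotPowTrans A I M n)) V
      (x (n + 1)) = x n)
    (n s : ℕ) (h : n ≤ s) :
    Scheme.Modules.Hom.app (tilde.map (R := CommRingCat.of A) (ARSys.tr (Qsys I M) h)) V (x s) =
      x n := by
  induction s, h using Nat.le_induction with
  | base =>
    rw [ProSys.tr_refl, tilde.map_id]
    rfl
  | succ s h ih =>
    have h1 : ARSys.tr (Qsys I M) (h.trans (Nat.le_succ s)) =
        ARSys.tr (Qsys I M) (Nat.le_succ s) ≫ ARSys.tr (Qsys I M) h :=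
      (ProSys.tr_comp (Qsys I M) h (Nat.le_succ s)).symm
    rw [h1, tilde.map_comp, app_comp_apply, ← trans_eq]
    exact (congrArg _ (hx s)).trans ih

theorem vanish_of_factor {R : CommRingCat.{u}} {Q H Q' : ModuleCat.{u} R} (l : Q ⟶ H) (T : Q ⟶ Q')
    (hle : LinearMap.ker l.hom ≤ LinearMap.ker T.hom) (V : (Spec R).Opens)
    (z : (Scheme.Modules.presheaf (tilde Q)).obj (op V))
    (hz : Scheme.Modules.Hom.app (tilde.map l) V z = 0) :
    Scheme.Modules.Hom.app (tilde.map T) V z = 0 := by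
  let K : Submodule R Q := LinearMap.ker l.hom
  let p : Q ⟶ ModuleCat.of R (Q ⧸ K) := ModuleCat.ofHom K.mkQ
  let i : ModuleCat.of R (Q ⧸ K) ⟶ H := ModuleCat.ofHom (K.liftQ l.hom le_rfl)
  let r : ModuleCat.of R (Q ⧸ K) ⟶ Q' := ModuleCat.ofHom (K.liftQ T.hom hle)
  have hpi : p ≫ i = l := by
    apply ModuleCat.hom_ext
    exact Submodule.liftQ_mkQ K l.hom le_rfl
  have hpr : p ≫ r = T := by
    apply ModuleCat.hom_ext
    exact Submodule.liftQ_mkQ K _ hle
  have hi : Function.Injective i.hom := by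
    rw [← LinearMap.ker_eq_bot]
    exact Submodule.ker_liftQ_eq_bot _ _ _ le_rfl
  haveI : Mono (tilde.map i) := Groth.Agent.S9498.mono_tilde_map i hi
  have h2 : Scheme.Modules.Hom.app (tilde.map p) V z = 0 := by
    rw [← hpi, tilde.map_comp] at hz
    exact Groth.Agent.Lib.Helper40.QCohLim.app_injective_of_mono
      (tilde.map i) V (hz.trans (map_zero _).symm)
  rw [← hpr, tilde.map_comp, app_comp_apply, h2, map_zero]

theorem app_tilde_map_eq_zero {R : CommRingCat.{u}} {Q : ModuleCat.{u} R} (N : (Spec R).Modules)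
    [N.IsQuasicoherent] (l : Q ⟶ (moduleSpecΓFunctor (R := R)).obj N) (V : (Spec R).Opens)
    (z : (Scheme.Modules.presheaf (tilde Q)).obj (op V))
    (hz : Scheme.Modules.Hom.app (((tilde.adjunction (R := R)).homEquiv Q N).symm l) V z = 0) :
    Scheme.Modules.Hom.app (tilde.map l) V z = 0 := by
  haveI hε : IsIso ((tilde.adjunction (R := R)).counit.app N) := TildeEpi.isIso_counit_app _
  rw [Adjunction.homEquiv_counit] at hz
  exact Groth.Agent.Lib.Helper40.QCohLim.app_injective_of_mono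
    ((tilde.adjunction (R := R)).counit.app N) V (hz.trans (map_zero _).symm)

theorem partii (I : Ideal A) (U : (Spec (CommRingCat.of A)).Opens) [QuasiCompact U.ι]
    (G : ℕᵒᵖ ⥤ (U : Scheme.{u}).Modules) (hq : ∀ k, (G.obj (op k)).IsQuasicoherent)
    (hb : ∀ k : ℕ, ∃ n : ℕ, LinearMap.ker (limit.π (Algz.sectMod A U G) (op n)).hom ≤
      I ^ k • (⊤ : Submodule A ↑(limit (Algz.sectMod A U G))))
    (ℓ : ∀ n : ℕ, ModuleCat.of A (Formal2.quotPow A I ↑(limit (Algz.sectMod A U G)) n) ⟶
      (Algz.sectMod A U G).obj (op n))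
    (hℓ : ∀ n : ℕ, ModuleCat.ofHom (Formal2.quotPowπ A I ↑(limit (Algz.sectMod A U G)) n) ≫ ℓ n =
      limit.π (Algz.sectMod A U G) (op n))
    (V : (Spec (CommRingCat.of A)).Opens)
    (x : ∀ n, (Scheme.Modules.presheaf (Formal2.tmod A
      (Formal2.quotPow A I ↑(limit (Algz.sectMod A U G)) n))).obj (op V))
    (hx : ∀ n, Scheme.Modules.Hom.app (Formal2.tmodMap A
      (Formal2.quotPowTrans A I ↑(limit (Algz.sectMod A U G)) n)) V (x (n + 1)) = x n)
    (h0 : ∀ n, Scheme.Modules.Hom.app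
        (((tilde.adjunction (R := CommRingCat.of A)).homEquiv
          (ModuleCat.of A (Formal2.quotPow A I ↑(limit (Algz.sectMod A U G)) n))
          ((Scheme.Modules.pushforward U.ι).obj (G.obj (op n)))).symm (ℓ n)) V (x n) = 0) :
    ∀ n, x n = 0 := by
  intro n
  obtain ⟨n', hn'⟩ := hb (n + 1)
  have hns : n ≤ max n n' := le_max_left _ _
  have hn's : n' ≤ max n n' := le_max_right _ _
  generalize max n n' = s at hns hn's
  have hker : LinearMap.ker (limit.π (Algz.sectMod A U G) (op s)).hom ≤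
      I ^ (n + 1) • (⊤ : Submodule A ↑(limit (Algz.sectMod A U G))) := by
    intro z hz
    apply hn'
    rw [LinearMap.mem_ker] at hz ⊢
    rw [← trH_π (Algz.sectMod A U G) hn's z, hz, map_zero]
  rw [← compat I _ V x hx n s hns]
  haveI : ((Scheme.Modules.pushforward U.ι).obj (G.obj (op s))).IsQuasicoherent := by
    haveI := hq s
    exact Groth.Agent.Lib.Helper2.KerSec.isQuasicoherent_pushforward_of_qcqs _ _
  have h := h0 s
  have h1 : Scheme.Modules.Hom.app (tilde.map (R := CommRingCat.of A) (ℓ s)) V (x s) = 0 := by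
    exact app_tilde_map_eq_zero (R := CommRingCat.of A) (Q := ModuleCat.of A (Formal2.quotPow A I ↑(limit (Algz.sectMod A U G)) s)) ((Scheme.Modules.pushforward U.ι).obj (G.obj (op s))) (ℓ s) V (x s) h
  have hle : LinearMap.ker (ℓ s).hom ≤
      LinearMap.ker (ARSys.tr (Qsys I ↑(limit (Algz.sectMod A U G))) hns).hom := by
    intro q hq'
    obtain ⟨m, rfl⟩ := Submodule.Quotient.mk_surjective _ q
    have hq2 : (ℓ s).hom (Submodule.Quotient.mk m) = 0 := hq'
    have h4 : (limit.π (Algz.sectMod A U G) (op s)).hom m = 0 := by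
      rw [← hℓ s]
      exact hq2
    have h5 := hker h4
    have h6 := Qsys_tr_mk I ↑(limit (Algz.sectMod A U G)) hns m
    exact h6.trans ((Submodule.Quotient.mk_eq_zero _).mpr h5)
  have h3 : Scheme.Modules.Hom.app (tilde.map (R := CommRingCat.of A)
      (ARSys.tr (Qsys I ↑(limit (Algz.sectMod A U G))) hns)) V (x s) = 0 := by
    exact vanish_of_factor (R := CommRingCat.of A)
      (Q := ModuleCat.of A (Formal2.quotPow A I ↑(limit (Algz.sectMod A U G)) s))
      (ℓ s) (ARSys.tr (Qsys I ↑(limit (Algz.sectMod A U G))) hns) hle V (x s) h1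
  exact h3

theorem isCoh_restrict_of_subquot {R : CommRingCat.{u}} (U : (Spec R).Opens)
    [IsLocallyNoetherian (U : Scheme.{u})]
    {P H Q : ModuleCat.{u} R} (i : P ⟶ H) (hi : Function.Injective i.hom) (p : P ⟶ Q)
    (hp : Function.Surjective p.hom)
    (F : (U : Scheme.{u}).Modules) (hF : Coh.IsCoh F)
    (κ : (Scheme.Modules.restrictFunctor U.ι).obj (tilde H) ≅ F) :
    Coh.IsCoh ((Scheme.Modules.restrictFunctor U.ι).obj (tilde Q)) := by
  haveI hqP : ((Scheme.Modules.restrictFunctor U.ι).obj (tilde P)).IsQuasicoherent :=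
    inferInstanceAs ((tilde P).restrict U.ι).IsQuasicoherent
  haveI hqQ : ((Scheme.Modules.restrictFunctor U.ι).obj (tilde Q)).IsQuasicoherent :=
    inferInstanceAs ((tilde Q).restrict U.ι).IsQuasicoherent
  haveI hqF : F.IsQuasicoherent := hF.1
  haveI : Mono (tilde.map i) := Groth.Agent.S9498.mono_tilde_map i hi
  haveI : Mono ((Scheme.Modules.restrictFunctor U.ι).map (tilde.map i)) := inferInstance
  haveI : Mono ((Scheme.Modules.restrictFunctor U.ι).map (tilde.map i) ≫ κ.hom) := mono_comp _ _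
  have hftP := Groth.Agent.Lib.Helper21.CohNoeth.isFiniteType_of_mono
    ((Scheme.Modules.restrictFunctor U.ι).map (tilde.map i) ≫ κ.hom) hF.2
  haveI : Epi p := (ModuleCat.epi_iff_surjective _).mpr hp
  haveI : (tilde.functor R).IsLeftAdjoint := (tilde.adjunction (R := R)).isLeftAdjoint
  haveI : (Scheme.Modules.restrictFunctor U.ι).IsLeftAdjoint :=
    (Scheme.Modules.restrictAdjunction U.ι).isLeftAdjoint
  haveI h1 : Epi ((tilde.functor R).map p) := inferInstance
  haveI h2 : (Scheme.Modules.restrictFunctor U.ι).PreservesEpimorphisms := inferInstance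
  let e : (Scheme.Modules.restrictFunctor U.ι).obj (tilde P) ⟶
      (Scheme.Modules.restrictFunctor U.ι).obj (tilde Q) :=
    (Scheme.Modules.restrictFunctor U.ι).map (tilde.map p)
  have he : Epi e :=
    @Functor.map_epi _ _ _ _ (Scheme.Modules.restrictFunctor U.ι) h2 _ _ ((tilde.functor R).map p) h1
  exact ⟨hqQ, @Groth.Agent.Lib.Helper21.CohNoeth.isFiniteType_of_epi _ _ _ e he hqP hqQ hftP⟩

theorem parti (I : Ideal A) (U : (Spec (CommRingCat.of A)).Opens) [QuasiCompact U.ι]
    [IsLocallyNoetherian (U : Scheme.{u})]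
    (G : ℕᵒᵖ ⥤ (U : Scheme.{u}).Modules) (hG : ∀ k, Coh.IsCoh (G.obj (op k)))
    (hb : ∀ k : ℕ, ∃ n : ℕ, LinearMap.ker (limit.π (Algz.sectMod A U G) (op n)).hom ≤
      I ^ k • (⊤ : Submodule A ↑(limit (Algz.sectMod A U G)))) (n : ℕ) :
    Coh.IsCoh ((Scheme.Modules.restrictFunctor U.ι).obj
      (Formal2.tmod A (Formal2.quotPow A I ↑(limit (Algz.sectMod A U G)) n))) := by
  obtain ⟨n', hn'⟩ := hb (n + 1)
  let K : Submodule A ↑(limit (Algz.sectMod A U G)) :=
    LinearMap.ker (limit.π (Algz.sectMod A U G) (op n')).hom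
  let i : ModuleCat.of A (↑(limit (Algz.sectMod A U G)) ⧸ K) ⟶ (Algz.sectMod A U G).obj (op n') :=
    ModuleCat.ofHom (X := ↑(limit (Algz.sectMod A U G)) ⧸ K)
      (Y := ↑((Algz.sectMod A U G).obj (op n')))
      (K.liftQ (limit.π (Algz.sectMod A U G) (op n')).hom le_rfl)
  have hi : Function.Injective i.hom := by
    rw [← LinearMap.ker_eq_bot]
    exact Submodule.ker_liftQ_eq_bot _ _ _ le_rfl
  let p : ModuleCat.of A (↑(limit (Algz.sectMod A U G)) ⧸ K) ⟶
      ModuleCat.of A (Formal2.quotPow A I ↑(limit (Algz.sectMod A U G)) n) :=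
    ModuleCat.ofHom (Submodule.factor hn')
  have hp : Function.Surjective p.hom := Submodule.factor_surjective hn'
  haveI hqG : (G.obj (op n')).IsQuasicoherent := (hG n').1
  haveI hqP : ((Scheme.Modules.pushforward U.ι).obj (G.obj (op n'))).IsQuasicoherent :=
    Groth.Agent.Lib.Helper2.KerSec.isQuasicoherent_pushforward_of_qcqs _ _
  have hε : IsIso ((tilde.adjunction (R := CommRingCat.of A)).counit.app
      ((Scheme.Modules.pushforward U.ι).obj (G.obj (op n')))) := TildeEpi.isIso_counit_app _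
  have h2 : IsIso ((Scheme.Modules.restrictAdjunction U.ι).counit.app (G.obj (op n'))) :=
    inferInstance
  let κ : (Scheme.Modules.restrictFunctor U.ι).obj
      (tilde (R := CommRingCat.of A) ((Algz.sectMod A U G).obj (op n'))) ≅ G.obj (op n') :=
    (Scheme.Modules.restrictFunctor U.ι).mapIso
      (@asIso _ _ _ _ ((tilde.adjunction (R := CommRingCat.of A)).counit.app
        ((Scheme.Modules.pushforward U.ι).obj (G.obj (op n')))) hε) ≪≫
      @asIso _ _ _ _ ((Scheme.Modules.restrictAdjunction U.ι).counit.app (G.obj (op n'))) h2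
  exact isCoh_restrict_of_subquot (R := CommRingCat.of A) U
    (P := ModuleCat.of A (↑(limit (Algz.sectMod A U G)) ⧸ K))
    (H := (Algz.sectMod A U G).obj (op n'))
    (Q := ModuleCat.of A (Formal2.quotPow A I ↑(limit (Algz.sectMod A U G)) n))
    i hi p hp (G.obj (op n')) (hG n') κ

end Aux

/-- Let A be a Noetherian ring, I ⊆ 𝔞 ideals, U = Spec A ∖ V(𝔞) with inclusion j, (F_n) an object of
Coh(U, I O_U), M = lim_n H^0(U, F_n) and G_n = (M/I^(n+1)M)~ (positions shifted by one). Assume the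
limit topology of M agrees with the I-adic one: for every k some kernel of M → H^0(U, F_n) lies in
I^k M. Let ℓ_n : M/I^(n+1)M → H^0(U, F_n) = Γ(Spec A, j_*F_n) be the factorisations of the
projections (they exist since F_n is killed by I^(n+1); they are pinned here by that property) and
G_n → j_*F_n the adjoint maps. Then (i) each G_n|_U is coherent, and (ii) the resulting morphism
(G_n|_U) → (F_n) of inverse systems is a monomorphism in Coh(U, I O_U) (an abelian category), in the
form the printed proof establishes: for every f ∈ 𝔞, a family of sections of the G_n over D(f),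
compatible under the transition maps, whose images in the Γ(D(f), j_*F_n) = Γ(D(f) ∩ U, F_n) all
vanish, is zero. -/
theorem result (A : Type u) [CommRing A] [IsNoetherianRing A] (I 𝔞 : Ideal A) (hI𝔞 : I ≤ 𝔞)
    (G : ℕᵒᵖ ⥤ (↑(LocCoh.puncturedOpen A 𝔞) : Scheme.{u}).Modules) (hG : Formal.IsCohFormal I G)
    (hb : ∀ k : ℕ, ∃ n : ℕ, LinearMap.ker (limit.π (Algz.sectMod A (LocCoh.puncturedOpen A 𝔞) G) (op n)).hom ≤
      I ^ k • (⊤ : Submodule A ↑(limit (Algz.sectMod A (LocCoh.puncturedOpen A 𝔞) G))))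
    (ℓ : ∀ n : ℕ, ModuleCat.of A (Formal2.quotPow A I ↑(limit (Algz.sectMod A (LocCoh.puncturedOpen A 𝔞) G)) n) ⟶ (Algz.sectMod A (LocCoh.puncturedOpen A 𝔞) G).obj (op n))
    (hℓ : ∀ n : ℕ, ModuleCat.ofHom (Formal2.quotPowπ A I ↑(limit (Algz.sectMod A (LocCoh.puncturedOpen A 𝔞) G)) n) ≫ ℓ n = limit.π (Algz.sectMod A (LocCoh.puncturedOpen A 𝔞) G) (op n)) :
    (∀ n : ℕ, Coh.IsCoh ((Scheme.Modules.restrictFunctor (LocCoh.puncturedOpen A 𝔞).ι).obj (Formal2.tmod A (Formal2.quotPow A I ↑(limit (Algz.sectMod A (LocCoh.puncturedOpen A 𝔞) G)) n)))) ∧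
    ∀ (f : A), f ∈ 𝔞 →
      ∀ x : (∀ n : ℕ, (Scheme.Modules.presheaf (Formal2.tmod A (Formal2.quotPow A I ↑(limit (Algz.sectMod A (LocCoh.puncturedOpen A 𝔞) G)) n))).obj (op (PrimeSpectrum.basicOpen f : (Spec (CommRingCat.of A)).Opens))),
        (∀ n : ℕ, Scheme.Modules.Hom.app (Formal2.tmodMap A (Formal2.quotPowTrans A I ↑(limit (Algz.sectMod A (LocCoh.puncturedOpen A 𝔞) G)) n)) (PrimeSpectrum.basicOpen f : (Spec (CommRingCat.of A)).Opens) (x (n + 1)) = x n) →
        (∀ n : ℕ, Scheme.Modules.Hom.app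
            (((tilde.adjunction (R := CommRingCat.of A)).homEquiv (ModuleCat.of A (Formal2.quotPow A I ↑(limit (Algz.sectMod A (LocCoh.puncturedOpen A 𝔞) G)) n))
              ((Scheme.Modules.pushforward (LocCoh.puncturedOpen A 𝔞).ι).obj (G.obj (op n)))).symm (ℓ n))
            (PrimeSpectrum.basicOpen f : (Spec (CommRingCat.of A)).Opens) (x n) = 0) →
        ∀ n : ℕ, x n = 0 := by
  have hUc : IsCompact ((LocCoh.puncturedOpen A 𝔞 : (Spec (CommRingCat.of A)).Opens) :
      Set (Spec (CommRingCat.of A))) :=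
    TopologicalSpace.NoetherianSpace.isCompact _
  haveI := Groth.Agent.S9831.quasiCompact_ι (LocCoh.puncturedOpen A 𝔞) hUc
  haveI : IsNoetherianRing ↑(CommRingCat.of A) := ‹IsNoetherianRing A›
  haveI : IsLocallyNoetherian (Spec (CommRingCat.of A)) := inferInstance
  haveI : IsLocallyNoetherian ((LocCoh.puncturedOpen A 𝔞 : (Spec (CommRingCat.of A)).Opens) :
      Scheme.{u}) := inferInstance
  refine ⟨fun n => parti I (LocCoh.puncturedOpen A 𝔞) G hG.1 hb n, ?_⟩
  intro f _ x hx h0
  exact partii I (LocCoh.puncturedOpen A 𝔞) G (fun k => (hG.1 k).1) hb ℓ hℓ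
    (PrimeSpectrum.basicOpen f) x hx h0

end Groth.Agent.S9553
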