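import Groth.Statements.S9556
import Groth.Agent.Lib.Helper57.EtUnr4

set_option autoImplicit false
universe u
open EtLocal

namespace Groth.Agent.S9556

open AlgebraicGeometry CategoryTheory Limits Groth.Agent.Lib.Helper57.EtQF in
/-- Decomposition from a disjoint system of pieces in the separated case. -/
theorem decomposition {X S : Scheme.{u}} (f : X ⟶ S) [IsSeparated f]
    {ι : Type} (x : ι → ↑X) {U : Scheme.{u}} (g : U ⟶ S) (u : U) {K : Type} [Finite K]
    {lab : K → ι} (Sy : System f x g u K lab True) :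
    ∃ (W : (pullback f g).Opens),
        W ⊔ (⨆ k, (Sy.P k).opens) = ⊤ ∧ (∀ k, Disjoint W (Sy.P k).opens) ∧
        (∀ k k', k ≠ k' → Disjoint (Sy.P k).opens (Sy.P k').opens) ∧
        (∀ (w : ↑(pullback f g)) (i : ι), w ∈ W → pullback.snd f g w = u →
          pullback.fst f g w ≠ x i) := by
  classical
  have hclosed : ∀ k, IsClosed ((Sy.P k).opens : Set ↑(pullback f g)) := by
    intro k
    have : IsFinite (Sy.P k).j := .of_comp _ (pullback.snd f g)
    exact (Sy.P k).j.isClosedMap.isClosed_range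
  let W : (pullback f g).Opens := ⟨(⋃ k, ((Sy.P k).opens : Set ↑(pullback f g)))ᶜ,
    (isClosed_iUnion_of_finite hclosed).isOpen_compl⟩
  have hW : ∀ w, w ∈ W ↔ ∀ k, w ∉ (Sy.P k).opens := by
    intro w
    show w ∈ (⋃ k, ((Sy.P k).opens : Set ↑(pullback f g)))ᶜ ↔ _
    simp
  refine ⟨W, ?_, ?_, ?_, ?_⟩
  · rw [eq_top_iff]
    intro w _
    by_cases h : ∃ k, w ∈ (Sy.P k).opens
    · obtain ⟨k, hk⟩ := h
      exact (le_sup_right : _ ≤ W ⊔ (⨆ k, (Sy.P k).opens))
        ((le_iSup (fun k => (Sy.P k).opens) k) hk)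
    · exact (le_sup_left : _ ≤ W ⊔ (⨆ k, (Sy.P k).opens))
        ((hW w).mpr fun k hk => h ⟨k, hk⟩)
  · intro k
    rw [← TopologicalSpace.Opens.coe_disjoint, Set.disjoint_left]
    intro w hw hk
    exact (hW w).mp hw k hk
  · intro k k' hkk'
    rw [← TopologicalSpace.Opens.coe_disjoint]
    exact Sy.disj trivial k k' hkk'
  · intro w i hw hwu hwx
    obtain ⟨k, -, hwk⟩ := Sy.cover w i hwu hwx
    exact (hW w).mp hw k (hwk ▸ (Sy.P k).point_mem)

open AlgebraicGeometry CategoryTheory Limits in
/-- Let f : X ⟶ S be a separated morphism of schemes, s a point of S and x_1, …, x_n pairwise distinct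
points of X over s such that f is unramified at each x_i (some open neighbourhood of x_i is locally
of finite type and formally unramified over S). Then there are an étale morphism g : U ⟶ S, a point
u of U over s, and a decomposition of X_U = X ×_S U into pairwise disjoint open subschemes W and
finitely many V_k which together cover X_U, such that each V_k ⟶ U is a closed immersion whose image
contains u and no point of W over u maps to any of the x_i. -/
theorem result {X S : Scheme.{u}} (f : X ⟶ S)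
    [IsSeparated f] (s : S)
    {ι : Type} [Finite ι] (x : ι → ↑X) (hinj : Function.Injective x) (hs : ∀ i, f (x i) = s)
    (hx : ∀ i, ∃ W : X.Opens, x i ∈ W ∧ LocallyOfFiniteType (W.ι ≫ f) ∧ FormallyUnramified (W.ι ≫ f)) :
    ∃ (U : Scheme.{u}) (g : U ⟶ S) (u : U), Etale g ∧ g u = s ∧
      ∃ (K : Type) (_ : Finite K) (W : (pullback f g).Opens) (V : K → (pullback f g).Opens),
        W ⊔ (⨆ k, V k) = ⊤ ∧ (∀ k, Disjoint W (V k)) ∧ (∀ k k', k ≠ k' → Disjoint (V k) (V k')) ∧
        (∀ k, IsClosedImmersion ((V k).ι ≫ pullback.snd f g) ∧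
          ∃ w : ↑(pullback f g), w ∈ V k ∧ pullback.snd f g w = u) ∧
        (∀ (w : ↑(pullback f g)) (i : ι), w ∈ W → pullback.snd f g w = u → pullback.fst f g w ≠ x i) := by
  classical
  obtain ⟨U, g, u, hg, hu, K, hK, lab, Sy, hcl⟩ :=
    Groth.Agent.Lib.Helper57.EtUnr.exists_system_isClosedImmersion f True (fun _ => ‹_›)
      s x hinj hs hx
  obtain ⟨W, h1, h2, h3, h4⟩ := decomposition f x g u Sy
  refine ⟨U, g, u, hg, hu, K, hK, W, fun k => (Sy.P k).opens, h1, h2, h3, ?_, h4⟩
  intro k
  exact ⟨((Sy.P k).opens_ι_comp_iff @IsClosedImmersion).mpr (hcl k), (Sy.P k).point,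
    (Sy.P k).point_mem, (Sy.P k).map_point⟩

end Groth.Agent.S9556
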