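import Groth.Statements.S9559
import Groth.Agent.Lib.Helper57.EtUnr5

set_option autoImplicit false
open CategoryTheory CategoryTheory.Limits AlgebraicGeometry Opposite
universe u
open EtLocal

namespace Groth.Agent.S9559

/-- A finite étale morphism f : X ⟶ S becomes, after base change to a suitable étale neighbourhood (U,
u) of any point s of S, a finite disjoint union of copies of U: X_U is isomorphic over U to a finite
coproduct of schemes V_j each of which maps isomorphically onto U. -/
theorem result {X S : Scheme.{u}} (f : X ⟶ S) [IsFinite f] [Etale f] (s : S) :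
    ∃ (U : Scheme.{u}) (g : U ⟶ S) (_ : AlgebraicGeometry.Etale g) (u : U) (_ : g.base u = s)
      (n : ℕ) (V : Fin n → Scheme.{u}) (c : ∀ j, V j ⟶ U) (_ : ∀ j, IsIso (c j))
      (e : (∐ V) ≅ pullback f g), ∀ j, Sigma.ι V j ≫ e.hom ≫ pullback.snd f g = c j := by
  classical
  have hfin : (f ⁻¹' {s}).Finite := f.finite_preimage_singleton s
  have : Finite ↥(f ⁻¹' {s}) := hfin.to_subtype
  obtain ⟨n, ⟨eF⟩⟩ := Finite.exists_equiv_fin ↥(f ⁻¹' {s})
  let x : Fin n → X := fun i => (eF.symm i).1
  have hinj : Function.Injective x := fun i i' h => eF.symm.injective (Subtype.ext h)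
  have hs : ∀ i, f (x i) = s := fun i => (eF.symm i).2
  have hxall : ∀ y : X, f y = s → ∃ i, x i = y := fun y hy => ⟨eF ⟨y, hy⟩, by simp [x]⟩
  have hloc : ∀ i, ∃ W : X.Opens, x i ∈ W ∧ AlgebraicGeometry.Etale (W.ι ≫ f) := fun i =>
    ⟨⊤, trivial, inferInstance⟩
  obtain ⟨U, g, u, hg, hu, K, hK, lab, Sy, hcl⟩ :=
    Groth.Agent.Lib.Helper57.EtUnr.exists_system_isIso f True
      (fun _ => inferInstance) s x hinj hs hloc
  obtain ⟨U', g', hg', u', hu', n', V, c, hc, e, he⟩ :=
    Groth.Agent.Lib.Helper57.EtUnr.exists_split_of_system f s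
      (MorphismProperty.isomorphisms Scheme.{u}) x hxall g u hu Sy hcl
  exact ⟨U', g', hg', u', hu', n', V, c, hc, e, he⟩

end Groth.Agent.S9559
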