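import Groth.Statements.S9560
import Mathlib.RingTheory.Smooth.Fiber
import Mathlib.RingTheory.Smooth.Flat
import Mathlib.RingTheory.Etale.Locus
import Mathlib.RingTheory.Flat.Localization
-- import your own Groth.Agent.* helpers here

set_option autoImplicit false
universe u
open EtLocal

namespace Groth.Agent.S9560

open TensorProduct IsLocalRing in
lemma smooth_of_flat_unram (A B : Type u) [CommRing A] [CommRing B]
    [Algebra A B] [Algebra.FinitePresentation A B]
    (p : Ideal A) [p.IsPrime] (q : Ideal B) [q.IsPrime] [q.LiesOver p]
    [Algebra (Localization.AtPrime p) (Localization.AtPrime q)]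
    [Localization.AtPrime.IsLiesOverAlgebra p q]
    [Module.Flat (Localization.AtPrime p) (Localization.AtPrime q)]
    [Algebra.IsUnramifiedAt A q] :
    Algebra.FormallySmooth A (Localization.AtPrime q) := by
  let Rp := Localization.AtPrime p
  let Sp := Localization (Algebra.algebraMapSubmonoid B p.primeCompl)
  let Sq := Localization.AtPrime q
  let f : Sp →ₐ[B] Sq := IsLocalization.liftAlgHom (M := Algebra.algebraMapSubmonoid B p.primeCompl)
        (f := Algebra.ofId _ _) (by
      rintro ⟨_, x, hx, rfl⟩
      simpa using! IsLocalization.map_units (M := q.primeCompl) Sq ⟨algebraMap _ _ x,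
        by simp_all [q.over_def p]⟩)
  algebraize [f.toRingHom]
  have : IsScalarTower A Sp Sq := .to₁₃₄ _ B _ _
  have : IsScalarTower Rp Sp Sq := .of_algebraMap_eq' <| by
    apply IsLocalization.ringHom_ext p.primeCompl
    simp only [RingHom.comp_assoc, ← IsScalarTower.algebraMap_eq]
  have : IsLocalization (Algebra.algebraMapSubmonoid Sp q.primeCompl) Sq :=
    .isLocalization_of_submonoid_le _ _ (Algebra.algebraMapSubmonoid B p.primeCompl) _
    (by rintro _ ⟨x, hx, rfl⟩; simp_all [q.over_def p])
  have : Algebra.FinitePresentation Rp Sp := by
    have : Algebra.IsPushout A Rp B Sp :=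
      .symm <| Algebra.isPushout_of_isLocalization p.primeCompl _ _ _
    exact .equiv (Algebra.IsPushout.equiv A Rp B Sp)
  have : Algebra.EssFiniteType Rp Sq := .of_comp A _ _
  have : Algebra.FormallyUnramified Rp Sq := .of_restrictScalars A _ _
  have : Algebra.FormallyEtale (ResidueField Rp) (ResidueField Rp ⊗[Rp] Sq) :=
    Algebra.FormallyEtale.of_formallyUnramified_of_field _ _
  have := Algebra.FormallySmooth.of_formallySmooth_residueField_tensor
    (R := Rp) (S := Sq) (P := Sp) (Algebra.algebraMapSubmonoid _ q.primeCompl)
  exact .comp A Rp Sq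

lemma flat_of_etaleAt (A B : Type u) [CommRing A] [CommRing B]
    [Algebra A B] [Algebra.FinitePresentation A B]
    (p : Ideal A) [p.IsPrime] (q : Ideal B) [q.IsPrime] [q.LiesOver p]
    [Algebra (Localization.AtPrime p) (Localization.AtPrime q)]
    [Localization.AtPrime.IsLiesOverAlgebra p q]
    [Algebra.IsEtaleAt A q] :
    Module.Flat (Localization.AtPrime p) (Localization.AtPrime q) := by
  obtain ⟨f, hfq, hEt⟩ := Algebra.exists_etale_of_isEtaleAt (R := A) q
  let Sf := Localization.Away f
  let Sq := Localization.AtPrime q
  let g : Sf →ₐ[B] Sq := IsLocalization.liftAlgHom (M := Submonoid.powers f)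
        (f := Algebra.ofId _ _) (by
      rintro ⟨_, n, rfl⟩
      simpa using! IsLocalization.map_units (M := q.primeCompl) Sq ⟨f ^ n,
        fun h => hfq (Ideal.IsPrime.mem_of_pow_mem inferInstance n h)⟩)
  algebraize [g.toRingHom]
  have : IsScalarTower A Sf Sq := .to₁₃₄ _ B _ _
  have : IsLocalization ((q.primeCompl).map (algebraMap B Sf)) Sq :=
    IsLocalization.isLocalization_of_submonoid_le Sf Sq (Submonoid.powers f) q.primeCompl
      (by rintro _ ⟨n, rfl⟩; exact fun h => hfq (Ideal.IsPrime.mem_of_pow_mem inferInstance n h))
  have : Module.Flat Sf Sq := IsLocalization.flat Sq ((q.primeCompl).map (algebraMap B Sf))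
  have : Module.Flat A Sf := inferInstance
  have : Module.Flat A Sq := Module.Flat.trans A Sf Sq
  exact (Module.flat_iff_of_isLocalization (Localization.AtPrime p) p.primeCompl _).mpr this

/-- Suppose A is a Noetherian ring and B is a finite-type A-algebra, and consider a prime q of B lying
over the prime p of A, where B_q carries its A_p-algebra structure. Then B is étale at q over A (the
local ring B_q is formally étale over A) if and only if the local homomorphism A_p → B_q is étale,
which means three things: B_q is A_p-flat, the ideal p B_q equals the maximal ideal of B_q, and the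
residue field of q is a finite separable extension of the residue field of p (that B_q is
essentially of finite type over A_p holds automatically). -/
theorem result (A B : Type u) [CommRing A] [CommRing B]
    [Algebra A B] [IsNoetherianRing A] [Algebra.FiniteType A B]
    (p : Ideal A) [p.IsPrime] (q : Ideal B) [q.IsPrime] [q.LiesOver p]
    [Algebra (Localization.AtPrime p) (Localization.AtPrime q)]
    [Localization.AtPrime.IsLiesOverAlgebra p q] :
    Algebra.IsEtaleAt A q ↔
      Module.Flat (Localization.AtPrime p) (Localization.AtPrime q) ∧
        p.map (algebraMap A (Localization.AtPrime q)) = IsLocalRing.maximalIdeal (Localization.AtPrime q) ∧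
        Module.Finite p.ResidueField q.ResidueField ∧
        Algebra.IsSeparable p.ResidueField q.ResidueField := by
  have hfp : Algebra.FinitePresentation A B :=
    Algebra.FinitePresentation.of_finiteType.mp inferInstance
  constructor
  · intro h
    have hunr : Algebra.IsUnramifiedAt A q := by
      show Algebra.FormallyUnramified A (Localization.AtPrime q)
      infer_instance
    obtain ⟨hsep, hmap⟩ := (Algebra.isUnramifiedAt_iff_map_eq A p q).mp hunr
    exact ⟨flat_of_etaleAt A B p q, hmap, inferInstance, hsep⟩
  · rintro ⟨hflat, hmap, _, hsep⟩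
    have hunr : Algebra.IsUnramifiedAt A q :=
      (Algebra.isUnramifiedAt_iff_map_eq A p q).mpr ⟨hsep, hmap⟩
    have hsm := smooth_of_flat_unram A B p q
    exact Algebra.FormallyEtale.of_formallyUnramified_and_formallySmooth

end Groth.Agent.S9560
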