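import Groth.Statements.S9562
import Groth.Agent.Lib.Helper54.CplLocal
import Groth.Agent.Lib.Helper54.ComplFlat
import Groth.Agent.Lib.Helper65.EtaleAt
import Groth.Agent.S14002
import Groth.Agent.S0543

set_option autoImplicit false
universe u
open EtLocal

namespace Groth.Agent.S9562

open IsLocalRing Groth.Agent.Lib.Helper54.CplLocal TensorProduct

section

variable (A B : Type u) [CommRing A] [CommRing B]
    [IsLocalRing A] [IsLocalRing B] [IsNoetherianRing A] [IsNoetherianRing B] [Algebra A B]
    [IsLocalHom (algebraMap A B)]
    (ψ : AdicCompletion (maximalIdeal A) A →+* AdicCompletion (maximalIdeal B) B)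
    (hψ : ψ.comp (algebraMap A (AdicCompletion (maximalIdeal A) A)) =
      (algebraMap B (AdicCompletion (maximalIdeal B) B)).comp (algebraMap A B))

include hψ in
/-- `ψ` is flat when `A → B` is flat and `𝔪_Â B̂ = 𝔪_B̂`. -/
theorem flat_psi [Module.Flat A B]
    (h : letI := ψ.toAlgebra
      (maximalIdeal (AdicCompletion (maximalIdeal A) A)).map
          (algebraMap (AdicCompletion (maximalIdeal A) A) (AdicCompletion (maximalIdeal B) B)) =
        maximalIdeal (AdicCompletion (maximalIdeal B) B)) :
    letI := ψ.toAlgebra
    Module.Flat (AdicCompletion (maximalIdeal A) A) (AdicCompletion (maximalIdeal B) B) := by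
  letI := ψ.toAlgebra
  haveI t2 : IsScalarTower A (AdicCompletion (maximalIdeal A) A)
      (AdicCompletion (maximalIdeal B) B) :=
    IsScalarTower.of_algebraMap_eq (fun a => (DFunLike.congr_fun hψ a).symm)
  haveI : IsNoetherianRing (AdicCompletion (maximalIdeal A) A) :=
    Groth.Agent.S0543.result A (maximalIdeal A)
  haveI : IsNoetherianRing (AdicCompletion (maximalIdeal B) B) :=
    Groth.Agent.S0543.result B (maximalIdeal B)
  haveI : Module.Flat A (AdicCompletion (maximalIdeal B) B) :=
    Module.Flat.trans A B (AdicCompletion (maximalIdeal B) B)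
  have hfg : (maximalIdeal A).FG := IsNoetherian.noetherian _
  haveI : IsAdicComplete ((maximalIdeal (AdicCompletion (maximalIdeal A) A)).map
      (algebraMap (AdicCompletion (maximalIdeal A) A) (AdicCompletion (maximalIdeal B) B)))
      (AdicCompletion (maximalIdeal B) B) := by
    rw [h]
    infer_instance
  rw [Groth.Agent.S14002.result (AdicCompletion (maximalIdeal A) A)
    (AdicCompletion (maximalIdeal B) B) (maximalIdeal (AdicCompletion (maximalIdeal A) A))]
  intro n hn
  have e : ((maximalIdeal A) ^ n).map (algebraMap A (AdicCompletion (maximalIdeal A) A)) =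
      (maximalIdeal (AdicCompletion (maximalIdeal A) A)) ^ n := by
    rw [Ideal.map_pow, AdicCompletion.maximalIdeal_eq_map]
  refine Groth.Agent.Lib.Helper54.ComplFlat.flat_quotient_tensor (B' := A)
    (R := AdicCompletion (maximalIdeal A) A) (M := AdicCompletion (maximalIdeal B) B)
    ((maximalIdeal A) ^ n) ((maximalIdeal (AdicCompletion (maximalIdeal A) A)) ^ n) e ?_
    inferInstance
  have := Groth.Agent.Lib.Helper54.ComplFlat.surjective_mk_algebraMap (maximalIdeal A) hfg n
  rw [← AdicCompletion.maximalIdeal_eq_map] at this
  exact this

end


/-- Let A → B be a local homomorphism of Noetherian local rings with B essentially of finite type over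
A, and let ψ be the induced map between the completions of A and B at their maximal ideals (a ring
map of the completions whose composite with A → A^ is A → B → B^; such a map is unique). Then A → B
is an étale homomorphism of local rings, i.e. B is flat over A, m_A B = m_B and the residue field of
B is a finite separable extension of that of A, if and only if ψ is an étale ring map; moreover in
that case the completion of B is, through ψ, a free module of finite positive rank over the
completion of A. (The published statement lists a third equivalent condition, that ψ is itself an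
étale homomorphism of local rings; this row keeps the two outer ones.) -/
theorem result (A B : Type u) [CommRing A] [CommRing B]
    [IsLocalRing A] [IsLocalRing B] [IsNoetherianRing A] [IsNoetherianRing B] [Algebra A B]
    [IsLocalHom (algebraMap A B)] [Algebra.EssFiniteType A B]
    (ψ : AdicCompletion (IsLocalRing.maximalIdeal A) A →+* AdicCompletion (IsLocalRing.maximalIdeal B) B)
    (hψ : ψ.comp (algebraMap A (AdicCompletion (IsLocalRing.maximalIdeal A) A)) =
      (algebraMap B (AdicCompletion (IsLocalRing.maximalIdeal B) B)).comp (algebraMap A B)) :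
    ((Module.Flat A B ∧ (IsLocalRing.maximalIdeal A).map (algebraMap A B) = IsLocalRing.maximalIdeal B ∧
        Module.Finite (IsLocalRing.ResidueField A) (IsLocalRing.ResidueField B) ∧
        Algebra.IsSeparable (IsLocalRing.ResidueField A) (IsLocalRing.ResidueField B)) ↔ ψ.Etale) ∧
      (ψ.Etale →
        letI := ψ.toAlgebra
        ∃ n : ℕ, 0 < n ∧
          Nonempty ((Fin n → AdicCompletion (IsLocalRing.maximalIdeal A) A) ≃ₗ[AdicCompletion (IsLocalRing.maximalIdeal A) A]
            AdicCompletion (IsLocalRing.maximalIdeal B) B)) := by
  letI := ψ.toAlgebra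
  haveI hloc : IsLocalHom (algebraMap (AdicCompletion (maximalIdeal A) A)
    (AdicCompletion (maximalIdeal B) B)) := isLocalHom_psi A B ψ hψ
  haveI : IsNoetherianRing (AdicCompletion (maximalIdeal A) A) :=
    Groth.Agent.S0543.result A (maximalIdeal A)
  haveI : IsNoetherianRing (AdicCompletion (maximalIdeal B) B) :=
    Groth.Agent.S0543.result B (maximalIdeal B)
  -- étale ⇒ the unramified conditions for ψ
  have key : ψ.Etale → ((maximalIdeal (AdicCompletion (maximalIdeal A) A)).map
          (algebraMap (AdicCompletion (maximalIdeal A) A) (AdicCompletion (maximalIdeal B) B)) =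
        maximalIdeal (AdicCompletion (maximalIdeal B) B) ∧
      Module.Finite (ResidueField (AdicCompletion (maximalIdeal A) A))
        (ResidueField (AdicCompletion (maximalIdeal B) B)) ∧
      Algebra.IsSeparable (ResidueField (AdicCompletion (maximalIdeal A) A))
        (ResidueField (AdicCompletion (maximalIdeal B) B))) ∧
      Module.Flat (AdicCompletion (maximalIdeal A) A) (AdicCompletion (maximalIdeal B) B) := by
    intro het
    haveI : Algebra.Etale (AdicCompletion (maximalIdeal A) A)
        (AdicCompletion (maximalIdeal B) B) := het
    exact ⟨⟨Algebra.FormallyUnramified.map_maximalIdeal, inferInstance, inferInstance⟩,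
      inferInstance⟩
  refine ⟨⟨?_, ?_⟩, ?_⟩
  · rintro ⟨hflat, hun⟩
    obtain ⟨h1, h2, h3⟩ := (unram_iff A B ψ hψ).mp hun
    haveI := h2
    haveI := h3
    haveI hfin : Module.Finite (AdicCompletion (maximalIdeal A) A)
        (AdicCompletion (maximalIdeal B) B) := finite_of_map_eq A B ψ hψ h1 h2
    haveI : Algebra.FormallyUnramified (AdicCompletion (maximalIdeal A) A)
        (AdicCompletion (maximalIdeal B) B) := Algebra.FormallyUnramified.of_map_maximalIdeal h1
    haveI : Module.Flat (AdicCompletion (maximalIdeal A) A)
        (AdicCompletion (maximalIdeal B) B) := flat_psi A B ψ hψ h1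
    haveI : Algebra.FinitePresentation (AdicCompletion (maximalIdeal A) A)
        (AdicCompletion (maximalIdeal B) B) :=
      Algebra.FinitePresentation.of_finiteType.mp inferInstance
    exact (Algebra.Etale.of_formallyUnramified_of_flat :
      Algebra.Etale (AdicCompletion (maximalIdeal A) A) (AdicCompletion (maximalIdeal B) B))
  · intro het
    obtain ⟨hun, hflat⟩ := key het
    refine ⟨?_, (unram_iff A B ψ hψ).mpr hun⟩
    haveI t2 : IsScalarTower A (AdicCompletion (maximalIdeal A) A)
        (AdicCompletion (maximalIdeal B) B) :=
      IsScalarTower.of_algebraMap_eq (fun a => (DFunLike.congr_fun hψ a).symm)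
    haveI : Module.Flat A (AdicCompletion (maximalIdeal B) B) :=
      Module.Flat.trans A (AdicCompletion (maximalIdeal A) A) (AdicCompletion (maximalIdeal B) B)
    haveI : Module.FaithfullyFlat B (AdicCompletion (maximalIdeal B) B) :=
      Module.FaithfullyFlat.of_flat_of_isLocalHom
    exact Groth.Agent.Lib.Helper65.EtaleAt.flat_of_flat_of_faithfullyFlat A B
      (AdicCompletion (maximalIdeal B) B)
  · intro het
    obtain ⟨⟨h1, h2, h3⟩, hflat⟩ := key het
    haveI hfin : Module.Finite (AdicCompletion (maximalIdeal A) A)
        (AdicCompletion (maximalIdeal B) B) := finite_of_map_eq A B ψ hψ h1 h2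
    haveI : Module.Free (AdicCompletion (maximalIdeal A) A)
        (AdicCompletion (maximalIdeal B) B) := Module.free_of_flat_of_isLocalRing
    let b := Module.finBasis (AdicCompletion (maximalIdeal A) A)
      (AdicCompletion (maximalIdeal B) B)
    refine ⟨Module.finrank (AdicCompletion (maximalIdeal A) A)
      (AdicCompletion (maximalIdeal B) B), ?_, ⟨b.equivFun.symm⟩⟩
    by_contra hn
    have hn0 : Module.finrank (AdicCompletion (maximalIdeal A) A)
      (AdicCompletion (maximalIdeal B) B) = 0 := by omega
    haveI : IsEmpty (Fin (Module.finrank (AdicCompletion (maximalIdeal A) A)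
      (AdicCompletion (maximalIdeal B) B))) := by
      rw [hn0]; infer_instance
    haveI : Subsingleton (AdicCompletion (maximalIdeal B) B) := b.equivFun.toEquiv.subsingleton
    exact not_subsingleton (AdicCompletion (maximalIdeal B) B) inferInstance

end Groth.Agent.S9562
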