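import Groth.Statements.S9563
import Groth.Agent.Lib.Helper11.EssLocal

set_option autoImplicit false
universe u
open EtLocal

namespace Groth.Agent.S9563

/-- Let A → B be an étale homomorphism of Noetherian local rings, i.e. a local homomorphism with B
essentially of finite type and flat over A, m_A B = m_B, and residue field of B finite separable
over that of A. Then there are a standard étale A-algebra B' = A[t]_g/(f) (f monic and f' invertible
in B') and a prime 𝔮 of B' such that B is isomorphic as an A-algebra to the localization of B' at 𝔮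
(existence of an isomorphism). -/
theorem result (A B : Type u) [CommRing A] [CommRing B]
    [IsLocalRing A] [IsLocalRing B] [IsNoetherianRing A] [IsNoetherianRing B] [Algebra A B]
    [IsLocalHom (algebraMap A B)] [Algebra.EssFiniteType A B] [Module.Flat A B]
    (hm : (IsLocalRing.maximalIdeal A).map (algebraMap A B) = IsLocalRing.maximalIdeal B)
    [Module.Finite (IsLocalRing.ResidueField A) (IsLocalRing.ResidueField B)]
    [Algebra.IsSeparable (IsLocalRing.ResidueField A) (IsLocalRing.ResidueField B)] :
    ∃ (P : StandardEtalePair A) (𝔮 : Ideal P.Ring) (_ : 𝔮.IsPrime),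
      Nonempty (B ≃ₐ[A] Localization.AtPrime 𝔮) := by
  open Groth.Agent.Lib.Helper11.EssLocal Algebra in
  have hEt : Algebra.FormallyEtale A B := formallyEtale_of_local A B hm
  let e : Localization.AtPrime (q A B) ≃ₐ[EssFiniteType.subalgebra A B] B :=
    IsLocalization.algEquiv (q A B).primeCompl _ _
  have hEtq : Algebra.IsEtaleAt A (q A B) :=
    Algebra.FormallyEtale.of_equiv (e.symm.restrictScalars A)
  have hfp : Algebra.FinitePresentation A (EssFiniteType.subalgebra A B) :=
    Algebra.FinitePresentation.of_finiteType.mp inferInstance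
  obtain ⟨f, hfq, hstd⟩ := Algebra.IsEtaleAt.exists_isStandardEtale (R := A) (q A B)
  let P' : StandardEtalePresentation A (Localization.Away f) :=
    hstd.nonempty_standardEtalePresentation.some
  let φ : P'.P.Ring →ₐ[A] Localization.Away f := P'.equivRing.symm.toAlgHom
  have hφ : Function.Bijective φ := P'.equivRing.symm.bijective
  refine ⟨P'.P, 𝔮 (q A B) f hfq φ (B := B), inferInstance, ⟨?_⟩⟩
  exact (AlgEquiv.ofBijective (Θ (q A B) f hfq φ (B := B))
    ⟨Θ_injective (q A B) f hfq φ hφ.2 hφ.1, Θ_surjective (q A B) f hfq φ hφ.2⟩).symm

end Groth.Agent.S9563
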