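import Groth.Statements.S9565
import Groth.Agent.Lib.Helper19.StalkCriteria

set_option autoImplicit false
universe u
open EtLocal

namespace Groth.Agent.S9565

open AlgebraicGeometry CategoryTheory in
/-- Let Y be a locally Noetherian scheme, f : X ⟶ Y locally of finite type and x a point of X with image
y. Then f is unramified on some open neighbourhood of x if and only if the map of local rings
O_{Y,y} → O_{X,x} is an unramified homomorphism of local rings: the maximal ideal of O_{Y,y}
generates that of O_{X,x}, and the residue field of x is a finite separable extension of that of y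
(O_{X,x} is automatically essentially of finite type over O_{Y,y}). -/
theorem result {X Y : Scheme.{u}} (f : X ⟶ Y)
    [LocallyOfFiniteType f] [IsLocallyNoetherian Y] (x : X) :
    (∃ U : X.Opens, x ∈ U ∧ FormallyUnramified (U.ι ≫ f)) ↔
      ((IsLocalRing.maximalIdeal (Y.presheaf.stalk (f.base x))).map (f.stalkMap x).hom =
          IsLocalRing.maximalIdeal (X.presheaf.stalk x) ∧
        letI := (f.residueFieldMap x).hom.toAlgebra
        Module.Finite (Y.residueField (f.base x)) (X.residueField x) ∧
          Algebra.IsSeparable (Y.residueField (f.base x)) (X.residueField x)) := by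
  algebraize [(f.stalkMap x).hom]
  have hloc : IsLocalHom (algebraMap (Y.presheaf.stalk (f x)) (X.presheaf.stalk x)) :=
    inferInstanceAs <| IsLocalHom (f.stalkMap x).hom
  have hess : Algebra.EssFiniteType (Y.presheaf.stalk (f x)) (X.presheaf.stalk x) := by
    rw [← RingHom.essFiniteType_algebraMap, RingHom.algebraMap_toAlgebra]
    exact LocallyOfFiniteType.stalkMap f x
  have halg : (f.residueFieldMap x).hom.toAlgebra =
      (inferInstance : Algebra (IsLocalRing.ResidueField <| Y.presheaf.stalk (f x))
        (IsLocalRing.ResidueField <| X.presheaf.stalk x)) := by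
    refine Algebra.algebra_ext _ _ fun a ↦ ?_
    obtain ⟨a, rfl⟩ := IsLocalRing.residue_surjective a
    rfl
  constructor
  · intro h
    have hfu : Algebra.FormallyUnramified (Y.presheaf.stalk (f x)) (X.presheaf.stalk x) := by
      rw [← RingHom.formallyUnramified_algebraMap, RingHom.algebraMap_toAlgebra]
      exact Groth.Agent.Lib.Helper19.formallyUnramified_stalkMap_of_nhd f x h
    obtain ⟨hsep, hmap⟩ := Algebra.FormallyUnramified.iff_map_maximalIdeal_eq.mp hfu
    have hfin : Module.Finite (IsLocalRing.ResidueField <| Y.presheaf.stalk (f x))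
        (IsLocalRing.ResidueField <| X.presheaf.stalk x) := inferInstance
    refine ⟨hmap, ?_⟩
    rw [halg]
    exact ⟨hfin, hsep⟩
  · rintro ⟨hmap, hrest⟩
    rw [halg] at hrest
    obtain ⟨hfin, hsep⟩ := hrest
    have hfu : Algebra.FormallyUnramified (Y.presheaf.stalk (f x)) (X.presheaf.stalk x) :=
      Algebra.FormallyUnramified.iff_map_maximalIdeal_eq.mpr ⟨hsep, hmap⟩
    refine Groth.Agent.Lib.Helper19.exists_nhd_formallyUnramified_of_stalkMap f x ?_
    rw [← RingHom.algebraMap_toAlgebra (f.stalkMap x).hom, RingHom.formallyUnramified_algebraMap]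
    exact hfu

end Groth.Agent.S9565
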