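import Groth.Statements.S9567
import Mathlib

set_option autoImplicit false
universe u
open EtLocal

namespace Groth.Agent.S9567

section helpers
open Polynomial AlgebraicGeometry CategoryTheory

/-- Ring-level local structure with the `f'`-localization as target. -/
theorem exists_standard (R S : Type u) [CommRing R] [CommRing S] [Algebra R S]
    [Algebra.FinitePresentation R S] (Q : Ideal S) [Q.IsPrime] [Algebra.IsEtaleAt R Q] :
    ∃ f₀ ∉ Q, ∃ (p : R[X]) (_ : p.Monic)
      (θ : Localization.Away (AdjoinRoot.mk p (derivative p)) →ₐ[R] Localization.Away f₀),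
      IsOpenImmersion (Spec.map (CommRingCat.ofHom θ.toRingHom)) := by
  obtain ⟨f₀, hf₀, hstd⟩ := Algebra.IsEtaleAt.exists_isStandardEtale (R := R) Q
  let P' : StandardEtalePresentation R (Localization.Away f₀) :=
    hstd.nonempty_standardEtalePresentation.some
  let P := P'.P
  refine ⟨f₀, hf₀, P.f, P.monic_f, ?_⟩
  let A := AdjoinRoot P.f
  let a : A := AdjoinRoot.mk P.f (derivative P.f)
  let b : A := AdjoinRoot.mk P.f P.g
  obtain ⟨p₁, p₂, n, hcond⟩ := P.cond
  have hab : a * AdjoinRoot.mk P.f p₁ = b ^ n := by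
    have := congrArg (AdjoinRoot.mk P.f) hcond
    simpa [a, b] using this
  have hunit : IsUnit (algebraMap A (Localization.Away b) a) := by
    have h1 : IsUnit (algebraMap A (Localization.Away b) (b ^ n)) := by
      rw [map_pow]
      exact (IsLocalization.Away.algebraMap_isUnit b).pow n
    rw [← hab, map_mul] at h1
    exact isUnit_of_mul_isUnit_left h1
  let lam : Localization.Away a →ₐ[R] Localization.Away b :=
    IsLocalization.Away.liftAlgHom a (f := IsScalarTower.toAlgHom R A (Localization.Away b)) hunit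
  have hlam : lam.toRingHom.comp (algebraMap A (Localization.Away a)) =
      algebraMap A (Localization.Away b) := by
    apply RingHom.ext
    intro y
    simp only [RingHom.comp_apply, lam, IsLocalization.Away.liftAlgHom]
    exact IsLocalization.Away.lift_eq a hunit y
  have hoi : IsOpenImmersion (Spec.map (CommRingCat.ofHom lam.toRingHom)) := by
    have h2 : Spec.map (CommRingCat.ofHom lam.toRingHom) ≫
        Spec.map (CommRingCat.ofHom (algebraMap A (Localization.Away a))) =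
        Spec.map (CommRingCat.ofHom (algebraMap A (Localization.Away b))) := by
      rw [← Spec.map_comp, ← CommRingCat.ofHom_comp, hlam]
    have h3 : IsOpenImmersion (Spec.map (CommRingCat.ofHom lam.toRingHom) ≫
        Spec.map (CommRingCat.ofHom (algebraMap A (Localization.Away a)))) := by
      rw [h2]; infer_instance
    exact IsOpenImmersion.of_comp _ (Spec.map (CommRingCat.ofHom (algebraMap A (Localization.Away a))))
  let ε : Localization.Away b ≃ₐ[R] Localization.Away f₀ :=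
    P.equivAwayAdjoinRoot.symm.trans P'.equivRing.symm
  refine ⟨ε.toAlgHom.comp lam, ?_⟩
  have h4 : (ε.toAlgHom.comp lam).toRingHom = ε.toRingEquiv.toRingHom.comp lam.toRingHom := rfl
  rw [h4, CommRingCat.ofHom_comp, Spec.map_comp]
  have : IsIso (CommRingCat.ofHom ε.toRingEquiv.toRingHom) :=
    (ε.toRingEquiv.toCommRingCatIso).isIso_hom
  infer_instance


end helpers

open AlgebraicGeometry CategoryTheory in
/-- Let φ : X ⟶ Y be any morphism of schemes, x a point of X and V an affine open neighbourhood of φ(x),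
with ring R = Γ(Y, V). If φ is étale on some open neighbourhood of x, then there are an affine open
neighbourhood U of x with φ(U) ⊆ V, a monic polynomial p over R and an open immersion j of U into
Spec of (R[t]/(p))[1/p′] (the localization of R[t]/(p) away from the image of the derivative of p)
such that j followed by the projection to Spec R is the morphism U → Spec R induced by φ. -/
theorem result {X Y : Scheme.{u}} (φ : X ⟶ Y) (x : X)
    (V : Y.Opens) (hV : IsAffineOpen V) (hxV : φ.base x ∈ V)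
    (hφ : ∃ W : X.Opens, x ∈ W ∧ Etale (W.ι ≫ φ)) :
    ∃ (U : X.Opens) (hU : IsAffineOpen U) (_ : x ∈ U) (e : U ≤ φ ⁻¹ᵁ V)
      (p : Polynomial Γ(Y, V)) (_ : p.Monic)
      (j : U.toScheme ⟶ Spec (CommRingCat.of (Localization.Away (AdjoinRoot.mk p (Polynomial.derivative p))))),
      IsOpenImmersion j ∧
        j ≫ Spec.map (CommRingCat.ofHom
            (algebraMap Γ(Y, V) (Localization.Away (AdjoinRoot.mk p (Polynomial.derivative p))))) =
          hU.isoSpec.hom ≫ Spec.map (φ.appLE V U e) := by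
  obtain ⟨W, hxW, hW⟩ := hφ
  obtain ⟨U₀', hU₀', hxU₀', hU₀le'⟩ := TopologicalSpace.Opens.isBasis_iff_nbhd.mp X.isBasis_affineOpens
    (show x ∈ (W ⊓ φ ⁻¹ᵁ V : X.Opens) from ⟨hxW, hxV⟩)
  obtain ⟨U₀, hU₀, hxU₀, hU₀le⟩ : ∃ U₀ : X.Opens, IsAffineOpen U₀ ∧ x ∈ U₀ ∧ U₀ ≤ W ⊓ φ ⁻¹ᵁ V :=
    ⟨U₀', hU₀', hxU₀', hU₀le'⟩
  have hU₀W : U₀ ≤ W := hU₀le.trans inf_le_left
  have e₀ : U₀ ≤ φ ⁻¹ᵁ V := hU₀le.trans inf_le_right
  have hEt : Etale (U₀.ι ≫ φ) := by
    have : U₀.ι = X.homOfLE hU₀W ≫ W.ι := (X.homOfLE_ι hU₀W).symm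
    rw [this, Category.assoc]
    infer_instance
  have hR : RingHom.Etale (φ.appLE V U₀ e₀).hom := by
    have : IsAffine U₀.toScheme := hU₀
    have h1 := HasRingHomProperty.appLE (P := @Etale) (U₀.ι ≫ φ) hEt ⟨V, hV⟩
      ⟨⊤, isAffineOpen_top _⟩ (by
        intro y _
        exact e₀ y.2)
    rw [← Scheme.Hom.appLE_comp_appLE U₀.ι φ V U₀ ⊤ e₀ (by simp)] at h1
    have hiso : IsIso (U₀.ι.appLE U₀ ⊤ (by simp)) := by
      rw [Scheme.Opens.ι_appLE]
      have : U₀.ι ''ᵁ ⊤ = U₀ := by simp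
      exact (inferInstance : IsIso (X.presheaf.map (eqToHom this).op))
    rw [CommRingCat.hom_comp, RingHom.Etale.respectsIso.cancel_right_isIso] at h1
    exact h1
  let alg : Algebra Γ(Y, V) Γ(X, U₀) := (φ.appLE V U₀ e₀).hom.toAlgebra
  have hEtAlg : Algebra.Etale Γ(Y, V) Γ(X, U₀) := hR
  let Q : Ideal Γ(X, U₀) := (hU₀.primeIdealOf ⟨x, hxU₀⟩).asIdeal
  have : Q.IsPrime := (hU₀.primeIdealOf ⟨x, hxU₀⟩).isPrime
  have : Algebra.FormallyEtale Γ(X, U₀) (Localization.AtPrime Q) :=
    Algebra.FormallyEtale.of_isLocalization Q.primeCompl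
  have : Algebra.IsEtaleAt Γ(Y, V) Q :=
    Algebra.FormallyEtale.comp Γ(Y, V) Γ(X, U₀) (Localization.AtPrime Q)
  obtain ⟨f₀, hf₀, p, hp, θ, hθ⟩ := exists_standard Γ(Y, V) Γ(X, U₀) Q
  have hxf : x ∈ X.basicOpen f₀ := by
    have h1 : hU₀.fromSpec (hU₀.primeIdealOf ⟨x, hxU₀⟩) = x := hU₀.fromSpec_primeIdealOf ⟨x, hxU₀⟩
    have h2 : hU₀.primeIdealOf ⟨x, hxU₀⟩ ∈ hU₀.fromSpec ⁻¹ᵁ X.basicOpen f₀ := by
      rw [hU₀.fromSpec_preimage_basicOpen f₀]
      exact hf₀
    rw [← h1]
    exact h2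
  have e : X.basicOpen f₀ ≤ φ ⁻¹ᵁ V := (X.basicOpen_le f₀).trans e₀
  refine ⟨X.basicOpen f₀, hU₀.basicOpen f₀, hxf, e, p, hp, ?_⟩
  have := hU₀.isLocalization_basicOpen f₀
  let ι : Localization.Away f₀ ≃ₐ[Γ(X, U₀)] Γ(X, X.basicOpen f₀) :=
    IsLocalization.algEquiv (Submonoid.powers f₀) _ _
  let ρ : Localization.Away (AdjoinRoot.mk p (Polynomial.derivative p)) →+* Γ(X, X.basicOpen f₀) :=
    ι.toRingEquiv.toRingHom.comp θ.toRingHom
  have hρ : ρ.comp (algebraMap Γ(Y, V) _) = (φ.appLE V (X.basicOpen f₀) e).hom := by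
    apply RingHom.ext
    intro r
    have h1 : θ (algebraMap Γ(Y, V) _ r) = algebraMap Γ(Y, V) (Localization.Away f₀) r :=
      θ.commutes r
    have h2 : algebraMap Γ(Y, V) (Localization.Away f₀) r =
        algebraMap Γ(X, U₀) (Localization.Away f₀) (algebraMap Γ(Y, V) Γ(X, U₀) r) :=
      IsScalarTower.algebraMap_apply _ _ _ r
    have h3 : ι (algebraMap Γ(X, U₀) (Localization.Away f₀) (algebraMap Γ(Y, V) Γ(X, U₀) r)) =
        algebraMap Γ(X, U₀) Γ(X, X.basicOpen f₀) (algebraMap Γ(Y, V) Γ(X, U₀) r) :=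
      ι.commutes _
    have h4 : (φ.appLE V U₀ e₀ ≫ X.presheaf.map (homOfLE (X.basicOpen_le f₀)).op) =
        φ.appLE V (X.basicOpen f₀) e := Scheme.Hom.appLE_map φ e₀ _
    change ι (θ (algebraMap Γ(Y, V) _ r)) = _
    rw [h1, h2, h3, ← h4]
    rfl
  refine ⟨(hU₀.basicOpen f₀).isoSpec.hom ≫ Spec.map (CommRingCat.ofHom ρ), ?_, ?_⟩
  · have h5 : CommRingCat.ofHom ρ = CommRingCat.ofHom θ.toRingHom ≫
        CommRingCat.ofHom ι.toRingEquiv.toRingHom := rfl
    have : IsIso (CommRingCat.ofHom ι.toRingEquiv.toRingHom) :=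
      (ι.toRingEquiv.toCommRingCatIso).isIso_hom
    rw [h5, Spec.map_comp]
    infer_instance
  · rw [Category.assoc, ← Spec.map_comp, ← CommRingCat.ofHom_comp, hρ]
    rfl

end Groth.Agent.S9567
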