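import Groth.Statements.S9568
import Mathlib

set_option autoImplicit false
universe u
open EtLocal

namespace Groth.Agent.S9568

open KaehlerDifferential TensorProduct

section
variable {P B M : Type*} [CommRing P] [CommRing B] [Algebra P B] [AddCommGroup M] [Module P M]

theorem mem_smul_top_of_one_tmul_eq_zero (hsurj : Function.Surjective (algebraMap P B)) (y : M)
    (hy : (1 : B) ⊗ₜ[P] y = 0) : y ∈ RingHom.ker (algebraMap P B) • (⊤ : Submodule P M) := by
  let ℓ : (P ⧸ RingHom.ker (algebraMap P B)) →ₗ[P] B :=
    Submodule.liftQ (RingHom.ker (algebraMap P B)) (Algebra.linearMap P B) (fun x hx => hx)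
  have hℓ : Function.Bijective ℓ := by
    constructor
    · rw [injective_iff_map_eq_zero]
      intro x hx
      obtain ⟨p, rfl⟩ := Submodule.Quotient.mk_surjective _ x
      rw [Submodule.Quotient.mk_eq_zero]
      exact hx
    · intro b
      obtain ⟨p, rfl⟩ := hsurj b
      exact ⟨Submodule.Quotient.mk p, rfl⟩
  let e := LinearEquiv.ofBijective ℓ hℓ
  have h1 : (LinearEquiv.rTensor M e) ((1 : P ⧸ RingHom.ker (algebraMap P B)) ⊗ₜ[P] y) = 0 := by
    rw [LinearEquiv.rTensor_tmul]
    have : e (1 : P ⧸ RingHom.ker (algebraMap P B)) = 1 := by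
      change algebraMap P B 1 = 1
      exact map_one _
    rw [this, hy]
  rw [LinearEquiv.map_eq_zero_iff] at h1
  have h2 := congrArg (TensorProduct.quotTensorEquivQuotSMul M (RingHom.ker (algebraMap P B))) h1
  rw [TensorProduct.quotTensorEquivQuotSMul_mk_one_tmul, map_zero,
    Submodule.Quotient.mk_eq_zero] at h2
  exact h2

end

theorem ker_map_le (A P B : Type*) [CommRing A] [CommRing P] [CommRing B] [Algebra A P]
    [Algebra A B] [Algebra P B] [IsScalarTower A P B]
    (hsurj : Function.Surjective (algebraMap P B)) (x : Ω[P⁄A])
    (hx : KaehlerDifferential.map A A P B x = 0) :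
    x ∈ Submodule.span P ((KaehlerDifferential.D A P) '' (RingHom.ker (algebraMap P B) : Set P)) ⊔
      RingHom.ker (algebraMap P B) • (⊤ : Submodule P Ω[P⁄A]) := by
  have h1 : KaehlerDifferential.mapBaseChange A P B ((1 : B) ⊗ₜ[P] x) = 0 := by
    rw [KaehlerDifferential.mapBaseChange_tmul, one_smul]
    exact hx
  have hex := KaehlerDifferential.exact_kerCotangentToTensor_mapBaseChange A P B hsurj
  obtain ⟨c, hc⟩ := (hex _).mp h1
  obtain ⟨g, rfl⟩ := Ideal.toCotangent_surjective _ c
  rw [KaehlerDifferential.kerCotangentToTensor_toCotangent] at hc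
  have h2 : (1 : B) ⊗ₜ[P] (x - KaehlerDifferential.D A P g.1) = 0 := by
    rw [TensorProduct.tmul_sub, ← hc, sub_self]
  have h3 := mem_smul_top_of_one_tmul_eq_zero hsurj _ h2
  have h4 : x = KaehlerDifferential.D A P g.1 + (x - KaehlerDifferential.D A P g.1) := by abel
  rw [h4]
  exact Submodule.add_mem_sup (Submodule.subset_span ⟨g.1, g.2, rfl⟩) h3

end Groth.Agent.S9568

namespace Groth.Agent.S9568

/-- Let A be a ring, φ a surjection from the polynomial ring P = A[x_1, …, x_n] onto an A-algebra B with
kernel I, q a prime of B and 𝔮 its preimage in P. Then the localization at q of the module of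
differentials Ω_{B/A} vanishes if and only if the images of the differentials dg, g ∈ I, span the
localization of Ω_{P/A} at 𝔮 over P_𝔮. (Geometrically: for f locally of finite type, the stalk of
Ω_{X/Y} at x vanishes iff near x the scheme X is a closed subscheme of an affine space over the base
cut out by an ideal whose germs at the point have differentials generating the stalk of Ω of the
affine space; the published statement also lists the equivalence with f being unramified at x and
with the diagonal being a local isomorphism at x, which this row does not restate. The published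
statement asks for one such presentation near the point; this row states the equivalence for every
presentation, which is what the published proof shows and which implies the existential form.) -/
theorem result {A B : Type u} [CommRing A] [CommRing B]
    [Algebra A B] (n : ℕ) (φ : MvPolynomial (Fin n) A →ₐ[A] B) (hφ : Function.Surjective φ)
    (q : Ideal B) [q.IsPrime] :
    Subsingleton (LocalizedModule q.primeCompl (KaehlerDifferential A B)) ↔
      Submodule.span (Localization.AtPrime (q.comap φ.toRingHom))
        ((LocalizedModule.mkLinearMap (q.comap φ.toRingHom).primeCompl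
            (KaehlerDifferential A (MvPolynomial (Fin n) A))) ''
          ((KaehlerDifferential.D A (MvPolynomial (Fin n) A)) '' (RingHom.ker φ.toRingHom : Set (MvPolynomial (Fin n) A)))) = ⊤ := by
  classical
  letI : Algebra (MvPolynomial (Fin n) A) B := φ.toRingHom.toAlgebra
  haveI : IsScalarTower A (MvPolynomial (Fin n) A) B :=
    IsScalarTower.of_algebraMap_eq (fun a => (φ.commutes a).symm)
  have hsurj : Function.Surjective (algebraMap (MvPolynomial (Fin n) A) B) := hφ
  have hker := ker_map_le A (MvPolynomial (Fin n) A) B hsurj
  have hmsurj : Function.Surjective (KaehlerDifferential.map A A (MvPolynomial (Fin n) A) B) :=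
    KaehlerDifferential.map_surjective_of_surjective A A (MvPolynomial (Fin n) A) B hsurj
  have hkerN : ∀ x ∈ Submodule.span (MvPolynomial (Fin n) A)
      ((KaehlerDifferential.D A (MvPolynomial (Fin n) A)) ''
        (RingHom.ker φ.toRingHom : Set (MvPolynomial (Fin n) A))),
      KaehlerDifferential.map A A (MvPolynomial (Fin n) A) B x = 0 := by
    intro x hx
    refine Submodule.span_induction ?_ ?_ ?_ ?_ hx
    · rintro _ ⟨g, hg, rfl⟩
      rw [KaehlerDifferential.map_D]
      have : algebraMap (MvPolynomial (Fin n) A) B g = 0 := hg
      rw [this, map_zero]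
    · exact map_zero _
    · intro x y _ _ hx hy
      rw [map_add, hx, hy, add_zero]
    · intro a x _ hx
      rw [map_smul, hx, smul_zero]
  rw [LocalizedModule.subsingleton_iff,
    ← Submodule.localized'_span (Localization.AtPrime (q.comap φ.toRingHom))
      (q.comap φ.toRingHom).primeCompl
      (LocalizedModule.mkLinearMap (q.comap φ.toRingHom).primeCompl
        (KaehlerDifferential A (MvPolynomial (Fin n) A)))]
  constructor
  · intro h
    rw [eq_top_iff]
    refine Submodule.le_of_le_smul_of_le_jacobson_bot
      (I := IsLocalRing.maximalIdeal (Localization.AtPrime (q.comap φ.toRingHom)))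
      Module.Finite.fg_top (IsLocalRing.maximalIdeal_le_jacobson _) ?_
    intro y _
    obtain ⟨⟨ω, t⟩, rfl⟩ := IsLocalizedModule.mk'_surjective (q.comap φ.toRingHom).primeCompl
      (LocalizedModule.mkLinearMap (q.comap φ.toRingHom).primeCompl
        (KaehlerDifferential A (MvPolynomial (Fin n) A))) y
    obtain ⟨r, hr, hr0⟩ := h (KaehlerDifferential.map A A (MvPolynomial (Fin n) A) B ω)
    obtain ⟨s, rfl⟩ := hφ r
    have hs : s ∈ (q.comap φ.toRingHom).primeCompl := hr
    have h0 : KaehlerDifferential.map A A (MvPolynomial (Fin n) A) B (s • ω) = 0 := by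
      rw [map_smul]
      exact hr0
    obtain ⟨ν, hν, ι, hι, hsum⟩ := Submodule.mem_sup.mp (hker _ h0)
    have e1 : IsLocalizedModule.mk' (LocalizedModule.mkLinearMap (q.comap φ.toRingHom).primeCompl
        (KaehlerDifferential A (MvPolynomial (Fin n) A))) ω t =
        (IsLocalization.mk' (Localization.AtPrime (q.comap φ.toRingHom))
          (1 : MvPolynomial (Fin n) A) ((⟨s, hs⟩ : (q.comap φ.toRingHom).primeCompl) * t)) •
        LocalizedModule.mkLinearMap (q.comap φ.toRingHom).primeCompl
          (KaehlerDifferential A (MvPolynomial (Fin n) A)) (s • ω) := by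
      rw [← IsLocalizedModule.mk'_one (q.comap φ.toRingHom).primeCompl
        (LocalizedModule.mkLinearMap (q.comap φ.toRingHom).primeCompl
          (KaehlerDifferential A (MvPolynomial (Fin n) A))) (s • ω),
        IsLocalizedModule.mk'_smul_mk', one_smul, mul_one]
      exact (IsLocalizedModule.mk'_cancel_left (f := LocalizedModule.mkLinearMap
        (q.comap φ.toRingHom).primeCompl (KaehlerDifferential A (MvPolynomial (Fin n) A))) ω
        (⟨s, hs⟩ : (q.comap φ.toRingHom).primeCompl) t).symm
    change IsLocalizedModule.mk' (LocalizedModule.mkLinearMap (q.comap φ.toRingHom).primeCompl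
        (KaehlerDifferential A (MvPolynomial (Fin n) A))) ω t ∈ _
    rw [e1, ← hsum, map_add, smul_add]
    apply Submodule.add_mem_sup
    · apply Submodule.smul_mem
      rw [Submodule.mem_localized']
      exact ⟨ν, hν, 1, IsLocalizedModule.mk'_one _ _ _⟩
    · apply Submodule.smul_mem
      refine Submodule.smul_induction_on hι ?_ ?_
      · intro a ha z _
        rw [map_smul, ← algebraMap_smul (Localization.AtPrime (q.comap φ.toRingHom)) a]
        refine Submodule.smul_mem_smul ?_ Submodule.mem_top
        rw [IsLocalization.AtPrime.to_map_mem_maximal_iff _ (q.comap φ.toRingHom)]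
        change φ a ∈ q
        have : φ a = 0 := ha
        rw [this]
        exact zero_mem _
      · intro x y hx hy
        rw [map_add]
        exact add_mem hx hy
  · intro h η
    obtain ⟨ω, rfl⟩ := hmsurj η
    have h1 : LocalizedModule.mkLinearMap (q.comap φ.toRingHom).primeCompl
        (KaehlerDifferential A (MvPolynomial (Fin n) A)) ω ∈ (⊤ : Submodule
          (Localization.AtPrime (q.comap φ.toRingHom)) _) := Submodule.mem_top
    rw [← h, Submodule.mem_localized'] at h1
    obtain ⟨ν, hν, s, hs⟩ := h1
    rw [IsLocalizedModule.mk'_eq_iff] at hs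
    have hs' : LocalizedModule.mkLinearMap (q.comap φ.toRingHom).primeCompl
        (KaehlerDifferential A (MvPolynomial (Fin n) A)) ν =
        LocalizedModule.mkLinearMap (q.comap φ.toRingHom).primeCompl
        (KaehlerDifferential A (MvPolynomial (Fin n) A)) (s.1 • ω) := by
      rw [hs, map_smul]
      rfl
    rw [IsLocalizedModule.eq_iff_exists (q.comap φ.toRingHom).primeCompl] at hs'
    obtain ⟨c, hc⟩ := hs'
    refine ⟨φ (c.1 * s.1), (c * s).2, ?_⟩
    have h2 : KaehlerDifferential.map A A (MvPolynomial (Fin n) A) B ((c.1 * s.1) • ω) = 0 := by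
      rw [mul_smul]
      have : c.1 • s.1 • ω = c • (s.1 • ω) := rfl
      rw [this, ← hc]
      have : c • ν = c.1 • ν := rfl
      rw [this, map_smul, hkerN ν hν, smul_zero]
    rw [map_smul] at h2
    exact h2

end Groth.Agent.S9568
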