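import Groth.Statements.S9569
import Mathlib
import Groth.Agent.Lib.Lead.Inv6
import Groth.Agent.Lib.Helper35.Dual3
import Groth.Agent.Lib.Helper35.Gen
import Groth.Agent.Lib.Helper42.ModSheaf
import Groth.Prelude.Def_KoszTw

set_option autoImplicit false
universe u
open CategoryTheory CategoryTheory.Limits AlgebraicGeometry TopologicalSpace Opposite
open Constr

set_option linter.unusedSectionVars false

namespace Groth.Agent.S9569Aux

open Groth.Agent.Lib.Lead.Inv Groth.Agent.Lib.Lead.QCohAff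

variable {X : Scheme.{u}}

/-- naturality of `app` -/
lemma app_res {M N : X.Modules} (φ : M ⟶ N) {U V : X.Opens} (h : V ≤ U) (s : Γ(M, U)) :
    (φ.app V) (M.presheaf.map (homOfLE h).op s) = N.presheaf.map (homOfLE h).op ((φ.app U) s) := by
  have := congrArg (fun ψ => ψ.hom s) (φ.mapPresheaf.naturality (homOfLE h).op)
  exact this

lemma hom_eq_of_local {M N : X.Modules} (φ ψ : M ⟶ N) (U : X → X.Opens) (hxU : ∀ x, x ∈ U x)
    (h : ∀ (x : X) (W : X.Opens), W ≤ U x → ∀ s : Γ(M, W), (φ.app W) s = (ψ.app W) s) : φ = ψ := by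
  apply Scheme.Modules.hom_ext
  intro W
  ext s
  change (φ.app W) s = (ψ.app W) s
  have hcov : W ≤ ⨆ x, W ⊓ U x := by
    intro y hy
    exact Opens.mem_iSup.mpr ⟨y, hy, hxU y⟩
  refine Groth.Agent.Lib.Helper35.AbSheaf.ext_cover N.presheaf N.isSheaf (fun x => W ⊓ U x)
    (fun x => inf_le_left) hcov _ _ (fun x => ?_)
  change N.presheaf.map (homOfLE _).op ((φ.app W) s) = N.presheaf.map (homOfLE _).op ((ψ.app W) s)
  rw [← app_res, ← app_res, h x (W ⊓ U x) inf_le_right]

theorem app_injective_of_mono {M N : X.Modules} (φ : M ⟶ N) [Mono φ] (U : X.Opens) :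
    Function.Injective (φ.app U) := by
  have h1 : Mono ((Scheme.Modules.toPresheaf X).map φ) := inferInstance
  have h2 : Mono (((Scheme.Modules.toPresheaf X).map φ).app (op U)) := inferInstance
  exact (AddCommGrpCat.mono_iff_injective _).mp h2

lemma hom_inv_app {M M' : X.Modules} (e : M ≅ M') (W : X.Opens) (z : Γ(M, W)) :
    (e.inv.app W) ((e.hom.app W) z) = z := by
  have := congrArg (fun φ : M ⟶ M => (φ.app W) z) e.hom_inv_id
  exact this

lemma inv_hom_app {M M' : X.Modules} (e : M ≅ M') (W : X.Opens) (z : Γ(M', W)) :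
    (e.hom.app W) ((e.inv.app W) z) = z := by
  have := congrArg (fun φ : M' ⟶ M' => (φ.app W) z) e.inv_hom_id
  exact this

lemma exists_local_preimage {M N : X.Modules} (p : M ⟶ N) [hp : Epi p] (U : X.Opens) (t : Γ(N, U))
    (x : X) (hx : x ∈ U) :
    ∃ (W : X.Opens) (hW : W ≤ U), x ∈ W ∧ ∃ m : Γ(M, W),
      (p.app W) m = N.presheaf.map (homOfLE hW).op t := by
  haveI : PreservesFiniteColimits (SheafOfModules.toSheaf.{u} X.ringCatSheaf) :=
    PreservesColimitsOfSize.preservesFiniteColimits _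
  haveI : PreservesColimitsOfShape WalkingSpan (SheafOfModules.toSheaf.{u} X.ringCatSheaf) :=
    PreservesFiniteColimits.preservesFiniteColimits _
  have hpe : (SheafOfModules.toSheaf.{u} X.ringCatSheaf).PreservesEpimorphisms :=
    preservesEpimorphisms_of_preservesColimitsOfShape _
  have h1 : Epi ((SheafOfModules.toSheaf.{u} X.ringCatSheaf).map p) :=
    @Functor.PreservesEpimorphisms.preserves _ _ _ _ _ hpe _ _ p hp
  have h2 := (CategoryTheory.Sheaf.isLocallySurjective_iff_epi'
      (J := Opens.grothendieckTopology X) AddCommGrpCat _).mpr h1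
  have h3 := (TopCat.Presheaf.isLocallySurjective_iff (X := X.toTopCat) _).mp h2
  obtain ⟨W, hW, ⟨m, hm⟩, hxW⟩ := h3 U t x hx
  exact ⟨W, hW, hxW, m, hm⟩

lemma epi_of_local {M N : X.Modules} (p : M ⟶ N)
    (h : ∀ (U : X.Opens) (t : Γ(N, U)) (x : X), x ∈ U → ∃ (W : X.Opens) (hW : W ≤ U), x ∈ W ∧
      ∃ m : Γ(M, W), (p.app W) m = N.presheaf.map (homOfLE hW).op t) : Epi p := by
  have h1 : Epi ((SheafOfModules.toSheaf _).map p) := by
    refine (CategoryTheory.Sheaf.isLocallySurjective_iff_epi'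
      (J := Opens.grothendieckTopology X) AddCommGrpCat _).mp ?_
    refine (TopCat.Presheaf.isLocallySurjective_iff (X := X.toTopCat) _).mpr ?_
    intro U t x hx
    obtain ⟨W, hW, hxW, m, hm⟩ := h U t x hx
    exact ⟨W, hW, ⟨m, hm⟩, hxW⟩
  exact Functor.epi_of_epi_map (SheafOfModules.toSheaf _) h1

/-- evaluation at a section, additive in the morphism -/
noncomputable def evalHom {M N : X.Modules} (W : X.Opens) (g : Γ(M, W)) : (M ⟶ N) →+ Γ(N, W) where
  toFun φ := (φ.app W) g
  map_zero' := rfl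
  map_add' _ _ := rfl

lemma evalHom_apply {M N : X.Modules} (W : X.Opens) (g : Γ(M, W)) (φ : M ⟶ N) :
    evalHom W g φ = (φ.app W) g := rfl

/-- the range of `p` on sections over `W`, as a submodule -/
def rangeSub {M N : X.Modules} (p : M ⟶ N) (W : X.Opens) : Submodule Γ(X, W) Γ(N, W) where
  carrier := Set.range (p.app W)
  add_mem' := by
    rintro _ _ ⟨a, rfl⟩ ⟨b, rfl⟩
    exact ⟨a + b, map_add _ _ _⟩
  zero_mem' := ⟨0, map_zero _⟩
  smul_mem' := by
    rintro c _ ⟨a, rfl⟩
    exact ⟨c • a, Scheme.Modules.Hom.app_smul p c a⟩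


/-- the identity `Γ(O, W) = Γ(X, W)`, linear -/
noncomputable def toA (W : X.Opens) : Γ(Coh.structureModule X, W) →ₗ[Γ(X, W)] Γ(X, W) where
  toFun x := x
  map_add' _ _ := rfl
  map_smul' _ _ := rfl

/-- the unit section -/
noncomputable def oneO (W : X.Opens) : Γ(Coh.structureModule X, W) := (1 : Γ(X, W))

lemma toA_oneO (W : X.Opens) : toA W (oneO (X := X) W) = 1 := rfl

lemma toA_injective (W : X.Opens) : Function.Injective (toA (X := X) W) := fun _ _ h => h

lemma unitorR_inv_app (N : X.Modules) (W : X.Opens) (ν : Γ(N, W)) :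
    ((SecTwist.unitorR N).inv.app W) ν =
      tmul N (Coh.structureModule X) ν (oneO W) := by
  have h := SecTwist.unitorR_tmul N W ν (1 : X.ringCatSheaf.obj.obj (op W))
  replace h := h.trans (show (1 : Γ(X, W)) • ν = ν from one_smul _ ν)
  have h2 := hom_inv_app (SecTwist.unitorR N) W
    (tmul N (Coh.structureModule X) ν (oneO W))
  rw [← h2]
  exact congrArg (fun z => ((SecTwist.unitorR N).inv.app W) z) h.symm

lemma tensorMap_tmul' {M M' N N' : X.Modules} (f : M ⟶ M') (g : N ⟶ N') (U : X.Opens)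
    (m : Γ(M, U)) (n : Γ(N, U)) :
    ((KoszTw.tensorMap f g).app U) (tmul M N m n) = tmul M' N' ((f.app U) m) ((g.app U) n) :=
  KoszTw.tensorMap_tmul f g U m n

section construction

variable (L N : X.Modules) (α : CohB1.tensorMod N L ≅ Coh.structureModule X)

/-- the map `N ⟶ O` induced by a section of `L` -/
noncomputable def tt (s : Coh.structureModule X ⟶ L) : N ⟶ Coh.structureModule X :=
  (SecTwist.unitorR N).inv ≫ KoszTw.tensorMap (𝟙 N) s ≫ α.hom

lemma tt_app (s : Coh.structureModule X ⟶ L) (W : X.Opens) (ν : Γ(N, W)) (e : Γ(L, W))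
    (a : Γ(X, W)) (ha : val s W = a • e) :
    ((tt L N α s).app W) ν = a • ((α.hom.app W) (tmul N L ν e)) := by
  change (α.hom.app W) (((KoszTw.tensorMap (𝟙 N) s).app W) (((SecTwist.unitorR N).inv.app W) ν)) = _
  rw [unitorR_inv_app, tensorMap_tmul']
  have h1 : ((s.app W)) (oneO W) = a • e := ha
  rw [h1]
  have h2 : ((𝟙 N : N ⟶ N).app W) ν = ν := rfl
  rw [h2, tmul_smul_right, Scheme.Modules.Hom.app_smul]

lemma exists_eq_smul {M : X.Modules} {W : X.Opens} {e : Γ(M, W)} (he : IsGen M W e) (m : Γ(M, W)) :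
    ∃ r : Γ(X, W), m = r • e := by
  obtain ⟨r, hr⟩ := (he W le_rfl).2 m
  refine ⟨r, ?_⟩
  have hr' : r • M.presheaf.map (homOfLE (le_refl W)).op e = m := hr
  rw [res_self] at hr'
  exact hr'.symm

lemma eq_of_smul_eq {M : X.Modules} {W : X.Opens} {e : Γ(M, W)} (he : IsGen M W e) (r r' : Γ(X, W))
    (h : r • e = r' • e) : r = r' := by
  apply (he W le_rfl).1
  change r • M.presheaf.map (homOfLE (le_refl W)).op e = r' • M.presheaf.map (homOfLE (le_refl W)).op e
  rw [res_self]
  exact h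

lemma tt_comm (hL : PicF.IsInvertible L) (hN : PicF.IsInvertible N)
    (s s' : Coh.structureModule X ⟶ L) :
    tt L N α s ≫ s' = tt L N α s' ≫ s := by
  rw [isInvertible_iff_exists_isGen] at hL hN
  choose U₁ hx₁ e₁ he₁ using hL
  choose U₂ hx₂ ν₂ hν₂ using hN
  refine hom_eq_of_local _ _ (fun x => U₁ x ⊓ U₂ x) (fun x => ⟨hx₁ x, hx₂ x⟩) ?_
  intro x W hW m
  have hW₁ : W ≤ U₁ x := hW.trans inf_le_left
  have hW₂ : W ≤ U₂ x := hW.trans inf_le_right
  have he : IsGen L W (L.presheaf.map (homOfLE hW₁).op (e₁ x)) := (he₁ x).res hW₁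
  have hν : IsGen N W (N.presheaf.map (homOfLE hW₂).op (ν₂ x)) := (hν₂ x).res hW₂
  generalize L.presheaf.map (homOfLE hW₁).op (e₁ x) = e at he
  generalize N.presheaf.map (homOfLE hW₂).op (ν₂ x) = ν at hν
  obtain ⟨r, rfl⟩ := exists_eq_smul hν m
  obtain ⟨a, ha⟩ := exists_eq_smul he (val s W)
  obtain ⟨a', ha'⟩ := exists_eq_smul he (val s' W)
  have key : ∀ (s s' : Coh.structureModule X ⟶ L) (a a' : Γ(X, W)), val s W = a • e →
      val s' W = a' • e →
      (s'.app W) (((tt L N α s).app W) (r • ν)) =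
        (r * a * (toA W ((α.hom.app W) (tmul N L ν e))) * a') • e := by
    intro s s' a a' ha ha'
    rw [Scheme.Modules.Hom.app_smul, tt_app L N α s W ν e a ha]
    rw [Scheme.Modules.Hom.app_smul, Scheme.Modules.Hom.app_smul]
    have h1 : (s'.app W) ((α.hom.app W) (tmul N L ν e)) =
        (toA W ((α.hom.app W) (tmul N L ν e))) • val s' W := app_eq_smul s' W _
    rw [h1, ha']
    simp only [smul_smul]
    congr 1
    ring
  change (s'.app W) (((tt L N α s).app W) (r • ν)) = (s.app W) (((tt L N α s').app W) (r • ν))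
  rw [key s s' a a' ha ha', key s' s a' a ha' ha]
  congr 1
  ring

end construction

section free
variable (X) (m : ℕ)

/-- the projections of the free module -/
noncomputable def pr (j : Fin m) : FlatMod.freeMod X m ⟶ Coh.structureModule X :=
  Sigma.desc (fun i => if i = j then 𝟙 _ else 0)

lemma ι_pr (i j : Fin m) :
    Sigma.ι (fun _ : Fin m => Coh.structureModule X) i ≫ pr X m j = if i = j then 𝟙 _ else 0 := by
  unfold pr
  rw [Sigma.ι_desc]

lemma sum_pr_ι : ∑ j : Fin m, pr X m j ≫ Sigma.ι (fun _ : Fin m => Coh.structureModule X) j =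
    𝟙 (FlatMod.freeMod X m) := by
  apply Sigma.hom_ext
  intro i
  rw [Preadditive.comp_sum, Category.comp_id]
  rw [Finset.sum_eq_single i]
  · rw [← Category.assoc, ι_pr, if_pos rfl, Category.id_comp]
  · intro j _ hji
    rw [← Category.assoc, ι_pr, if_neg (Ne.symm hji), zero_comp]
  · intro h
    exact absurd (Finset.mem_univ i) h

variable {X} {m}

lemma decomp (W : X.Opens) (g : Γ(FlatMod.freeMod X m, W)) :
    g = ∑ j : Fin m, ((Sigma.ι (fun _ : Fin m => Coh.structureModule X) j).app W)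
      (((pr X m j).app W) g) := by
  have h := congrArg (evalHom W g) (sum_pr_ι X m)
  rw [map_sum] at h
  exact h.symm

lemma ext_pr (W : X.Opens) (g g' : Γ(FlatMod.freeMod X m, W))
    (h : ∀ j, ((pr X m j).app W) g = ((pr X m j).app W) g') : g = g' :=
  (decomp W g).trans ((Finset.sum_congr rfl (fun j _ => by rw [h j])).trans (decomp W g').symm)

end free

lemma ring_identity {A : Type*} [CommRing A] {n : ℕ} (gg a : Fin n → A) (u v w : A) (k j : Fin n)
    (hrel : ∑ i, gg i * a i = 0) (hu : u * a k = 1) (hvw : v * w = 1) :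
    ∑ i, (-(gg i * u * v)) * ((if k = j then a i * w else 0) - (if i = j then a k * w else 0)) =
      gg j := by
  simp only [mul_sub, Finset.sum_sub_distrib]
  have h1 : ∑ i, (-(gg i * u * v)) * (if k = j then a i * w else 0) = 0 := by
    split_ifs
    · have : ∀ i, (-(gg i * u * v)) * (a i * w) = (-(u * v * w)) * (gg i * a i) := fun i => by ring
      simp only [this, ← Finset.mul_sum, hrel, mul_zero]
    · simp
  have h2 : ∑ i, (-(gg i * u * v)) * (if i = j then a k * w else 0) = -(gg j) := by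
    simp only [mul_ite, mul_zero, Finset.sum_ite_eq', Finset.mem_univ, if_true]
    have : -(gg j * u * v) * (a k * w) = -(gg j * (u * a k) * (v * w)) := by ring
    rw [this, hu, hvw]
    ring
  rw [h1, h2]
  ring

section main

variable (L N : X.Modules) (α : CohB1.tensorMod N L ≅ Coh.structureModule X) (n : ℕ)
  (s : Fin (n + 1) → (Coh.structureModule X ⟶ L))

/-- the Koszul maps -/
noncomputable def κ (i j : Fin (n + 1)) : N ⟶ FlatMod.freeMod X (n + 1) :=
  tt L N α (s i) ≫ Sigma.ι (fun _ : Fin (n + 1) => Coh.structureModule X) j -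
    tt L N α (s j) ≫ Sigma.ι (fun _ : Fin (n + 1) => Coh.structureModule X) i

lemma κ_pr (i k j : Fin (n + 1)) :
    κ L N α n s i k ≫ pr X (n + 1) j =
      (if k = j then tt L N α (s i) else 0) - (if i = j then tt L N α (s k) else 0) := by
  unfold κ
  rw [Preadditive.sub_comp, Category.assoc, Category.assoc, ι_pr, ι_pr]
  split_ifs <;> simp

variable (hcomm : ∀ i j, tt L N α (s i) ≫ s j = tt L N α (s j) ≫ s i)

include hcomm in
lemma κ_π (i j : Fin (n + 1)) :
    κ L N α n s i j ≫ (Sigma.desc s : FlatMod.freeMod X (n + 1) ⟶ L) = 0 := by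
  unfold κ
  rw [Preadditive.sub_comp, Category.assoc, Category.assoc, Sigma.ι_desc, Sigma.ι_desc,
    hcomm i j, sub_self]

/-- the lifts to the kernel -/
noncomputable def κt (i j : Fin (n + 1)) :
    N ⟶ kernel (Sigma.desc s : FlatMod.freeMod X (n + 1) ⟶ L) :=
  kernel.lift _ (κ L N α n s i j) (κ_π L N α n s hcomm i j)

/-- the components of the presentation -/
noncomputable def pcomp (ij : ULift.{u} (Fin (n + 1) × Fin (n + 1))) :
    Coh.structureModule X ⟶
      CohB1.tensorMod (kernel (Sigma.desc s : FlatMod.freeMod X (n + 1) ⟶ L)) L :=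
  α.inv ≫ KoszTw.tensorMap (κt L N α n s hcomm ij.down.1 ij.down.2) (𝟙 L)

/-- the presentation -/
noncomputable def pmap :
    (∐ fun _ : ULift.{u} (Fin (n + 1) × Fin (n + 1)) => Coh.structureModule X) ⟶
      CohB1.tensorMod (kernel (Sigma.desc s : FlatMod.freeMod X (n + 1) ⟶ L)) L :=
  Sigma.desc (pcomp L N α n s hcomm)

lemma one_smul_O (W : X.Opens) (x : Γ(Coh.structureModule X, W)) :
    (toA W x) • (oneO W) = x :=
  mul_one (toA W x)

lemma mem_range_i (W : X.Opens) (e : Γ(L, W)) (ν : Γ(N, W)) (i j : Fin (n + 1)) :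
    tmul _ L (((κt L N α n s hcomm i j).app W) ν) e ∈ rangeSub (pmap L N α n s hcomm) W := by
  have h1 := tensorMap_tmul' (κt L N α n s hcomm i j) (𝟙 L) W ν e
  have h1' : ((𝟙 L : L ⟶ L).app W) e = e := rfl
  rw [h1'] at h1
  rw [← h1]
  have h2 : tmul N L ν e = (toA W ((α.hom.app W) (tmul N L ν e))) •
      (α.inv.app W) (oneO W) := by
    rw [← Scheme.Modules.Hom.app_smul, one_smul_O, hom_inv_app]
  rw [h2, Scheme.Modules.Hom.app_smul]
  apply Submodule.smul_mem
  refine ⟨((Sigma.ι (fun _ : ULift.{u} (Fin (n + 1) × Fin (n + 1)) => Coh.structureModule X)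
    ⟨(i, j)⟩).app W) (oneO W), ?_⟩
  have h3 : Sigma.ι (fun _ : ULift.{u} (Fin (n + 1) × Fin (n + 1)) => Coh.structureModule X)
      ⟨(i, j)⟩ ≫ pmap L N α n s hcomm = pcomp L N α n s hcomm ⟨(i, j)⟩ := by
    unfold pmap
    rw [Sigma.ι_desc]
  have h4 := congrArg (fun φ => (φ.app W) (oneO W)) h3
  exact h4

lemma key_local (W : X.Opens) (e : Γ(L, W)) (he : IsGen L W e) (ν : Γ(N, W)) (hν : IsGen N W ν)
    (a : Fin (n + 1) → Γ(X, W)) (ha : ∀ i, val (s i) W = a i • e) (k : Fin (n + 1))
    (u : Γ(X, W)) (hu : u * a k = 1)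
    (f : Γ(kernel (Sigma.desc s : FlatMod.freeMod X (n + 1) ⟶ L), W)) :
    tmul (kernel (Sigma.desc s : FlatMod.freeMod X (n + 1) ⟶ L)) L f e ∈
      rangeSub (pmap L N α n s hcomm) W := by
  set g := ((kernel.ι (Sigma.desc s : FlatMod.freeMod X (n + 1) ⟶ L)).app W) f with hg
  set gg : Fin (n + 1) → Γ(X, W) := fun j => toA W (((pr X (n + 1) j).app W) g) with hgg
  -- the relation
  have hrel : ∑ j, gg j * a j = 0 := by
    have h0 : ((Sigma.desc s : FlatMod.freeMod X (n + 1) ⟶ L).app W) g = 0 := by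
      have := congrArg (fun φ => (φ.app W) f)
        (kernel.condition (Sigma.desc s : FlatMod.freeMod X (n + 1) ⟶ L))
      exact this
    have hπ : (Sigma.desc s : FlatMod.freeMod X (n + 1) ⟶ L) =
        ∑ j, pr X (n + 1) j ≫ s j := by
      rw [← Category.id_comp (Sigma.desc s : FlatMod.freeMod X (n + 1) ⟶ L), ← sum_pr_ι,
        Preadditive.sum_comp]
      refine Finset.sum_congr rfl (fun j _ => ?_)
      rw [Category.assoc, Sigma.ι_desc]
    have h1 := congrArg (evalHom W g) hπ
    rw [map_sum] at h1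
    have h2 : ∀ j, evalHom W g (pr X (n + 1) j ≫ s j) = (gg j * a j) • e := by
      intro j
      change ((s j).app W) (((pr X (n + 1) j).app W) g) = _
      rw [mul_smul, ← ha j]
      exact app_eq_smul (s j) W (gg j)
    rw [Finset.sum_congr rfl (fun j _ => h2 j), ← Finset.sum_smul] at h1
    have h3 : (∑ j, gg j * a j) • e = (0 : Γ(X, W)) • e := by
      rw [zero_smul]
      exact h1.symm.trans h0
    exact eq_of_smul_eq he _ _ h3
  -- the unit `w`
  set w : Γ(X, W) := toA W ((α.hom.app W) (tmul N L ν e)) with hw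
  obtain ⟨v, hv⟩ := exists_eq_smul (isGen_tmul hν he)
    ((α.inv.app W) (oneO W))
  have hvw : v * w = 1 := by
    have h1 := congrArg (fun z => toA W ((α.hom.app W) z)) hv
    have h2 : toA W ((α.hom.app W) ((α.inv.app W) (oneO W))) = 1 := by
      rw [inv_hom_app]
      rfl
    have h3 : toA W ((α.hom.app W) (v • tmul N L ν e)) = v * w := by
      rw [Scheme.Modules.Hom.app_smul, map_smul, smul_eq_mul]
    exact h3.symm.trans (h1.symm.trans h2)
  -- the decomposition of `f`
  have hf : f = ∑ i, (-(gg i * u * v)) • ((κt L N α n s hcomm i k).app W) ν := by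
    apply app_injective_of_mono (kernel.ι (Sigma.desc s : FlatMod.freeMod X (n + 1) ⟶ L)) W
    apply ext_pr
    intro j
    apply toA_injective W
    rw [map_sum, map_sum, map_sum]
    have hterm : ∀ i, toA W (((pr X (n + 1) j).app W)
        (((kernel.ι (Sigma.desc s : FlatMod.freeMod X (n + 1) ⟶ L)).app W)
          ((-(gg i * u * v)) • ((κt L N α n s hcomm i k).app W) ν))) =
        (-(gg i * u * v)) * ((if k = j then a i * w else 0) - (if i = j then a k * w else 0)) := by
      intro i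
      rw [Scheme.Modules.Hom.app_smul, Scheme.Modules.Hom.app_smul, map_smul, smul_eq_mul]
      congr 1
      have h1 : ((kernel.ι (Sigma.desc s : FlatMod.freeMod X (n + 1) ⟶ L)).app W)
          (((κt L N α n s hcomm i k).app W) ν) = ((κ L N α n s i k).app W) ν := by
        have := congrArg (fun φ => (φ.app W) ν)
          (kernel.lift_ι (Sigma.desc s : FlatMod.freeMod X (n + 1) ⟶ L) (κ L N α n s i k)
            (κ_π L N α n s hcomm i k))
        exact this
      rw [h1]
      have h2 : ((pr X (n + 1) j).app W) (((κ L N α n s i k).app W) ν) =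
          ((κ L N α n s i k ≫ pr X (n + 1) j).app W) ν := rfl
      rw [h2, κ_pr]
      have h3 : ∀ i', toA W (((tt L N α (s i')).app W) ν) = a i' * w := by
        intro i'
        rw [tt_app L N α (s i') W ν e (a i') (ha i'), map_smul, smul_eq_mul]
      have h4 : ∀ φ ψ : N ⟶ Coh.structureModule X, toA W (((φ - ψ).app W) ν) =
          toA W ((φ.app W) ν) - toA W ((ψ.app W) ν) := fun φ ψ => rfl
      have h5 : toA W (((0 : N ⟶ Coh.structureModule X).app W) ν) = 0 := rfl
      rw [h4]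
      split_ifs <;> simp only [h3, h5]
    rw [Finset.sum_congr rfl (fun i _ => hterm i)]
    exact (ring_identity gg a u v w k j hrel hu hvw).symm
  rw [hf]
  -- linearity
  have hlin : tmul (kernel (Sigma.desc s : FlatMod.freeMod X (n + 1) ⟶ L)) L
      (∑ i, (-(gg i * u * v)) • ((κt L N α n s hcomm i k).app W) ν) e =
      ∑ i, (-(gg i * u * v)) • tmul _ L (((κt L N α n s hcomm i k).app W) ν) e := by
    rw [tmul_eq, TensorProduct.sum_tmul, map_sum]
    refine Finset.sum_congr rfl (fun i _ => ?_)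
    rw [← TensorProduct.smul_tmul', map_smul, ← tmul_eq]
  rw [hlin]
  exact Submodule.sum_mem _ (fun i _ => Submodule.smul_mem _ _ (mem_range_i L N α n s hcomm W e ν i k))

omit hcomm in
lemma π_app (W : X.Opens) (e : Γ(L, W)) (a : Fin (n + 1) → Γ(X, W))
    (ha : ∀ i, val (s i) W = a i • e) (g : Γ(FlatMod.freeMod X (n + 1), W)) :
    ((Sigma.desc s : FlatMod.freeMod X (n + 1) ⟶ L).app W) g =
      (∑ j, toA W (((pr X (n + 1) j).app W) g) * a j) • e := by
  have hπ : (Sigma.desc s : FlatMod.freeMod X (n + 1) ⟶ L) =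
      ∑ j, pr X (n + 1) j ≫ s j := by
    rw [← Category.id_comp (Sigma.desc s : FlatMod.freeMod X (n + 1) ⟶ L), ← sum_pr_ι,
      Preadditive.sum_comp]
    refine Finset.sum_congr rfl (fun j _ => ?_)
    rw [Category.assoc, Sigma.ι_desc]
  have h1 := congrArg (evalHom W g) hπ
  rw [map_sum] at h1
  have h2 : ∀ j, evalHom W g (pr X (n + 1) j ≫ s j) =
      (toA W (((pr X (n + 1) j).app W) g) * a j) • e := by
    intro j
    change ((s j).app W) (((pr X (n + 1) j).app W) g) = _
    rw [mul_smul, ← ha j]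
    exact app_eq_smul (s j) W _
  rw [Finset.sum_congr rfl (fun j _ => h2 j), ← Finset.sum_smul] at h1
  exact h1

end main

lemma exists_mem_basicOpen {W : X.Opens} {m : ℕ} (b a : Fin m → Γ(X, W))
    (h : ∑ j, b j * a j = 1) (x : X) (hx : x ∈ W) : ∃ k, x ∈ X.basicOpen (a k) := by
  by_contra hne
  simp only [not_exists] at hne
  have hmem : ∀ j, (X.presheaf.germ W x hx).hom (a j) ∈
      IsLocalRing.maximalIdeal (X.presheaf.stalk x) := by
    intro j
    rw [IsLocalRing.mem_maximalIdeal, mem_nonunits_iff]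
    intro hu
    exact hne j ((X.mem_basicOpen (a j) x hx).mpr hu)
  have h1 := congrArg (X.presheaf.germ W x hx).hom h
  rw [map_sum, map_one] at h1
  have h2 : (1 : X.presheaf.stalk x) ∈ IsLocalRing.maximalIdeal (X.presheaf.stalk x) := by
    rw [← h1]
    refine Ideal.sum_mem _ (fun j _ => ?_)
    rw [map_mul]
    exact Ideal.mul_mem_left _ _ (hmem j)
  exact (Ideal.ne_top_iff_one _).mp (IsLocalRing.maximalIdeal.isMaximal _).ne_top h2

theorem main (X : Scheme.{u}) (L : X.Modules) (hL : PicF.IsInvertible L)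
    (n : ℕ) (s : Fin (n + 1) → (Coh.structureModule X ⟶ L))
    (hs : Epi (Sigma.desc s : FlatMod.freeMod X (n + 1) ⟶ L)) :
    Curv2.IsGloballyGenerated
      (CohB1.tensorMod (kernel (Sigma.desc s : FlatMod.freeMod X (n + 1) ⟶ L)) L) := by
  obtain ⟨N, hN, -, ⟨α⟩⟩ := Groth.Agent.Lib.Helper35.Dual.exists_inverse hL
  have hcomm : ∀ i j, tt L N α (s i) ≫ s j = tt L N α (s j) ≫ s i :=
    fun i j => tt_comm L N α hL hN (s i) (s j)
  refine ⟨ULift.{u} (Fin (n + 1) × Fin (n + 1)), pmap L N α n s hcomm, ?_⟩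
  apply epi_of_local
  intro U t x hx
  rw [isInvertible_iff_exists_isGen] at hL hN
  obtain ⟨U₁, hx₁, e₁, he₁⟩ := hL x
  obtain ⟨U₂, hx₂, ν₂, hν₂⟩ := hN x
  obtain ⟨W₃, hW₃, hx₃, m₃, hm₃⟩ :=
    exists_local_preimage (Sigma.desc s : FlatMod.freeMod X (n + 1) ⟶ L) U₁ e₁ x hx₁
  have he₃ : IsGen L W₃ (L.presheaf.map (homOfLE hW₃).op e₁) := he₁.res hW₃
  generalize L.presheaf.map (homOfLE hW₃).op e₁ = e₃ at he₃ hm₃
  have hcoef : ∀ i, ∃ a : Γ(X, W₃), val (s i) W₃ = a • e₃ := fun i => exists_eq_smul he₃ _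
  choose a₃ ha₃ using hcoef
  have hsum : ∑ j, toA W₃ (((pr X (n + 1) j).app W₃) m₃) * a₃ j = 1 := by
    have h1 := π_app L n s W₃ e₃ a₃ ha₃ m₃
    rw [hm₃] at h1
    apply eq_of_smul_eq he₃
    rw [one_smul]
    exact h1.symm
  obtain ⟨k, hk⟩ := exists_mem_basicOpen _ a₃ hsum x hx₃
  -- the small open
  set W : X.Opens := U ⊓ U₂ ⊓ W₃ ⊓ X.basicOpen (a₃ k) with hWdef
  have hWU : W ≤ U := inf_le_left.trans (inf_le_left.trans inf_le_left)
  have hW₂ : W ≤ U₂ := inf_le_left.trans (inf_le_left.trans inf_le_right)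
  have hW₃' : W ≤ W₃ := inf_le_left.trans inf_le_right
  have hWb : W ≤ X.basicOpen (a₃ k) := inf_le_right
  have hxW : x ∈ W := ⟨⟨⟨hx, hx₂⟩, hx₃⟩, hk⟩
  have he : IsGen L W (L.presheaf.map (homOfLE hW₃').op e₃) := he₃.res hW₃'
  have hν : IsGen N W (N.presheaf.map (homOfLE hW₂).op ν₂) := hν₂.res hW₂
  have ha : ∀ i, val (s i) W = X.presheaf.map (homOfLE hW₃').op (a₃ i) •
      L.presheaf.map (homOfLE hW₃').op e₃ := by
    intro i
    rw [← res_smul, ← ha₃ i, val_res]
  have hunit : IsUnit (X.presheaf.map (homOfLE hW₃').op (a₃ k)) := by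
    have h1 : IsUnit (X.presheaf.map (homOfLE (X.basicOpen_le (a₃ k))).op (a₃ k)) :=
      RingedSpace.isUnit_res_basicOpen X.toRingedSpace (a₃ k)
    have h2 := h1.map (X.presheaf.map (homOfLE hWb).op).hom
    have h3 : (X.presheaf.map (homOfLE hWb).op).hom
        (X.presheaf.map (homOfLE (X.basicOpen_le (a₃ k))).op (a₃ k)) =
          X.presheaf.map (homOfLE hW₃').op (a₃ k) := res_resX _ _ _
    rw [h3] at h2
    exact h2
  obtain ⟨u, hu⟩ := hunit.exists_left_inv
  -- the section
  obtain ⟨f, hf⟩ := (Groth.Agent.Lib.Helper35.Gen.tm_right_bijective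
    (kernel (Sigma.desc s : FlatMod.freeMod X (n + 1) ⟶ L)) L
    (L.presheaf.map (homOfLE hW₃').op e₃) (fun W' hW' => he W' hW') W le_rfl).2
    ((CohB1.tensorMod (kernel (Sigma.desc s : FlatMod.freeMod X (n + 1) ⟶ L)) L).presheaf.map
      (homOfLE hWU).op t)
  have hf' : tmul (kernel (Sigma.desc s : FlatMod.freeMod X (n + 1) ⟶ L)) L f
      (L.presheaf.map (homOfLE hW₃').op e₃) =
      (CohB1.tensorMod (kernel (Sigma.desc s : FlatMod.freeMod X (n + 1) ⟶ L)) L).presheaf.map
        (homOfLE hWU).op t := by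
    rw [← hf]
    change _ = Groth.Agent.Lib.Helper35.Gen.tm _ L f
      (Groth.Agent.Lib.Helper35.Gen.rs L le_rfl (L.presheaf.map (homOfLE hW₃').op e₃))
    rw [Groth.Agent.Lib.Helper35.Gen.rs_self]
    rfl
  obtain ⟨m, hm⟩ := key_local L N α n s hcomm W _ he _ hν _ ha k u hu f
  exact ⟨W, hWU, hxW, m, hm.trans hf'⟩

end Groth.Agent.S9569Aux

namespace Groth.Agent.S9569

/-- Let X be a scheme, L an invertible O_X-module and s_0, …, s_n global sections of L, given as module
maps O_X → L, which generate L: the map O_X^{n+1} → L they induce is an epimorphism. Let F be the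
kernel of that map. Then F ⊗ L is globally generated, i.e. it is a quotient of a free O_X-module. -/
theorem result (X : Scheme.{u}) (L : X.Modules) (hL : PicF.IsInvertible L)
    (n : ℕ) (s : Fin (n + 1) → (Coh.structureModule X ⟶ L))
    (hs : Epi (Sigma.desc s : FlatMod.freeMod X (n + 1) ⟶ L)) :
    Curv2.IsGloballyGenerated (CohB1.tensorMod (kernel (Sigma.desc s : FlatMod.freeMod X (n + 1) ⟶ L)) L) := by
  exact Groth.Agent.S9569Aux.main X L hL n s hs

end Groth.Agent.S9569
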