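import Groth.Statements.S9571
import Mathlib
import Groth.Agent.Lib.Helper60.Twist
-- import your own Groth.Agent.* helpers here

set_option autoImplicit false
universe u
open CategoryTheory CategoryTheory.Limits AlgebraicGeometry TopologicalSpace Opposite
open Constr

namespace Groth.Agent.S9571

/-- Let S be a graded ring, X = Proj S and d ≥ 1; let W_d be the union of the opens D_+(ab) over pairs
of homogeneous a, b with deg a = deg b + d (the open over which the twisting sheaves O_X(nd) are
invertible with compatible multiplications). For n ≥ 1 and f homogeneous of degree nd, with s the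
section of O_X(nd) over W_d defined by f, the non-vanishing locus (W_d)_s equals D_+(f) ∩ W_d.
Pointwise: for p in some D_+(ab) as above, p ∈ D_+(f) if and only if the value f/1 of s at p
generates the module of degree-nd fractions at p (the span of the fractions c/t with t ∉ p and deg c
= deg t + nd, over the degree-zero local ring at p). -/
theorem result {R A : Type u} [CommRing R] [CommRing A] [Algebra R A] (𝒜 : ℕ → Submodule R A) [GradedAlgebra 𝒜]
    {d : ℕ} (hd : 0 < d) {i j : ℕ} {a b : A} (ha : a ∈ 𝒜 i) (hb : b ∈ 𝒜 j) (hij : i = j + d)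
    (p : ProjectiveSpectrum 𝒜) (hp : p ∈ ProjectiveSpectrum.basicOpen 𝒜 (a * b))
    {n : ℕ} (hn : 0 < n) (f : 𝒜 (n * d)) :
    p ∈ ProjectiveSpectrum.basicOpen 𝒜 (f : A) ↔
      Submodule.span (Twist.A0 𝒜 p) {(Twist.globalOf 𝒜 f).1 ⟨p, trivial⟩} = ⊤ := by
  have hpa : a ∉ p.asHomogeneousIdeal := fun hmem => hp (Ideal.mul_mem_right _ _ hmem)
  have hpb : b ∉ p.asHomogeneousIdeal := fun hmem => hp (Ideal.mul_mem_left _ _ hmem)
  have h1 : (1 : A) ∉ p.asHomogeneousIdeal := fun hmem =>
    p.isPrime.ne_top ((Ideal.eq_top_iff_one _).mpr hmem)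
  constructor
  · intro hf
    rw [eq_top_iff]
    rintro q -
    obtain ⟨c, hc⟩ := Groth.Agent.Lib.Helper60.TwistLib.exists_val_mul_eq ((n * d : ℕ) : ℤ) f
      (⟨1, SetLike.GradedOne.one_mem⟩ : 𝒜 0) (by simp) p hf h1 q.1 q.2
    rw [Submodule.mem_span_singleton]
    refine ⟨c, ?_⟩
    apply Subtype.ext
    rw [Twist.coe_smul_val]
    exact hc
  · intro hspan hf
    have hbn : b ^ n ∉ p.asHomogeneousIdeal := fun hmem => hpb (p.isPrime.mem_of_pow_mem n hmem)
    have hq : (Localization.mk (a ^ n) ⟨b ^ n, hbn⟩ : Twist.Loc 𝒜 p) ∈ Twist.twistAt 𝒜 ((n * d : ℕ) : ℤ) p :=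
      Submodule.subset_span ⟨n • i, n • j, ⟨a ^ n, SetLike.pow_mem_graded n ha⟩,
        ⟨b ^ n, SetLike.pow_mem_graded n hb⟩, hbn, by subst hij; simp; ring, rfl⟩
    have hmem : (⟨_, hq⟩ : Twist.twistAt 𝒜 ((n * d : ℕ) : ℤ) p) ∈
        Submodule.span (Twist.A0 𝒜 p) {(Twist.globalOf 𝒜 f).1 ⟨p, trivial⟩} := by
      rw [hspan]; trivial
    rw [Submodule.mem_span_singleton] at hmem
    obtain ⟨c, hc⟩ := hmem
    have hc' := congrArg Subtype.val hc
    rw [Twist.coe_smul_val, c.eq_num_div_den] at hc'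
    change Localization.mk c.num ⟨c.den, c.den_mem⟩ * Localization.mk (f : A) ⟨1, _⟩ =
      Localization.mk (a ^ n) ⟨b ^ n, hbn⟩ at hc'
    rw [Localization.mk_mul, Localization.mk_eq_mk_iff, Localization.r_iff_exists] at hc'
    obtain ⟨u, hu⟩ := hc'
    have hu' : (u : A) * (c.den * 1 * a ^ n) ∈ p.asHomogeneousIdeal.toIdeal := by
      have : (u : A) * (b ^ n * (c.num * (f : A))) ∈ p.asHomogeneousIdeal.toIdeal :=
        Ideal.mul_mem_left _ _ (Ideal.mul_mem_left _ _ (Ideal.mul_mem_left _ _ hf))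
      have hu2 : (u : A) * (b ^ n * (c.num * (f : A))) = (u : A) * (c.den * 1 * a ^ n) := hu
      rw [← hu2]; exact this
    rcases p.isPrime.mem_or_mem hu' with h | h
    · exact u.2 h
    · rcases p.isPrime.mem_or_mem h with h | h
      · rcases p.isPrime.mem_or_mem h with h | h
        · exact c.den_mem h
        · exact h1 h
      · exact hpa (p.isPrime.mem_of_pow_mem n h)

end Groth.Agent.S9571
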