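import Groth.Statements.S9572
import Mathlib
import Groth.Agent.Lib.Helper3.PCone

set_option autoImplicit false
universe u
open CategoryTheory CategoryTheory.Limits AlgebraicGeometry TopologicalSpace Opposite
open Constr

set_option linter.unusedSectionVars false

namespace Groth.Agent.S9572Aux

open HomogeneousLocalization Groth.Agent.Lib.Helper3.PConeLib

variable {R A : Type u} [CommRing R] [CommRing A] [Algebra R A] {𝒜 : ℕ → Submodule R A} [GradedAlgebra 𝒜]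
    {B : Type u} [CommRing B] [Algebra R B] {ℬ : ℕ → Submodule R B} [GradedAlgebra ℬ] (ψ : 𝒜 →+*ᵍ ℬ)
    (d₀ : ℕ) (hbij : ∀ d : ℕ, d₀ ≤ d → Set.BijOn ψ (𝒜 d) (ℬ d))

include hbij in
theorem away_map_bijective {d : ℕ} {f : A} (hf : f ∈ 𝒜 d) (hd : 0 < d) :
    Function.Bijective (Away.map ψ f) := by
  constructor
  · rw [injective_iff_map_eq_zero]
    intro x hx
    obtain ⟨n, a, ha, rfl⟩ := Away.mk_surjective 𝒜 hf x
    rw [Away.map_mk] at hx
    have hx' := congrArg HomogeneousLocalization.val hx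
    rw [Away.val_mk, HomogeneousLocalization.val_zero, Localization.mk_eq_mk',
      IsLocalization.mk'_eq_zero_iff] at hx'
    obtain ⟨⟨_, m, rfl⟩, hm⟩ := hx'
    have hm' : (ψ f) ^ m * ψ a = 0 := hm
    -- the element f^(m+d₀) * a
    have hdeg : f ^ (m + d₀) * a ∈ 𝒜 ((m + d₀) • d + n • d) :=
      SetLike.mul_mem_graded (SetLike.pow_mem_graded _ hf) ha
    have hle : d₀ ≤ (m + d₀) • d + n • d := by
      simp only [smul_eq_mul]
      nlinarith
    have hz : f ^ (m + d₀) * a = 0 := by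
      apply (hbij _ hle).injOn hdeg (zero_mem _)
      rw [map_mul, map_pow, map_zero, pow_add]
      calc (ψ f) ^ m * (ψ f) ^ d₀ * ψ a = (ψ f) ^ d₀ * ((ψ f) ^ m * ψ a) := by ring
        _ = 0 := by rw [hm', mul_zero]
    rw [HomogeneousLocalization.ext_iff_val, Away.val_mk, HomogeneousLocalization.val_zero,
      Localization.mk_eq_mk', IsLocalization.mk'_eq_zero_iff]
    exact ⟨⟨f ^ (m + d₀), m + d₀, rfl⟩, hz⟩
  · intro y
    obtain ⟨n, b, hb, rfl⟩ := Away.mk_surjective ℬ (ψ.2 hf) y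
    have hdeg : b * (ψ f) ^ d₀ ∈ ℬ (n • d + d₀ • d) :=
      SetLike.mul_mem_graded hb (SetLike.pow_mem_graded _ (ψ.2 hf))
    have hle : d₀ ≤ n • d + d₀ • d := by
      simp only [smul_eq_mul]
      nlinarith
    obtain ⟨a, ha, hab⟩ := (hbij _ hle).surjOn hdeg
    have ha' : a ∈ 𝒜 ((n + d₀) • d) := by rwa [add_smul]
    refine ⟨Away.mk 𝒜 hf (n + d₀) a ha', ?_⟩
    rw [Away.map_mk, HomogeneousLocalization.ext_iff_val, Away.val_mk, Away.val_mk,
      Localization.mk_eq_mk_iff, Localization.r_iff_exists]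
    refine ⟨1, ?_⟩
    simp only [OneMemClass.coe_one, one_mul]
    rw [hab]
    show (ψ f) ^ n * (b * (ψ f) ^ d₀) = (ψ f) ^ (n + d₀) * b
    rw [pow_add]
    ring

include hbij in
theorem dom_eq_top : PCone.dom ψ = ⊤ := by
  rw [_root_.eq_top_iff]
  intro x _
  obtain ⟨e, g, he, hg, hx⟩ := exists_mem_basicOpen ℬ x
  have hdeg : g ^ (d₀ + 1) ∈ ℬ ((d₀ + 1) • e) := SetLike.pow_mem_graded _ hg
  have hle : d₀ ≤ (d₀ + 1) • e := by
    simp only [smul_eq_mul]
    nlinarith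
  obtain ⟨a, ha, hab⟩ := (hbij _ hle).surjOn hdeg
  have hpos : 0 < (d₀ + 1) • e := by
    simp only [smul_eq_mul]
    positivity
  refine Opens.mem_iSup.mpr ⟨⟨a, (d₀ + 1) • e, hpos, ha⟩, ?_⟩
  show x ∈ Proj.basicOpen ℬ (ψ a)
  rw [hab, Proj.basicOpen_pow ℬ g (d₀ + 1) (Nat.succ_pos _)]
  exact hx

variable (r : (PCone.dom ψ : Scheme.{u}) ⟶ Proj 𝒜)
    (hr : ∀ (d : ℕ) (f : A) (hd : 0 < d) (hf : f ∈ 𝒜 d),
      PCone.chart ψ hf hd ≫ r =
        Spec.map (CommRingCat.ofHom (HomogeneousLocalization.Away.map ψ f)) ≫ Proj.awayι 𝒜 f hf hd)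

include hbij hr in
theorem isIso_restrict {d : ℕ} {f : A} (hf : f ∈ 𝒜 d) (hd : 0 < d) :
    IsIso (r ∣_ Proj.basicOpen 𝒜 f) := by
  have hrange1 : Set.range (PCone.chart ψ hf hd).base =
      Set.range (r ⁻¹ᵁ Proj.basicOpen 𝒜 f).ι.base := by
    rw [Scheme.Opens.range_ι, preimage_basicOpen ψ r hr hf hd]
    rfl
  have hrange2 : Set.range (Proj.awayι 𝒜 f hf hd).base =
      Set.range (Proj.basicOpen 𝒜 f).ι.base := by
    rw [Scheme.Opens.range_ι, ← Proj.opensRange_awayι 𝒜 f hf hd]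
    rfl
  let iso₁ := IsOpenImmersion.isoOfRangeEq (PCone.chart ψ hf hd)
    (r ⁻¹ᵁ Proj.basicOpen 𝒜 f).ι hrange1
  let iso₂ := IsOpenImmersion.isoOfRangeEq (Proj.awayι 𝒜 f hf hd)
    (Proj.basicOpen 𝒜 f).ι hrange2
  haveI : IsIso (CommRingCat.ofHom (HomogeneousLocalization.Away.map ψ f)) := by
    rw [ConcreteCategory.isIso_iff_bijective]
    exact away_map_bijective ψ d₀ hbij hf hd
  have key : iso₁.hom ≫ (r ∣_ Proj.basicOpen 𝒜 f) =
      Spec.map (CommRingCat.ofHom (HomogeneousLocalization.Away.map ψ f)) ≫ iso₂.hom := by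
    rw [← cancel_mono (Proj.basicOpen 𝒜 f).ι]
    simp only [Category.assoc, morphismRestrict_ι]
    rw [IsOpenImmersion.isoOfRangeEq_hom_fac, IsOpenImmersion.isoOfRangeEq_hom_fac_assoc]
    exact hr d f hd hf
  have : r ∣_ Proj.basicOpen 𝒜 f = iso₁.inv ≫
      Spec.map (CommRingCat.ofHom (HomogeneousLocalization.Away.map ψ f)) ≫ iso₂.hom := by
    rw [← key, Iso.inv_hom_id_assoc]
  rw [this]
  infer_instance

include hbij hr in
theorem isIso : IsIso r := by
  let U : {f : A // ∃ d : ℕ, 0 < d ∧ f ∈ 𝒜 d} → (Proj 𝒜).Opens := fun f => Proj.basicOpen 𝒜 f.1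
  have hU : iSup U = ⊤ := by
    rw [_root_.eq_top_iff]
    intro x _
    obtain ⟨d, f, hd, hf, hx⟩ := exists_mem_basicOpen 𝒜 x
    exact Opens.mem_iSup.mpr ⟨⟨f, d, hd, hf⟩, hx⟩
  have : MorphismProperty.isomorphisms Scheme r := by
    refine IsZariskiLocalAtTarget.of_iSup_eq_top (P := MorphismProperty.isomorphisms Scheme) U hU ?_
    rintro ⟨f, d, hd, hf⟩
    exact isIso_restrict ψ d₀ hbij r hr hf hd
  exact this

end Groth.Agent.S9572Aux

namespace Groth.Agent.S9572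

/-- Let ψ : A → B be a homomorphism of graded rings such that A_d → B_d is bijective for all d ≥ d₀. Let
U(ψ) ⊆ Proj B be the union of the opens D_+(ψ f) over homogeneous f of positive degree, and r_ψ :
U(ψ) → Proj A the morphism whose restriction to each chart Spec B_(ψ f) is Spec of the induced map
A_(f) → B_(ψ f) followed by the chart of Proj A. Then U(ψ) = Proj B and r_ψ is an isomorphism. (Here
r_ψ is any morphism with that chart description; it is unique.) -/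
theorem result {R A : Type u} [CommRing R] [CommRing A] [Algebra R A] (𝒜 : ℕ → Submodule R A) [GradedAlgebra 𝒜]
    {B : Type u} [CommRing B] [Algebra R B] (ℬ : ℕ → Submodule R B) [GradedAlgebra ℬ] (ψ : 𝒜 →+*ᵍ ℬ)
    (d₀ : ℕ) (hbij : ∀ d : ℕ, d₀ ≤ d → Set.BijOn ψ (𝒜 d) (ℬ d))
    (r : (PCone.dom ψ : Scheme.{u}) ⟶ Proj 𝒜)
    (hr : ∀ (d : ℕ) (f : A) (hd : 0 < d) (hf : f ∈ 𝒜 d),
      PCone.chart ψ hf hd ≫ r =
        Spec.map (CommRingCat.ofHom (HomogeneousLocalization.Away.map ψ f)) ≫ Proj.awayι 𝒜 f hf hd) :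
    PCone.dom ψ = ⊤ ∧ IsIso r := by
  exact ⟨Groth.Agent.S9572Aux.dom_eq_top ψ d₀ hbij, Groth.Agent.S9572Aux.isIso ψ d₀ hbij r hr⟩

end Groth.Agent.S9572
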