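import Groth.Statements.S9576
import Mathlib
-- import your own Groth.Agent.* helpers here

set_option autoImplicit false
universe u
open CategoryTheory CategoryTheory.Limits AlgebraicGeometry TopologicalSpace Opposite
open Constr

namespace Groth.Agent.S9576

open MvPolynomial in
theorem adjoin_X (n : ℕ) (R : Type u) [CommRing R] :
    Algebra.adjoin (CohB1.polyGrading n R 0)
      (Set.range (X : Fin (n + 1) → MvPolynomial (Fin (n + 1)) R)) = ⊤ := by
  rw [eq_top_iff]
  rintro p -
  induction p using MvPolynomial.induction_on with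
  | C r =>
    exact Subalgebra.algebraMap_mem _ (⟨C r, isHomogeneous_C _ r⟩ : CohB1.polyGrading n R 0)
  | add p q hp hq => exact add_mem hp hq
  | mul_X p i hp => exact mul_mem hp (Algebra.subset_adjoin ⟨i, rfl⟩)

open MvPolynomial in
noncomputable def dehom (n : ℕ) (R : Type u) [CommRing R] (i : Fin (n + 1)) :
    MvPolynomial (Fin (n + 1)) R →+* MvPolynomial {j : Fin (n + 1) // j ≠ i} R :=
  eval₂Hom C (fun l => if h : l = i then 1 else X ⟨l, h⟩)

open MvPolynomial in
noncomputable def chi (n : ℕ) (R : Type u) [CommRing R] (i : Fin (n + 1)) :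
    HomogeneousLocalization.Away (CohB1.polyGrading n R) (X i) →+*
      MvPolynomial {j : Fin (n + 1) // j ≠ i} R :=
  (Localization.awayLift (dehom n R i) (X i)
    (by simp [dehom])).comp
    (algebraMap (HomogeneousLocalization.Away (CohB1.polyGrading n R) (X i)) (Localization.Away (X i : MvPolynomial (Fin (n + 1)) R)))

open MvPolynomial in
noncomputable abbrev phi (n : ℕ) (R : Type u) [CommRing R] (i : Fin (n + 1)) :
    MvPolynomial {j : Fin (n + 1) // j ≠ i} R →+*
      HomogeneousLocalization.Away (CohB1.polyGrading n R) (X i) :=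
  (MvPolynomial.eval₂Hom
          ((HomogeneousLocalization.fromZeroRingHom (CohB1.polyGrading n R) (Submonoid.powers (MvPolynomial.X i))).comp
            (algebraMap R (CohB1.polyGrading n R 0)))
          (fun j : {j : Fin (n + 1) // j ≠ i} =>
            (HomogeneousLocalization.mk ⟨1, ⟨MvPolynomial.X j.1, MvPolynomial.isHomogeneous_X R j.1⟩,
              ⟨MvPolynomial.X i, MvPolynomial.isHomogeneous_X R i⟩, ⟨1, pow_one _⟩⟩ :
              HomogeneousLocalization.Away (CohB1.polyGrading n R) (MvPolynomial.X i))))

open MvPolynomial in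
theorem chi_phi (n : ℕ) (R : Type u) [CommRing R] (i : Fin (n + 1)) :
    (chi n R i).comp (phi n R i) = RingHom.id _ := by
  apply MvPolynomial.ringHom_ext
  · intro r
    simp only [phi, chi, RingHom.comp_apply, eval₂Hom_C, RingHom.id_apply]
    rw [HomogeneousLocalization.algebraMap_apply]
    have h1 : (HomogeneousLocalization.fromZeroRingHom (CohB1.polyGrading n R) (Submonoid.powers (X i))
        ((algebraMap R ↥(CohB1.polyGrading n R 0)) r)).val =
        (Localization.mk (C r) ⟨X i ^ 0, 0, rfl⟩ : Localization.Away (X i : MvPolynomial (Fin (n + 1)) R)) := by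
      rw [HomogeneousLocalization.fromZeroRingHom]
      simp only [RingHom.coe_mk, MonoidHom.coe_mk, OneHom.coe_mk, HomogeneousLocalization.val_mk]
      congr 1
    rw [h1, Localization.awayLift_mk (v := 1) (hv := by simp [dehom])]
    simp [dehom]
  · intro j
    simp only [phi, chi, RingHom.comp_apply, eval₂Hom_X', RingHom.id_apply]
    rw [HomogeneousLocalization.algebraMap_apply]
    have h1 : (HomogeneousLocalization.mk ⟨1, ⟨X j.1, isHomogeneous_X R j.1⟩,
        ⟨X i, isHomogeneous_X R i⟩, ⟨1, pow_one _⟩⟩ :
        HomogeneousLocalization.Away (CohB1.polyGrading n R) (X i)).val =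
        (Localization.mk (X j.1) ⟨X i ^ 1, 1, rfl⟩ : Localization.Away (X i : MvPolynomial (Fin (n + 1)) R)) := by
      rw [HomogeneousLocalization.val_mk]
      congr 1
      exact Subtype.ext (pow_one _).symm
    rw [h1, Localization.awayLift_mk (v := 1) (hv := by simp [dehom])]
    simp [dehom, j.2]

/-- For a ring R and n ≥ 0, projective n-space Proj R[T_0, …, T_n] is covered by the n + 1 standard
opens D_+(T_i), and each D_+(T_i) = Spec R[T_0, …, T_n]_(T_i) is an affine n-space: the ring
homomorphism from the polynomial ring over R in the variables T_j, j ≠ i, to the degree-zero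
localization R[T_0, …, T_n]_(T_i), sending T_j to T_j/T_i and a constant r to r/1, is bijective.
(The published statement is over ℤ; this row is over any ring R.) -/
theorem result (n : ℕ) (R : Type u) [CommRing R] :
    (⨆ i : Fin (n + 1), Proj.basicOpen (CohB1.polyGrading n R) (MvPolynomial.X i)) = ⊤ ∧
      ∀ i : Fin (n + 1), Function.Bijective
        (MvPolynomial.eval₂Hom
          ((HomogeneousLocalization.fromZeroRingHom (CohB1.polyGrading n R) (Submonoid.powers (MvPolynomial.X i))).comp
            (algebraMap R (CohB1.polyGrading n R 0)))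
          (fun j : {j : Fin (n + 1) // j ≠ i} =>
            (HomogeneousLocalization.mk ⟨1, ⟨MvPolynomial.X j.1, MvPolynomial.isHomogeneous_X R j.1⟩,
              ⟨MvPolynomial.X i, MvPolynomial.isHomogeneous_X R i⟩, ⟨1, pow_one _⟩⟩ :
              HomogeneousLocalization.Away (CohB1.polyGrading n R) (MvPolynomial.X i)))) := by
  refine ⟨?_, fun i => ⟨?_, ?_⟩⟩
  · exact Proj.iSup_basicOpen_eq_top' _ _ (fun i => ⟨1, MvPolynomial.isHomogeneous_X R i⟩) (adjoin_X n R)
  · intro p q hpq
    have h := congrArg (chi n R i) hpq
    have h2 : ∀ z, chi n R i (phi n R i z) = z := fun z => by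
      rw [← RingHom.comp_apply, chi_phi]; rfl
    rw [← h2 p, ← h2 q]
    exact h
  · intro z
    have hz : z ∈ (⊤ : Submodule (CohB1.polyGrading n R 0)
        (HomogeneousLocalization.Away (CohB1.polyGrading n R) (MvPolynomial.X i))) := trivial
    rw [← HomogeneousLocalization.Away.span_mk_prod_pow_eq_top (MvPolynomial.isHomogeneous_X R i)
      MvPolynomial.X (adjoin_X n R) (fun _ => 1) (fun l => MvPolynomial.isHomogeneous_X R l)] at hz
    induction hz using Submodule.span_induction with
    | mem z hz =>
      obtain ⟨a, ai, hai, rfl⟩ := hz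
      refine ⟨∏ l : {l : Fin (n + 1) // l ≠ i}, MvPolynomial.X l ^ ai l.1, ?_⟩
      apply HomogeneousLocalization.val_injective
      rw [HomogeneousLocalization.Away.val_mk, ← HomogeneousLocalization.algebraMap_apply,
        map_prod, map_prod]
      simp only [map_pow, MvPolynomial.eval₂Hom_X', HomogeneousLocalization.algebraMap_apply,
        HomogeneousLocalization.val_mk, Localization.mk_pow, Localization.mk_prod]
      have hsum : a = ai i + ∑ l : {l : Fin (n + 1) // l ≠ i}, ai l.1 := by
        have h1 : a = ∑ l, ai l := by simpa using hai.symm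
        rw [h1, Fintype.sum_eq_add_sum_compl i ai]
        congr 1
        exact Finset.sum_subtype _ (by simp) _
      have hprod : (∏ l, (MvPolynomial.X l : MvPolynomial (Fin (n + 1)) R) ^ ai l) =
          MvPolynomial.X i ^ ai i *
            ∏ l : {l : Fin (n + 1) // l ≠ i}, (MvPolynomial.X l.1 : MvPolynomial (Fin (n + 1)) R) ^ ai l.1 := by
        rw [Fintype.prod_eq_mul_prod_compl i]
        congr 1
        exact Finset.prod_subtype _ (by simp) _
      rw [Localization.mk_eq_mk_iff, Localization.r_iff_exists]
      refine ⟨1, ?_⟩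
      simp only [OneMemClass.coe_one, one_mul, Submonoid.coe_finsetProd, SubmonoidClass.coe_pow,
        Finset.prod_pow_eq_pow_sum]
      rw [hprod, hsum]
      ring
    | zero => exact ⟨0, map_zero _⟩
    | add z w _ _ hz hw =>
      obtain ⟨p, rfl⟩ := hz
      obtain ⟨q, rfl⟩ := hw
      exact ⟨p + q, map_add _ _ _⟩
    | smul c z _ hz =>
      obtain ⟨q, rfl⟩ := hz
      have hc : (c : MvPolynomial (Fin (n + 1)) R) ∈ (1 : Submodule R (MvPolynomial (Fin (n + 1)) R)) := by
        rw [← MvPolynomial.homogeneousSubmodule_zero]; exact c.2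
      rw [Submodule.mem_one] at hc
      obtain ⟨r, hr⟩ := hc
      refine ⟨MvPolynomial.C r * q, ?_⟩
      rw [map_mul, Algebra.smul_def, MvPolynomial.eval₂Hom_C]
      congr 1
      simp only [RingHom.comp_apply]
      rw [HomogeneousLocalization.algebraMap_eq]
      congr 1
      exact Subtype.ext hr

end Groth.Agent.S9576
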