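import Groth.Statements.S9580
import Groth.Agent.Lib.Helper60.Twist
import Groth.Agent.Lib.Helper33.GrModLib
-- import your own Groth.Agent.* helpers here

set_option autoImplicit false
universe u
open CategoryTheory CategoryTheory.Limits AlgebraicGeometry TopologicalSpace Opposite
open Constr

namespace Groth.Agent.S9580

/-- Let S be a graded ring, X = Proj S and Y ⊆ X a quasi-compact open subscheme. Then there is an
integer d ≥ 1 such that Y is contained in the open W_d, the union of the standard opens D_+(ab) over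
homogeneous a, b with deg a = deg b + d, and such that the restriction O_Y(nd) of O_X(nd) to Y is
invertible for every integer n. (The remaining assertions — the multiplication maps among the
O_Y(nd) and M~(nd) are isomorphisms, D_+(f) ∩ Y = Y_s, and the loci Y_s form a basis — are not
stated here.) -/
theorem result {R A : Type u} [CommRing R] [CommRing A] [Algebra R A] (𝒜 : ℕ → Submodule R A) [GradedAlgebra 𝒜]
    (Y : (Proj 𝒜).Opens) (hY : IsCompact (Y : Set (Proj 𝒜))) :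
    ∃ d : ℕ, 0 < d ∧
      (∀ y : Proj 𝒜, y ∈ Y → ∃ (i j : ℕ) (a b : A), a ∈ 𝒜 i ∧ b ∈ 𝒜 j ∧ i = j + d ∧ y ∈ Proj.basicOpen 𝒜 (a * b)) ∧
      ∀ n : ℤ, PicF.IsInvertible ((Twist.twist 𝒜 (n * d)).restrict Y.ι) := by
  classical
  -- a finite cover of `Y` by standard opens
  have hex : ∀ y : Proj 𝒜, ∃ (k : ℕ) (g : A), 0 < k ∧ g ∈ 𝒜 k ∧ g ∉ y.asHomogeneousIdeal := by
    intro y
    obtain ⟨k, hk, g, hg, hgy⟩ := Groth.Agent.Lib.Helper33.GrModLib.exists_pos_not_mem 𝒜 y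
    exact ⟨k, g, hk, hg, hgy⟩
  choose k g hk hg hgy using hex
  obtain ⟨t, ht⟩ := hY.elim_finite_subcover
    (fun y : Proj 𝒜 => ((Proj.basicOpen 𝒜 (g y) : (Proj 𝒜).Opens) : Set (Proj 𝒜)))
    (fun y => (Proj.basicOpen 𝒜 (g y)).2) (by
      intro y _
      exact Set.mem_iUnion.2 ⟨y, (Proj.mem_basicOpen 𝒜 (g y) y).2 (hgy y)⟩)
  let d : ℕ := ∏ z ∈ t, k z
  have hd : 0 < d := Finset.prod_pos (fun z _ => hk z)
  -- for each point of `Y` an element of degree `d` not vanishing there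
  have hpt : ∀ y : Proj 𝒜, y ∈ Y → ∃ a : A, a ∈ 𝒜 d ∧ a ∉ y.asHomogeneousIdeal := by
    intro y hy
    have := ht hy
    simp only [Set.mem_iUnion] at this
    obtain ⟨z, hz, hyz⟩ := this
    have hdvd : k z ∣ d := Finset.dvd_prod_of_mem k hz
    obtain ⟨c, hc⟩ := hdvd
    refine ⟨g z ^ c, ?_, ?_⟩
    · have := SetLike.pow_mem_graded c (hg z)
      rw [smul_eq_mul, mul_comm, ← hc] at this
      exact this
    · intro hmem
      exact (Proj.mem_basicOpen 𝒜 (g z) y).1 hyz (y.isPrime.mem_of_pow_mem c hmem)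
  refine ⟨d, hd, ?_, ?_⟩
  · intro y hy
    obtain ⟨a, ha, hay⟩ := hpt y hy
    refine ⟨d, 0, a, 1, ha, SetLike.GradedOne.one_mem, by omega, ?_⟩
    rw [mul_one]
    exact (Proj.mem_basicOpen 𝒜 a y).2 hay
  · intro n y
    obtain ⟨a, ha, hay⟩ := hpt (Y.ι y) y.2
    let U : (Y : Scheme.{u}).Opens := Y.ι ⁻¹ᵁ (Proj.basicOpen 𝒜 a)
    have hyU : y ∈ U := (Proj.mem_basicOpen 𝒜 a (Y.ι y)).2 hay
    have hU : ∀ u : U, a ∉ ((U.ι ≫ Y.ι) u).asHomogeneousIdeal := by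
      intro u
      have h1 : (U.ι u : Y) ∈ U := u.2
      exact (Proj.mem_basicOpen 𝒜 a _).1 h1
    refine ⟨U, hyU, ?_⟩
    have e1 : ((Twist.twist 𝒜 (n * d)).restrict Y.ι).restrict U.ι ≅
        (Twist.twist 𝒜 (n * d)).restrict (U.ι ≫ Y.ι) :=
      ((Scheme.Modules.restrictFunctorComp U.ι Y.ι).app (Twist.twist 𝒜 (n * d))).symm
    have hone : ∀ u : U, (1 : A) ∉ ((U.ι ≫ Y.ι) u).asHomogeneousIdeal := fun u h =>
      ((U.ι ≫ Y.ι) u).isPrime.ne_top ((Ideal.eq_top_iff_one _).2 h)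
    have hpow : ∀ (c : ℕ) (u : U), a ^ c ∉ ((U.ι ≫ Y.ι) u).asHomogeneousIdeal := fun c u h =>
      hU u (((U.ι ≫ Y.ι) u).isPrime.mem_of_pow_mem c h)
    have hpowmem : ∀ c : ℕ, a ^ c ∈ 𝒜 (c * d) := fun c => by
      have := SetLike.pow_mem_graded c ha
      rwa [smul_eq_mul] at this
    obtain ⟨e2⟩ : Nonempty ((Twist.twist 𝒜 (n * d)).restrict (U.ι ≫ Y.ι) ≅
        Coh.structureModule (U : Scheme.{u})) := by
      rcases le_total 0 n with hn | hn
      · obtain ⟨c, rfl⟩ := Int.eq_ofNat_of_zero_le hn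
        exact Groth.Agent.Lib.Helper60.TwistLib.twist_restrict_iso 𝒜 (U.ι ≫ Y.ι) ((c : ℤ) * (d : ℤ))
          (⟨a ^ c, hpowmem c⟩ : 𝒜 (c * d)) (⟨1, SetLike.GradedOne.one_mem⟩ : 𝒜 0)
          (by push_cast; ring) (hpow c) hone
      · obtain ⟨c, hc⟩ := Int.eq_ofNat_of_zero_le (neg_nonneg.2 hn)
        have hn' : n = -(c : ℤ) := by omega
        subst hn'
        exact Groth.Agent.Lib.Helper60.TwistLib.twist_restrict_iso 𝒜 (U.ι ≫ Y.ι) (-(c : ℤ) * (d : ℤ))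
          (⟨1, SetLike.GradedOne.one_mem⟩ : 𝒜 0) (⟨a ^ c, hpowmem c⟩ : 𝒜 (c * d))
          (by push_cast; ring) hone (hpow c)
    exact ⟨e1 ≪≫ e2⟩

end Groth.Agent.S9580
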