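import Groth.Statements.S9582
import Mathlib.RingTheory.Ideal.MinimalPrime.Basic
import Mathlib.RingTheory.Ideal.Maximal
import Mathlib.RingTheory.Nilpotent.Basic

set_option autoImplicit false
universe u
open CAlg

namespace Groth.Agent.S9582


section
variable {R : Type u} [CommRing R]

theorem exists_prime_le_of_disjoint (p : Ideal R) [p.IsPrime] (I : Ideal R) (a : R)
    (h : ∀ u, u ∉ p → ∀ n : ℕ, u * a ^ n ∉ I) :
    ∃ q : Ideal R, q.IsPrime ∧ I ≤ q ∧ q ≤ p ∧ a ∉ q := by
  have hdisj : Disjoint (I : Set R) ((p.primeCompl ⊔ Submonoid.powers a : Submonoid R) : Set R) := by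
    rw [Set.disjoint_left]
    intro x hxI hxS
    rw [SetLike.mem_coe, Submonoid.mem_sup] at hxS
    obtain ⟨u, hu, z, hz, rfl⟩ := hxS
    obtain ⟨n, rfl⟩ := (Submonoid.mem_powers_iff _ _).1 hz
    exact h u hu n hxI
  obtain ⟨q, hq, hIq, hqS⟩ := Ideal.exists_le_prime_disjoint I _ hdisj
  refine ⟨q, hq, hIq, fun x hx => ?_, fun ha => ?_⟩
  · by_contra hxp
    exact Set.disjoint_left.1 hqS hx (SetLike.le_def.1 le_sup_left hxp)
  · exact Set.disjoint_left.1 hqS ha
      (SetLike.le_def.1 le_sup_right (Submonoid.mem_powers a))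

theorem exists_mul_pow_mem_of_mem_minimalPrimes {p I : Ideal R} (hp : p ∈ I.minimalPrimes)
    {r : R} (hr : r ∈ p) : ∃ u, u ∉ p ∧ ∃ n : ℕ, u * r ^ n ∈ I := by
  have := hp.1.1
  by_contra hcon
  simp only [not_exists, not_and] at hcon
  obtain ⟨q, hq, hIq, hqp, hrq⟩ := exists_prime_le_of_disjoint p I r (fun u hu n => hcon u hu n)
  exact hrq (hp.2 ⟨hq, hIq⟩ hqp hr)

end

/-- For a reduced ring R, the primes weakly associated to the R-module R (primes minimal over the
annihilator of some element) are exactly the minimal primes of R. -/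
theorem result {R : Type u} [CommRing R] [IsReduced R] :
    FlatCA.weakAss R R = minimalPrimes R := by
  ext p
  constructor
  · rintro ⟨a, hp⟩
    have hpprime := hp.1.1
    have hIp : (Submodule.span R {a}).annihilator ≤ p := hp.1.2
    have hann : ∀ x : R, x ∈ (Submodule.span R {a}).annihilator ↔ x * a = 0 := fun x => by
      rw [Submodule.mem_annihilator_span_singleton, smul_eq_mul]
    -- step 1
    have h1 : ∀ u, u ∉ p → ∀ n : ℕ, u * a ^ n ∉ (⊥ : Ideal R) := by
      intro u hu n h0
      rw [Ideal.mem_bot] at h0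
      have h2 : (u * a) ^ (n + 1) = 0 := by
        rw [mul_pow, pow_succ, pow_succ]
        calc u ^ n * u * (a ^ n * a) = (u * a ^ n) * (u ^ n * a) := by ring
          _ = 0 := by rw [h0, zero_mul]
      have h3 : u * a = 0 := (pow_eq_zero_iff (Nat.succ_ne_zero n)).1 h2
      exact hu (hIp ((hann u).2 h3))
    obtain ⟨q', hq', -, hq'p, haq'⟩ := exists_prime_le_of_disjoint p ⊥ a h1
    obtain ⟨q₀, hq₀, hq₀q'⟩ := Ideal.exists_minimalPrimes_le (I := ⊥) (J := q') bot_le
    have hq₀prime := hq₀.1.1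
    have hle : p ≤ q₀ := by
      intro r hr
      obtain ⟨u, hu, n, hun⟩ := exists_mul_pow_mem_of_mem_minimalPrimes hp hr
      rw [hann] at hun
      have h2 : (u * r * a) ^ (n + 1) = 0 := by
        calc (u * r * a) ^ (n + 1) = (u * r ^ n * a) * (u ^ n * r * a ^ n) := by ring
          _ = 0 := by rw [hun, zero_mul]
      have h3 : u * r * a = 0 := (pow_eq_zero_iff (Nat.succ_ne_zero n)).1 h2
      have h4 : u * r * a ∈ q₀ := h3 ▸ q₀.zero_mem
      rcases hq₀prime.mem_or_mem h4 with h5 | h5
      · rcases hq₀prime.mem_or_mem h5 with h6 | h6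
        · exact absurd (hq'p (hq₀q' h6)) hu
        · exact h6
      · exact absurd (hq₀q' h5) haq'
    have : p = q₀ := le_antisymm hle (hq₀q'.trans hq'p)
    rw [this]
    exact hq₀
  · intro hp
    refine ⟨1, ?_⟩
    have : (Submodule.span R {(1 : R)}).annihilator = ⊥ := by
      ext x
      rw [Submodule.mem_annihilator_span_singleton, smul_eq_mul, mul_one, Ideal.mem_bot]
    rw [this]
    exact hp

end Groth.Agent.S9582
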