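import Groth.Statements.S9581
import Mathlib.RingTheory.Ideal.AssociatedPrime.Localization
import Mathlib.RingTheory.Ideal.MinimalPrime.Basic
import Mathlib.RingTheory.Ideal.Maximal
import Groth.Agent.S9582

set_option autoImplicit false
universe u
open CAlg

namespace Groth.Agent.S9581


open Submodule in
theorem key {R : Type u} [CommRing R] (M : Type u) [AddCommGroup M] [Module R M] (p : Ideal R) [p.IsPrime]
    (m : M) (s : p.primeCompl) (r : R) (t : p.primeCompl) :
    IsLocalization.mk' (Localization.AtPrime p) r t ∈
      (colon (⊥ : Submodule (Localization.AtPrime p) (LocalizedModule p.primeCompl M))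
        {IsLocalizedModule.mk' (LocalizedModule.mkLinearMap p.primeCompl M) m s}).radical ↔
      ∃ n : ℕ, ∃ c : p.primeCompl, c • r ^ n • m = 0 := by
  simp_rw [Ideal.mem_radical_iff, Submodule.mem_colon_singleton, ← IsLocalization.mk'_pow,
    IsLocalizedModule.mk'_smul_mk', Submodule.mem_bot,
    IsLocalizedModule.mk'_eq_zero' (LocalizedModule.mkLinearMap p.primeCompl M)]

/-- (1) ⇔ (3): for a ring R, an R-module M and a prime p of R, the prime p is weakly associated to M
(minimal among the primes containing the annihilator of some element of M) if and only if the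
localization M_p contains an element whose annihilator in R_p has radical equal to the maximal ideal
p R_p. -/
theorem result {R : Type u} [CommRing R] (M : Type u) [AddCommGroup M] [Module R M] (p : Ideal R) [p.IsPrime] :
    p ∈ FlatCA.weakAss R M ↔ IsAssociatedPrime (IsLocalRing.maximalIdeal (Localization.AtPrime p)) (LocalizedModule p.primeCompl M) := by
  have hann : ∀ (m : M) (x : R), x ∈ (Submodule.span R {m}).annihilator ↔ x • m = 0 := fun m x =>
    Submodule.mem_annihilator_span_singleton _ _
  constructor
  · rintro ⟨m, hp⟩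
    have hIp : (Submodule.span R {m}).annihilator ≤ p := hp.1.2
    refine ⟨(IsLocalRing.maximalIdeal.isMaximal _).isPrime,
      IsLocalizedModule.mk' (LocalizedModule.mkLinearMap p.primeCompl M) m (1 : p.primeCompl), ?_⟩
    ext t
    obtain ⟨r, s, rfl⟩ := IsLocalization.exists_mk'_eq p.primeCompl t
    rw [key, IsLocalization.AtPrime.mk'_mem_maximal_iff (Localization.AtPrime p) p]
    constructor
    · intro hr
      obtain ⟨u, hu, n, hun⟩ := Groth.Agent.S9582.exists_mul_pow_mem_of_mem_minimalPrimes hp hr
      rw [hann, mul_smul] at hun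
      exact ⟨n, ⟨u, hu⟩, hun⟩
    · rintro ⟨n, c, hc⟩
      have h1 : (c : R) * r ^ n ∈ p := hIp (by rw [hann, mul_smul]; exact hc)
      rcases (inferInstance : p.IsPrime).mem_or_mem h1 with h2 | h2
      · exact absurd h2 c.2
      · exact (inferInstance : p.IsPrime).mem_of_pow_mem n h2
  · rintro ⟨hprime, x, hx⟩
    obtain ⟨⟨m, s⟩, rfl⟩ := IsLocalizedModule.mk'_surjective p.primeCompl
      (LocalizedModule.mkLinearMap p.primeCompl M) x
    simp only [Function.uncurry_apply_pair] at hx
    refine ⟨m, ⟨inferInstance, ?_⟩, ?_⟩
    · intro a ha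
      by_contra hap
      have h1 : IsLocalization.mk' (Localization.AtPrime p) (1 : R) (1 : p.primeCompl) ∈
          IsLocalRing.maximalIdeal (Localization.AtPrime p) := by
        rw [hx, key]
        refine ⟨1, ⟨a, hap⟩, ?_⟩
        rw [one_pow, one_smul]
        exact (hann m a).1 ha
      rw [IsLocalization.AtPrime.mk'_mem_maximal_iff (Localization.AtPrime p) p] at h1
      exact (inferInstance : p.IsPrime).ne_top ((Ideal.eq_top_iff_one p).2 h1)
    · rintro q ⟨hq, hIq⟩ hqp r hr
      have h1 : IsLocalization.mk' (Localization.AtPrime p) r (1 : p.primeCompl) ∈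
          IsLocalRing.maximalIdeal (Localization.AtPrime p) := by
        rw [IsLocalization.AtPrime.mk'_mem_maximal_iff (Localization.AtPrime p) p]
        exact hr
      rw [hx, key] at h1
      obtain ⟨n, c, hc⟩ := h1
      have h2 : (c : R) * r ^ n ∈ q := hIq (by rw [hann, mul_smul]; exact hc)
      rcases hq.mem_or_mem h2 with h3 | h3
      · exact absurd (hqp h3) c.2
      · exact hq.mem_of_pow_mem n h3

end Groth.Agent.S9581
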