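import Groth.Statements.S9598
import Mathlib.RingTheory.Ideal.AssociatedPrime.Finiteness
import Mathlib.RingTheory.Jacobson.Ring
-- import your own Groth.Agent.* helpers here

set_option autoImplicit false
universe u
open CAlg

namespace Groth.Agent.S9598

/-- For a field k and a finite type k-algebra S with dim S > 0, some element of S is a nonzerodivisor
and a nonunit. -/
theorem result {k S : Type u} [Field k] [CommRing S] [Algebra k S] [Algebra.FiniteType k S] (hdim : 0 < ringKrullDim S) :
    ∃ f : S, f ∈ nonZeroDivisors S ∧ ¬ IsUnit f := by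
  classical
  have hN : IsNoetherianRing S := Algebra.FiniteType.isNoetherianRing k S
  have hJ : IsJacobsonRing S := isJacobsonRing_of_finiteType (A := k)
  have hfin : (associatedPrimes S S).Finite := associatedPrimes.finite S S
  have hex : ∃ m : Ideal S, m.IsMaximal ∧ m ∉ associatedPrimes S S := by
    by_contra hcon
    push Not at hcon
    have hK : Ring.KrullDimLE 0 S := by
      apply Ring.KrullDimLE.mk₀
      intro P hP
      have hPj : P.jacobson = P := hJ.out hP.isRadical
      have hsub : {J : Ideal S | P ≤ J ∧ J.IsMaximal} ⊆ associatedPrimes S S :=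
        fun J hJ' => hcon J hJ'.2
      have hfin' := hfin.subset hsub
      have hle : hfin'.toFinset.inf id ≤ P := by
        rw [Finset.inf_id_eq_sInf, Set.Finite.coe_toFinset]
        exact hPj.le
      obtain ⟨J, hJmem, hJle⟩ := hP.inf_le'.mp hle
      rw [Set.Finite.mem_toFinset] at hJmem
      have : J = P := hJmem.2.eq_of_le hP.ne_top hJle
      rw [← this]; exact hJmem.2
    rw [Ring.krullDimLE_iff] at hK
    exact absurd (lt_of_lt_of_le hdim hK) (by simp)
  obtain ⟨m, hm, hmA⟩ := hex
  have hexf : ∃ f ∈ m, f ∈ nonZeroDivisors S := by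
    by_contra hcon
    push Not at hcon
    have hsub : (m : Set S) ⊆ ⋃ p ∈ (hfin.toFinset : Set (Ideal S)), ((id p : Ideal S) : Set S) := by
      intro f hf
      have h1 : f ∈ ((nonZeroDivisors S : Set S))ᶜ := hcon f hf
      rw [← biUnion_associatedPrimes_eq_compl_nonZeroDivisors] at h1
      simpa using h1
    rw [Ideal.subset_union_prime (f := id) ⊥ ⊥ (fun p hp _ _ => by
      rw [Set.Finite.mem_toFinset] at hp
      exact hp.isPrime)] at hsub
    obtain ⟨p, hp, hmp⟩ := hsub
    rw [Set.Finite.mem_toFinset] at hp
    have : m = p := hm.eq_of_le hp.isPrime.ne_top hmp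
    exact hmA (this ▸ hp)
  obtain ⟨f, hfm, hf⟩ := hexf
  exact ⟨f, hf, fun hu => hm.ne_top (Ideal.eq_top_of_isUnit_mem _ hfm hu)⟩

end Groth.Agent.S9598
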