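import Groth.Statements.S9601
-- import your own Groth.Agent.* helpers here

set_option autoImplicit false
universe u
open CAlg

namespace Groth.Agent.S9601

open AdicCompletion in
lemma of_mem {R : Type u} [CommRing R] (I : Ideal R) (M : Type u) [AddCommGroup M] [Module R M]
    (m : ℕ) (z : M) (hz : z ∈ (I ^ m • ⊤ : Submodule R M)) :
    AdicCompletion.of I M z ∈ (I ^ m • ⊤ : Submodule R (AdicCompletion I M)) := by
  have : (I ^ m • ⊤ : Submodule R M).map (AdicCompletion.of I M) ≤ I ^ m • ⊤ := by
    rw [Submodule.map_smul'']
    exact Submodule.smul_mono le_rfl le_top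
  exact this ⟨z, hz, rfl⟩

open AdicCompletion in
lemma step {R : Type u} [CommRing R] (I : Ideal R) (M : Type u) [AddCommGroup M] [Module R M]
    (m : ℕ) (y : AdicCompletion I M) (hy : y ∈ LinearMap.ker (eval I M m)) :
    ∃ y' ∈ LinearMap.ker (eval I M (m+1)),
      y - y' ∈ (I ^ m • ⊤ : Submodule R (AdicCompletion I M)) := by
  obtain ⟨z, hz⟩ := Submodule.mkQ_surjective _ (y.val (m+1))
  have hzm : z ∈ (I ^ m • ⊤ : Submodule R M) := by
    have h1 : y.val m = 0 := hy
    have h2 := y.property (Nat.le_succ m)
    rw [← hz, h1] at h2
    have h3 : Submodule.Quotient.mk (p := (I ^ m • ⊤ : Submodule R M)) z = 0 := h2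
    exact (Submodule.Quotient.mk_eq_zero _).mp h3
  refine ⟨y - of I M z, ?_, ?_⟩
  · rw [LinearMap.mem_ker, map_sub, eval_apply, eval_of, hz, sub_self]
  · rw [sub_sub_cancel]; exact of_mem I M m z hzm

/-- For a ring R, an ideal I of R and an R-module M, let M^ be the I-adic completion and K_n the kernel
of the projection M^ → M/IⁿM. The completion M^ is I-adically complete exactly when K_n = Iⁿ M^
holds for every n ≥ 1. -/
theorem result {R : Type u} [CommRing R] (I : Ideal R) (M : Type u) [AddCommGroup M] [Module R M] :
    IsAdicComplete I (AdicCompletion I M) ↔ ∀ n : ℕ, 1 ≤ n → LinearMap.ker (AdicCompletion.eval I M n) = I ^ n • (⊤ : Submodule R (AdicCompletion I M)) := by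
  constructor
  · intro hcomp n _
    apply le_antisymm _ (AdicCompletion.pow_smul_top_le_ker_eval (I := I) (M := M) n)
    intro x hx
    classical
    let g : ℕ → AdicCompletion I M → AdicCompletion I M := fun j y =>
      if h : y ∈ LinearMap.ker (AdicCompletion.eval I M j) then
        Classical.choose (step I M j y h) else y
    have hg1 : ∀ j y, y ∈ LinearMap.ker (AdicCompletion.eval I M j) →
        g j y ∈ LinearMap.ker (AdicCompletion.eval I M (j + 1)) := by
      intro j y h
      simp only [g, dif_pos h]
      exact (Classical.choose_spec (step I M j y h)).1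
    have hg2 : ∀ j y, y ∈ LinearMap.ker (AdicCompletion.eval I M j) →
        y - g j y ∈ (I ^ j • ⊤ : Submodule R (AdicCompletion I M)) := by
      intro j y h
      simp only [g, dif_pos h]
      exact (Classical.choose_spec (step I M j y h)).2
    let f : ℕ → AdicCompletion I M := fun j =>
      Nat.rec x (fun j y => if n ≤ j then g j y else x) j
    have hf0 : f 0 = x := rfl
    have hfsucc : ∀ j, f (j + 1) = if n ≤ j then g j (f j) else x := fun j => rfl
    have hfle : ∀ j, j ≤ n → f j = x := by
      intro j hj
      rcases j with _ | j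
      · exact hf0
      · rw [hfsucc, if_neg (by omega)]
    have hfker : ∀ j, n ≤ j → f j ∈ LinearMap.ker (AdicCompletion.eval I M j) := by
      intro j hj
      induction j, hj using Nat.le_induction with
      | base => rw [hfle n le_rfl]; exact hx
      | succ j hj ih => rw [hfsucc, if_pos hj]; exact hg1 j _ ih
    have hcauchy : AdicCompletion.IsAdicCauchy I (AdicCompletion I M) f := by
      rw [AdicCompletion.isAdicCauchy_iff]
      intro j
      by_cases hj : n ≤ j
      · rw [hfsucc, if_pos hj, SModEq.sub_mem]
        exact hg2 j _ (hfker j hj)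
      · rw [hfsucc, if_neg hj, hfle j (by omega)]
    obtain ⟨L, hL⟩ := hcomp.toIsPrecomplete.prec (fun {m n} hmn => hcauchy hmn)
    have hLval : ∀ j, n ≤ j → L.val j = 0 := by
      intro j hj
      have h1 : f j - L ∈ LinearMap.ker (AdicCompletion.eval I M j) :=
        AdicCompletion.pow_smul_top_le_ker_eval (I := I) (M := M) j (SModEq.sub_mem.mp (hL j))
      have h2 : f j ∈ LinearMap.ker (AdicCompletion.eval I M j) := hfker j hj
      have h4 : L ∈ LinearMap.ker (AdicCompletion.eval I M j) := by
        have := Submodule.sub_mem _ h2 h1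
        rwa [sub_sub_cancel] at this
      exact h4
    have hL0 : L = 0 := by
      apply AdicCompletion.ext
      intro j
      rw [← L.property (Nat.le_add_left j n), hLval (n + j) (Nat.le_add_right n j)]
      simp
    have := hL n
    rw [hL0, SModEq.zero] at this
    have hfn : f n = x := hfle n le_rfl
    rwa [hfn] at this
  · intro h
    refine { haus' := (inferInstance : IsHausdorff I (AdicCompletion I M)).haus', prec' := ?_ }
    intro f hf
    have hev : ∀ {m n : ℕ}, m ≤ n → AdicCompletion.eval I M m (f m) = AdicCompletion.eval I M m (f n) := by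
      intro m n hmn
      have := AdicCompletion.pow_smul_top_le_ker_eval (I := I) (M := M) m (SModEq.sub_mem.mp (hf hmn))
      rw [LinearMap.mem_ker, map_sub, sub_eq_zero] at this
      exact this
    let L : AdicCompletion I M := ⟨fun n => (f n).val n, by
      intro m n hmn
      rw [(f n).property hmn]
      exact (hev hmn).symm⟩
    refine ⟨L, fun n => ?_⟩
    rcases Nat.eq_zero_or_pos n with rfl | hn
    · rw [SModEq.sub_mem]
      simp
    · rw [SModEq.sub_mem, ← h n hn, LinearMap.mem_ker, map_sub, sub_eq_zero]
      rfl

end Groth.Agent.S9601
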