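import Groth.Statements.S9602
import Mathlib.RingTheory.Nilpotent.Basic
-- import your own Groth.Agent.* helpers here

set_option autoImplicit false
universe u
open CAlg

namespace Groth.Agent.S9602

open AdicCompletion in
lemma isUnit_val {R : Type u} [CommRing R] (I : Ideal R) (x : AdicCompletion I R)
    (hx : IsUnit (AdicCompletion.evalOneₐ I x)) (n : ℕ) : IsUnit (x.val n) := by
  obtain ⟨a, rfl⟩ := AdicCompletion.mk_surjective I R x
  have h1 : AdicCompletion.evalOneₐ I (AdicCompletion.mk I R a) = Ideal.Quotient.mk I (a 1) := by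
    simp [AdicCompletion.evalOneₐ]
  rw [h1] at hx
  obtain ⟨u, hu⟩ := hx
  obtain ⟨y0, hy0⟩ := Ideal.Quotient.mk_surjective (u⁻¹ : (R ⧸ I)ˣ).val
  have hmem1 : a 1 * y0 - 1 ∈ I := by
    rw [← Ideal.Quotient.eq_zero_iff_mem, map_sub, map_mul, map_one, hy0, ← hu]
    simp
  show IsUnit (Ideal.Quotient.mk (I ^ n • ⊤ : Ideal R) (a n))
  rcases n with _ | n
  · have : Subsingleton (R ⧸ (I ^ 0 • ⊤ : Ideal R)) := by
      rw [Ideal.Quotient.subsingleton_iff]; simp
    exact isUnit_of_subsingleton _
  · have hc : a 1 - a (n + 1) ∈ (I ^ 1 • ⊤ : Ideal R) :=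
      SModEq.sub_mem.mp (a.property (by omega : 1 ≤ n + 1))
    have hc' : a 1 - a (n + 1) ∈ I := by simpa using hc
    have hmem : a (n + 1) * y0 - 1 ∈ I := by
      have : a (n + 1) * y0 - 1 = (a 1 * y0 - 1) - (a 1 - a (n + 1)) * y0 := by ring
      rw [this]
      exact I.sub_mem hmem1 (I.mul_mem_right _ hc')
    have hnil : IsNilpotent (Ideal.Quotient.mk (I ^ (n + 1) • ⊤ : Ideal R) (a (n + 1) * y0 - 1)) := by
      refine ⟨n + 1, ?_⟩
      rw [← map_pow, Ideal.Quotient.eq_zero_iff_mem]
      simpa using Ideal.pow_mem_pow hmem (n + 1)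
    have hu2 := IsNilpotent.isUnit_add_one hnil
    rw [map_sub, map_one, sub_add_cancel, map_mul] at hu2
    exact isUnit_of_mul_isUnit_left hu2

lemma isUnit_of_evalOne {R : Type u} [CommRing R] (I : Ideal R) (x : AdicCompletion I R)
    (hx : IsUnit (AdicCompletion.evalOneₐ I x)) : IsUnit x := by
  have hA := isUnit_val I x hx
  let y : AdicCompletion I R := ⟨fun n => (((hA n).unit⁻¹ : (R ⧸ (I ^ n • ⊤ : Ideal R))ˣ) :
      R ⧸ (I ^ n • ⊤ : Ideal R)), by
    intro m n hmn
    symm
    apply Units.inv_eq_of_mul_eq_one_right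
    have h1 : ((hA m).unit : R ⧸ (I ^ m • ⊤ : Ideal R)) = x.val m := rfl
    rw [h1, ← x.property hmn, ← AdicCompletion.transitionMap_map_mul]
    have h2 : x.val n * (((hA n).unit⁻¹ : (R ⧸ (I ^ n • ⊤ : Ideal R))ˣ) :
        R ⧸ (I ^ n • ⊤ : Ideal R)) = 1 := (hA n).mul_val_inv
    rw [h2]
    exact AdicCompletion.transitionMap_map_one I hmn⟩
  refine IsUnit.of_mul_eq_one y ?_
  apply AdicCompletion.ext
  intro n
  rw [AdicCompletion.val_mul, AdicCompletion.val_one]
  exact (hA n).mul_val_inv

/-- Let R be a ring, I an ideal of R and R^ = lim R/Iⁿ the I-adic completion. An element of R^ whose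
image in R/I is invertible is itself invertible in R^; and the kernel of R^ → R/I as well as the
extended ideal I R^ both lie inside the Jacobson radical of R^. -/
theorem result {R : Type u} [CommRing R] (I : Ideal R) :
    (∀ x : AdicCompletion I R, IsUnit (AdicCompletion.evalOneₐ I x) → IsUnit x) ∧
      RingHom.ker (AdicCompletion.evalOneₐ I).toRingHom ≤ (⊥ : Ideal (AdicCompletion I R)).jacobson ∧
      I.map (algebraMap R (AdicCompletion I R)) ≤ (⊥ : Ideal (AdicCompletion I R)).jacobson := by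
  have hker : RingHom.ker (AdicCompletion.evalOneₐ I).toRingHom ≤
      (⊥ : Ideal (AdicCompletion I R)).jacobson := by
    intro x hx
    rw [Ideal.mem_jacobson_bot]
    intro y
    apply isUnit_of_evalOne
    have hx0 : AdicCompletion.evalOneₐ I x = 0 := hx
    rw [map_add, map_mul, hx0, zero_mul, zero_add, map_one]
    exact isUnit_one
  refine ⟨fun x hx => isUnit_of_evalOne I x hx, hker, ?_⟩
  refine le_trans ?_ hker
  rw [Ideal.map_le_iff_le_comap]
  intro r hr
  show AdicCompletion.evalOneₐ I (algebraMap R (AdicCompletion I R) r) = 0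
  rw [AdicCompletion.algebraMap_apply, Algebra.algebraMap_self_apply, AdicCompletion.evalOneₐ_of]
  exact Ideal.Quotient.eq_zero_iff_mem.mpr hr

end Groth.Agent.S9602
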