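import Groth.Statements.S9603
import Mathlib
import Groth.Agent.Lib.Helper61.CompleteLE

set_option autoImplicit false
universe u
open CAlg

namespace Groth.Agent.S9603

theorem pow_le_span_pow {A : Type*} [CommRing A] {ι : Type*} [DecidableEq ι] (s : Finset ι)
    (f : ι → A) (n : ℕ) :
    Ideal.span (f '' (s : Set ι)) ^ (s.card * n + 1) ≤
      Ideal.span ((fun i => f i ^ n) '' (s : Set ι)) := by
  induction s using Finset.induction_on with
  | empty => simp
  | insert a s ha ih =>
    rw [Finset.coe_insert, Set.image_insert_eq, Set.image_insert_eq, Ideal.span_insert,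
      Ideal.span_insert, Finset.card_insert_of_notMem ha]
    have h1 : (s.card + 1) * n + 1 = n + (s.card * n + 1) := by ring
    rw [h1]
    refine Ideal.sup_pow_add_le_pow_sup_pow.trans (sup_le_sup ?_ ih)
    rw [Ideal.span_singleton_pow]

end Groth.Agent.S9603

namespace Groth.Agent.S9603

/-- For a ring A, elements f_1, …, f_r generating an ideal I and an A-module M, if the canonical map
from M to its (f_i)-adic completion is surjective for every i, then the canonical map from M to its
I-adic completion is surjective. -/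
theorem result {A : Type u} [CommRing A] {r : ℕ} (f : Fin r → A) (M : Type u) [AddCommGroup M] [Module A M] (h : ∀ i, Function.Surjective (AdicCompletion.of (Ideal.span {f i}) M)) :
    Function.Surjective (AdicCompletion.of (Ideal.span (Set.range f)) M) := by
  classical
  rw [AdicCompletion.of_surjective_iff]
  have hpre : ∀ i, IsPrecomplete (Ideal.span {f i}) M := fun i =>
    (AdicCompletion.of_surjective_iff).mp (h i)
  constructor
  intro s hs
  have hs' : ∀ m n, m ≤ n → s n - s m ∈ (Ideal.span (Set.range f) ^ m • ⊤ : Submodule A M) := by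
    intro m n hmn
    have := (hs hmn).symm
    rwa [SModEq.sub_mem] at this
  -- index function
  let e : ℕ → ℕ := fun n => (r + 1) * n + 1
  have he_mono : ∀ n, e n ≤ e (n + 1) := fun n => by simp only [e]; nlinarith
  have he_ge : ∀ n, n ≤ e n := fun n => by simp only [e]; nlinarith
  have he_pow : ∀ n, Ideal.span (Set.range f) ^ e n ≤
      Ideal.span (Set.range fun i => f i ^ n) := by
    intro n
    have h1 := pow_le_span_pow (Finset.univ : Finset (Fin r)) f n
    simp only [Finset.coe_univ, Set.image_univ, Finset.card_univ, Fintype.card_fin] at h1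
    refine le_trans (Ideal.pow_le_pow_right ?_) h1
    simp only [e]
    nlinarith
  -- decompose the differences
  have hy : ∀ n, ∃ y : Fin r → M, s (e (n + 1)) - s (e n) = ∑ i, f i ^ n • y i := by
    intro n
    have h1 := hs' (e n) (e (n + 1)) (he_mono n)
    have h2 : s (e (n + 1)) - s (e n) ∈
        (Ideal.span (Set.range fun i => f i ^ n) • ⊤ : Submodule A M) :=
      Submodule.smul_mono_left (he_pow n) h1
    obtain ⟨y, -, hy⟩ := Groth.Agent.Lib.Helper61.CompleteLE.exists_sum_of_mem_smul _ _ _ h2
    exact ⟨y, hy⟩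
  choose y hy using hy
  -- partial sums for each i
  let S : Fin r → ℕ → M := fun i N => ∑ n ∈ Finset.range N, f i ^ n • y n i
  have hS : ∀ i, ∃ z : M, ∀ N, S i N - z ∈ (Ideal.span {f i} ^ N • ⊤ : Submodule A M) := by
    intro i
    have hcauchy : ∀ {m n : ℕ}, m ≤ n →
        S i m ≡ S i n [SMOD (Ideal.span {f i} ^ m • ⊤ : Submodule A M)] := by
      intro m n hmn
      rw [SModEq.sub_mem, ← neg_sub, Submodule.neg_mem_iff]
      have h1 : S i n - S i m = ∑ k ∈ Finset.Ico m n, f i ^ k • y k i :=
        (Finset.sum_Ico_eq_sub (fun k => f i ^ k • y k i) hmn).symm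
      rw [h1]
      refine Submodule.sum_mem _ fun k hk => ?_
      refine Submodule.smul_mem_smul ?_ Submodule.mem_top
      exact Ideal.pow_le_pow_right (Finset.mem_Ico.mp hk).1
        (Ideal.pow_mem_pow (Ideal.mem_span_singleton_self (f i)) k)
    obtain ⟨z, hz⟩ := (hpre i).prec' (S i) hcauchy
    refine ⟨z, fun N => ?_⟩
    have := hz N
    rwa [SModEq.sub_mem] at this
  choose z hz using hS
  refine ⟨s (e 0) + ∑ i, z i, fun n => ?_⟩
  rw [SModEq.sub_mem]
  have htel : ∀ N, s (e N) = s (e 0) + ∑ i, S i N := by
    intro N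
    induction N with
    | zero => simp [S]
    | succ N ih =>
      have h1 : s (e (N + 1)) = s (e N) + (s (e (N + 1)) - s (e N)) := by abel
      rw [h1, hy N, ih]
      simp only [S, Finset.sum_range_succ, Finset.sum_add_distrib]
      abel
  have h2 : s (e n) - (s (e 0) + ∑ i, z i) ∈
      (Ideal.span (Set.range f) ^ n • ⊤ : Submodule A M) := by
    rw [htel n]
    have : s (e 0) + ∑ i, S i n - (s (e 0) + ∑ i, z i) = ∑ i, (S i n - z i) := by
      rw [Finset.sum_sub_distrib]; abel
    rw [this]
    refine Submodule.sum_mem _ fun i _ => ?_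
    refine Submodule.smul_mono_left (Ideal.pow_right_mono ?_ n) (hz i n)
    rw [Ideal.span_le, Set.singleton_subset_iff]
    exact Ideal.subset_span ⟨i, rfl⟩
  have h3 : s n - (s (e 0) + ∑ i, z i) = (s (e n) - (s (e 0) + ∑ i, z i)) - (s (e n) - s n) := by
    abel
  rw [h3]
  exact Submodule.sub_mem _ h2 (hs' n (e n) (he_ge n))

end Groth.Agent.S9603
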