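import Groth.Statements.S9604
-- import your own Groth.Agent.* helpers here

set_option autoImplicit false
universe u
open CAlg

namespace Groth.Agent.S9604

lemma aux {R : Type u} [CommRing R] (I J : Ideal R) (c d : ℕ) (hc : 0 < c) (hd : 0 < d)
    (hI : I ^ c ≤ J) (hJ : J ^ d ≤ I) (M : Type u) [AddCommGroup M] [Module R M]
    (h : IsAdicComplete I M) : IsAdicComplete J M := by
  have hJI : ∀ n, (J ^ (d * n) • ⊤ : Submodule R M) ≤ I ^ n • ⊤ := by
    intro n
    apply Submodule.smul_mono_left
    rw [pow_mul]; exact Ideal.pow_right_mono hJ n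
  have hIJ : ∀ n, (I ^ (c * n) • ⊤ : Submodule R M) ≤ J ^ n • ⊤ := by
    intro n
    apply Submodule.smul_mono_left
    rw [pow_mul]; exact Ideal.pow_right_mono hI n
  refine { haus' := ?_, prec' := ?_ }
  · intro x hx
    apply h.toIsHausdorff.haus
    intro n
    exact (hx (d * n)).mono (hJI n)
  · intro f hf
    obtain ⟨L, hL⟩ := h.toIsPrecomplete.prec (f := fun n => f (d * n)) (by
      intro m n hmn
      exact (hf (Nat.mul_le_mul_left d hmn)).mono (hJI m))
    refine ⟨L, fun n => ?_⟩
    have h1 : f n ≡ f (d * (c * n)) [SMOD (J ^ n • ⊤ : Submodule R M)] :=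
      hf (Nat.le_trans (Nat.le_mul_of_pos_left n hc) (Nat.le_mul_of_pos_left _ hd))
    have h2 := (hL (c * n)).mono (hIJ n)
    exact h1.trans h2

/-- Let R be a ring and I, J ideals of R with I^c ⊆ J and J^d ⊆ I for some integers c, d > 0. Then for
an R-module, being complete in the I-adic topology is equivalent to being complete in the J-adic
topology. -/
theorem result {R : Type u} [CommRing R] (I J : Ideal R) (c d : ℕ) (hc : 0 < c) (hd : 0 < d) (hI : I ^ c ≤ J) (hJ : J ^ d ≤ I) (M : Type u) [AddCommGroup M] [Module R M] :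
    IsAdicComplete I M ↔ IsAdicComplete J M := by
  exact ⟨aux I J c d hc hd hI hJ M, aux J I d c hd hc hJ hI M⟩

end Groth.Agent.S9604
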