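import Groth.Statements.S9605
import Mathlib.RingTheory.AdicCompletion.Exactness
-- import your own Groth.Agent.* helpers here

set_option autoImplicit false
universe u
open CAlg

namespace Groth.Agent.S9605

/-- For a ring R, an ideal I of R, an I-adically complete R-module M and a submodule K of M, the
quotient M/K is I-adically complete if and only if K = ⋂ₙ (K + IⁿM). -/
theorem result {R : Type u} [CommRing R] (I : Ideal R) (M : Type u) [AddCommGroup M] [Module R M] [IsAdicComplete I M] (K : Submodule R M) :
    IsAdicComplete I (M ⧸ K) ↔ K = ⨅ n : ℕ, K ⊔ I ^ n • (⊤ : Submodule R M) := by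
  have hprec : IsPrecomplete I (M ⧸ K) := by
    rw [← AdicCompletion.of_surjective_iff]
    have h1 : Function.Surjective (AdicCompletion.map I K.mkQ) :=
      AdicCompletion.map_surjective I (Submodule.mkQ_surjective K)
    have h2 : Function.Surjective (AdicCompletion.of I M) := AdicCompletion.of_surjective I M
    intro y
    obtain ⟨z, rfl⟩ := h1 y
    obtain ⟨m, rfl⟩ := h2 z
    exact ⟨K.mkQ m, by rw [AdicCompletion.map_of]⟩
  have hmap : ∀ n, (I ^ n • ⊤ : Submodule R (M ⧸ K)) = (I ^ n • ⊤ : Submodule R M).map K.mkQ := by
    intro n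
    rw [Submodule.map_smul'', Submodule.map_top, Submodule.range_mkQ]
  have hmem : ∀ n (x : M), K.mkQ x ∈ (I ^ n • ⊤ : Submodule R (M ⧸ K)) ↔ x ∈ K ⊔ I ^ n • ⊤ := by
    intro n x
    rw [hmap, ← Submodule.mem_comap, Submodule.comap_map_eq, Submodule.ker_mkQ, sup_comm]
  constructor
  · intro h
    apply le_antisymm
    · exact le_iInf fun n => le_sup_left
    · intro x hx
      rw [Submodule.mem_iInf] at hx
      have : K.mkQ x = 0 := by
        apply h.toIsHausdorff.haus
        intro n
        rw [SModEq.zero]
        exact (hmem n x).mpr (hx n)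
      simpa using this
  · intro h
    refine { haus' := ?_, prec' := hprec.prec' }
    intro y hy
    obtain ⟨x, rfl⟩ := K.mkQ_surjective y
    have : x ∈ K := by
      rw [h, Submodule.mem_iInf]
      intro n
      exact (hmem n x).mp (by simpa [SModEq.zero] using hy n)
    simpa using this

end Groth.Agent.S9605
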