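import Groth.Statements.S9606
import Mathlib
import Groth.Agent.Lib.Helper20.UnivHomeo

set_option autoImplicit false
universe u
open CAlg

namespace Groth.Agent.S9606

open AlgebraicGeometry CategoryTheory Limits TopologicalSpace
open Groth.Agent.Lib.Helper20.UnivHomeo

/-- Let R → S be a ring map with locally nilpotent kernel such that S is generated over R by elements x
with x² and x³ in the image of R. Then the induced map on spectra is a homeomorphism and every
residue field map κ(p) → κ(q), for q a prime of S with inverse image p, is bijective. -/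
theorem result {R S : Type u} [CommRing R] [CommRing S] [Algebra R S]
    (hgen : Algebra.adjoin R {x : S | x ^ 2 ∈ Set.range (algebraMap R S) ∧ x ^ 3 ∈ Set.range (algebraMap R S)} = ⊤)
    (hker : ∀ r : R, algebraMap R S r = 0 → IsNilpotent r) :
    IsHomeomorph (PrimeSpectrum.comap (algebraMap R S)) ∧
      ∀ (q : Ideal S) [q.IsPrime], Function.Bijective (Ideal.ResidueField.map (q.comap (algebraMap R S)) q (algebraMap R S) rfl) := by
  set G : Set S := {x : S | x ^ 2 ∈ Set.range (algebraMap R S) ∧ x ^ 3 ∈ Set.range (algebraMap R S)}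
  have hUH : UH R S := by
    refine uh_of_adjoin G hgen ?_ hker ?_
    · rintro t ⟨⟨a, ha⟩, -⟩
      refine IsIntegral.of_pow (n := 2) (by norm_num) ?_
      rw [← ha]
      exact isIntegral_algebraMap
    · rintro t ⟨⟨a, ha⟩, ⟨b, hb⟩⟩
      apply mem_radicialClosure_of_sq_cube
      · rw [← ha]; exact Subalgebra.algebraMap_mem _ _
      · rw [← hb]; exact Subalgebra.algebraMap_mem _ _
  have hRT : ResTriv R S := by
    apply resTriv_of_adjoin G hgen
    rintro 𝔮 _ t ⟨⟨a, ha⟩, ⟨b, hb⟩⟩
    apply ResTrivAt.of_sq_cube
    · rw [← ha]; exact ResTrivAt.of_algebraMap _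
    · rw [← hb]; exact ResTrivAt.of_algebraMap _
  constructor
  · have h1 := (isUnivHomeo_iff R S).mpr hUH
    have h2 : IsHomeomorph (Spec.map (CommRingCat.ofHom (algebraMap R S))) :=
      h1 (𝟙 _) (𝟙 _) _ IsPullback.of_id_snd
    exact h2
  · intro q _
    refine ⟨RingHom.injective _, ?_⟩
    rw [surjective_resMap_iff]
    exact fun b => hRT q b

end Groth.Agent.S9606
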