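import Groth.Statements.S9607
import Mathlib
-- import your own Groth.Agent.* helpers here

set_option autoImplicit false
universe u
open CAlg

namespace Groth.Agent.S9607

lemma key {P : Type*} [CommRing P] (A : Subalgebra ℤ P) (c x : P) (u n : ℕ) (hc : c ∈ A)
    (h1 : x ^ u ∈ A) (h2 : c ^ n * x ∈ A) (hu : 0 < u) : ∀ i : ℕ, c ^ (n * u) * x ^ i ∈ A := by
  intro i
  obtain ⟨k, hk⟩ : ∃ k, u = i % u + k := ⟨u - i % u, by have := Nat.mod_lt i hu; omega⟩
  have hi : i = u * (i / u) + i % u := (Nat.div_add_mod i u).symm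
  have : c ^ (n * u) * x ^ i = c ^ (n * k) * (c ^ n * x) ^ (i % u) * (x ^ u) ^ (i / u) := by
    have e1 : n * u = n * k + n * (i % u) := by
      conv_lhs => rw [hk]
      ring
    conv_lhs => rw [hi, e1]
    rw [mul_pow, ← pow_mul, ← pow_mul, pow_add, pow_add]
    ring
  rw [this]
  exact A.mul_mem (A.mul_mem (A.pow_mem hc _) (A.pow_mem h2 _)) (A.pow_mem h1 _)

lemma dvd_choose {p : ℕ} (hp : p.Prime) (a n i : ℕ) (hi0 : i ≠ 0) (hia : i ≤ p ^ a)
    (hdvd : ¬ p ^ n ∣ i) : p ^ (a - n) ∣ Nat.choose (p ^ a) i := by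
  have h1 := Nat.factorization_choose_prime_pow_add_factorization hp hia hi0
  have h2 : i.factorization p < n := by
    by_contra hcon
    push Not at hcon
    exact hdvd ((hp.pow_dvd_iff_le_factorization hi0).2 hcon)
  have h3 : (Nat.choose (p ^ a) i) ≠ 0 := (Nat.choose_pos hia).ne'
  rw [hp.pow_dvd_iff_le_factorization h3]
  omega

/-- For a prime number p and integers n, m > 0 there exists an integer a such that (x + y)^(p^a) and p^a
(x + y) both belong to the subring ℤ[x^(p^n), p^n x, y^(p^m), p^m y] of the polynomial ring ℤ[x, y]. -/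
theorem result (p : ℕ) (hp : p.Prime) (n m : ℕ) (hn : 0 < n) (hm : 0 < m) :
    ∃ a : ℕ, ((MvPolynomial.X 0 + MvPolynomial.X 1 : MvPolynomial (Fin 2) ℤ) ^ (p ^ a) ∈ Algebra.adjoin ℤ ({MvPolynomial.X 0 ^ (p ^ n), (p : MvPolynomial (Fin 2) ℤ) ^ n * MvPolynomial.X 0, MvPolynomial.X 1 ^ (p ^ m), (p : MvPolynomial (Fin 2) ℤ) ^ m * MvPolynomial.X 1} : Set (MvPolynomial (Fin 2) ℤ)) ∧
      (p : MvPolynomial (Fin 2) ℤ) ^ a * (MvPolynomial.X 0 + MvPolynomial.X 1) ∈ Algebra.adjoin ℤ ({MvPolynomial.X 0 ^ (p ^ n), (p : MvPolynomial (Fin 2) ℤ) ^ n * MvPolynomial.X 0, MvPolynomial.X 1 ^ (p ^ m), (p : MvPolynomial (Fin 2) ℤ) ^ m * MvPolynomial.X 1} : Set (MvPolynomial (Fin 2) ℤ))) := by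
  classical
  set x : MvPolynomial (Fin 2) ℤ := MvPolynomial.X 0 with hxdef
  set y : MvPolynomial (Fin 2) ℤ := MvPolynomial.X 1 with hydef
  set c : MvPolynomial (Fin 2) ℤ := (p : MvPolynomial (Fin 2) ℤ) with hcdef
  set A := Algebra.adjoin ℤ ({x ^ (p ^ n), c ^ n * x, y ^ (p ^ m), c ^ m * y} :
    Set (MvPolynomial (Fin 2) ℤ)) with hA
  have hx1 : x ^ (p ^ n) ∈ A := Algebra.subset_adjoin (by simp)
  have hx2 : c ^ n * x ∈ A := Algebra.subset_adjoin (by simp)
  have hy1 : y ^ (p ^ m) ∈ A := Algebra.subset_adjoin (by simp)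
  have hy2 : c ^ m * y ∈ A := Algebra.subset_adjoin (by simp)
  have hc : c ∈ A := by
    have : c = ((p : ℤ) : MvPolynomial (Fin 2) ℤ) := by simp [hcdef]
    rw [this]
    exact A.intCast_mem _
  have hu : 0 < p ^ n := pow_pos hp.pos n
  have hv : 0 < p ^ m := pow_pos hp.pos m
  have kx := key A c x (p ^ n) n hc hx1 hx2 hu
  have ky := key A c y (p ^ m) m hc hy1 hy2 hv
  set N := n * p ^ n + m * p ^ m with hN
  refine ⟨n + m + N, ?_, ?_⟩
  · rw [add_pow]
    refine A.sum_mem (fun i hi => ?_)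
    rw [Finset.mem_range] at hi
    set a := n + m + N with ha
    set j := p ^ a - i with hj
    have hij : i + j = p ^ a := by omega
    by_cases hdiv : p ^ n ∣ i ∧ p ^ m ∣ j
    · obtain ⟨⟨q, hq⟩, ⟨q', hq'⟩⟩ := hdiv
      have e1 : x ^ i = (x ^ (p ^ n)) ^ q := by rw [← pow_mul, hq]
      have e2 : y ^ j = (y ^ (p ^ m)) ^ q' := by rw [← pow_mul, hq']
      rw [e1, e2]
      exact A.mul_mem (A.mul_mem (A.pow_mem hx1 _) (A.pow_mem hy1 _)) (A.natCast_mem _)
    · have hchoose : p ^ N ∣ Nat.choose (p ^ a) i := by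
        rw [not_and_or] at hdiv
        rcases hdiv with h | h
        · have hi0 : i ≠ 0 := by
            rintro rfl
            exact h (dvd_zero _)
          have := dvd_choose hp a n i hi0 (by omega) h
          exact (pow_dvd_pow p (by omega)).trans this
        · have hj0 : j ≠ 0 := by
            intro h0
            rw [h0] at h
            exact h (dvd_zero _)
          have := dvd_choose hp a m j hj0 (by omega) h
          have hsymm : Nat.choose (p ^ a) j = Nat.choose (p ^ a) i := by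
            rw [hj]
            exact Nat.choose_symm (by omega)
          rw [hsymm] at this
          exact (pow_dvd_pow p (by omega)).trans this
      obtain ⟨c', hc'⟩ := hchoose
      have e : x ^ i * y ^ j * ((Nat.choose (p ^ a) i : ℕ) : MvPolynomial (Fin 2) ℤ) =
          (c' : MvPolynomial (Fin 2) ℤ) * (c ^ (n * p ^ n) * x ^ i) * (c ^ (m * p ^ m) * y ^ j) := by
        rw [hc', Nat.cast_mul, Nat.cast_pow, hN, pow_add]
        ring
      rw [e]
      exact A.mul_mem (A.mul_mem (A.natCast_mem _) (kx i)) (ky j)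
  · have e : c ^ (n + m + N) * (x + y) =
        c ^ (m + N) * (c ^ n * x) + c ^ (n + N) * (c ^ m * y) := by
      have e1 : n + m + N = (m + N) + n := by ring
      have e2 : n + m + N = (n + N) + m := by ring
      rw [mul_add]
      congr 1
      · rw [e1, pow_add]; ring
      · rw [e2, pow_add]; ring
    rw [e]
    exact A.add_mem (A.mul_mem (A.pow_mem hc _) hx2) (A.mul_mem (A.pow_mem hc _) hy2)

end Groth.Agent.S9607
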