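import Groth.Statements.S9608
import Mathlib
-- import your own Groth.Agent.* helpers here

set_option autoImplicit false
universe u
open CAlg

namespace Groth.Agent.S9608

/-- Let k'/k be a field extension and p a prime number. Then k' is generated over k by elements x for
which some n > 0 has x^(p^n) ∈ k and p^n x ∈ k, if and only if either k' = k, or k has
characteristic p and k'/k is purely inseparable. -/
theorem result {k k' : Type u} [Field k] [Field k'] [Algebra k k'] (p : ℕ) (hp : p.Prime) :
    IntermediateField.adjoin k {x : k' | ∃ n : ℕ, 0 < n ∧ x ^ (p ^ n) ∈ Set.range (algebraMap k k') ∧ (p : k') ^ n * x ∈ Set.range (algebraMap k k')} = ⊤ ↔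
      (Function.Surjective (algebraMap k k') ∨ (CharP k p ∧ IsPurelyInseparable k k')) := by
  constructor
  · intro h
    by_cases hp0 : (p : k) = 0
    · right
      have hc : CharP k p := by
        have h1 : ringChar k ∣ p := ringChar.dvd hp0
        rcases (Nat.dvd_prime hp).1 h1 with h2 | h2
        · exact absurd h2 (CharP.ringChar_ne_one)
        · rw [← h2]; exact ringChar.charP k
      refine ⟨hc, ?_⟩
      haveI : ExpChar k p := ExpChar.prime hp
      have h1 : IsPurelyInseparable k (IntermediateField.adjoin k {x : k' | ∃ n : ℕ, 0 < n ∧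
          x ^ (p ^ n) ∈ Set.range (algebraMap k k') ∧
          (p : k') ^ n * x ∈ Set.range (algebraMap k k')}) :=
        (IntermediateField.isPurelyInseparable_adjoin_iff_pow_mem k k' p).2
          (fun x hx => by
            obtain ⟨n, _, hx, _⟩ := hx
            exact ⟨n, hx⟩)
      rw [h] at h1
      exact (IntermediateField.topEquiv (F := k) (E := k')).isPurelyInseparable
    · left
      have hS : {x : k' | ∃ n : ℕ, 0 < n ∧ x ^ (p ^ n) ∈ Set.range (algebraMap k k') ∧
          (p : k') ^ n * x ∈ Set.range (algebraMap k k')} ⊆
          ((⊥ : IntermediateField k k') : Set k') := by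
        rintro x ⟨n, hn, _, ⟨y, hy⟩⟩
        have hp' : (p : k') ≠ 0 := by
          rw [← map_natCast (algebraMap k k'), Ne, map_eq_zero_iff _ (algebraMap k k').injective]
          exact hp0
        rw [SetLike.mem_coe, IntermediateField.mem_bot]
        refine ⟨y / (p : k) ^ n, ?_⟩
        rw [map_div₀, hy, map_pow, map_natCast]
        field_simp
      have hle : IntermediateField.adjoin k {x : k' | ∃ n : ℕ, 0 < n ∧
          x ^ (p ^ n) ∈ Set.range (algebraMap k k') ∧
          (p : k') ^ n * x ∈ Set.range (algebraMap k k')} ≤ ⊥ :=
        IntermediateField.adjoin_le_iff.2 hS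
      rw [h] at hle
      intro x
      have hx : x ∈ (⊥ : IntermediateField k k') := hle IntermediateField.mem_top
      exact IntermediateField.mem_bot.1 hx
  · rintro (h | ⟨hc, hpi⟩)
    · rw [eq_top_iff]
      intro x _
      obtain ⟨y, rfl⟩ := h x
      exact IntermediateField.algebraMap_mem _ y
    · haveI := hc
      haveI := hpi
      haveI : ExpChar k p := ExpChar.prime hp
      rw [eq_top_iff]
      intro x _
      apply IntermediateField.subset_adjoin
      obtain ⟨n, y, hy⟩ := IsPurelyInseparable.pow_mem k p x
      refine ⟨n + 1, Nat.succ_pos n, ?_, ?_⟩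
      · exact ⟨y ^ p, by rw [map_pow, hy, ← pow_mul, ← pow_succ]⟩
      · have h0 : (p : k') = 0 := by
          have := CharP.cast_eq_zero k p
          rw [← map_natCast (algebraMap k k'), this, map_zero]
        exact ⟨0, by rw [map_zero, h0]; simp⟩

end Groth.Agent.S9608
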