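import Groth.Statements.S9609
import Mathlib.Algebra.CharP.Algebra
import Mathlib.Algebra.CharP.Lemmas
-- import your own Groth.Agent.* helpers here

set_option autoImplicit false
universe u
open CAlg

namespace Groth.Agent.S9609

section helpers
open TensorProduct

lemma exists_frac {A : Type*} [CommRing A] (I : Ideal A) [I.IsPrime] (x : I.ResidueField) :
    ∃ a b : A, b ∉ I ∧ x * algebraMap A I.ResidueField b = algebraMap A I.ResidueField a := by
  obtain ⟨y, rfl⟩ := IsLocalRing.residue_surjective x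
  obtain ⟨a, ⟨b, hb⟩, rfl⟩ := IsLocalization.exists_mk'_eq I.primeCompl y
  refine ⟨a, b, hb, ?_⟩
  rw [IsScalarTower.algebraMap_apply A (Localization.AtPrime I) I.ResidueField,
    IsScalarTower.algebraMap_apply A (Localization.AtPrime I) I.ResidueField,
    IsLocalRing.ResidueField.algebraMap_eq, ← map_mul]
  congr 1
  exact IsLocalization.mk'_spec _ a ⟨b, hb⟩

variable {R S R' : Type u} [CommRing R] [CommRing S] [CommRing R'] [Algebra R S] [Algebra R R']

lemma aux (c : R) (x : R') : (algebraMap R R' c * x) ⊗ₜ[R] (1 : S) =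
    algebraMap R (R' ⊗[R] S) c * (x ⊗ₜ[R] (1:S)) := by
  rw [Algebra.algebraMap_eq_smul_one, Algebra.algebraMap_eq_smul_one, smul_mul_assoc, one_mul,
    smul_mul_assoc, one_mul, smul_tmul']

lemma core (q : Ideal S) [q.IsPrime]
    (hpi : ∀ x : q.ResidueField, ∃ n : ℕ,
      x ^ (ringExpChar (q.comap (algebraMap R S)).ResidueField) ^ n ∈
        Set.range (Ideal.ResidueField.map (q.comap (algebraMap R S)) q (algebraMap R S) rfl))
    (t : R' ⊗[R] S) :
    ∃ (n : ℕ) (b : R) (r' : R'), b ∉ q.comap (algebraMap R S) ∧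
      ∀ (L : Type u) [Field L] [ExpChar L (ringExpChar (q.comap (algebraMap R S)).ResidueField)]
        (φ : R' ⊗[R] S →+* L), (∀ s ∈ q, φ (1 ⊗ₜ s) = 0) →
        φ (algebraMap R _ b) * φ t ^ (ringExpChar (q.comap (algebraMap R S)).ResidueField) ^ n =
          φ (r' ⊗ₜ 1) := by
  set e := ringExpChar (q.comap (algebraMap R S)).ResidueField with he
  induction t using TensorProduct.induction_on with
  | zero =>
    refine ⟨0, 1, 0, ?_, ?_⟩
    · exact fun h => (Ideal.IsPrime.ne_top inferInstance) ((Ideal.eq_top_iff_one _).mpr h)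
    · intro L _ _ φ _
      simp
  | tmul r s =>
    obtain ⟨n, z, hz⟩ := hpi (algebraMap S q.ResidueField s)
    obtain ⟨a, b, hb, hab⟩ := exists_frac _ z
    have h1 : algebraMap S q.ResidueField (s ^ e ^ n * algebraMap R S b - algebraMap R S a) = 0 := by
      have := congrArg (Ideal.ResidueField.map (q.comap (algebraMap R S)) q (algebraMap R S) rfl) hab
      rw [map_mul, hz, Ideal.ResidueField.map_algebraMap, Ideal.ResidueField.map_algebraMap] at this
      rw [map_sub, map_mul, map_pow, this, sub_self]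
    rw [Ideal.algebraMap_residueField_eq_zero] at h1
    refine ⟨n, b, algebraMap R R' a * r ^ e ^ n, hb, ?_⟩
    intro L _ _ φ hφ
    have h2 := hφ _ h1
    have h3 : (algebraMap R (R' ⊗[R] S) b) * (r ⊗ₜ[R] s) ^ e ^ n - (algebraMap R R' a * r ^ e ^ n) ⊗ₜ[R] (1 : S)
        = ((r ^ e ^ n) ⊗ₜ[R] (1 : S)) * ((1 : R') ⊗ₜ[R] (s ^ e ^ n * algebraMap R S b - algebraMap R S a)) := by
      rw [Algebra.TensorProduct.algebraMap_apply, Algebra.TensorProduct.tmul_pow,
        Algebra.TensorProduct.tmul_mul_tmul, Algebra.TensorProduct.tmul_mul_tmul, one_mul, mul_one,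
        one_mul, tmul_sub]
      congr 1
      · rw [← Algebra.smul_def, mul_comm (s ^ e ^ n), ← Algebra.smul_def, smul_tmul]
      · rw [← Algebra.smul_def, smul_tmul, Algebra.algebraMap_eq_smul_one]
    rw [← sub_eq_zero, ← map_pow, ← map_mul, ← map_sub, h3, map_mul, h2, mul_zero]
  | add t₁ t₂ h₁ h₂ =>
    obtain ⟨n₁, b₁, r₁, hb₁, H₁⟩ := h₁
    obtain ⟨n₂, b₂, r₂, hb₂, H₂⟩ := h₂
    refine ⟨n₁ + n₂, b₁ ^ e ^ n₂ * b₂ ^ e ^ n₁,
      algebraMap R R' (b₂ ^ e ^ n₁) * r₁ ^ e ^ n₂ + algebraMap R R' (b₁ ^ e ^ n₂) * r₂ ^ e ^ n₁,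
      ?_, ?_⟩
    · intro h
      rcases Ideal.IsPrime.mem_or_mem inferInstance h with h | h
      · exact hb₁ (Ideal.IsPrime.mem_of_pow_mem inferInstance _ h)
      · exact hb₂ (Ideal.IsPrime.mem_of_pow_mem inferInstance _ h)
    · intro L _ _ φ hφ
      have e₁ := H₁ L φ hφ
      have e₂ := H₂ L φ hφ
      have k (c : R) (x : R') (E F : ℕ) : φ ((algebraMap R R' (c ^ E) * x ^ F) ⊗ₜ[R] (1 : S)) =
          φ (algebraMap R _ c) ^ E * φ (x ⊗ₜ 1) ^ F := by
        have : (algebraMap R R' (c ^ E) * x ^ F) ⊗ₜ[R] (1 : S) =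
            (algebraMap R (R' ⊗[R] S) c) ^ E * (x ⊗ₜ[R] (1:S)) ^ F := by
          rw [Algebra.TensorProduct.tmul_pow, one_pow, ← map_pow, aux]
        rw [this, map_mul, map_pow, map_pow]
      rw [add_tmul, map_add, map_add, add_pow_expChar_pow, k, k, ← e₁, ← e₂, map_mul, map_pow,
        map_pow, pow_add]
      simp only [map_mul, map_pow]
      ring


lemma expChar_res (q : Ideal S) [q.IsPrime] (q' : Ideal (R' ⊗[R] S)) [q'.IsPrime]
    (h : q = q'.comap (Algebra.TensorProduct.includeRight : S →ₐ[R] R' ⊗[R] S).toRingHom) :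
    ExpChar q'.ResidueField (ringExpChar (q.comap (algebraMap R S)).ResidueField) :=
  expChar_of_injective_ringHom
    (f := (Ideal.ResidueField.map q q' _ h).comp
      (Ideal.ResidueField.map _ q (algebraMap R S) rfl)) (RingHom.injective _) _

lemma expChar_res' (q' : Ideal (R' ⊗[R] S)) [q'.IsPrime] :
    ExpChar q'.ResidueField
      (ringExpChar (q'.comap (algebraMap R' (R' ⊗[R] S))).ResidueField) :=
  expChar_of_injective_ringHom
    (f := Ideal.ResidueField.map _ q' (algebraMap R' _) rfl) (RingHom.injective _) _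


end helpers

open TensorProduct in
/-- Let R → S be a ring map which is injective on spectra and whose residue field extensions κ(p) → κ(q)
(q a prime of S with inverse image p) are purely inseparable: every element of κ(q) has a power with
exponent a power of the characteristic exponent lying in the image of κ(p). Then, given an arbitrary
R-algebra R', the induced map R' → R' ⊗_R S is likewise injective on spectra and has purely
inseparable residue field extensions. -/
theorem result {R S R' : Type u} [CommRing R] [CommRing S] [CommRing R'] [Algebra R S] [Algebra R R']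
    (hinj : Function.Injective (PrimeSpectrum.comap (algebraMap R S)))
    (hpi : ∀ (q : Ideal S) [q.IsPrime] (x : q.ResidueField), ∃ n : ℕ, x ^ (ringExpChar (q.comap (algebraMap R S)).ResidueField) ^ n ∈ Set.range (Ideal.ResidueField.map (q.comap (algebraMap R S)) q (algebraMap R S) rfl)) :
    Function.Injective (PrimeSpectrum.comap (algebraMap R' (R' ⊗[R] S))) ∧
      ∀ (q' : Ideal (R' ⊗[R] S)) [q'.IsPrime] (x : q'.ResidueField), ∃ n : ℕ, x ^ (ringExpChar (q'.comap (algebraMap R' (R' ⊗[R] S))).ResidueField) ^ n ∈ Set.range (Ideal.ResidueField.map (q'.comap (algebraMap R' (R' ⊗[R] S))) q' (algebraMap R' (R' ⊗[R] S)) rfl) := by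
  set ι : S →+* R' ⊗[R] S :=
    (Algebra.TensorProduct.includeRight : S →ₐ[R] R' ⊗[R] S).toRingHom with hι
  have hcomm : ι.comp (algebraMap R S) = (algebraMap R' (R' ⊗[R] S)).comp (algebraMap R R') := by
    ext r
    simp [ι, Algebra.algebraMap_eq_smul_one]
  have hcomm' : ∀ b : R, algebraMap R (R' ⊗[R] S) b = ι (algebraMap R S b) := by
    intro b
    simp [ι]
  -- key membership criterion
  have key : ∀ (q : Ideal S) [q.IsPrime] (t : R' ⊗[R] S), ∃ (n : ℕ) (b : R) (r' : R'),
      ∀ (q' : Ideal (R' ⊗[R] S)) [q'.IsPrime], q = q'.comap ι →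
        algebraMap (R' ⊗[R] S) q'.ResidueField (algebraMap R _ b) ≠ 0 ∧
        algebraMap (R' ⊗[R] S) q'.ResidueField (algebraMap R _ b) *
          algebraMap (R' ⊗[R] S) q'.ResidueField t ^ (ringExpChar (q.comap (algebraMap R S)).ResidueField) ^ n =
          algebraMap (R' ⊗[R] S) q'.ResidueField (r' ⊗ₜ[R] (1 : S)) := by
    intro q _ t
    obtain ⟨n, b, r', hb, H⟩ := core (R' := R') q (hpi q) t
    refine ⟨n, b, r', ?_⟩
    intro q' _ hq
    haveI := expChar_res q q' hq
    refine ⟨?_, H _ _ ?_⟩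
    · rw [Ne, Ideal.algebraMap_residueField_eq_zero, hcomm']
      intro hmem
      apply hb
      rw [hq]
      exact hmem
    · intro s hs
      rw [Ideal.algebraMap_residueField_eq_zero]
      rw [hq] at hs
      exact hs
  refine ⟨?_, ?_⟩
  · intro q'₁ q'₂ h
    have hq : PrimeSpectrum.comap ι q'₁ = PrimeSpectrum.comap ι q'₂ := by
      apply hinj
      rw [← PrimeSpectrum.comap_comp_apply, ← PrimeSpectrum.comap_comp_apply, hcomm,
        PrimeSpectrum.comap_comp_apply, PrimeSpectrum.comap_comp_apply, h]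
    have hq' : q'₁.asIdeal.comap ι = q'₂.asIdeal.comap ι := congrArg PrimeSpectrum.asIdeal hq
    have h' : q'₁.asIdeal.comap (algebraMap R' (R' ⊗[R] S)) =
        q'₂.asIdeal.comap (algebraMap R' (R' ⊗[R] S)) := congrArg PrimeSpectrum.asIdeal h
    ext t
    obtain ⟨n, b, r', H⟩ := key (q'₁.asIdeal.comap ι) t
    obtain ⟨hb₁, e₁⟩ := H q'₁.asIdeal rfl
    obtain ⟨hb₂, e₂⟩ := H q'₂.asIdeal hq'
    have crit : ∀ (q' : Ideal (R' ⊗[R] S)) [q'.IsPrime] (N : ℕ) (B : q'.ResidueField), B ≠ 0 →
        B * algebraMap (R' ⊗[R] S) q'.ResidueField t ^ N = algebraMap (R' ⊗[R] S) q'.ResidueField (r' ⊗ₜ[R] (1 : S)) → N ≠ 0 →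
        (t ∈ q' ↔ r' ∈ q'.comap (algebraMap R' (R' ⊗[R] S))) := by
      intro q' _ N B hB hE hN
      rw [Ideal.mem_comap, Algebra.TensorProduct.algebraMap_apply, Algebra.algebraMap_self,
        RingHom.id_apply,
        ← Ideal.algebraMap_residueField_eq_zero (I := q'),
        ← Ideal.algebraMap_residueField_eq_zero (I := q'), ← hE]
      constructor
      · intro h0
        rw [h0, zero_pow hN, mul_zero]
      · intro h0
        rcases mul_eq_zero.mp h0 with h0 | h0
        · exact absurd h0 hB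
        · exact pow_eq_zero_iff hN |>.mp h0
    haveI := expChar_res (q'₁.asIdeal.comap ι) q'₁.asIdeal rfl
    have hN : (ringExpChar ((q'₁.asIdeal.comap ι).comap (algebraMap R S)).ResidueField) ^ n ≠ 0 :=
      (expChar_pow_pos q'₁.asIdeal.ResidueField _ n).ne'
    rw [crit q'₁.asIdeal _ _ hb₁ e₁ hN, crit q'₂.asIdeal _ _ hb₂ e₂ hN, h']
  · intro q' _ x
    have h1 := expChar_res (q'.comap ι) q' rfl
    have h2 := expChar_res' q'
    have hee : ringExpChar ((q'.comap ι).comap (algebraMap R S)).ResidueField =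
        ringExpChar (q'.comap (algebraMap R' (R' ⊗[R] S))).ResidueField := ExpChar.eq h1 h2
    obtain ⟨t, u, hu, htu⟩ := exists_frac q' x
    obtain ⟨n₁, b₁, r₁, H₁⟩ := key (q'.comap ι) t
    obtain ⟨n₂, b₂, r₂, H₂⟩ := key (q'.comap ι) u
    obtain ⟨hb₁, e₁⟩ := H₁ q' rfl
    obtain ⟨hb₂, e₂⟩ := H₂ q' rfl
    rw [← hee]
    rw [hee] at e₁ e₂
    rw [hee]
    generalize ringExpChar (q'.comap (algebraMap R' (R' ⊗[R] S))).ResidueField = e at *
    have hm : ∀ r : R', Ideal.ResidueField.map (q'.comap (algebraMap R' (R' ⊗[R] S))) q'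
        (algebraMap R' (R' ⊗[R] S)) rfl (algebraMap R' _ r) =
        algebraMap (R' ⊗[R] S) q'.ResidueField (r ⊗ₜ[R] (1 : S)) := by
      intro r
      rw [Ideal.ResidueField.map_algebraMap, Algebra.TensorProduct.algebraMap_apply,
        Algebra.algebraMap_self, RingHom.id_apply]
    have hm' : ∀ b : R, Ideal.ResidueField.map (q'.comap (algebraMap R' (R' ⊗[R] S))) q'
        (algebraMap R' (R' ⊗[R] S)) rfl (algebraMap R' _ (algebraMap R R' b)) =
        algebraMap (R' ⊗[R] S) q'.ResidueField (algebraMap R _ b) := by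
      intro b
      rw [hm, Algebra.TensorProduct.algebraMap_apply]
    have hU : algebraMap (R' ⊗[R] S) q'.ResidueField u ≠ 0 := by
      rwa [Ne, Ideal.algebraMap_residueField_eq_zero]
    refine ⟨n₁ + n₂, (algebraMap R' _ r₁ ^ e ^ n₂ / algebraMap R' _ (algebraMap R R' b₁) ^ e ^ n₂) /
      (algebraMap R' _ r₂ ^ e ^ n₁ / algebraMap R' _ (algebraMap R R' b₂) ^ e ^ n₁), ?_⟩
    rw [map_div₀, map_div₀, map_div₀, map_pow, map_pow, map_pow, map_pow, hm', hm', hm, hm,
      ← e₁, ← e₂, eq_div_of_mul_eq hU htu, pow_add, mul_pow, mul_pow, ← pow_mul, ← pow_mul, div_pow,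
      mul_div_cancel_left₀ _ (pow_ne_zero _ hb₁), mul_div_cancel_left₀ _ (pow_ne_zero _ hb₂),
      mul_comm (e ^ n₂)]

end Groth.Agent.S9609
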