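import Groth.Statements.S9610
import Mathlib
-- import your own Groth.Agent.* helpers here

set_option autoImplicit false
universe u
open CAlg

namespace Groth.Agent.S9610

/-- Let k be a field and V a nonzero k-vector space with dim_k V < #k as cardinals. Then every k-linear
endomorphism T of V admits a monic polynomial P over k for which P(T) is not invertible. -/
theorem result {k V : Type u} [Field k] [AddCommGroup V] [Module k V] [Nontrivial V] (hV : Module.rank k V < Cardinal.mk k) (T : Module.End k V) :
    ∃ P : Polynomial k, P.Monic ∧ ¬ IsUnit (Polynomial.aeval T P) := by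
  classical
  by_contra hcon
  push Not at hcon
  -- every nonzero polynomial gives a unit
  have hunit : ∀ Q : Polynomial k, Q ≠ 0 → IsUnit (Polynomial.aeval T Q) := by
    intro Q hQ
    have h1 : Q = Polynomial.C Q.leadingCoeff * (Polynomial.C Q.leadingCoeff⁻¹ * Q) := by
      rw [← mul_assoc, ← Polynomial.C_mul, mul_inv_cancel₀ (Polynomial.leadingCoeff_ne_zero.2 hQ),
        Polynomial.C_1, one_mul]
    have hmonic : (Polynomial.C Q.leadingCoeff⁻¹ * Q).Monic := by
      rw [Polynomial.Monic, Polynomial.leadingCoeff_mul, Polynomial.leadingCoeff_C,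
        inv_mul_cancel₀ (Polynomial.leadingCoeff_ne_zero.2 hQ)]
    rw [h1, map_mul, Polynomial.aeval_C]
    refine IsUnit.mul ?_ (hcon _ hmonic)
    exact (isUnit_iff_ne_zero.2 (Polynomial.leadingCoeff_ne_zero.2 hQ)).map (algebraMap k (Module.End k V))
  obtain ⟨v, hv⟩ := exists_ne (0 : V)
  have hU : ∀ a : k, IsUnit (Polynomial.aeval T (Polynomial.X - Polynomial.C a)) :=
    fun a => hunit _ (Polynomial.X_sub_C_ne_zero a)
  let w : k → V := fun a => ((hU a).unit⁻¹ : (Module.End k V)ˣ).1 v
  have hcomm : ∀ (A B : Polynomial k), Polynomial.aeval T A * Polynomial.aeval T B =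
      Polynomial.aeval T B * Polynomial.aeval T A := by
    intro A B
    rw [← map_mul, ← map_mul, mul_comm]
  have hw : ∀ (s : Finset k) (i : k), i ∈ s →
      Polynomial.aeval T (∏ j ∈ s, (Polynomial.X - Polynomial.C j)) (w i) =
        Polynomial.aeval T (∏ j ∈ s.erase i, (Polynomial.X - Polynomial.C j)) v := by
    intro s i hi
    rw [← Finset.mul_prod_erase s _ hi, map_mul, hcomm]
    simp only [w, Module.End.mul_apply]
    congr 1
    have : (Polynomial.aeval T (Polynomial.X - Polynomial.C i)) * ((hU i).unit⁻¹ : (Module.End k V)ˣ).1 = 1 :=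
      (hU i).mul_val_inv
    have h2 := LinearMap.congr_fun this v
    rw [Module.End.mul_apply, Module.End.one_apply] at h2
    exact h2
  have hli : LinearIndependent k w := by
    rw [linearIndependent_iff']
    intro s g hsum i₀ hi₀
    have h1 := congrArg (Polynomial.aeval T (∏ j ∈ s, (Polynomial.X - Polynomial.C j))) hsum
    rw [map_sum, map_zero] at h1
    have h2 : ∑ i ∈ s, g i • Polynomial.aeval T (∏ j ∈ s.erase i, (Polynomial.X - Polynomial.C j)) v = 0 := by
      rw [← h1]
      refine Finset.sum_congr rfl (fun i hi => ?_)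
      rw [map_smul, hw s i hi]
    set Q : Polynomial k := ∑ i ∈ s, Polynomial.C (g i) * ∏ j ∈ s.erase i, (Polynomial.X - Polynomial.C j) with hQdef
    have h3 : Polynomial.aeval T Q v = 0 := by
      rw [hQdef, map_sum, LinearMap.sum_apply, ← h2]
      refine Finset.sum_congr rfl (fun i _ => ?_)
      rw [map_mul, Polynomial.aeval_C, Module.End.mul_apply, Module.algebraMap_end_apply]
    have hQ0 : Q = 0 := by
      by_contra hQ
      have hu := hunit Q hQ
      have : (hu.unit⁻¹ : (Module.End k V)ˣ).1 (Polynomial.aeval T Q v) = v := by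
        have h5 : ((hu.unit⁻¹ : (Module.End k V)ˣ).1 * Polynomial.aeval T Q) = 1 := hu.val_inv_mul
        have h6 := LinearMap.congr_fun h5 v
        rw [Module.End.mul_apply, Module.End.one_apply] at h6
        exact h6
      rw [h3, map_zero] at this
      exact hv this.symm
    have h4 := congrArg (Polynomial.eval i₀) hQ0
    rw [hQdef, Polynomial.eval_finsetSum, Polynomial.eval_zero,
      Finset.sum_eq_single_of_mem i₀ hi₀] at h4
    · rw [Polynomial.eval_mul, Polynomial.eval_C, Polynomial.eval_prod] at h4
      rcases mul_eq_zero.1 h4 with h5 | h5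
      · exact h5
      · exfalso
        rw [Finset.prod_eq_zero_iff] at h5
        obtain ⟨j, hj, hj0⟩ := h5
        simp only [Polynomial.eval_sub, Polynomial.eval_X, Polynomial.eval_C, sub_eq_zero] at hj0
        exact (Finset.ne_of_mem_erase hj) hj0.symm
    · intro i hi hne
      rw [Polynomial.eval_mul, Polynomial.eval_prod]
      apply mul_eq_zero_of_right
      apply Finset.prod_eq_zero (Finset.mem_erase.2 ⟨hne.symm, hi₀⟩)
      simp
  have := hli.cardinal_le_rank
  exact absurd (lt_of_le_of_lt this hV) (lt_irrefl _)

end Groth.Agent.S9610
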