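import Groth.Statements.S9611
import Mathlib
-- import your own Groth.Agent.* helpers here

set_option autoImplicit false
universe u
open CAlg

namespace Groth.Agent.S9611

lemma infinite_domain {A : Type*} [CommRing A] [IsDomain A] [IsJacobsonRing A]
    (hA : ¬ (⊥ : Ideal A).IsMaximal) (f : A) (hf : f ≠ 0) :
    {q : PrimeSpectrum A | f ∉ q.asIdeal}.Infinite := by
  intro hfin
  classical
  let T := hfin.toFinset
  have hchoose : ∀ q : PrimeSpectrum A, ∃ g : A, g ≠ 0 ∧ (q.asIdeal ≠ ⊥ → g ∈ q.asIdeal) := by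
    intro q
    by_cases h : q.asIdeal = ⊥
    · exact ⟨1, one_ne_zero, fun h' => absurd h h'⟩
    · obtain ⟨g, hg, hg0⟩ := Submodule.exists_mem_ne_zero_of_ne_bot h
      exact ⟨g, hg0, fun _ => hg⟩
  choose g hg0 hg using hchoose
  have hG : f * ∏ q ∈ T, g q ≠ 0 :=
    mul_ne_zero hf (Finset.prod_ne_zero_iff.2 (fun q _ => hg0 q))
  have hjac : (⊥ : Ideal A).jacobson = ⊥ :=
    (isJacobsonRing_iff_prime_eq.1 ‹IsJacobsonRing A›) ⊥ Ideal.isPrime_bot
  have hnot : f * ∏ q ∈ T, g q ∉ (⊥ : Ideal A).jacobson := by rw [hjac]; exact hG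
  rw [Ideal.jacobson, Ideal.mem_sInf] at hnot
  push Not at hnot
  obtain ⟨m, ⟨_, hm⟩, hGm⟩ := hnot
  have hfm : f ∉ m := fun h => hGm (Ideal.mul_mem_right _ _ h)
  let qm : PrimeSpectrum A := ⟨m, hm.isPrime⟩
  have hqmT : qm ∈ T := by
    simp only [T, Set.Finite.mem_toFinset, Set.mem_setOf_eq]
    exact hfm
  have : m = ⊥ := by
    by_contra hne
    apply hGm
    apply Ideal.mul_mem_left
    exact Ideal.mem_of_dvd _ (Finset.dvd_prod_of_mem g hqmT) (hg qm hne)
  exact hA (this ▸ hm)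

/-- Let R be a Jacobson ring, p a prime ideal of R which is not maximal, and f an element of R not in p.
Then the set of primes of R containing p and not containing f is infinite. -/
theorem result {R : Type u} [CommRing R] [IsJacobsonRing R] (p : Ideal R) [p.IsPrime] (hp : ¬ p.IsMaximal) (f : R) (hf : f ∉ p) :
    {q : PrimeSpectrum R | p ≤ q.asIdeal ∧ f ∉ q.asIdeal}.Infinite := by
  have hA : ¬ (⊥ : Ideal (R ⧸ p)).IsMaximal := by rwa [Ideal.bot_quotient_isMaximal_iff]
  have hf' : Ideal.Quotient.mk p f ≠ 0 := by rwa [Ne, Ideal.Quotient.eq_zero_iff_mem]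
  have hinf := infinite_domain hA _ hf'
  have hinj : Function.Injective (PrimeSpectrum.comap (Ideal.Quotient.mk p)) :=
    PrimeSpectrum.comap_injective_of_surjective _ Ideal.Quotient.mk_surjective
  refine (hinf.image hinj.injOn).mono ?_
  rintro _ ⟨q, hq, rfl⟩
  refine ⟨?_, ?_⟩
  · intro x hx
    change Ideal.Quotient.mk p x ∈ q.asIdeal
    rw [Ideal.Quotient.eq_zero_iff_mem.2 hx]
    exact zero_mem _
  · exact hq

end Groth.Agent.S9611
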