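import Groth.Statements.S9612
import Mathlib
-- import your own Groth.Agent.* helpers here

set_option autoImplicit false
universe u
open CAlg

namespace Groth.Agent.S9612

lemma isJacobsonRing_int : IsJacobsonRing ℤ := by
  rw [isJacobsonRing_iff_prime_eq]
  intro P hP
  by_cases h0 : P = ⊥
  · subst h0
    apply le_antisymm _ Ideal.le_jacobson
    intro x hx
    rw [Ideal.mem_bot]
    by_contra hx0
    obtain ⟨q, hq1, hq2⟩ := Nat.exists_infinite_primes (x.natAbs + 1)
    have hqprime : Prime (q : ℤ) := Nat.prime_iff_prime_int.1 hq2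
    have hmax : (Ideal.span {(q : ℤ)}).IsMaximal :=
      PrincipalIdealRing.isMaximal_of_irreducible hqprime.irreducible
    have hmem : x ∈ Ideal.span {(q : ℤ)} := by
      rw [Ideal.jacobson, Ideal.mem_sInf] at hx
      exact hx ⟨bot_le, hmax⟩
    rw [Ideal.mem_span_singleton] at hmem
    have h1 : q ∣ x.natAbs := Int.natCast_dvd.1 hmem
    have h2 : q ≤ x.natAbs := Nat.le_of_dvd (Int.natAbs_pos.2 hx0) h1
    omega
  · haveI : P.IsMaximal := hP.isMaximal h0
    exact Ideal.jacobson_eq_self_of_isMaximal

/-- A finite type ℤ-algebra is a Jacobson ring. -/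
theorem result {S : Type u} [CommRing S] [Algebra.FiniteType ℤ S] :
    IsJacobsonRing S := by
  haveI := isJacobsonRing_int
  exact isJacobsonRing_of_finiteType (A := ℤ) (B := S)

end Groth.Agent.S9612
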