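import Groth.Statements.S9613
import Mathlib
-- import your own Groth.Agent.* helpers here

set_option autoImplicit false
universe u
open CAlg

namespace Groth.Agent.S9613

lemma isLocalization_adjoin_inv {R K : Type*} [CommRing R] [Field K] [Algebra R K]
    (hinj : Function.Injective (algebraMap R K)) (f : R) (hf : f ≠ 0) :
    IsLocalization.Away f (Algebra.adjoin R {(algebraMap R K f)⁻¹}) := by
  have hf' : algebraMap R K f ≠ 0 := fun h => hf (hinj (h.trans (map_zero _).symm))
  rw [IsLocalization.Away, isLocalization_iff]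
  refine ⟨?_, ?_, ?_⟩
  · rintro ⟨_, n, rfl⟩
    rw [map_pow]
    apply IsUnit.pow
    rw [isUnit_iff_exists_inv]
    refine ⟨⟨(algebraMap R K f)⁻¹, Algebra.subset_adjoin rfl⟩, ?_⟩
    apply Subtype.ext
    simp [mul_inv_cancel₀ hf']
  · rintro ⟨z, hz⟩
    induction hz using Algebra.adjoin_induction with
    | mem x hx =>
      rw [Set.mem_singleton_iff] at hx
      subst hx
      refine ⟨⟨1, ⟨f, 1, pow_one f⟩⟩, ?_⟩
      apply Subtype.ext
      simp [inv_mul_cancel₀ hf']
    | algebraMap r =>
      refine ⟨⟨r, 1⟩, ?_⟩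
      apply Subtype.ext
      simp
    | add x y hx hy ihx ihy =>
      obtain ⟨⟨a, ⟨_, m, rfl⟩⟩, ha⟩ := ihx
      obtain ⟨⟨b, ⟨_, n, rfl⟩⟩, hb⟩ := ihy
      refine ⟨⟨a * f ^ n + b * f ^ m, ⟨f ^ (m + n), m + n, rfl⟩⟩, ?_⟩
      have ha' := congrArg Subtype.val ha
      have hb' := congrArg Subtype.val hb
      apply Subtype.ext
      simp only [Subalgebra.coe_mul, Subalgebra.coe_algebraMap, Subalgebra.coe_add, map_add,
        map_mul, map_pow, Subalgebra.coe_pow] at ha' hb' ⊢
      rw [← ha', ← hb']
      ring
    | mul x y hx hy ihx ihy =>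
      obtain ⟨⟨a, ⟨_, m, rfl⟩⟩, ha⟩ := ihx
      obtain ⟨⟨b, ⟨_, n, rfl⟩⟩, hb⟩ := ihy
      refine ⟨⟨a * b, ⟨f ^ (m + n), m + n, rfl⟩⟩, ?_⟩
      have ha' := congrArg Subtype.val ha
      have hb' := congrArg Subtype.val hb
      apply Subtype.ext
      simp only [Subalgebra.coe_mul, Subalgebra.coe_algebraMap, map_mul, map_pow,
        Subalgebra.coe_pow] at ha' hb' ⊢
      rw [← ha', ← hb']
      ring
  · intro x y hxy
    refine ⟨1, ?_⟩
    have := congrArg Subtype.val hxy
    simp only [Subalgebra.coe_algebraMap] at this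
    rw [hinj this]

/-- Let R → K be an injective ring map into a field K which makes K an R-algebra of finite type. Then
for some nonzero f ∈ R the localization R_f is a field over which K is finite; here R_f is realised
as the R-subalgebra of K that is a localization of R away from f. -/
theorem result {R K : Type u} [CommRing R] [Field K] [Algebra R K] (hinj : Function.Injective (algebraMap R K)) [Algebra.FiniteType R K] :
    ∃ f : R, f ≠ 0 ∧ ∃ Rf : Subalgebra R K, IsLocalization.Away f Rf ∧ IsField Rf ∧ Module.Finite Rf K := by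
  classical
  haveI : IsDomain R := hinj.isDomain (algebraMap R K)
  letI : Algebra (FractionRing R) K := (IsFractionRing.lift hinj).toAlgebra
  haveI : IsScalarTower R (FractionRing R) K :=
    IsScalarTower.of_algebraMap_eq (fun x => (IsFractionRing.lift_algebraMap hinj x).symm)
  haveI : Algebra.FiniteType (FractionRing R) K :=
    Algebra.FiniteType.of_restrictScalars_finiteType R _ K
  haveI : Module.Finite (FractionRing R) K := finite_of_finite_type_of_isJacobsonRing _ K
  haveI : Algebra.IsAlgebraic (FractionRing R) K := Algebra.IsAlgebraic.of_finite _ _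
  have halg : Algebra.IsAlgebraic R K :=
    (IsFractionRing.comap_isAlgebraic_iff (A := R) (K := FractionRing R) (C := K)).2 inferInstance
  obtain ⟨s, hs⟩ := (inferInstance : Algebra.FiniteType R K).out
  have hp : ∀ x : K, ∃ p : Polynomial R, p ≠ 0 ∧ Polynomial.aeval x p = 0 :=
    fun x => halg.isAlgebraic x
  choose p hp0 hpx using hp
  let f : R := ∏ x ∈ s, (p x).leadingCoeff
  have hf : f ≠ 0 :=
    Finset.prod_ne_zero_iff.2 (fun x _ => Polynomial.leadingCoeff_ne_zero.2 (hp0 x))
  have hf' : algebraMap R K f ≠ 0 := fun h => hf (hinj (h.trans (map_zero _).symm))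
  let Rf : Subalgebra R K := Algebra.adjoin R {(algebraMap R K f)⁻¹}
  have hint : ∀ x ∈ s, IsIntegral Rf x := by
    intro x hx
    have hlc : algebraMap R K (p x).leadingCoeff ≠ 0 := fun h =>
      Polynomial.leadingCoeff_ne_zero.2 (hp0 x) (hinj (h.trans (map_zero _).symm))
    have h1 : IsIntegral Rf ((p x).leadingCoeff • x) :=
      (isIntegral_leadingCoeff_smul (p x) x (hpx x)).tower_top
    have hmem : (algebraMap R K (p x).leadingCoeff)⁻¹ ∈ Rf := by
      have h2 : (algebraMap R K (p x).leadingCoeff)⁻¹ =
          algebraMap R K (∏ y ∈ s.erase x, (p y).leadingCoeff) * (algebraMap R K f)⁻¹ := by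
        have : f = (p x).leadingCoeff * ∏ y ∈ s.erase x, (p y).leadingCoeff :=
          (Finset.mul_prod_erase s _ hx).symm
        rw [this, map_mul]
        have hne : algebraMap R K (∏ y ∈ s.erase x, (p y).leadingCoeff) ≠ 0 := by
          intro h0
          apply hf'
          rw [this, map_mul, h0, mul_zero]
        field_simp
      rw [h2]
      exact Rf.mul_mem (Rf.algebraMap_mem _) (Algebra.subset_adjoin rfl)
    have h3 : IsIntegral Rf (algebraMap Rf K ⟨_, hmem⟩) := isIntegral_algebraMap
    have h4 := h3.mul h1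
    have h5 : algebraMap Rf K ⟨_, hmem⟩ * ((p x).leadingCoeff • x) = x := by
      change (algebraMap R K (p x).leadingCoeff)⁻¹ * ((p x).leadingCoeff • x) = x
      rw [Algebra.smul_def, ← mul_assoc, inv_mul_cancel₀ hlc, one_mul]
    rwa [h5] at h4
  haveI hIntegral : Algebra.IsIntegral Rf K := by
    constructor
    intro z
    have hz : z ∈ Algebra.adjoin R (s : Set K) := by rw [hs]; trivial
    induction hz using Algebra.adjoin_induction with
    | mem x hx => exact hint x hx
    | algebraMap r =>
      have : algebraMap R K r = algebraMap Rf K (algebraMap R Rf r) := rfl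
      rw [this]
      exact isIntegral_algebraMap
    | add x y _ _ ihx ihy => exact ihx.add ihy
    | mul x y _ _ ihx ihy => exact ihx.mul ihy
  refine ⟨f, hf, Rf, isLocalization_adjoin_inv hinj f hf, ?_, ?_⟩
  · exact isField_of_isIntegral_of_isField (R := Rf) (S := K) Subtype.val_injective
      (Field.toIsField K)
  · haveI : Algebra.FiniteType Rf K := Algebra.FiniteType.of_restrictScalars_finiteType R Rf K
    exact Algebra.IsIntegral.finite

end Groth.Agent.S9613
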