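import Groth.Statements.S9614
import Mathlib
-- import your own Groth.Agent.* helpers here

set_option autoImplicit false
universe u
open CAlg

namespace Groth.Agent.S9614

open DirectSum

section
variable {R S : Type u} [CommRing R] [CommRing S] [Algebra R S] (𝒜 : ℕ → Submodule R S)
  [GradedAlgebra 𝒜]
  {M : Type u} [AddCommGroup M] [Module R M] [Module S M] [IsScalarTower R S M]
  (ℳ : ℕ → Submodule R M) [DirectSum.Decomposition ℳ] [SetLike.GradedSMul 𝒜 ℳ]

lemma proj_add (d : ℕ) (y z : M) :
    (decompose ℳ (y + z) d : M) = (decompose ℳ y d : M) + (decompose ℳ z d : M) := by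
  rw [decompose_add, DirectSum.add_apply, Submodule.coe_add]

lemma proj_zero (d : ℕ) : (decompose ℳ (0 : M) d : M) = 0 := by
  rw [decompose_zero, DirectSum.zero_apply, Submodule.coe_zero]

lemma proj_sum {ι : Type*} (t : Finset ι) (f : ι → M) (d : ℕ) :
    (decompose ℳ (∑ i ∈ t, f i) d : M) = ∑ i ∈ t, (decompose ℳ (f i) d : M) := by
  classical
  induction t using Finset.induction_on with
  | empty => simp [proj_zero]
  | insert a t ha ih => rw [Finset.sum_insert ha, Finset.sum_insert ha, proj_add, ih]

lemma proj_smul_of_mem {i : ℕ} {s : S} (hs : s ∈ 𝒜 i) (d : ℕ) (y : M) :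
    (decompose ℳ (s • y) (i + d) : M) = s • (decompose ℳ y d : M) := by
  induction y using DirectSum.Decomposition.inductionOn ℳ with
  | zero => simp [proj_zero]
  | @homogeneous j m =>
    have hmem : s • (m : M) ∈ ℳ (i + j) := SetLike.GradedSMul.smul_mem hs m.2
    by_cases hjd : j = d
    · subst hjd
      rw [decompose_of_mem_same ℳ hmem, decompose_of_mem_same ℳ m.2]
    · have h1 : i + j ≠ i + d := fun h => hjd (Nat.add_left_cancel h)
      rw [decompose_of_mem_ne ℳ hmem h1, decompose_of_mem_ne ℳ m.2 hjd, smul_zero]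
  | add m m' ih ih' => rw [smul_add, proj_add, proj_add, ih, ih', smul_add]

lemma proj_smul_of_mem_of_lt {i : ℕ} {s : S} (hs : s ∈ 𝒜 i) (d : ℕ) (hd : d < i) (y : M) :
    (decompose ℳ (s • y) d : M) = 0 := by
  induction y using DirectSum.Decomposition.inductionOn ℳ with
  | zero => simp [proj_zero]
  | @homogeneous j m =>
    have hmem : s • (m : M) ∈ ℳ (i + j) := SetLike.GradedSMul.smul_mem hs m.2
    have h1 : i + j ≠ d := by omega
    rw [decompose_of_mem_ne ℳ hmem h1]
  | add m m' ih ih' => rw [smul_add, proj_add, ih, ih', add_zero]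

lemma proj_smul_mem {R S : Type u} [CommRing R] [CommRing S] [Algebra R S] (𝒜 : ℕ → Submodule R S)
    [GradedAlgebra 𝒜]
    {M : Type u} [AddCommGroup M] [Module R M] [Module S M] [IsScalarTower R S M]
    (ℳ : ℕ → Submodule R M) [DirectSum.Decomposition ℳ] [SetLike.GradedSMul 𝒜 ℳ]
    (N : Submodule S M) (s : S) (a : M)
    (ha : ∀ d, (decompose ℳ a d : M) ∈ N) : ∀ d, (decompose ℳ (s • a) d : M) ∈ N := by
  induction s using DirectSum.Decomposition.inductionOn 𝒜 with
  | zero => intro d; simp [proj_zero]
  | @homogeneous i s =>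
    intro d
    by_cases hid : i ≤ d
    · obtain ⟨e, rfl⟩ := Nat.exists_eq_add_of_le hid
      rw [proj_smul_of_mem 𝒜 ℳ s.2]
      exact N.smul_mem _ (ha e)
    · rw [proj_smul_of_mem_of_lt 𝒜 ℳ s.2 d (by omega)]
      exact N.zero_mem
  | add s s' ih ih' =>
    intro d
    rw [add_smul, proj_add]
    exact N.add_mem (ih d) (ih' d)

end

/-- Let S be an ℕ-graded ring and M a finitely generated graded S-module, graded in nonnegative degrees
(the source allows all integer degrees). If x_1, …, x_n are homogeneous elements of M which generate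
M modulo S₊ M (S₊ the irrelevant ideal), then x_1, …, x_n generate M. -/
theorem result {R S : Type u} [CommRing R] [CommRing S] [Algebra R S] (𝒜 : ℕ → Submodule R S) [GradedAlgebra 𝒜]
    (M : Type u) [AddCommGroup M] [Module R M] [Module S M] [IsScalarTower R S M] [Module.Finite S M] (ℳ : ℕ → Submodule R M) [DirectSum.Decomposition ℳ] [SetLike.GradedSMul 𝒜 ℳ]
    {n : ℕ} (x : Fin n → M) (hx : ∀ i, SetLike.IsHomogeneousElem ℳ (x i))
    (h : Submodule.span S (Set.range x) ⊔ (HomogeneousIdeal.irrelevant 𝒜).toIdeal • (⊤ : Submodule S M) = ⊤) :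
    Submodule.span S (Set.range x) = ⊤ := by
  classical
  set N := Submodule.span S (Set.range x) with hN
  -- N is stable under taking homogeneous components
  have hB : ∀ a ∈ N, ∀ d, (DirectSum.decompose ℳ a d : M) ∈ N := by
    intro a ha
    induction ha using Submodule.span_induction with
    | mem y hy =>
      obtain ⟨k, rfl⟩ := hy
      obtain ⟨e, he⟩ := hx k
      intro d
      by_cases hed : e = d
      · subst hed
        rw [DirectSum.decompose_of_mem_same ℳ he]
        exact Submodule.subset_span ⟨k, rfl⟩
      · rw [DirectSum.decompose_of_mem_ne ℳ he hed]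
        exact N.zero_mem
    | zero => intro d; rw [proj_zero]; exact N.zero_mem
    | add y z _ _ ihy ihz => intro d; rw [proj_add]; exact N.add_mem (ihy d) (ihz d)
    | smul s y _ ih => exact proj_smul_mem 𝒜 ℳ N s y ih
  -- every homogeneous element lies in N
  have hA : ∀ d, ∀ m ∈ ℳ d, m ∈ N := by
    intro d
    induction d using Nat.strong_induction_on with
    | _ d IH =>
      intro m hm
      have hmem : m ∈ N ⊔ (HomogeneousIdeal.irrelevant 𝒜).toIdeal • (⊤ : Submodule S M) := by
        rw [h]; trivial
      obtain ⟨a, ha, b, hb, hab⟩ := Submodule.mem_sup.1 hmem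
      have hC : ∀ b ∈ (HomogeneousIdeal.irrelevant 𝒜).toIdeal • (⊤ : Submodule S M),
          (DirectSum.decompose ℳ b d : M) ∈ N := by
        intro b hb
        induction hb using Submodule.smul_induction_on' with
        | smul t ht y _ =>
          have ht0 : (DirectSum.decompose 𝒜 t 0 : S) = 0 := by
            have := (HomogeneousIdeal.mem_irrelevant_iff 𝒜 t).1 ht
            rwa [GradedRing.proj_apply] at this
          have hsum : t • y = ∑ i ∈ (DirectSum.decompose 𝒜 t).support,
              (DirectSum.decompose 𝒜 t i : S) • y := by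
            conv_lhs => rw [← DirectSum.sum_support_decompose 𝒜 t]
            rw [Finset.sum_smul]
          rw [hsum, proj_sum]
          refine N.sum_mem (fun i _ => ?_)
          by_cases hi0 : i = 0
          · subst hi0
            rw [ht0, zero_smul, proj_zero]
            exact N.zero_mem
          · by_cases hid : i ≤ d
            · obtain ⟨e, rfl⟩ := Nat.exists_eq_add_of_le hid
              rw [proj_smul_of_mem 𝒜 ℳ (DirectSum.decompose 𝒜 t i).2]
              refine N.smul_mem _ (IH e (by omega) _ (DirectSum.decompose ℳ y e).2)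
            · rw [proj_smul_of_mem_of_lt 𝒜 ℳ (DirectSum.decompose 𝒜 t i).2 d (by omega)]
              exact N.zero_mem
        | add y _ z _ ihy ihz => rw [proj_add]; exact N.add_mem ihy ihz
      have : m = (DirectSum.decompose ℳ a d : M) + (DirectSum.decompose ℳ b d : M) := by
        rw [← proj_add, hab, DirectSum.decompose_of_mem_same ℳ hm]
      rw [this]
      exact N.add_mem (hB a ha d) (hC b hb)
  rw [eq_top_iff]
  intro m _
  rw [← DirectSum.sum_support_decompose ℳ m]
  exact N.sum_mem (fun d _ => hA d _ (DirectSum.decompose ℳ m d).2)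

end Groth.Agent.S9614
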