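import Groth.Statements.S9615
import Mathlib
-- import your own Groth.Agent.* helpers here

set_option autoImplicit false
universe u
open CAlg

namespace Groth.Agent.S9615

open DirectSum Polynomial

section
variable {S : Type u} [CommRing S] (𝒮 : ℕ → AddSubgroup S) [GradedRing 𝒮]

noncomputable def toPoly : S →+* S[X] :=
  (DirectSum.toSemiring (fun i => (Polynomial.monomial i).toAddMonoidHom.comp (𝒮 i).subtype)
    (by
      change Polynomial.monomial 0 (1 : S) = 1
      rfl)
    (by
      intro i j ai aj
      change Polynomial.monomial (i + j) ((ai : S) * (aj : S)) =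
        Polynomial.monomial i (ai : S) * Polynomial.monomial j (aj : S)
      rw [Polynomial.monomial_mul_monomial])).comp
  (DirectSum.decomposeRingEquiv 𝒮).toRingHom

lemma toPoly_of_mem {j : ℕ} {x : S} (hx : x ∈ 𝒮 j) : toPoly 𝒮 x = Polynomial.monomial j x := by
  unfold toPoly
  simp only [RingEquiv.toRingHom_eq_coe, RingHom.coe_comp, RingHom.coe_coe, Function.comp_apply]
  change (DirectSum.toSemiring _ _ _) (DirectSum.decompose 𝒮 x) = _
  rw [DirectSum.decompose_of_mem 𝒮 hx, DirectSum.toSemiring_of]
  rfl

lemma toPoly_coeff (x : S) (i : ℕ) : (toPoly 𝒮 x).coeff i = (DirectSum.decompose 𝒮 x i : S) := by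
  induction x using DirectSum.Decomposition.inductionOn 𝒮 with
  | zero => simp
  | @homogeneous j m =>
    rw [toPoly_of_mem 𝒮 m.2, Polynomial.coeff_monomial]
    by_cases hji : j = i
    · subst hji
      rw [if_pos rfl, DirectSum.decompose_of_mem_same 𝒮 m.2]
    · rw [if_neg hji, DirectSum.decompose_of_mem_ne 𝒮 m.2 hji]
  | add m m' ih ih' =>
    rw [map_add, Polynomial.coeff_add, ih, ih', DirectSum.decompose_add, DirectSum.add_apply,
      AddSubgroup.coe_add]

end

/-- Let R → S be a homomorphism of ℕ-graded rings, i.e. the structure map carries each graded piece R_i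
into S_i. If an element s of S is integral over R, then each homogeneous component of s is integral
over R; so the integral closure of R in S is a graded subring of S. -/
theorem result {R S : Type u} [CommRing R] [CommRing S] [Algebra R S] (ℛ : ℕ → AddSubgroup R) [GradedRing ℛ] (𝒮 : ℕ → AddSubgroup S) [GradedRing 𝒮]
    (hmap : ∀ i : ℕ, ∀ r ∈ ℛ i, algebraMap R S r ∈ 𝒮 i) (s : S) (hs : IsIntegral R s) (i : ℕ) :
    IsIntegral R ((DirectSum.decompose 𝒮 s i : 𝒮 i) : S) := by
  classical
  have hcompat : ∀ (r : R) (i : ℕ), (DirectSum.decompose 𝒮 (algebraMap R S r) i : S) =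
      algebraMap R S (DirectSum.decompose ℛ r i : R) := by
    intro r i
    induction r using DirectSum.Decomposition.inductionOn ℛ with
    | zero => simp
    | @homogeneous j m =>
      have hm : algebraMap R S (m : R) ∈ 𝒮 j := hmap j m m.2
      by_cases hji : j = i
      · subst hji
        rw [DirectSum.decompose_of_mem_same 𝒮 hm, DirectSum.decompose_of_mem_same ℛ m.2]
      · rw [DirectSum.decompose_of_mem_ne 𝒮 hm hji, DirectSum.decompose_of_mem_ne ℛ m.2 hji,
          map_zero]
    | add m m' ih ih' =>
      rw [map_add, DirectSum.decompose_add, DirectSum.add_apply, AddSubgroup.coe_add, ih, ih',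
        DirectSum.decompose_add, DirectSum.add_apply, AddSubgroup.coe_add, map_add]
  letI : Algebra (Polynomial R) (Polynomial S) := Polynomial.algebra R S
  have hcomm : (algebraMap (Polynomial R) (Polynomial S)).comp (toPoly ℛ) =
      (toPoly 𝒮).comp (algebraMap R S) := by
    ext r i
    simp only [RingHom.coe_comp, Function.comp_apply, Polynomial.algebraMap_def,
      Polynomial.coe_mapRingHom, Polynomial.coeff_map]
    rw [toPoly_coeff, toPoly_coeff, hcompat]
  have hint : IsIntegral (Polynomial R) (toPoly 𝒮 s) :=
    IsIntegral.map_of_comp_eq (toPoly ℛ) (toPoly 𝒮) hcomm hs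
  have := hint.coeff i
  rwa [toPoly_coeff] at this

end Groth.Agent.S9615
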