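import Groth.Statements.S9616
import Mathlib
-- import your own Groth.Agent.* helpers here

set_option autoImplicit false
universe u
open CAlg

namespace Groth.Agent.S9616

open DirectSum

lemma exists_homogeneous_not_mem {R S : Type u} [CommRing R] [CommRing S] [Algebra R S]
    (𝒜 : ℕ → Submodule R S) [GradedAlgebra 𝒜] (J P : Ideal S) (hJ : J.IsHomogeneous 𝒜)
    (hP : P.IsHomogeneous 𝒜) (hJP : ¬ J ≤ P) :
    ∃ z : S, SetLike.IsHomogeneousElem 𝒜 z ∧ z ∈ J ∧ z ∉ P := by
  classical
  obtain ⟨w, hwJ, hwP⟩ := SetLike.not_le_iff_exists.1 hJP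
  rw [hP.mem_iff] at hwP
  push Not at hwP
  obtain ⟨i, hi⟩ := hwP
  exact ⟨(decompose 𝒜 w i : S), ⟨i, (decompose 𝒜 w i).2⟩, hJ i hwJ, hi⟩

lemma avoid {R S : Type u} [CommRing R] [CommRing S] [Algebra R S]
    (𝒜 : ℕ → Submodule R S) [GradedAlgebra 𝒜] (I : Ideal S) (hIh : I.IsHomogeneous 𝒜)
    (hI : I ≤ (HomogeneousIdeal.irrelevant 𝒜).toIdeal) :
    ∀ (n : ℕ) (s : Finset (Ideal S)), s.card = n →
      (∀ P ∈ s, P.IsPrime ∧ P.IsHomogeneous 𝒜) → (∀ P ∈ s, ¬ I ≤ P) →
      ∃ x : S, ∃ d : ℕ, 0 < d ∧ x ∈ 𝒜 d ∧ x ∈ I ∧ ∀ P ∈ s, x ∉ P := by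
  classical
  intro n
  induction n with
  | zero =>
    intro s hs _ _
    rw [Finset.card_eq_zero] at hs
    subst hs
    exact ⟨0, 1, Nat.one_pos, (𝒜 1).zero_mem, I.zero_mem, by simp⟩
  | succ n IH =>
    intro s hs hprime hnle
    by_cases hincl : ∃ P ∈ s, ∃ Q ∈ s, P ≠ Q ∧ P ≤ Q
    · obtain ⟨P, hP, Q, hQ, hPQ, hle⟩ := hincl
      have hcard : (s.erase P).card = n := by rw [Finset.card_erase_of_mem hP, hs]; rfl
      obtain ⟨x, d, hd, hxd, hxI, hx⟩ := IH (s.erase P) hcard
        (fun P' hP' => hprime P' (Finset.mem_of_mem_erase hP'))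
        (fun P' hP' => hnle P' (Finset.mem_of_mem_erase hP'))
      refine ⟨x, d, hd, hxd, hxI, fun P' hP' => ?_⟩
      by_cases hPP' : P' = P
      · subst hPP'
        intro hxP
        exact hx Q (Finset.mem_erase.2 ⟨hPQ.symm, hQ⟩) (hle hxP)
      · exact hx P' (Finset.mem_erase.2 ⟨hPP', hP'⟩)
    · push Not at hincl
      have hne : s.Nonempty := by
        rw [← Finset.card_pos, hs]; exact Nat.succ_pos n
      obtain ⟨a, ha⟩ := hne
      have hcard : (s.erase a).card = n := by rw [Finset.card_erase_of_mem ha, hs]; rfl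
      obtain ⟨x', d', hd', hxd', hxI', hx'⟩ := IH (s.erase a) hcard
        (fun P' hP' => hprime P' (Finset.mem_of_mem_erase hP'))
        (fun P' hP' => hnle P' (Finset.mem_of_mem_erase hP'))
      by_cases hx'a : x' ∉ a
      · refine ⟨x', d', hd', hxd', hxI', fun P' hP' => ?_⟩
        by_cases hPa : P' = a
        · subst hPa; exact hx'a
        · exact hx' P' (Finset.mem_erase.2 ⟨hPa, hP'⟩)
      · rw [not_not] at hx'a
        haveI := (hprime a ha).1
        -- choose homogeneous elements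
        obtain ⟨zI, hzIh, hzII, hzIa⟩ :=
          exists_homogeneous_not_mem 𝒜 I a hIh (hprime a ha).2 (hnle a ha)
        have hz : ∀ Q ∈ s.erase a, ∃ z : S, SetLike.IsHomogeneousElem 𝒜 z ∧ z ∈ Q ∧ z ∉ a := by
          intro Q hQ
          have hQs := Finset.mem_of_mem_erase hQ
          have hQa : Q ≠ a := Finset.ne_of_mem_erase hQ
          exact exists_homogeneous_not_mem 𝒜 Q a (hprime Q hQs).2 (hprime a ha).2
            (hincl Q hQs a ha hQa)
        choose! z hzh hzQ hza using hz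
        set y : S := zI * ∏ Q ∈ s.erase a, z Q with hy
        have hyh : SetLike.IsHomogeneousElem 𝒜 y := by
          have h1 : zI ∈ SetLike.homogeneousSubmonoid 𝒜 := hzIh
          have h2 : ∏ Q ∈ s.erase a, z Q ∈ SetLike.homogeneousSubmonoid 𝒜 :=
            Submonoid.prod_mem _ (fun Q hQ => hzh Q hQ)
          exact (SetLike.homogeneousSubmonoid 𝒜).mul_mem h1 h2
        have hyI : y ∈ I := I.mul_mem_right _ hzII
        have hya : y ∉ a := by
          intro hmem
          rcases (hprime a ha).1.mem_or_mem hmem with h1 | h1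
          · exact hzIa h1
          · rw [(hprime a ha).1.prod_mem_iff] at h1
            obtain ⟨Q, hQ, hQa⟩ := h1
            exact hza Q hQ hQa
        have hyQ : ∀ Q ∈ s.erase a, y ∈ Q := by
          intro Q hQ
          apply Q.mul_mem_left
          exact Ideal.mem_of_dvd _ (Finset.dvd_prod_of_mem z hQ) (hzQ Q hQ)
        obtain ⟨e, hye⟩ := hyh
        have he : 0 < e := by
          by_contra he0
          have he0' : e = 0 := by omega
          subst he0'
          have h1 : y ∈ (HomogeneousIdeal.irrelevant 𝒜).toIdeal := hI hyI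
          have h2 := (HomogeneousIdeal.mem_irrelevant_iff 𝒜 y).1 h1
          rw [GradedRing.proj_apply, decompose_of_mem_same 𝒜 hye] at h2
          exact hya (h2 ▸ a.zero_mem)
        have h1 : x' ^ e ∈ 𝒜 (e * d') := by
          have := SetLike.pow_mem_graded e hxd'
          simpa [smul_eq_mul] using this
        have h2 : y ^ d' ∈ 𝒜 (e * d') := by
          have := SetLike.pow_mem_graded d' hye
          rw [smul_eq_mul, mul_comm] at this
          exact this
        refine ⟨x' ^ e + y ^ d', e * d', Nat.mul_pos he hd', (𝒜 (e * d')).add_mem h1 h2,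
          I.add_mem (I.pow_mem_of_mem hxI' e he) (I.pow_mem_of_mem hyI d' hd'), fun P' hP' => ?_⟩
        by_cases hPa : P' = a
        · subst hPa
          intro hmem
          have h3 : y ^ d' ∈ P' := by
            have := P'.sub_mem hmem (P'.pow_mem_of_mem hx'a e he)
            simpa using this
          exact hya ((hprime P' ha).1.mem_of_pow_mem d' h3)
        · have hP'e := Finset.mem_erase.2 ⟨hPa, hP'⟩
          intro hmem
          have h3 : x' ^ e ∈ P' := by
            have := P'.sub_mem hmem (P'.pow_mem_of_mem (hyQ P' hP'e) d' hd')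
            simpa using this
          exact hx' P' hP'e ((hprime P' hP').1.mem_of_pow_mem e h3)

/-- Let S be an ℕ-graded ring, p_1, …, p_r homogeneous prime ideals of S and I ⊆ S₊ a homogeneous ideal
not contained in any p_i. Then there is a homogeneous element x ∈ I of positive degree with x ∉ p_i
for all i. -/
theorem result {R S : Type u} [CommRing R] [CommRing S] [Algebra R S] (𝒜 : ℕ → Submodule R S) [GradedAlgebra 𝒜]
    {r : ℕ} (p : Fin r → HomogeneousIdeal 𝒜) (hp : ∀ i, (p i).toIdeal.IsPrime) (I : HomogeneousIdeal 𝒜) (hI : I ≤ HomogeneousIdeal.irrelevant 𝒜) (h : ∀ i, ¬ I ≤ p i) :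
    ∃ x : S, ∃ d : ℕ, 0 < d ∧ x ∈ 𝒜 d ∧ x ∈ I ∧ ∀ i, x ∉ p i := by
  classical
  obtain ⟨x, d, hd, hxd, hxI, hx⟩ := avoid 𝒜 I.toIdeal I.isHomogeneous hI _
    (Finset.univ.image (fun i => (p i).toIdeal)) rfl
    (fun P hP => by
      obtain ⟨i, _, rfl⟩ := Finset.mem_image.1 hP
      exact ⟨hp i, (p i).isHomogeneous⟩)
    (fun P hP => by
      obtain ⟨i, _, rfl⟩ := Finset.mem_image.1 hP
      exact h i)
  exact ⟨x, d, hd, hxd, hxI, fun i => hx _ (Finset.mem_image.2 ⟨i, Finset.mem_univ i, rfl⟩)⟩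

end Groth.Agent.S9616
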