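import Groth.Statements.S9617
import Mathlib

set_option autoImplicit false
universe u
open CAlg

namespace Groth.Agent.S9617

/-- Let S be an ℕ-graded ring, presented as a graded algebra over a ring A mapping onto S₀, such that S
is of finite type over A, i.e. over S₀. If M is a finitely generated graded S-module, graded in
nonnegative degrees (the source allows all integer degrees), then each graded piece M_n is a finite
module over A, i.e. over S₀. -/
theorem result {A S : Type u} [CommRing A] [CommRing S] [Algebra A S] (𝒜 : ℕ → Submodule A S) [GradedAlgebra 𝒜]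
    (h0 : ∀ s ∈ 𝒜 0, s ∈ Set.range (algebraMap A S)) [Algebra.FiniteType A S]
    (M : Type u) [AddCommGroup M] [Module A M] [Module S M] [IsScalarTower A S M] [Module.Finite S M] (ℳ : ℕ → Submodule A M) [DirectSum.Decomposition ℳ] [SetLike.GradedSMul 𝒜 ℳ] (n : ℕ) :
    Module.Finite A (ℳ n) := by
  classical
  obtain ⟨s, hs⟩ := (Algebra.FiniteType.out : (⊤ : Subalgebra A S).FG)
  let G : Finset S := s.biUnion fun x =>
    ((DirectSum.decompose 𝒜 x).support.filter (0 < ·)).image
      (fun i => ((DirectSum.decompose 𝒜 x i : 𝒜 i) : S))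
  have hGdeg : ∀ g ∈ G, ∃ d : ℕ, 0 < d ∧ g ∈ 𝒜 d := by
    intro g hg
    simp only [G, Finset.mem_biUnion, Finset.mem_image, Finset.mem_filter] at hg
    obtain ⟨x, _, i, ⟨_, hi⟩, rfl⟩ := hg
    exact ⟨i, hi, (DirectSum.decompose 𝒜 x i).2⟩
  have hGadj : Algebra.adjoin A (G : Set S) = ⊤ := by
    rw [eq_top_iff, ← hs]
    apply Algebra.adjoin_le
    intro x hx
    rw [← DirectSum.sum_support_decompose 𝒜 x]
    refine Subalgebra.sum_mem _ fun i hi => ?_
    by_cases hi0 : 0 < i
    · apply Algebra.subset_adjoin
      simp only [G, Finset.coe_biUnion, Set.mem_iUnion, Finset.coe_image, Set.mem_image,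
        Finset.mem_coe, Finset.mem_filter]
      exact ⟨x, hx, i, ⟨hi, hi0⟩, rfl⟩
    · have hi0' : i = 0 := by omega
      subst hi0'
      obtain ⟨a, ha⟩ := h0 _ (DirectSum.decompose 𝒜 x 0).2
      rw [← ha]
      exact Subalgebra.algebraMap_mem _ a
  obtain ⟨t, ht⟩ := (Module.Finite.fg_top : (⊤ : Submodule S M).FG)
  let T : Finset M := t.biUnion fun m =>
    (DirectSum.decompose ℳ m).support.image (fun i => ((DirectSum.decompose ℳ m i : ℳ i) : M))
  have hTdeg : ∀ m ∈ T, ∃ e : ℕ, m ∈ ℳ e := by
    intro m hm
    simp only [T, Finset.mem_biUnion, Finset.mem_image] at hm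
    obtain ⟨x, _, i, _, rfl⟩ := hm
    exact ⟨i, (DirectSum.decompose ℳ x i).2⟩
  have hTspan : Submodule.span S (T : Set M) = ⊤ := by
    rw [eq_top_iff, ← ht]
    apply Submodule.span_le.mpr
    intro x hx
    rw [← DirectSum.sum_support_decompose ℳ x]
    refine Submodule.sum_mem _ fun i hi => ?_
    apply Submodule.subset_span
    simp only [T, Finset.coe_biUnion, Set.mem_iUnion, Finset.coe_image, Set.mem_image,
      Finset.mem_coe]
    exact ⟨x, hx, i, hi, rfl⟩
  choose! deg hdegpos hdegmem using hGdeg
  let mon : (G → ℕ) → S := fun α => ∏ g : G, (g : S) ^ α g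
  have hmon_mem : ∀ α : G → ℕ, mon α ∈ 𝒜 (∑ g : G, α g • deg g) := by
    intro α
    apply SetLike.prod_mem_graded
    intro g _
    exact SetLike.pow_mem_graded _ (hdegmem g g.2)
  have hmon_succ : ∀ (α : G → ℕ) (g : G), mon (α + Pi.single g 1) = mon α * (g : S) := by
    intro α g
    simp only [mon, Pi.add_apply, pow_add, Finset.prod_mul_distrib]
    congr 1
    rw [Finset.prod_eq_single g]
    · simp
    · intro b _ hb
      rw [Pi.single_apply, if_neg hb, pow_zero]
    · intro h; exact absurd (Finset.mem_univ g) h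
  let U : Set M := {u | ∃ (α : G → ℕ) (m : M), m ∈ T ∧ u = mon α • m}
  have hclosedG : ∀ (g : G) (x : M), x ∈ Submodule.span A U → (g : S) • x ∈ Submodule.span A U := by
    intro g x hx
    induction hx using Submodule.span_induction with
    | mem x hx =>
      obtain ⟨α, m, hm, rfl⟩ := hx
      apply Submodule.subset_span
      refine ⟨α + Pi.single g 1, m, hm, ?_⟩
      rw [hmon_succ, smul_smul, mul_comm]
    | zero => rw [smul_zero]; exact Submodule.zero_mem _
    | add x y _ _ hx hy => rw [smul_add]; exact Submodule.add_mem _ hx hy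
    | smul a x _ hx => rw [smul_comm]; exact Submodule.smul_mem _ a hx
  have hclosed : ∀ (c : S) (x : M), x ∈ Submodule.span A U → c • x ∈ Submodule.span A U := by
    intro c
    have hc : c ∈ Algebra.adjoin A (G : Set S) := by rw [hGadj]; exact Algebra.mem_top
    induction hc using Algebra.adjoin_induction with
    | mem c hc => exact fun x hx => hclosedG ⟨c, hc⟩ x hx
    | algebraMap a =>
      intro x hx
      rw [algebraMap_smul]
      exact Submodule.smul_mem _ a hx
    | add c c' _ _ hc hc' =>
      intro x hx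
      rw [add_smul]
      exact Submodule.add_mem _ (hc x hx) (hc' x hx)
    | mul c c' _ _ hc hc' =>
      intro x hx
      rw [mul_smul]
      exact hc _ (hc' x hx)
  have hall : ∀ x : M, x ∈ Submodule.span A U := by
    intro x
    have hx : x ∈ Submodule.span S (T : Set M) := by rw [hTspan]; exact Submodule.mem_top
    induction hx using Submodule.span_induction with
    | mem x hx =>
      apply Submodule.subset_span
      refine ⟨0, x, hx, ?_⟩
      simp [mon]
    | zero => exact Submodule.zero_mem _
    | add x y _ _ hx hy => exact Submodule.add_mem _ hx hy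
    | smul c x _ hx => exact hclosed c x hx
  let π : M →ₗ[A] ℳ n := (DirectSum.component A ℕ (fun i => ℳ i) n).comp
    (DirectSum.decomposeLinearEquiv ℳ).toLinearMap
  have hπ : ∀ x : M, π x = DirectSum.decompose ℳ x n := fun x => rfl
  let F : Set (ℳ n) := {y | ∃ (β : G → Fin (n + 1)) (m : M), m ∈ T ∧
    (y : M) = (∏ g : G, (g : S) ^ (β g : ℕ)) • m} ∪ {0}
  have hFfin : F.Finite := by
    refine Set.Finite.union ?_ (Set.finite_singleton 0)
    have hfin : (Set.range fun p : (G → Fin (n + 1)) × T =>
        (∏ g : G, (g : S) ^ (p.1 g : ℕ)) • (p.2 : M)).Finite := Set.finite_range _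
    refine (hfin.preimage (Subtype.val_injective.injOn)).subset ?_
    rintro y ⟨β, m, hm, hy⟩
    exact ⟨(β, ⟨m, hm⟩), hy.symm⟩
  have hπU : ∀ u ∈ U, π u ∈ F := by
    rintro u ⟨α, m, hm, rfl⟩
    obtain ⟨e, he⟩ := hTdeg m hm
    have hmem : mon α • m ∈ ℳ ((∑ g : G, α g • deg g) + e) := by
      have := SetLike.GradedSMul.smul_mem (hmon_mem α) he
      rwa [vadd_eq_add] at this
    by_cases hdeg : (∑ g : G, α g • deg g) + e = n
    · left
      have hα : ∀ g : G, α g < n + 1 := by
        intro g
        have h1 : α g • deg g ≤ ∑ g : G, α g • deg g :=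
          Finset.single_le_sum (f := fun g : G => α g • deg g) (fun _ _ => Nat.zero_le _)
            (Finset.mem_univ g)
        have h2 : α g ≤ α g • deg g := by
          rw [smul_eq_mul]
          exact Nat.le_mul_of_pos_right _ (hdegpos g g.2)
        omega
      refine ⟨fun g => ⟨α g, hα g⟩, m, hm, ?_⟩
      rw [hπ, DirectSum.decompose_of_mem_same ℳ (hdeg ▸ hmem)]
    · right
      rw [Set.mem_singleton_iff, hπ]
      apply Subtype.ext
      rw [DirectSum.decompose_of_mem_ne ℳ hmem hdeg]
      rfl
  have hπsurj : Function.Surjective π := by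
    intro y
    refine ⟨y, ?_⟩
    apply Subtype.ext
    rw [hπ, DirectSum.decompose_of_mem_same ℳ y.2]
  have htop : (⊤ : Submodule A (ℳ n)) = Submodule.span A (π '' U) := by
    rw [← Submodule.map_span, eq_comm, eq_top_iff]
    intro y _
    obtain ⟨x, rfl⟩ := hπsurj y
    exact Submodule.mem_map_of_mem (hall x)
  refine ⟨?_⟩
  rw [htop]
  apply Submodule.fg_span
  apply hFfin.subset
  rintro _ ⟨u, hu, rfl⟩
  exact hπU u hu

end Groth.Agent.S9617
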