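import Groth.Statements.S9620
import Mathlib
-- import your own Groth.Agent.* helpers here

set_option autoImplicit false
universe u
open CAlg

namespace Groth.Agent.S9620

section
variable {R : Type u} [CommRing R] (p : PrimeSpectrum R)

lemma idem_mem_or (e : R) (he : IsIdempotentElem e) :
    e ∈ Ideal.span {e : R | IsIdempotentElem e ∧ e ∈ p.asIdeal} ∨
      1 - e ∈ Ideal.span {e : R | IsIdempotentElem e ∧ e ∈ p.asIdeal} := by
  have h0 : e * (1 - e) ∈ p.asIdeal := by
    have : e * (1 - e) = 0 := by rw [mul_sub, mul_one, he.eq, sub_self]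
    rw [this]; exact zero_mem _
  rcases p.2.mem_or_mem h0 with h | h
  · exact Or.inl (Ideal.subset_span ⟨he, h⟩)
  · exact Or.inr (Ideal.subset_span ⟨he.one_sub, h⟩)

lemma exists_idem_mul_eq (x : R)
    (hx : x ∈ Ideal.span {e : R | IsIdempotentElem e ∧ e ∈ p.asIdeal}) :
    ∃ f : R, IsIdempotentElem f ∧ f ∈ p.asIdeal ∧ f * x = x := by
  induction hx using Submodule.span_induction with
  | mem y hy => exact ⟨y, hy.1, hy.2, hy.1.eq⟩
  | zero => exact ⟨0, IsIdempotentElem.zero, zero_mem _, by simp⟩
  | add y z _ _ ihy ihz =>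
    obtain ⟨f, hf, hfp, hfy⟩ := ihy
    obtain ⟨g, hg, hgp, hgz⟩ := ihz
    refine ⟨f + g - f * g, ?_, ?_, ?_⟩
    · have hf' : f * f = f := hf.eq
      have hg' : g * g = g := hg.eq
      change (f + g - f * g) * (f + g - f * g) = f + g - f * g
      linear_combination (1 - g) * hf' + (1 - f) ^ 2 * hg'
    · exact sub_mem (add_mem hfp hgp) (Ideal.mul_mem_right _ _ hfp)
    · have hf' : f * f = f := hf.eq
      have hg' : g * g = g := hg.eq
      linear_combination (1 - g) * hfy + (1 - f) * hgz
  | smul r y _ ih =>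
    obtain ⟨f, hf, hfp, hfy⟩ := ih
    refine ⟨f, hf, hfp, ?_⟩
    rw [smul_eq_mul, mul_left_comm, hfy]

lemma quotient_idem (ebar : R ⧸ Ideal.span {e : R | IsIdempotentElem e ∧ e ∈ p.asIdeal})
    (he : IsIdempotentElem ebar) : ebar = 0 ∨ ebar = 1 := by
  obtain ⟨e, rfl⟩ := Ideal.Quotient.mk_surjective ebar
  have h1 : e * e - e ∈ Ideal.span {e : R | IsIdempotentElem e ∧ e ∈ p.asIdeal} := by
    rw [← Ideal.Quotient.eq_zero_iff_mem, map_sub, map_mul, he.eq, sub_self]
  obtain ⟨f, hf, hfp, hfe⟩ := exists_idem_mul_eq p _ h1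
  have hf' : f * f = f := hf.eq
  have hidem : IsIdempotentElem (e * (1 - f)) := by
    change e * (1 - f) * (e * (1 - f)) = e * (1 - f)
    linear_combination (-1) * hfe + (e * e) * hf'
  have hdiff : Ideal.Quotient.mk (Ideal.span {e : R | IsIdempotentElem e ∧ e ∈ p.asIdeal}) e =
      Ideal.Quotient.mk _ (e * (1 - f)) := by
    rw [Ideal.Quotient.eq]
    have : e - e * (1 - f) = e * f := by ring
    rw [this]
    exact Ideal.mul_mem_left _ _ (Ideal.subset_span ⟨hf, hfp⟩)
  rcases idem_mem_or p _ hidem with h | h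
  · left
    rw [hdiff, Ideal.Quotient.eq_zero_iff_mem]
    exact h
  · right
    rw [hdiff, ← sub_eq_zero, ← map_one (Ideal.Quotient.mk _), ← map_sub,
      Ideal.Quotient.eq_zero_iff_mem]
    have : e * (1 - f) - 1 = -(1 - e * (1 - f)) := by ring
    rw [this]
    exact neg_mem h

end


lemma connectedComponent_eq {R : Type u} [CommRing R] (p : PrimeSpectrum R) :
    connectedComponent p =
      PrimeSpectrum.zeroLocus {e : R | IsIdempotentElem e ∧ e ∈ p.asIdeal} := by
  apply Set.Subset.antisymm
  · intro q hq e he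
    have hclopen : IsClopen (PrimeSpectrum.zeroLocus ({e} : Set R)) :=
      PrimeSpectrum.isClopen_iff_zeroLocus.2 ⟨e, he.1, rfl⟩
    have hp : p ∈ PrimeSpectrum.zeroLocus ({e} : Set R) := by
      intro x hx
      rw [Set.mem_singleton_iff] at hx
      subst hx
      exact he.2
    have := hclopen.connectedComponent_subset hp hq
    exact this (Set.mem_singleton e)
  · set I := Ideal.span {e : R | IsIdempotentElem e ∧ e ∈ p.asIdeal} with hI
    have hpre : PreconnectedSpace (PrimeSpectrum (R ⧸ I)) := by
      rw [preconnectedSpace_iff_clopen]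
      intro s hs
      obtain ⟨ebar, he, rfl⟩ := PrimeSpectrum.isClopen_iff.1 hs
      rcases quotient_idem p ebar he with h | h
      · left; rw [h]; simp
      · right; rw [h]; simp
    have hrange : Set.range (PrimeSpectrum.comap (Ideal.Quotient.mk I)) =
        PrimeSpectrum.zeroLocus {e : R | IsIdempotentElem e ∧ e ∈ p.asIdeal} := by
      rw [range_comap_of_surjective _ _ Ideal.Quotient.mk_surjective,
        Ideal.mk_ker, hI, PrimeSpectrum.zeroLocus_span]
    have hconn : IsPreconnected
        (PrimeSpectrum.zeroLocus {e : R | IsIdempotentElem e ∧ e ∈ p.asIdeal}) := by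
      rw [← hrange]
      exact isPreconnected_range (PrimeSpectrum.continuous_comap _)
    apply hconn.subset_connectedComponent
    intro e he
    exact he.2

/-- For a ring R and a point p of Spec R, the connected component of p is the zero locus of the ideal I
generated by the idempotents of R contained in p, and every idempotent e of R satisfies e ∈ I or 1 -
e ∈ I (e maps to 0 or 1 in R/I). -/
theorem result {R : Type u} [CommRing R] (p : PrimeSpectrum R) :
    connectedComponent p = PrimeSpectrum.zeroLocus {e : R | IsIdempotentElem e ∧ e ∈ p.asIdeal} ∧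
      ∀ e : R, IsIdempotentElem e → (e ∈ Ideal.span {e : R | IsIdempotentElem e ∧ e ∈ p.asIdeal} ∨ 1 - e ∈ Ideal.span {e : R | IsIdempotentElem e ∧ e ∈ p.asIdeal}) := by
  exact ⟨connectedComponent_eq p, fun e he => idem_mem_or p e he⟩

end Groth.Agent.S9620
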