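import Groth.Statements.S9618
import Mathlib
import Groth.Agent.S9620
-- import your own Groth.Agent.* helpers here

set_option autoImplicit false
universe u
open CAlg

namespace Groth.Agent.S9618

/-- For a ring R and a subset T of Spec R the following are equivalent: (1) T is closed and contains the
connected component of each of its points; (2) T can be written as an intersection of subsets of
Spec R that are both open and closed; (3) T is the common zero locus of some set of idempotent
elements of R (equivalently, of the ideal they generate). -/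
theorem result {R : Type u} [CommRing R] (T : Set (PrimeSpectrum R)) :
    [IsClosed T ∧ ∀ x ∈ T, connectedComponent x ⊆ T,
      ∃ U : Set (Set (PrimeSpectrum R)), (∀ u ∈ U, IsClopen u) ∧ T = ⋂₀ U,
      ∃ E : Set R, (∀ e ∈ E, IsIdempotentElem e) ∧ T = PrimeSpectrum.zeroLocus E].TFAE := by
  classical
  tfae_have 1 → 2 := by
    rintro ⟨hclosed, hcomp⟩
    refine ⟨{u | IsClopen u ∧ T ⊆ u}, fun u hu => hu.1, ?_⟩
    apply Set.Subset.antisymm
    · intro t ht u hu
      exact hu.2 ht
    · intro x hx
      by_contra hxT
      have hex : ∀ t : T, ∃ e : R, IsIdempotentElem e ∧ e ∈ (t : PrimeSpectrum R).asIdeal ∧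
          e ∉ x.asIdeal := by
        intro t
        have h1 : x ∉ connectedComponent (t : PrimeSpectrum R) := fun h => hxT (hcomp t t.2 h)
        rw [Groth.Agent.S9620.connectedComponent_eq] at h1
        simp only [PrimeSpectrum.mem_zeroLocus, Set.subset_def, not_forall] at h1
        obtain ⟨e, he, hex⟩ := h1
        exact ⟨e, he.1, he.2, hex⟩
      choose e he1 he2 he3 using hex
      have hcompact : IsCompact T := hclosed.isCompact
      obtain ⟨F, hF⟩ := hcompact.elim_finite_subcover
        (fun t : T => PrimeSpectrum.zeroLocus ({e t} : Set R))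
        (fun t => (PrimeSpectrum.isClopen_iff_zeroLocus.2 ⟨e t, he1 t, rfl⟩).2)
        (fun t ht => Set.mem_iUnion.2 ⟨⟨t, ht⟩, by
          intro y hy
          rw [Set.mem_singleton_iff] at hy
          subst hy
          exact he2 ⟨t, ht⟩⟩)
      have hclopen : IsClopen (⋃ t ∈ F, PrimeSpectrum.zeroLocus ({e t} : Set R)) :=
        isClopen_biUnion_finset (fun t _ => PrimeSpectrum.isClopen_iff_zeroLocus.2 ⟨e t, he1 t, rfl⟩)
      have hxin := hx _ ⟨hclopen, hF⟩
      simp only [Set.mem_iUnion] at hxin
      obtain ⟨t, _, hxt⟩ := hxin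
      exact he3 t (hxt (Set.mem_singleton _))
  tfae_have 2 → 3 := by
    rintro ⟨U, hU, rfl⟩
    have hex : ∀ u : U, ∃ e : R, IsIdempotentElem e ∧ (u : Set (PrimeSpectrum R)) =
        PrimeSpectrum.zeroLocus {e} := fun u => PrimeSpectrum.isClopen_iff_zeroLocus.1 (hU u u.2)
    choose e he1 he2 using hex
    refine ⟨Set.range e, ?_, ?_⟩
    · rintro _ ⟨u, rfl⟩
      exact he1 u
    · ext x
      constructor
      · rintro hx _ ⟨u, rfl⟩
        have := hx u u.2
        rw [he2 u] at this
        exact this (Set.mem_singleton _)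
      · intro hx u hu
        have hu2 : u = PrimeSpectrum.zeroLocus {e ⟨u, hu⟩} := he2 ⟨u, hu⟩
        rw [hu2]
        intro y hy
        rw [Set.mem_singleton_iff] at hy
        subst hy
        exact hx ⟨⟨u, hu⟩, rfl⟩
  tfae_have 3 → 1 := by
    rintro ⟨E, hE, rfl⟩
    refine ⟨PrimeSpectrum.isClosed_zeroLocus _, fun x hx y hy e he => ?_⟩
    have hclopen : IsClopen (PrimeSpectrum.zeroLocus ({e} : Set R)) :=
      PrimeSpectrum.isClopen_iff_zeroLocus.2 ⟨e, hE e he, rfl⟩
    have hxe : x ∈ PrimeSpectrum.zeroLocus ({e} : Set R) := by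
      intro z hz
      rw [Set.mem_singleton_iff] at hz
      subst hz
      exact hx he
    exact hclopen.connectedComponent_subset hxe hy (Set.mem_singleton _)
  tfae_finish

end Groth.Agent.S9618
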