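import Groth.Statements.S9619
import Mathlib
-- import your own Groth.Agent.* helpers here

set_option autoImplicit false
universe u
open CAlg

namespace Groth.Agent.S9619

lemma span_le_of_zeroLocus {R : Type u} [CommRing R] (E E' : Set R)
    (hE : ∀ e ∈ E, IsIdempotentElem e)
    (h : PrimeSpectrum.zeroLocus E = PrimeSpectrum.zeroLocus E') :
    Ideal.span E ≤ Ideal.span E' := by
  rw [Ideal.span_le]
  intro e he
  have h1 : (Ideal.span E).radical = (Ideal.span E').radical := by
    rw [← PrimeSpectrum.vanishingIdeal_zeroLocus_eq_radical,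
      ← PrimeSpectrum.vanishingIdeal_zeroLocus_eq_radical, PrimeSpectrum.zeroLocus_span,
      PrimeSpectrum.zeroLocus_span, h]
  have h2 : e ∈ (Ideal.span E').radical := by
    rw [← h1]
    exact Ideal.le_radical (Ideal.subset_span he)
  obtain ⟨n, hn⟩ := h2
  rcases Nat.eq_zero_or_pos n with hn0 | hn0
  · subst hn0
    rw [pow_zero] at hn
    rw [(Ideal.eq_top_iff_one _).2 hn]
    trivial
  · have : e ^ n = e := (hE e he).pow_eq hn0.ne'
    rw [this] at hn
    exact hn

/-- For a ring R and two sets E, E' of idempotent elements of R with the same zero locus in Spec R, the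
ideals generated by E and by E' are equal. -/
theorem result {R : Type u} [CommRing R] (E E' : Set R) (hE : ∀ e ∈ E, IsIdempotentElem e) (hE' : ∀ e ∈ E', IsIdempotentElem e) (h : PrimeSpectrum.zeroLocus E = PrimeSpectrum.zeroLocus E') :
    Ideal.span E = Ideal.span E' := by
  exact le_antisymm (span_le_of_zeroLocus E E' hE h) (span_le_of_zeroLocus E' E hE' h.symm)

end Groth.Agent.S9619
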