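import Groth.Statements.S9621
import Mathlib
-- import your own Groth.Agent.* helpers here

set_option autoImplicit false
universe u
open CAlg

namespace Groth.Agent.S9621

lemma exists_mul_pow_eq_zero {R : Type u} [CommRing R] (p : Ideal R) [p.IsPrime]
    (hp : p ∈ minimalPrimes R) (g : R) (hg : g ∈ p) :
    ∃ y : R, y ∉ p ∧ ∃ n : ℕ, y * g ^ n = 0 := by
  have hp' : p ∈ (⊥ : Ideal R).minimalPrimes := hp
  have h1 := IsLocalization.AtPrime.radical_map_of_mem_minimalPrimes
    (A := Localization.AtPrime p) p ⊥ hp'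
  have h2 : algebraMap R (Localization.AtPrime p) g ∈
      ((⊥ : Ideal R).map (algebraMap R (Localization.AtPrime p))).radical := by
    rw [h1]
    exact Ideal.mem_map_of_mem _ hg
  obtain ⟨n, hn⟩ := h2
  rw [Ideal.map_bot, Ideal.mem_bot, ← map_pow] at hn
  obtain ⟨y, hy⟩ := (IsLocalization.map_eq_zero_iff p.primeCompl _ _).1 hn
  exact ⟨y.1, y.2, n, hy⟩

/-- Let R be a ring, p a minimal prime of R and W a quasi-compact open subset of Spec R not containing
p. Then there is an f ∈ R, f ∉ p, whose basic open D(f) is disjoint from W. -/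
theorem result {R : Type u} [CommRing R] (p : PrimeSpectrum R) (hp : p.asIdeal ∈ minimalPrimes R) (W : Set (PrimeSpectrum R)) (hWo : IsOpen W) (hWc : IsCompact W) (hpW : p ∉ W) :
    ∃ f : R, f ∉ p.asIdeal ∧ Disjoint (PrimeSpectrum.basicOpen f : Set (PrimeSpectrum R)) W := by
  classical
  haveI : p.asIdeal.IsPrime := p.2
  obtain ⟨t, ht⟩ := PrimeSpectrum.isCompact_isOpen_iff.1 ⟨hWc, hWo⟩
  have hpt : p ∈ PrimeSpectrum.zeroLocus (t : Set R) := by
    by_contra h
    apply hpW
    rw [← ht]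
    exact h
  have hsub : ∀ g ∈ t, g ∈ p.asIdeal := fun g hg => hpt hg
  choose! y hy using fun g (hg : g ∈ t) => exists_mul_pow_eq_zero p.asIdeal hp g (hsub g hg)
  refine ⟨∏ g ∈ t, y g, ?_, ?_⟩
  · have : ∏ g ∈ t, y g ∈ p.asIdeal.primeCompl :=
      Submonoid.prod_mem _ (fun g hg => (hy g hg).1)
    exact this
  · rw [Set.disjoint_left]
    intro q hq hqW
    rw [← ht] at hqW
    have hq' : (∏ g ∈ t, y g) ∉ q.asIdeal := hq
    have : ∃ g ∈ t, g ∉ q.asIdeal := by
      by_contra hcon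
      push Not at hcon
      exact hqW (fun g hg => hcon g hg)
    obtain ⟨g, hgt, hgq⟩ := this
    obtain ⟨hy1, n, hn⟩ := hy g hgt
    have h0 : y g * g ^ n ∈ q.asIdeal := by rw [hn]; exact zero_mem _
    rcases q.2.mem_or_mem h0 with h | h
    · apply hq'
      exact Ideal.mem_of_dvd q.asIdeal (Finset.dvd_prod_of_mem y hgt) h
    · exact hgq (q.2.mem_of_pow_mem n h)

end Groth.Agent.S9621
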