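import Groth.Statements.S9622
import Mathlib
-- import your own Groth.Agent.* helpers here

set_option autoImplicit false
universe u
open CAlg

namespace Groth.Agent.S9622

lemma finite_of_finite_residue {R S : Type*} [CommRing R] [CommRing S] [Algebra R S]
    [IsArtinianRing S] [IsLocalRing S]
    (h : Module.Finite R (S ⧸ IsLocalRing.maximalIdeal S)) : Module.Finite R S := by
  have h' : Module.Finite R (S ⧸ Ring.jacobson S) := by
    rw [IsLocalRing.ringJacobson_eq_maximalIdeal]
    exact h
  exact IsSemiprimaryRing.finite_of_isArtinian R S S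

/-- Let R → S be a ring map whose target S is a local Artinian ring, and write m for the maximal ideal
of S. Then S is a finite R-module exactly when S/m is, and S is an R-algebra of finite type exactly
when S/m is. -/
theorem result {R S : Type u} [CommRing R] [CommRing S] [Algebra R S] [IsArtinianRing S] [IsLocalRing S] :
    (Module.Finite R S ↔ Module.Finite R (S ⧸ IsLocalRing.maximalIdeal S)) ∧
      (Algebra.FiniteType R S ↔ Algebra.FiniteType R (S ⧸ IsLocalRing.maximalIdeal S)) := by
  refine ⟨⟨fun h => ?_, finite_of_finite_residue⟩, ⟨fun h => ?_, fun h => ?_⟩⟩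
  · exact Module.Finite.of_surjective
      ((Ideal.Quotient.mkₐ R (IsLocalRing.maximalIdeal S)).toLinearMap)
      (Ideal.Quotient.mkₐ_surjective R _)
  · exact Algebra.FiniteType.of_surjective (Ideal.Quotient.mkₐ R (IsLocalRing.maximalIdeal S))
      (Ideal.Quotient.mkₐ_surjective R _)
  · classical
    obtain ⟨t, ht⟩ := h.out
    have hlift : ∀ x : S ⧸ IsLocalRing.maximalIdeal S, ∃ y : S,
        Ideal.Quotient.mk (IsLocalRing.maximalIdeal S) y = x := Ideal.Quotient.mk_surjective
    choose lift hlift using hlift
    let R' : Subalgebra R S := Algebra.adjoin R ((t.image lift : Finset S) : Set S)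
    have hR' : Algebra.FiniteType R R' :=
      (Subalgebra.fg_iff_finiteType R').1 ⟨t.image lift, rfl⟩
    let φ : R' →ₐ[R] S ⧸ IsLocalRing.maximalIdeal S :=
      (Ideal.Quotient.mkₐ R (IsLocalRing.maximalIdeal S)).comp R'.val
    have hφ : Function.Surjective φ := by
      rw [← AlgHom.range_eq_top, eq_top_iff, ← ht, Algebra.adjoin_le_iff]
      intro x hx
      refine ⟨⟨lift x, Algebra.subset_adjoin (Finset.mem_coe.2 (Finset.mem_image_of_mem lift hx))⟩, ?_⟩
      exact hlift x
    have hfin : Module.Finite R' (S ⧸ IsLocalRing.maximalIdeal S) := by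
      let ψ : R' →ₗ[R'] S ⧸ IsLocalRing.maximalIdeal S :=
        { toFun := fun x => φ x
          map_add' := fun x y => map_add φ x y
          map_smul' := fun c x => by
            simp only [RingHom.id_apply, smul_eq_mul, map_mul]
            rfl }
      exact Module.Finite.of_surjective ψ hφ
    have hS : Module.Finite R' S := finite_of_finite_residue hfin
    exact Algebra.FiniteType.trans hR' inferInstance

end Groth.Agent.S9622
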