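import Groth.Statements.S9625
import Mathlib
-- import your own Groth.Agent.* helpers here

set_option autoImplicit false
universe u
open CAlg

namespace Groth.Agent.S9625

lemma nilradical_isPrime_of_injective {A B : Type*} [CommRing A] [CommRing B] (φ : A →+* B)
    (hφ : Function.Injective φ) (hB : (nilradical B).IsPrime) : (nilradical A).IsPrime := by
  have h : nilradical A = (nilradical B).comap φ := by
    ext x
    simp only [mem_nilradical, Ideal.mem_comap]
    exact (IsNilpotent.map_iff hφ).symm
  rw [h]
  exact Ideal.comap_isPrime φ _

open TensorProduct in
/-- Let k be a field and S a k-algebra such that Spec(k' ⊗_k S) is irreducible for every field extension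
k'/k. Then every k-subalgebra of S has the same property. Here the test fields range over field
extensions in the universe of k; this is equivalent to the unrestricted notion, since an algebraic
closure of k suffices as a test. -/
theorem result {k S : Type u} [Field k] [CommRing S] [Algebra k S]
    (hS : ∀ (k' : Type u) [Field k'] [Algebra k k'], IrreducibleSpace (PrimeSpectrum (k' ⊗[k] S))) (S' : Subalgebra k S) :
    ∀ (k' : Type u) [Field k'] [Algebra k k'], IrreducibleSpace (PrimeSpectrum (k' ⊗[k] S')) := by
  intro k' _ _
  have hB := hS k'
  rw [PrimeSpectrum.irreducibleSpace_iff_isPrime_nilradical] at hB ⊢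
  let φ : k' ⊗[k] S' →ₐ[k'] k' ⊗[k] S := Algebra.TensorProduct.map (AlgHom.id k' k') S'.val
  have hφ : Function.Injective φ := by
    have : Function.Injective (LinearMap.lTensor k' (S'.val.toLinearMap)) :=
      Module.Flat.lTensor_preserves_injective_linearMap _ Subtype.val_injective
    intro x y hxy
    apply this
    have h1 : ∀ z, LinearMap.lTensor k' (S'.val.toLinearMap) z = φ z := by
      intro z
      induction z with
      | zero => simp
      | tmul a b => simp [φ]
      | add a b ha hb => simp [ha, hb]
    rw [h1, h1, hxy]
  exact nilradical_isPrime_of_injective φ.toRingHom hφ hB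

end Groth.Agent.S9625
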