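import Groth.Statements.S9629
import Groth.Agent.Lib.Helper56.GeomIntegral
import Mathlib.FieldTheory.IsAlgClosed.AlgebraicClosure
-- import your own Groth.Agent.* helpers here

set_option autoImplicit false
universe u
open CAlg

namespace Groth.Agent.S9629

open TensorProduct in
/-- For a field k and a k-algebra S the following are equivalent: (1) S is geometrically integral, i.e.
k' ⊗_k S is an integral domain for every field extension k'/k; (2) k' ⊗_k S is an integral domain
for every finite field extension k'/k; (3) k̄ ⊗_k S is an integral domain for the algebraic closure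
k̄ of k. Here the test fields range over field extensions in the universe of k; this is equivalent
to the unrestricted notion, since an algebraic closure of k suffices as a test. -/
theorem result {k S : Type u} [Field k] [CommRing S] [Algebra k S] :
    [∀ (k' : Type u) [Field k'] [Algebra k k'], IsDomain (k' ⊗[k] S),
      ∀ (k' : Type u) [Field k'] [Algebra k k'] [Module.Finite k k'], IsDomain (k' ⊗[k] S),
      IsDomain (AlgebraicClosure k ⊗[k] S)].TFAE := by
  tfae_have 1 → 2 := fun h k' _ _ _ => h k'
  tfae_have 1 → 3 := fun h => h (AlgebraicClosure k)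
  tfae_have 3 → 1 := by
    intro h k' _ _
    let Ω := AlgebraicClosure k'
    let f : AlgebraicClosure k →ₐ[k] Ω := IsAlgClosed.lift
    letI : Algebra (AlgebraicClosure k) Ω := f.toRingHom.toAlgebra
    haveI : IsScalarTower k (AlgebraicClosure k) Ω :=
      IsScalarTower.of_algebraMap_eq (fun x => (f.commutes x).symm)
    haveI : IsDomain (Ω ⊗[AlgebraicClosure k] (AlgebraicClosure k ⊗[k] S)) :=
      Groth.Agent.Lib.Helper56.isDomain_tensor_of_isAlgClosed
    let e : Ω ⊗[AlgebraicClosure k] (AlgebraicClosure k ⊗[k] S) ≃ₐ[AlgebraicClosure k] Ω ⊗[k] S :=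
      Algebra.TensorProduct.cancelBaseChange k (AlgebraicClosure k) (AlgebraicClosure k) Ω S
    haveI : IsDomain (Ω ⊗[k] S) := e.symm.injective.isDomain e.symm.toRingEquiv.toRingHom
    let φ : k' ⊗[k] S →ₐ[k] Ω ⊗[k] S :=
      Algebra.TensorProduct.map (IsScalarTower.toAlgHom k k' Ω) (AlgHom.id k S)
    have hφ : Function.Injective φ :=
      Module.Flat.rTensor_preserves_injective_linearMap (M := S)
        (IsScalarTower.toAlgHom k k' Ω).toLinearMap (algebraMap k' Ω).injective
    exact hφ.isDomain φ.toRingHom
  tfae_have 2 → 3 := by
    intro h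
    haveI : IsDomain (k ⊗[k] S) := h k
    haveI : Nontrivial S := (Algebra.TensorProduct.lid k S).injective.nontrivial
    haveI : Nontrivial (AlgebraicClosure k ⊗[k] S) :=
      (Algebra.TensorProduct.includeRight_injective (R := k) (A := AlgebraicClosure k) (B := S)
        (algebraMap k (AlgebraicClosure k)).injective).nontrivial
    haveI : NoZeroDivisors (AlgebraicClosure k ⊗[k] S) := by
      refine ⟨fun {x y} hxy => ?_⟩
      classical
      obtain ⟨Tx, hTx⟩ := Groth.Agent.Lib.Helper56.exists_finset_forall_mem_range x
      obtain ⟨Ty, hTy⟩ := Groth.Agent.Lib.Helper56.exists_finset_forall_mem_range y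
      let E := IntermediateField.adjoin k ((Tx ∪ Ty : Finset (AlgebraicClosure k)) :
        Set (AlgebraicClosure k))
      haveI : FiniteDimensional k E :=
        IntermediateField.finiteDimensional_adjoin (fun x _ => Algebra.IsIntegral.isIntegral x)
      have hsub : ((Tx ∪ Ty : Finset (AlgebraicClosure k)) : Set (AlgebraicClosure k)) ⊆ E :=
        IntermediateField.subset_adjoin _ _
      obtain ⟨x', rfl⟩ := hTx E (fun a ha => hsub (by simp [ha]))
      obtain ⟨y', rfl⟩ := hTy E (fun a ha => hsub (by simp [ha]))
      haveI : IsDomain (E ⊗[k] S) := h E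
      have hinj := Groth.Agent.Lib.Helper56.map_val_injective (S := S) E
      have h0 : x' * y' = 0 := by
        apply hinj
        rw [map_mul, map_zero]
        exact hxy
      rcases mul_eq_zero.mp h0 with h1 | h1
      · left; rw [h1, map_zero]
      · right; rw [h1, map_zero]
    exact NoZeroDivisors.to_isDomain _
  tfae_finish

end Groth.Agent.S9629
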