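import Groth.Statements.S9636
import Mathlib.RingTheory.Unramified.Finite
import Mathlib.RingTheory.Unramified.Field
import Mathlib.FieldTheory.IntermediateField.Adjoin.Basic
import Mathlib.LinearAlgebra.TensorProduct.Finiteness
import Mathlib.RingTheory.Localization.Basic
-- import your own Groth.Agent.* helpers here

set_option autoImplicit false
universe u
open CAlg

namespace Groth.Agent.S9636

open TensorProduct in
theorem lmul_map_val {k L : Type u} [Field k] [Field L] [Algebra k L] (E : IntermediateField k L)
    (z : E ⊗[k] E) :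
    Algebra.TensorProduct.lmul' (S := L) k (Algebra.TensorProduct.map E.val E.val z) =
      E.val (Algebra.TensorProduct.lmul' (S := E) k z) := by
  induction z using TensorProduct.induction_on with
  | zero => simp
  | tmul a b => simp
  | add x y hx hy => simp only [map_add, hx, hy]

open TensorProduct in
theorem elem_mul_eq_zero {k E : Type u} [Field k] [Field E] [Algebra k E]
    [Algebra.FormallyUnramified k E] [Algebra.EssFiniteType k E] (w : E ⊗[k] E)
    (hw : Algebra.TensorProduct.lmul' (S := E) k w = 0) :
    Algebra.FormallyUnramified.elem k E * w = 0 := by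
  have hw' : w ∈ KaehlerDifferential.ideal k E := hw
  rw [← KaehlerDifferential.span_range_eq_ideal] at hw'
  clear hw
  induction hw' using Submodule.span_induction with
  | mem x hx =>
    obtain ⟨s, rfl⟩ := hx
    rw [mul_comm]
    exact Algebra.FormallyUnramified.one_tmul_sub_tmul_one_mul_elem s
  | zero => simp
  | add x y _ _ hx hy => rw [mul_add, hx, hy, add_zero]
  | smul a x _ hx => rw [smul_eq_mul, mul_left_comm, hx, mul_zero]

open TensorProduct in
theorem key {k L : Type u} [Field k] [Field L] [Algebra k L] [Algebra.IsSeparable k L]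
    (w : L ⊗[k] L) (hw : Algebra.TensorProduct.lmul' (S := L) k w = 0) :
    ∃ s : L ⊗[k] L, Algebra.TensorProduct.lmul' (S := L) k s = 1 ∧ s * w = 0 := by
  classical
  obtain ⟨T, hT⟩ := TensorProduct.exists_finset w
  let E := IntermediateField.adjoin k ((T.image Prod.fst ∪ T.image Prod.snd : Finset L) : Set L)
  haveI : FiniteDimensional k E :=
    IntermediateField.finiteDimensional_adjoin (fun x _ => Algebra.IsIntegral.isIntegral x)
  have hsub : ((T.image Prod.fst ∪ T.image Prod.snd : Finset L) : Set L) ⊆ E :=
    IntermediateField.subset_adjoin _ _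
  have h1 : ∀ i ∈ T, i.1 ∈ E := fun i hi => hsub (by
    simp only [Finset.coe_union, Finset.coe_image, Set.mem_union, Set.mem_image, Finset.mem_coe]
    exact Or.inl ⟨i, hi, rfl⟩)
  have h2 : ∀ i ∈ T, i.2 ∈ E := fun i hi => hsub (by
    simp only [Finset.coe_union, Finset.coe_image, Set.mem_union, Set.mem_image, Finset.mem_coe]
    exact Or.inr ⟨i, hi, rfl⟩)
  let w' : E ⊗[k] E := ∑ i ∈ T.attach, (⟨i.1.1, h1 i.1 i.2⟩ : E) ⊗ₜ[k] (⟨i.1.2, h2 i.1 i.2⟩ : E)
  have hw' : Algebra.TensorProduct.map E.val E.val w' = w := by
    rw [hT, map_sum, ← Finset.sum_attach T]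
    rfl
  haveI : Algebra.FormallyUnramified k E := Algebra.FormallyUnramified.of_isSeparable k E
  have hw0 : Algebra.TensorProduct.lmul' (S := E) k w' = 0 := by
    have := lmul_map_val E w'
    rw [hw', hw] at this
    exact E.val.toRingHom.injective (by rw [map_zero]; exact this.symm)
  refine ⟨Algebra.TensorProduct.map E.val E.val (Algebra.FormallyUnramified.elem k E), ?_, ?_⟩
  · rw [lmul_map_val, Algebra.FormallyUnramified.lmul_elem, map_one]
  · rw [← hw', ← map_mul, elem_mul_eq_zero w' hw0, map_zero]

open TensorProduct in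
/-- Let k'/k be a separable algebraic field extension. Then for some multiplicative subset S of k' ⊗_k
k' the multiplication map k' ⊗_k k' → k' is a localization at S: there is a ring isomorphism S⁻¹(k'
⊗_k k') ≅ k' carrying the localization map to the multiplication map. -/
theorem result {k k' : Type u} [Field k] [Field k'] [Algebra k k'] [Algebra.IsSeparable k k'] :
    ∃ (S : Submonoid (k' ⊗[k] k')) (e : Localization S ≃+* k'), ∀ x : k' ⊗[k] k', e (algebraMap (k' ⊗[k] k') (Localization S) x) = Algebra.TensorProduct.lmul' (S := k') k x := by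
  let μ : k' ⊗[k] k' →ₐ[k] k' := Algebra.TensorProduct.lmul' (S := k') k
  let S : Submonoid (k' ⊗[k] k') := (IsUnit.submonoid k').comap (μ : k' ⊗[k] k' →* k')
  letI : Algebra (k' ⊗[k] k') k' := μ.toRingHom.toAlgebra
  haveI : IsLocalization S k' := by
    refine ⟨?_, ?_, ?_⟩
    · rintro ⟨y, hy⟩
      exact hy
    · intro z
      refine ⟨(z ⊗ₜ[k] 1, 1), ?_⟩
      change z * μ 1 = μ (z ⊗ₜ[k] 1)
      simp [μ]
    · intro x y hxy
      have hxy' : μ x = μ y := hxy
      have hw : Algebra.TensorProduct.lmul' (S := k') k (x - y) = 0 := by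
        rw [map_sub]
        exact sub_eq_zero.mpr hxy'
      obtain ⟨s, hs1, hs2⟩ := key (x - y) hw
      refine ⟨⟨s, ?_⟩, ?_⟩
      · change IsUnit (μ s)
        rw [show μ s = 1 from hs1]
        exact isUnit_one
      · change s * x = s * y
        rw [mul_sub] at hs2
        exact sub_eq_zero.mp hs2
  refine ⟨S, (IsLocalization.algEquiv S (Localization S) k').toRingEquiv, fun x => ?_⟩
  exact (IsLocalization.algEquiv S (Localization S) k').commutes x

end Groth.Agent.S9636
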