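import Groth.Statements.S9635
import Groth.Agent.Lib.Helper56.GeomReduced
import Groth.Agent.S9636
import Mathlib.RingTheory.Ideal.Quotient.Operations
-- import your own Groth.Agent.* helpers here

set_option autoImplicit false
universe u
open CAlg

namespace Groth.Agent.S9635

open TensorProduct in
theorem aux {k k' A K : Type u} [Field k] [Field k'] [Algebra k k'] [Algebra.IsSeparable k k']
    [CommRing A] [Algebra k' A] [Algebra k A] [IsScalarTower k k' A] [Field K] [Algebra k' K]
    [Algebra k K] [IsScalarTower k k' K] [IsReduced (K ⊗[k] A)] : IsReduced (K ⊗[k'] A) := by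
  let π : K ⊗[k] A →ₐ[k] K ⊗[k'] A :=
    Algebra.TensorProduct.lift
      ((Algebra.TensorProduct.includeLeft : K →ₐ[k'] K ⊗[k'] A).restrictScalars k)
      ((Algebra.TensorProduct.includeRight : A →ₐ[k'] K ⊗[k'] A).restrictScalars k)
      (fun _ _ => Commute.all _ _)
  have hπ : ∀ (a : K) (b : A), π (a ⊗ₜ[k] b) = a ⊗ₜ[k'] b := by
    intro a b
    simp [π]
  have hπsurj : Function.Surjective π := by
    intro z
    induction z using TensorProduct.induction_on with
    | zero => exact ⟨0, map_zero _⟩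
    | tmul a b => exact ⟨a ⊗ₜ[k] b, hπ a b⟩
    | add x y hx hy =>
      obtain ⟨x', rfl⟩ := hx
      obtain ⟨y', rfl⟩ := hy
      exact ⟨x' + y', map_add _ _ _⟩
  let θ : k' ⊗[k] k' →ₐ[k] K ⊗[k] A :=
    Algebra.TensorProduct.map (IsScalarTower.toAlgHom k k' K) (IsScalarTower.toAlgHom k k' A)
  have hπθ : ∀ s : k' ⊗[k] k', π (θ s) =
      algebraMap k' (K ⊗[k'] A) (Algebra.TensorProduct.lmul' (S := k') k s) := by
    intro s
    induction s using TensorProduct.induction_on with
    | zero => simp
    | tmul c d =>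
      simp only [θ, Algebra.TensorProduct.map_tmul, IsScalarTower.coe_toAlgHom', hπ,
        Algebra.TensorProduct.lmul'_apply_tmul, Algebra.TensorProduct.algebraMap_apply]
      rw [Algebra.algebraMap_eq_smul_one (A := A) d, TensorProduct.tmul_smul,
        TensorProduct.smul_tmul', map_mul, Algebra.smul_def, mul_comm]
    | add x y hx hy => simp only [map_add, hx, hy]
  let w : k' → K ⊗[k] A := fun c =>
    (algebraMap k' K c) ⊗ₜ[k] (1 : A) - (1 : K) ⊗ₜ[k] (algebraMap k' A c)
  let J : Ideal (K ⊗[k] A) := Ideal.span (Set.range w)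
  have hkerJ : ∀ z : K ⊗[k] A, π z = 0 → z ∈ J := by
    let f : K →ₐ[k'] (K ⊗[k] A) ⧸ J :=
      (Ideal.Quotient.mkₐ k' J).comp (Algebra.TensorProduct.includeLeft : K →ₐ[k'] K ⊗[k] A)
    let g : A →ₐ[k'] (K ⊗[k] A) ⧸ J :=
      { toRingHom := (Ideal.Quotient.mk J).comp
          (Algebra.TensorProduct.includeRight : A →ₐ[k] K ⊗[k] A).toRingHom
        commutes' := by
          intro c
          change Ideal.Quotient.mk J ((1 : K) ⊗ₜ[k] (algebraMap k' A c)) =
            Ideal.Quotient.mk J ((algebraMap k' K c) ⊗ₜ[k] (1 : A))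
          rw [Ideal.Quotient.eq, ← neg_sub]
          exact J.neg_mem (Ideal.subset_span ⟨c, rfl⟩) }
    let ψ : K ⊗[k'] A →ₐ[k'] (K ⊗[k] A) ⧸ J :=
      Algebra.TensorProduct.lift f g (fun _ _ => Commute.all _ _)
    have hψπ : ∀ z : K ⊗[k] A, ψ (π z) = Ideal.Quotient.mk J z := by
      intro z
      induction z using TensorProduct.induction_on with
      | zero => simp
      | tmul a b =>
        rw [hπ]
        simp only [ψ, Algebra.TensorProduct.lift_tmul]
        change Ideal.Quotient.mk J (a ⊗ₜ[k] 1) * Ideal.Quotient.mk J (1 ⊗ₜ[k] b) = _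
        rw [← map_mul, Algebra.TensorProduct.tmul_mul_tmul, mul_one, one_mul]
      | add x y hx hy => simp only [map_add, hx, hy]
    intro z hz
    have := hψπ z
    rw [hz, map_zero] at this
    exact Ideal.Quotient.eq_zero_iff_mem.mp this.symm
  have hJ : ∀ j ∈ J, ∃ t : K ⊗[k] A, π t = 1 ∧ t * j = 0 := by
    intro j hj
    induction hj using Submodule.span_induction with
    | mem x hx =>
      obtain ⟨c, rfl⟩ := hx
      have hw : Algebra.TensorProduct.lmul' (S := k') k (c ⊗ₜ[k] (1 : k') - (1 : k') ⊗ₜ[k] c) = 0 := by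
        simp [mul_comm]
      obtain ⟨s, hs1, hs2⟩ := Groth.Agent.S9636.key _ hw
      refine ⟨θ s, ?_, ?_⟩
      · rw [hπθ, hs1, map_one]
      · have hθw : θ (c ⊗ₜ[k] (1 : k') - (1 : k') ⊗ₜ[k] c) = w c := by
          simp [θ, w]
        rw [← hθw, ← map_mul, hs2, map_zero]
    | zero => exact ⟨1, map_one _, mul_zero _⟩
    | add x y _ _ hx hy =>
      obtain ⟨t1, ht1, hx⟩ := hx
      obtain ⟨t2, ht2, hy⟩ := hy
      refine ⟨t1 * t2, by rw [map_mul, ht1, ht2, one_mul], ?_⟩
      rw [mul_add, mul_right_comm, hx, zero_mul, mul_assoc, hy, mul_zero, add_zero]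
    | smul a x _ hx =>
      obtain ⟨t, ht, hx⟩ := hx
      refine ⟨t, ht, ?_⟩
      rw [smul_eq_mul, mul_left_comm, hx, mul_zero]
  refine ⟨fun x hx => ?_⟩
  obtain ⟨n, hn⟩ := hx
  obtain ⟨y, rfl⟩ := hπsurj x
  have hyJ : y ^ n ∈ J := hkerJ _ (by rw [map_pow, hn])
  obtain ⟨t, ht1, ht2⟩ := hJ _ hyJ
  have hnil : IsNilpotent (t * y) := by
    refine ⟨n + 1, ?_⟩
    have e : (t * y) ^ (n + 1) = t ^ n * y * (t * y ^ n) := by ring
    rw [e, ht2, mul_zero]
  have h0 : t * y = 0 := hnil.eq_zero
  calc π y = π t * π y := by rw [ht1, one_mul]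
    _ = π (t * y) := (map_mul _ _ _).symm
    _ = 0 := by rw [h0, map_zero]

open TensorProduct in
/-- Let k ⊆ k' be fields with k' separable algebraic over k, and A a k'-algebra. Then A is geometrically
reduced over k (K ⊗_k A reduced for all field extensions K/k) if and only if A is geometrically
reduced over k' (K ⊗_{k'} A reduced for all field extensions K/k'). Here the test fields K range
over field extensions (of k, respectively of k') in the common universe of k and k'; this is
equivalent to the unrestricted notions, since an algebraic closure of the base field suffices as a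
test. -/
theorem result {k k' A : Type u} [Field k] [Field k'] [Algebra k k'] [Algebra.IsSeparable k k'] [CommRing A] [Algebra k' A] [Algebra k A] [IsScalarTower k k' A] :
    (∀ (K : Type u) [Field K] [Algebra k K], IsReduced (K ⊗[k] A)) ↔
      ∀ (K : Type u) [Field K] [Algebra k' K], IsReduced (K ⊗[k'] A) := by
  constructor
  · intro h K _ _
    letI : Algebra k K := ((algebraMap k' K).comp (algebraMap k k')).toAlgebra
    haveI : IsScalarTower k k' K := IsScalarTower.of_algebraMap_eq (fun _ => rfl)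
    haveI : IsReduced (K ⊗[k] A) := h K
    exact aux (k := k)
  · intro h' K _ _
    haveI : IsReduced (K ⊗[k] k') := Groth.Agent.Lib.Helper56.isReduced_tensor_of_isSeparable
    haveI : IsReduced (k' ⊗[k] K) :=
      isReduced_of_injective (Algebra.TensorProduct.comm k k' K).toRingEquiv.toRingHom
        (Algebra.TensorProduct.comm k k' K).injective
    haveI h5 : IsReduced ((k' ⊗[k] K) ⊗[k'] A) :=
      Groth.Agent.Lib.Helper56.isReduced_tensor_of_forall_field (F := k') (L := A) h' (k' ⊗[k] K)
    let e1 : (k' ⊗[k] K) ⊗[k'] A ≃+* A ⊗[k'] (k' ⊗[k] K) :=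
      (Algebra.TensorProduct.comm k' (k' ⊗[k] K) A).toRingEquiv
    let e2 : A ⊗[k'] (k' ⊗[k] K) ≃+* A ⊗[k] K :=
      (Algebra.TensorProduct.cancelBaseChange k k' k' A K).toRingEquiv
    let e3 : A ⊗[k] K ≃+* K ⊗[k] A := (Algebra.TensorProduct.comm k A K).toRingEquiv
    exact isReduced_of_injective ((e1.trans e2).trans e3).symm.toRingHom
      ((e1.trans e2).trans e3).symm.injective

end Groth.Agent.S9635
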