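import Groth.Statements.S9640
import Groth.Agent.Lib.Helper74.WeakAss
import Mathlib.RingTheory.Flat.TorsionFree

set_option autoImplicit false
universe u
open CAlg

namespace Groth.Agent.S9640

theorem regular_of_flat {R S : Type u} [CommRing R] [IsDomain R] [CommRing S] [Algebra R S]
    (N : Type u) [AddCommGroup N] [Module S N] [Module R N] [IsScalarTower R S N]
    [Module.Flat R N] :
    ∀ t ∈ Algebra.algebraMapSubmonoid S (nonZeroDivisors R), IsSMulRegular N t := by
  rintro _ ⟨r, hr, rfl⟩
  have h := Module.Flat.isSMulRegular_of_nonZeroDivisors (M := N) hr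
  intro a b hab
  apply h
  simpa only [algebraMap_smul] using hab

/-- Let R → S be a ring map with R a domain with fraction field K and N an S-module flat over R. Writing
T for the image in S of the nonzero elements of R, so that T⁻¹S = S ⊗_R K and T⁻¹N = N ⊗_R K, the
primes of S weakly associated to N are exactly the inverse images in S of the primes of T⁻¹S weakly
associated to T⁻¹N. -/
theorem result {R S : Type u} [CommRing R] [IsDomain R] [CommRing S] [Algebra R S] (N : Type u) [AddCommGroup N] [Module S N] [Module R N] [IsScalarTower R S N] [Module.Flat R N] :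
    FlatCA.weakAss S N = Ideal.comap (algebraMap S (Localization (Algebra.algebraMapSubmonoid S (nonZeroDivisors R)))) '' FlatCA.weakAss (Localization (Algebra.algebraMapSubmonoid S (nonZeroDivisors R))) (LocalizedModule (Algebra.algebraMapSubmonoid S (nonZeroDivisors R)) N) := by
  have h1 := Groth.Agent.Lib.Helper74.WeakAss.weakAss_eq_of_regular (Algebra.algebraMapSubmonoid S (nonZeroDivisors R))
    (LocalizedModule.mkLinearMap (Algebra.algebraMapSubmonoid S (nonZeroDivisors R)) N)
    (regular_of_flat N)
  rw [h1]
  exact Groth.Agent.Lib.Helper74.WeakAss.weakAss_loc_eq_image_comap (Algebra.algebraMapSubmonoid S (nonZeroDivisors R))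

end Groth.Agent.S9640
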