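import Groth.Statements.S9643
import Mathlib.RingTheory.Support
import Mathlib.RingTheory.Ideal.Quotient.Operations
-- import your own Groth.Agent.* helpers here

set_option autoImplicit false
universe u
open CAlg

namespace Groth.Agent.S9643

theorem support_quot {R : Type u} [CommRing R] (I : Ideal R) :
    Module.support R (R ⧸ I) = PrimeSpectrum.zeroLocus I := by
  rw [Module.support_eq_zeroLocus, Ideal.annihilator_quotient]

theorem support_filtration {R : Type u} [CommRing R] (M : Type u) [AddCommGroup M] [Module R M]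
    {n : ℕ} (N : Fin (n + 1) → Submodule R M) (hN : Monotone N) (h0 : N 0 = ⊥)
    (p : Fin n → PrimeSpectrum R)
    (hquot : ∀ i : Fin n, Nonempty ((↥(N i.succ) ⧸ Submodule.comap (N i.succ).subtype (N i.castSucc)) ≃ₗ[R] (R ⧸ (p i).asIdeal)))
    (j : Fin (n + 1)) (q : PrimeSpectrum R) :
    q ∈ Module.support R (N j) ↔ ∃ i : Fin n, i.castSucc < j ∧ p i ≤ q := by
  induction j using Fin.induction with
  | zero =>
    rw [h0]
    haveI : Subsingleton (⊥ : Submodule R M) := inferInstance
    rw [Module.support_eq_empty]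
    simp
  | succ i ih =>
    have hle : N i.castSucc ≤ N i.succ := hN (Fin.castSucc_le_succ i)
    let K := Submodule.comap (N i.succ).subtype (N i.castSucc)
    have hex : Function.Exact K.subtype K.mkQ := by
      intro x
      rw [Submodule.mkQ_apply, Submodule.Quotient.mk_eq_zero]
      simp
    have hsupp := Module.support_of_exact hex K.injective_subtype K.mkQ_surjective
    obtain ⟨e⟩ := hquot i
    rw [hsupp, (Submodule.comapSubtypeEquivOfLe hle).support_eq, e.support_eq, support_quot,
      Set.mem_union, ih, PrimeSpectrum.mem_zeroLocus, SetLike.coe_subset_coe]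
    constructor
    · rintro (⟨i', hi', hp⟩ | hp)
      · exact ⟨i', lt_trans hi' (Fin.castSucc_lt_succ), hp⟩
      · exact ⟨i, Fin.castSucc_lt_succ, hp⟩
    · rintro ⟨i', hi', hp⟩
      rcases (Fin.le_castSucc_iff.mpr hi').lt_or_eq with h | h
      · exact Or.inl ⟨i', h, hp⟩
      · have : i' = i := Fin.castSucc_injective _ h
        exact Or.inr (this ▸ hp)

/-- Let R be a Noetherian ring, M a finite R-module and 0 = M_0 ⊆ M_1 ⊆ ⋯ ⊆ M_n = M a chain of
submodules whose successive quotients M_i/M_{i-1} are isomorphic to R/p_i for prime ideals p_i. Then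
the primes minimal among p_1, …, p_n are exactly the primes minimal in the support of M. -/
theorem result {R : Type u} [CommRing R] [IsNoetherianRing R] (M : Type u) [AddCommGroup M] [Module R M] [Module.Finite R M]
    {n : ℕ} (N : Fin (n + 1) → Submodule R M) (hN : Monotone N) (h0 : N 0 = ⊥) (hlast : N (Fin.last n) = ⊤)
    (p : Fin n → PrimeSpectrum R)
    (hquot : ∀ i : Fin n, Nonempty ((↥(N i.succ) ⧸ Submodule.comap (N i.succ).subtype (N i.castSucc)) ≃ₗ[R] (R ⧸ (p i).asIdeal))) :
    {q : PrimeSpectrum R | Minimal (fun x => x ∈ Set.range p) q} = {q : PrimeSpectrum R | Minimal (fun x => x ∈ Module.support R M) q} := by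
  have key : ∀ q : PrimeSpectrum R, q ∈ Module.support R M ↔ ∃ i : Fin n, p i ≤ q := by
    intro q
    have h1 := support_filtration M N hN h0 p hquot (Fin.last n) q
    rw [hlast, (Submodule.topEquiv (R := R) (M := M)).support_eq] at h1
    rw [h1]
    constructor
    · rintro ⟨i, _, hp⟩
      exact ⟨i, hp⟩
    · rintro ⟨i, hp⟩
      exact ⟨i, Fin.castSucc_lt_last i, hp⟩
  ext q
  simp only [Set.mem_setOf_eq]
  constructor
  · rintro ⟨⟨j, rfl⟩, hmin⟩
    refine ⟨(key _).mpr ⟨j, le_rfl⟩, ?_⟩
    intro q' hq' hle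
    obtain ⟨i, hi⟩ := (key q').mp hq'
    have := hmin ⟨i, rfl⟩ (hi.trans hle)
    exact this.trans hi
  · rintro ⟨hq, hmin⟩
    obtain ⟨i, hi⟩ := (key q).mp hq
    have hpi : p i ∈ Module.support R M := (key _).mpr ⟨i, le_rfl⟩
    have hqi : q ≤ p i := hmin hpi hi
    have hqe : q = p i := le_antisymm hqi hi
    refine ⟨⟨i, hqe.symm⟩, ?_⟩
    rintro q' ⟨j, rfl⟩ hle
    exact hmin ((key _).mpr ⟨j, le_rfl⟩) hle

end Groth.Agent.S9643
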