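import Groth.Statements.S9644
import Mathlib.RingTheory.Ideal.AssociatedPrime.Localization
import Mathlib.RingTheory.Ideal.MinimalPrime.Noetherian
import Mathlib.RingTheory.Ideal.AssociatedPrime.Finiteness
import Mathlib.RingTheory.Localization.Module
-- import your own Groth.Agent.* helpers here

set_option autoImplicit false
universe u
open CAlg

namespace Groth.Agent.S9644

/-- The largest submodule whose support avoids the minimal primes of the support. -/
def Ksub {R : Type u} [CommRing R] (M : Type u) [AddCommGroup M] [Module R M] : Submodule R M where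
  carrier := {m | ∀ p : PrimeSpectrum R, p.asIdeal ∈ (Module.annihilator R M).minimalPrimes →
    ∃ s, s ∉ p.asIdeal ∧ s • m = 0}
  add_mem' := by
    intro a b ha hb p hp
    obtain ⟨s, hs, hsa⟩ := ha p hp
    obtain ⟨t, ht, htb⟩ := hb p hp
    refine ⟨s * t, fun h => (p.isPrime.mem_or_mem h).elim hs ht, ?_⟩
    rw [smul_add, mul_smul, smul_comm s t a, hsa, smul_zero, zero_add, mul_smul, htb, smul_zero]
  zero_mem' := fun p _ => ⟨1, p.isPrime.one_notMem, smul_zero 1⟩
  smul_mem' := by
    intro c a ha p hp
    obtain ⟨s, hs, hsa⟩ := ha p hp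
    exact ⟨s, hs, by rw [smul_comm, hsa, smul_zero]⟩

section

variable {R : Type u} [CommRing R] {M : Type u} [AddCommGroup M] [Module R M]

theorem exists_minimal_le {x : PrimeSpectrum R} (hx : x ∈ Module.support R M) :
    ∃ p : PrimeSpectrum R, p.asIdeal ∈ (Module.annihilator R M).minimalPrimes ∧ p ≤ x := by
  obtain ⟨p, hp, hpx⟩ := Ideal.exists_minimalPrimes_le (Module.annihilator_le_of_mem_support hx)
  exact ⟨⟨p, hp.1.1⟩, hp, hpx⟩

theorem mem_support_of_minimal [Module.Finite R M] {p : PrimeSpectrum R}
    (hp : p.asIdeal ∈ (Module.annihilator R M).minimalPrimes) : p ∈ Module.support R M :=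
  Module.mem_support_iff_of_finite.mpr hp.1.2

theorem notMem_support_Ksub {p : PrimeSpectrum R}
    (hp : p.asIdeal ∈ (Module.annihilator R M).minimalPrimes) :
    p ∉ Module.support R (Ksub (R := R) M) := by
  rw [Module.notMem_support_iff']
  rintro ⟨m, hm⟩
  obtain ⟨s, hs, hsm⟩ := hm p hp
  exact ⟨s, hs, Subtype.ext hsm⟩

theorem le_Ksub {K' : Submodule R M}
    (h : ∀ p : PrimeSpectrum R, p.asIdeal ∈ (Module.annihilator R M).minimalPrimes →
      p ∉ Module.support R K') : K' ≤ Ksub (R := R) M := by
  intro m hm p hp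
  have := (Module.notMem_support_iff'.mp (h p hp)) ⟨m, hm⟩
  obtain ⟨s, hs, hsm⟩ := this
  exact ⟨s, hs, congrArg Subtype.val hsm⟩

theorem eq_of_le_of_minimal {p q : Ideal R} {I : Ideal R} (hp : p ∈ I.minimalPrimes)
    (hq : q.IsPrime) (hIq : I ≤ q) (hqp : q ≤ p) : q = p :=
  le_antisymm hqp (hp.2 ⟨hq, hIq⟩ hqp)

end

section

variable {R : Type u} [CommRing R] {M : Type u} [AddCommGroup M] [Module R M]

theorem isGreatest_Ksub [IsNoetherianRing R] [Module.Finite R M] :
    IsGreatest {K' : Submodule R M | ∀ U : Set (PrimeSpectrum R), IsOpen U →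
      U ∩ Module.support R M ⊆ closure (Module.support R ↥K') → U ∩ Module.support R M = ∅}
      (Ksub (R := R) M) := by
  constructor
  · intro U hU hsub
    rw [Set.eq_empty_iff_forall_notMem]
    rintro x ⟨hxU, hxM⟩
    obtain ⟨p, hp, hpx⟩ := exists_minimal_le hxM
    have hpU : p ∈ U :=
      hU.stableUnderGeneralization ((PrimeSpectrum.le_iff_specializes p x).mp hpx) hxU
    have hpM := mem_support_of_minimal hp
    have hcl : closure (Module.support R (Ksub (R := R) M)) =
        Module.support R (Ksub (R := R) M) := by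
      rw [Module.support_eq_zeroLocus]
      exact (PrimeSpectrum.isClosed_zeroLocus _).closure_eq
    have := hsub ⟨hpU, hpM⟩
    rw [hcl] at this
    exact notMem_support_Ksub hp this
  · intro K' hK'
    apply le_Ksub
    intro p hp hpK'
    let T : Set (PrimeSpectrum R) :=
      ⋃ q ∈ {q : Ideal R | q ∈ (Module.annihilator R M).minimalPrimes ∧ q ≠ p.asIdeal},
        PrimeSpectrum.zeroLocus (q : Set R)
    have hTclosed : IsClosed T := by
      apply Set.Finite.isClosed_biUnion
      · exact (Ideal.finite_minimalPrimes_of_isNoetherianRing R _).subset (fun q hq => hq.1)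
      · intro q _
        exact PrimeSpectrum.isClosed_zeroLocus _
    have hpT : p ∉ T := by
      intro hpT
      obtain ⟨q, ⟨hq, hne⟩, hqp⟩ := Set.mem_iUnion₂.mp hpT
      have hqp' : q ≤ p.asIdeal := hqp
      exact hne (eq_of_le_of_minimal hp hq.1.1 hq.1.2 hqp')
    have hsub : Tᶜ ∩ Module.support R M ⊆ closure (Module.support R K') := by
      rintro x ⟨hxT, hxM⟩
      obtain ⟨q, hq, hqx⟩ := exists_minimal_le hxM
      have hqp : q.asIdeal = p.asIdeal := by
        by_contra hne
        exact hxT (Set.mem_iUnion₂.mpr ⟨q.asIdeal, ⟨hq, hne⟩, hqx⟩)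
      have hpx : p ≤ x := by
        change p.asIdeal ≤ x.asIdeal
        rw [← hqp]
        exact hqx
      exact subset_closure (Module.mem_support_mono hpx hpK')
    have hempty := hK' Tᶜ hTclosed.isOpen_compl hsub
    have hmem : p ∈ Tᶜ ∩ Module.support R M := ⟨hpT, mem_support_of_minimal hp⟩
    rw [hempty] at hmem
    exact hmem

theorem support_quot_Ksub [Module.Finite R M] :
    Module.support R (M ⧸ Ksub (R := R) M) = Module.support R M := by
  apply subset_antisymm
  · exact Module.support_subset_of_surjective _ (Submodule.mkQ_surjective _)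
  · intro x hx
    obtain ⟨p, hp, hpx⟩ := exists_minimal_le hx
    have hpM := mem_support_of_minimal hp
    rw [Module.support_of_exact (LinearMap.exact_subtype_mkQ (Ksub (R := R) M))
      (Ksub (R := R) M).injective_subtype (Ksub (R := R) M).mkQ_surjective] at hpM
    rcases hpM with h | h
    · exact absurd h (notMem_support_Ksub hp)
    · exact Module.mem_support_mono hpx h

theorem mem_minimalPrimes_of_mem_associatedPrimes [IsNoetherianRing R] {q : Ideal R}
    (hq : q ∈ associatedPrimes R (M ⧸ Ksub (R := R) M)) :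
    q ∈ (Module.annihilator R M).minimalPrimes := by
  obtain ⟨hqp, y, hy⟩ := (isAssociatedPrime_iff).mp hq
  obtain ⟨m, rfl⟩ := Submodule.mkQ_surjective _ y
  have hmem : ∀ r, r ∈ q ↔ r • m ∈ Ksub (R := R) M := by
    intro r
    rw [hy, Submodule.mem_colon_singleton, Submodule.mem_bot, ← map_smul, Submodule.mkQ_apply,
      Submodule.Quotient.mk_eq_zero]
  have hm : m ∉ Ksub (R := R) M := by
    intro h
    apply hqp.ne_top
    rw [Ideal.eq_top_iff_one, hmem, one_smul]
    exact h
  have hex : ∃ p : PrimeSpectrum R, p.asIdeal ∈ (Module.annihilator R M).minimalPrimes ∧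
      ∀ s, s ∉ p.asIdeal → s • m ≠ 0 := by
    by_contra hcon
    push Not at hcon
    exact hm (fun p hp => by
      obtain ⟨s, hs, hsm⟩ := hcon p hp
      exact ⟨s, hs, hsm⟩)
  obtain ⟨p, hp, hpm⟩ := hex
  have hqp' : q ≤ p.asIdeal := by
    intro r hr
    obtain ⟨s, hs, hsm⟩ := (hmem r).mp hr p hp
    by_contra hrp
    have hsr : s * r ∉ p.asIdeal := fun h => (p.isPrime.mem_or_mem h).elim hs hrp
    exact hpm _ hsr (by rw [mul_smul]; exact hsm)
  have hann : Module.annihilator R M ≤ q := by
    intro r hr
    rw [hmem, Module.mem_annihilator.mp hr m]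
    exact zero_mem _
  rw [eq_of_le_of_minimal hp hqp hann hqp']
  exact hp

theorem exists_pow_smul_eq_zero [IsNoetherianRing R] [Module.Finite R M] (f : R)
    (hf : ∀ p ∈ associatedPrimes R M, ¬ Minimal (fun x => x ∈ associatedPrimes R M) p → f ∈ p)
    {m : M} (hm : m ∈ Ksub (R := R) M) : ∃ n : ℕ, f ^ n • m = 0 := by
  by_contra hcon
  push Not at hcon
  let Sg : Set (Ideal R) := {I | ∃ z : M, (∃ r : R, z = r • m) ∧ (∀ n : ℕ, f ^ n • z ≠ 0) ∧
    I = (⊥ : Submodule R M).colon {z}}
  have hne : Sg.Nonempty := ⟨_, m, ⟨1, (one_smul _ _).symm⟩, hcon, rfl⟩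
  obtain ⟨I0, ⟨z0, ⟨r0, hz0⟩, hz0f, rfl⟩, hmax⟩ :=
    set_has_maximal_iff_noetherian.mpr (inferInstance : IsNoetherian R R) Sg hne
  have hmemq : ∀ (z : M) (r : R), r ∈ (⊥ : Submodule R M).colon {z} ↔ r • z = 0 := by
    intro z r
    rw [Submodule.mem_colon_singleton, Submodule.mem_bot]
  have hfq : f ∉ (⊥ : Submodule R M).colon {z0} := by
    rw [hmemq]
    simpa using hz0f 1
  have hstep : ∀ z : M, (∃ r : R, z = r • m) → (∀ n : ℕ, f ^ n • z ≠ 0) →
      (∀ c : R, c • z0 = 0 → c • z = 0) →
      (⊥ : Submodule R M).colon {z0} = (⊥ : Submodule R M).colon {z} := by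
    intro z hz1 hz2 hz3
    have hmem : (⊥ : Submodule R M).colon {z} ∈ Sg := ⟨z, hz1, hz2, rfl⟩
    have hle : (⊥ : Submodule R M).colon {z0} ≤ (⊥ : Submodule R M).colon {z} := by
      intro c hc
      rw [hmemq] at hc ⊢
      exact hz3 c hc
    by_contra hne
    exact hmax _ hmem (lt_of_le_of_ne hle hne)
  have hprime : ((⊥ : Submodule R M).colon {z0}).IsPrime := by
    rw [Ideal.isPrime_iff]
    constructor
    · rw [Ne, Ideal.eq_top_iff_one, hmemq, one_smul]
      simpa using hz0f 0
    · intro a b hab
      by_contra hcon2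
      push Not at hcon2
      obtain ⟨ha, hb⟩ := hcon2
      rw [hmemq] at hab
      by_cases hB : ∀ n : ℕ, f ^ n • (b • z0) ≠ 0
      · have heq := hstep (b • z0) ⟨b * r0, by rw [hz0, mul_smul]⟩ hB
          (fun c hc => by rw [smul_comm, hc, smul_zero])
        apply ha
        rw [heq, hmemq, ← mul_smul]
        exact hab
      · push Not at hB
        obtain ⟨n, hn⟩ := hB
        have heq := hstep (f ^ n • z0) ⟨f ^ n * r0, by rw [hz0, mul_smul]⟩
          (fun k => by rw [← mul_smul, ← pow_add]; exact hz0f _)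
          (fun c hc => by rw [smul_comm, hc, smul_zero])
        apply hb
        rw [heq, hmemq, smul_comm]
        exact hn
  have hqass : (⊥ : Submodule R M).colon {z0} ∈ associatedPrimes R M :=
    isAssociatedPrime_iff.mpr ⟨hprime, z0, rfl⟩
  have hqmin : Minimal (fun x => x ∈ associatedPrimes R M) ((⊥ : Submodule R M).colon {z0}) := by
    by_contra h
    exact hfq (hf _ hqass h)
  have hann : Module.annihilator R M ≤ (⊥ : Submodule R M).colon {z0} := fun r hr => by
    rw [hmemq, Module.mem_annihilator.mp hr]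
  obtain ⟨p', hp', hp'q⟩ := Ideal.exists_minimalPrimes_le hann
  have hp'ass :=
    Module.associatedPrimes.minimalPrimes_annihilator_subset_associatedPrimes R M hp'
  have hqp' : (⊥ : Submodule R M).colon {z0} ≤ p' := hqmin.2 hp'ass hp'q
  have hqeq : (⊥ : Submodule R M).colon {z0} = p' := le_antisymm hqp' hp'q
  obtain ⟨s, hs, hsm⟩ := hm ⟨(⊥ : Submodule R M).colon {z0}, hprime⟩ (hqeq ▸ hp')
  apply hs
  change s ∈ (⊥ : Submodule R M).colon {z0}
  rw [hmemq, hz0, smul_comm, hsm, smul_zero]

theorem bijective_map [IsNoetherianRing R] [Module.Finite R M] (f : R)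
    (hf : ∀ p ∈ associatedPrimes R M, ¬ Minimal (fun x => x ∈ associatedPrimes R M) p → f ∈ p) :
    Function.Bijective (LocalizedModule.map (Submonoid.powers f) (Ksub (R := R) M).mkQ) := by
  constructor
  · rw [injective_iff_map_eq_zero]
    intro x hx
    induction x using LocalizedModule.induction_on with
    | h m s =>
      rw [LocalizedModule.map_mk, ← LocalizedModule.zero_mk s, LocalizedModule.mk_eq] at hx
      obtain ⟨u, hu⟩ := hx
      have hmem : ((u : R) * (s : R)) • m ∈ Ksub (R := R) M := by
        simp only [Submonoid.smul_def, smul_zero] at hu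
        rw [← map_smul, ← map_smul, Submodule.mkQ_apply,
          Submodule.Quotient.mk_eq_zero] at hu
        rw [mul_smul]
        exact hu
      obtain ⟨n, hn⟩ := exists_pow_smul_eq_zero f hf hmem
      rw [← LocalizedModule.zero_mk s, LocalizedModule.mk_eq]
      refine ⟨⟨f ^ n, n, rfl⟩ * u, ?_⟩
      rw [smul_zero, smul_zero]
      change (f ^ n * (u : R)) • (s : R) • m = 0
      rw [← hn, mul_smul, mul_smul]
  · exact LocalizedModule.map_surjective _ _ (Submodule.mkQ_surjective _)

end

/-- Let R be a Noetherian ring and M a finite R-module. Among the submodules K' of M whose support is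
nowhere dense inside Supp(M) there is a largest one, K. The quotient M' = M/K then satisfies
Supp(M') = Supp(M), its associated primes are pairwise incomparable (no embedded ones), and whenever
f ∈ R belongs to every embedded associated prime of M the localized map M_f → M'_f is bijective. -/
theorem result {R : Type u} [CommRing R] [IsNoetherianRing R] (M : Type u) [AddCommGroup M] [Module R M] [Module.Finite R M] :
    ∃ K : Submodule R M,
      IsGreatest {K' : Submodule R M | ∀ U : Set (PrimeSpectrum R), IsOpen U → U ∩ Module.support R M ⊆ closure (Module.support R ↥K') → U ∩ Module.support R M = ∅} K ∧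
      Module.support R (M ⧸ K) = Module.support R M ∧
      (∀ p ∈ associatedPrimes R (M ⧸ K), ∀ q ∈ associatedPrimes R (M ⧸ K), p ≤ q → p = q) ∧
      ∀ f : R, (∀ p ∈ associatedPrimes R M, ¬ Minimal (fun x => x ∈ associatedPrimes R M) p → f ∈ p) →
        Function.Bijective (LocalizedModule.map (Submonoid.powers f) K.mkQ) := by
  refine ⟨Ksub (R := R) M, isGreatest_Ksub, support_quot_Ksub, ?_, fun f hf => bijective_map f hf⟩
  intro p hp q hq hpq
  have hp' := mem_minimalPrimes_of_mem_associatedPrimes hp
  have hq' := mem_minimalPrimes_of_mem_associatedPrimes hq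
  exact eq_of_le_of_minimal hq' hp'.1.1 hp'.1.2 hpq

end Groth.Agent.S9644
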