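import Groth.Statements.S9647
import Groth.Agent.Lib.Helper56.GeomReduced
import Mathlib.RingTheory.Invariant.Profinite
import Mathlib.FieldTheory.Galois.Profinite
import Mathlib.FieldTheory.Galois.Infinite
import Mathlib.FieldTheory.KrullTopology
import Mathlib.FieldTheory.IsSepClosed
import Mathlib.Algebra.Ring.Action.End
-- import your own Groth.Agent.* helpers here

set_option autoImplicit false
universe u
open CAlg

namespace Groth.Agent.S9647

open TensorProduct in
/-- Let K/k be a field extension and k^sep a separable algebraic closure of k. Then the automorphism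
group of k^sep over k acts transitively on the primes of k^sep ⊗_k K: for any two primes P, Q there
is a k-automorphism σ of k^sep with Q the inverse image of P under σ ⊗ id_K. -/
theorem result {k K : Type u} [Field k] [Field K] [Algebra k K]
    (P Q : Ideal (SeparableClosure k ⊗[k] K)) [P.IsPrime] [Q.IsPrime] :
    ∃ σ : SeparableClosure k ≃ₐ[k] SeparableClosure k, Q = P.comap (Algebra.TensorProduct.map (σ : SeparableClosure k →ₐ[k] SeparableClosure k) (AlgHom.id k K)) := by
  classical
  letI act : MulSemiringAction (SeparableClosure k ≃ₐ[k] SeparableClosure k)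
      (SeparableClosure k ⊗[k] K) :=
    { smul := fun g b => Algebra.TensorProduct.map
        (g : SeparableClosure k →ₐ[k] SeparableClosure k) (AlgHom.id k K) b
      one_smul := fun b => by
        change Algebra.TensorProduct.map _ _ b = b
        induction b using TensorProduct.induction_on with
        | zero => simp
        | tmul a b => rfl
        | add x y hx hy => rw [map_add, hx, hy]
      mul_smul := fun g h b => by
        change Algebra.TensorProduct.map _ _ b =
          Algebra.TensorProduct.map _ _ (Algebra.TensorProduct.map _ _ b)
        induction b using TensorProduct.induction_on with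
        | zero => simp
        | tmul a b => rfl
        | add x y hx hy => rw [map_add, hx, hy, map_add, map_add]
      smul_zero := fun g => map_zero _
      smul_add := fun g => map_add _
      smul_one := fun g => map_one _
      smul_mul := fun g => map_mul _ }
  letI alg : Algebra K (SeparableClosure k ⊗[k] K) := Algebra.TensorProduct.rightAlgebra
  have hsmul : ∀ (g : SeparableClosure k ≃ₐ[k] SeparableClosure k)
      (b : SeparableClosure k ⊗[k] K), g • b =
        Algebra.TensorProduct.map (g : SeparableClosure k →ₐ[k] SeparableClosure k)
          (AlgHom.id k K) b := fun _ _ => rfl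
  haveI h1 : SMulCommClass (SeparableClosure k ≃ₐ[k] SeparableClosure k) K
      (SeparableClosure k ⊗[k] K) := ⟨fun g c b => by
    rw [hsmul, hsmul, Algebra.smul_def, Algebra.smul_def, map_mul]
    congr 1
    rw [Algebra.TensorProduct.right_algebraMap_apply]
    simp⟩
  letI top : TopologicalSpace (SeparableClosure k ⊗[k] K) := ⊥
  haveI disc : DiscreteTopology (SeparableClosure k ⊗[k] K) := ⟨rfl⟩
  haveI cont : ContinuousSMul (SeparableClosure k ≃ₐ[k] SeparableClosure k)
      (SeparableClosure k ⊗[k] K) := by
    rw [continuousSMul_iff_stabilizer_isOpen]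
    intro b
    obtain ⟨T, hT⟩ := Groth.Agent.Lib.Helper56.exists_finset_forall_mem_range b
    let E := IntermediateField.adjoin k (T : Set (SeparableClosure k))
    haveI hfin : FiniteDimensional k E :=
      IntermediateField.finiteDimensional_adjoin
        (fun x _ => Algebra.IsIntegral.isIntegral x)
    obtain ⟨b', rfl⟩ := hT E (IntermediateField.subset_adjoin _ _)
    refine Subgroup.isOpen_mono (H₁ := E.fixingSubgroup) ?_ E.fixingSubgroup_isOpen
    intro g hg
    rw [MulAction.mem_stabilizer_iff, hsmul]
    clear hT
    induction b' using TensorProduct.induction_on with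
    | zero => simp
    | tmul a c =>
      simp only [Algebra.TensorProduct.map_tmul, AlgHom.coe_id, id_eq, IntermediateField.coe_val]
      exact congrArg (· ⊗ₜ[k] c) ((IntermediateField.mem_fixingSubgroup_iff E g).mp hg a a.2)
    | add x y hx hy => simp only [map_add, hx, hy]
  haveI inv : Algebra.IsInvariant K (SeparableClosure k ⊗[k] K)
      (SeparableClosure k ≃ₐ[k] SeparableClosure k) := by
    refine ⟨fun b hb => ?_⟩
    let c := Module.Basis.ofVectorSpace k K
    let B := Algebra.TensorProduct.basis (SeparableClosure k) c
    have hcoord : ∀ i, B.repr b i ∈ Set.range (algebraMap k (SeparableClosure k)) := by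
      intro i
      rw [InfiniteGalois.mem_range_algebraMap_iff_fixed]
      intro g
      have h1 := Groth.Agent.Lib.Helper56.repr_map_eq c
        (g : SeparableClosure k →ₐ[k] SeparableClosure k) b i
      have h2 : Algebra.TensorProduct.map (g : SeparableClosure k →ₐ[k] SeparableClosure k)
          (AlgHom.id k K) b = b := hb g
      rw [h2] at h1
      exact h1.symm
    choose a ha using hcoord
    refine ⟨∑ i ∈ (B.repr b).support, a i • c i, ?_⟩
    rw [Algebra.TensorProduct.right_algebraMap_apply, TensorProduct.tmul_sum]
    conv_rhs => rw [← B.linearCombination_repr b, Finsupp.linearCombination_apply, Finsupp.sum]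
    refine Finset.sum_congr rfl (fun i _ => ?_)
    rw [← ha i, Algebra.TensorProduct.basis_apply, TensorProduct.smul_tmul', smul_eq_mul, mul_one,
      TensorProduct.tmul_smul, TensorProduct.smul_tmul', Algebra.smul_def, mul_one]
  obtain ⟨g, hg⟩ := @Algebra.IsInvariant.exists_smul_of_under_eq_of_profinite K
    (SeparableClosure k ⊗[k] K) _ _ alg
    (SeparableClosure k ≃ₐ[k] SeparableClosure k) _ act h1 _ _ _ _ top disc cont inv P Q _ _ (by
      rw [Ideal.eq_bot_of_prime (P.under K), Ideal.eq_bot_of_prime (Q.under K)])
  refine ⟨g⁻¹, ?_⟩
  rw [hg]
  ext x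
  rw [Ideal.mem_pointwise_smul_iff_inv_smul_mem, Ideal.mem_comap]
  exact Iff.rfl

end Groth.Agent.S9647
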