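import Groth.Statements.S9649
import Groth.Agent.S2117
import Mathlib.FieldTheory.SeparablyGenerated
import Mathlib.RingTheory.Smooth.Field

set_option autoImplicit false
universe u
open CAlg

namespace Groth.Agent.S9649

/-- A separably generated field extension is separable. Precisely: let K/k be a field extension
admitting a transcendence basis x over whose generated subfield k(x) the field K is separable
algebraic; then every finitely generated subextension K' of K/k also admits such a transcendence
basis. -/
theorem result {k K : Type u} [Field k] [Field K] [Algebra k K]
    (h : ∃ (ι : Type u) (x : ι → K), IsTranscendenceBasis k x ∧ Algebra.IsSeparable (IntermediateField.adjoin k (Set.range x)) K)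
    (K' : IntermediateField k K) (hK' : ∃ s : Finset K, IntermediateField.adjoin k (s : Set K) = K') :
    ∃ (ι : Type u) (x : ι → K'), IsTranscendenceBasis k x ∧ Algebra.IsSeparable (IntermediateField.adjoin k (Set.range x)) K' := by
  classical
  obtain ⟨ι, x, hx, hsep⟩ := h
  haveI := hsep
  have hfs : Algebra.FormallySmooth k K :=
    Algebra.FormallySmooth.of_algebraicIndependent_of_isSeparable hx.1
  haveI : Algebra.EssFiniteType k K' := IntermediateField.essFiniteType_iff.2 hK'
  suffices hmain : ∃ t : Finset K', IsTranscendenceBasis k ((↑) : t → K') ∧
      Algebra.IsSeparable (IntermediateField.adjoin k (t : Set K')) K' by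
    obtain ⟨t, ht, hsep'⟩ := hmain
    refine ⟨t, ((↑) : t → K'), ht, ?_⟩
    convert hsep' <;> simp
  obtain _ | ⟨p, hp, hpk⟩ := CharP.exists' k
  · exact exists_isTranscendenceBasis_and_isSeparable_of_perfectField k K'
  · haveI : Fact p.Prime := hp
    haveI : CharP k p := hpk
    have hinj : Function.Injective (KaehlerDifferential.mapBaseChange ℤ k K) :=
      Groth.Agent.Lib.Helper97.KaehlerColim.mapBaseChange_injective_of_formallySmooth
        (R := ℤ) (F := k) (K := K)
    refine exists_isTranscendenceBasis_and_isSeparable_of_linearIndepOn_pow_of_essFiniteType
      p hp.out fun s hs => ?_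
    have h1 : LinearIndepOn k (fun i : K' => (i : K)) (s : Set K') := by
      have := LinearIndependent.map' hs K'.val.toLinearMap
        (LinearMap.ker_eq_bot.2 K'.val.injective)
      exact this
    have h2 := Groth.Agent.S2117.linIndep_pow_of_injective p hinj (fun i : K' => (i : K)) _ s rfl h1
    have h3 : LinearIndependent k (K'.val.toLinearMap ∘ fun i : (s : Set K') => (i : K') ^ p) := by
      exact h2
    exact LinearIndependent.of_comp _ h3

end Groth.Agent.S9649
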