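import Groth.Statements.S9650
import Mathlib.FieldTheory.PrimitiveElement
import Mathlib.RingTheory.AlgebraicIndependent.TranscendenceBasis
import Mathlib.FieldTheory.SeparablyGenerated

set_option autoImplicit false
universe u
open CAlg

namespace Groth.Agent.S9650

open IntermediateField Cardinal

theorem result {k K : Type u} [Field k] [Field K] [Algebra k K]
    (hfg : ∃ s : Finset K, IntermediateField.adjoin k (s : Set K) = ⊤)
    (hsep : ∃ (ι : Type u) (x : ι → K), IsTranscendenceBasis k x ∧ Algebra.IsSeparable (IntermediateField.adjoin k (Set.range x)) K) :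
    ∃ (r : ℕ) (x : Fin r → K) (y : K), IsTranscendenceBasis k x ∧ IntermediateField.adjoin k (insert y (Set.range x)) = ⊤ ∧ IsSeparable (IntermediateField.adjoin k (Set.range x)) y := by
  obtain ⟨s, hs⟩ := hfg
  obtain ⟨ι, x, hx, hsepx⟩ := hsep
  have halg : Algebra.IsAlgebraic (Algebra.adjoin k (s : Set K)) K := by
    rw [← isAlgebraic_adjoin_iff_top, hs, Algebra.isAlgebraic_iff_isIntegral]
    exact Algebra.isIntegral_of_surjective topEquiv.surjective
  have hfin : Finite ι := by
    have h1 : #ι = Algebra.trdeg k K := hx.cardinalMk_eq_trdeg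
    have h2 : Algebra.trdeg k K ≤ #(s : Set K) := Algebra.IsAlgebraic.trdeg_le_cardinalMk k (s : Set K)
    have h3 : #(s : Set K) < ℵ₀ := Cardinal.lt_aleph0_of_finite _
    rw [← Cardinal.lt_aleph0_iff_finite, h1]
    exact h2.trans_lt h3
  obtain ⟨r, ⟨e⟩⟩ := Finite.exists_equiv_fin ι
  have hrange : Set.range (x ∘ e.symm) = Set.range x := e.symm.surjective.range_comp x
  set F := IntermediateField.adjoin k (Set.range x) with hF
  have hFs : IntermediateField.adjoin F (s : Set K) = ⊤ := by
    apply IntermediateField.restrictScalars_injective k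
    rw [IntermediateField.adjoin_adjoin_left, IntermediateField.restrictScalars_top, eq_top_iff,
      ← hs]
    exact IntermediateField.adjoin.mono _ _ _ Set.subset_union_right
  have hfd : FiniteDimensional F K := by
    have h1 : FiniteDimensional F (IntermediateField.adjoin F (s : Set K)) :=
      IntermediateField.finiteDimensional_adjoin
        (fun y _ => (Algebra.IsSeparable.isIntegral F y))
    rw [hFs] at h1
    exact (IntermediateField.topEquiv (F := F) (E := K)).toLinearEquiv.finiteDimensional
  obtain ⟨y, hy⟩ := Field.exists_primitive_element F K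
  refine ⟨r, x ∘ e.symm, y, hx.comp_equiv e.symm, ?_, ?_⟩
  · rw [hrange, Set.insert_eq, Set.union_comm, ← IntermediateField.adjoin_adjoin_left, ← hF, hy,
      IntermediateField.restrictScalars_top]
  · rw [hrange]
    exact Algebra.IsSeparable.isSeparable F y

end Groth.Agent.S9650
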