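import Groth.Statements.S9651
import Groth.Agent.Lib.Helper18.GenericFreeness
import Mathlib.RingTheory.Localization.InvSubmonoid
import Mathlib.RingTheory.Flat.FaithfullyFlat.Algebra
import Mathlib.RingTheory.Spectrum.Prime.ConstructibleSet
import Mathlib.RingTheory.Spectrum.Prime.RingHom

set_option autoImplicit false
universe u
open CAlg TensorProduct

namespace Groth.Agent.S9651

theorem gen {A B : Type u} [CommRing A] [IsDomain A] [CommRing B] [IsDomain B] [Algebra A B]
    [Algebra.FiniteType A B] (hinj : Function.Injective (algebraMap A B)) :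
    ∃ a : A, a ≠ 0 ∧ ∀ P : PrimeSpectrum A, a ∉ P.asIdeal →
      ∃ Q : PrimeSpectrum B, Q.comap (algebraMap A B) = P := by
  obtain ⟨a, ha, hfree⟩ := Groth.Agent.Lib.Helper18.exists_free_tensor (R := A) B B
  refine ⟨a, ha, ?_⟩
  have hne : algebraMap A (FractionRing B) a ≠ 0 := by
    rw [IsScalarTower.algebraMap_eq A B (FractionRing B)]
    intro h
    apply ha
    apply hinj
    apply IsFractionRing.injective B (FractionRing B)
    rw [map_zero, map_zero]
    exact h
  have hnt : Nontrivial (Localization.Away a ⊗[A] B) := by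
    let f1 : Localization.Away a →ₐ[A] (FractionRing B) :=
      IsLocalization.liftAlgHom (M := Submonoid.powers a) (f := Algebra.ofId A (FractionRing B)) (by
        rintro ⟨_, n, rfl⟩
        simp only [map_pow]
        exact (IsUnit.mk0 _ hne).pow n)
    let f2 := Algebra.TensorProduct.lift f1 (IsScalarTower.toAlgHom A B (FractionRing B)) (fun _ _ => Commute.all _ _)
    exact f2.toRingHom.domain_nontrivial
  have hff : Module.FaithfullyFlat (Localization.Away a) (Localization.Away a ⊗[A] B) := inferInstance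
  intro P hP
  have h1 : P ∈ Set.range (PrimeSpectrum.comap (algebraMap A (Localization.Away a))) := by
    rw [PrimeSpectrum.localization_away_comap_range (Localization.Away a) a]
    exact hP
  obtain ⟨Pa, rfl⟩ := h1
  obtain ⟨Q, rfl⟩ := PrimeSpectrum.comap_surjective_of_faithfullyFlat (A := Localization.Away a) (B := Localization.Away a ⊗[A] B) Pa
  refine ⟨Q.comap (Algebra.TensorProduct.includeRight : B →ₐ[A] (Localization.Away a ⊗[A] B)).toRingHom, ?_⟩
  rw [← PrimeSpectrum.comap_comp_apply, ← PrimeSpectrum.comap_comp_apply]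
  congr 1
  ext x
  simp [Algebra.algebraMap_eq_smul_one]

theorem core {R S : Type u} [CommRing R] [CommRing S] [Algebra R S] [Algebra.FiniteType R S]
    (q : Ideal S) [q.IsPrime] (g : S) (hg : g ∉ q) :
    ∃ a : R, a ∉ q.comap (algebraMap R S) ∧ ∀ p' : PrimeSpectrum R,
      q.comap (algebraMap R S) ≤ p'.asIdeal → a ∉ p'.asIdeal →
      ∃ q' : PrimeSpectrum S, q ≤ q'.asIdeal ∧ g ∉ q'.asIdeal ∧
        q'.comap (algebraMap R S) = p' := by
  have hgb : Ideal.Quotient.mk q g ≠ 0 := by
    intro h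
    exact hg (Ideal.Quotient.eq_zero_iff_mem.mp h)
  have : Algebra.FiniteType R (S ⧸ q) := Algebra.FiniteType.of_surjective (Ideal.Quotient.mkₐ R q) (Ideal.Quotient.mkₐ_surjective R q)
  have : Algebra.FiniteType (R ⧸ q.comap (algebraMap R S)) (S ⧸ q) := Algebra.FiniteType.of_restrictScalars_finiteType R _ _
  have : Algebra.FiniteType (R ⧸ q.comap (algebraMap R S)) (Localization.Away (Ideal.Quotient.mk q g)) := inferInstance
  have : IsDomain (Localization.Away (Ideal.Quotient.mk q g)) := IsLocalization.isDomain_localization (powers_le_nonZeroDivisors_of_noZeroDivisors hgb)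
  have hinj : Function.Injective (algebraMap (R ⧸ q.comap (algebraMap R S)) (Localization.Away (Ideal.Quotient.mk q g))) := by
    rw [IsScalarTower.algebraMap_eq (R ⧸ q.comap (algebraMap R S)) (S ⧸ q) (Localization.Away (Ideal.Quotient.mk q g))]
    exact (IsLocalization.injective _ (powers_le_nonZeroDivisors_of_noZeroDivisors hgb)).comp Ideal.algebraMap_quotient_injective
  obtain ⟨a, ha, hP⟩ := gen hinj
  obtain ⟨a', rfl⟩ := Ideal.Quotient.mk_surjective a
  refine ⟨a', fun h => ha (Ideal.Quotient.eq_zero_iff_mem.mpr h), ?_⟩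
  intro p' hp' hap'
  have h1 : p' ∈ Set.range (PrimeSpectrum.comap (Ideal.Quotient.mk (q.comap (algebraMap R S)))) := by
    rw [range_comap_of_surjective _ _ Ideal.Quotient.mk_surjective, Ideal.mk_ker]
    exact hp'
  obtain ⟨P, rfl⟩ := h1
  obtain ⟨Q, hQ⟩ := hP P (fun h => hap' h)
  refine ⟨Q.comap ((algebraMap (S ⧸ q) (Localization.Away (Ideal.Quotient.mk q g))).comp (Ideal.Quotient.mk q)), ?_, ?_, ?_⟩
  · intro x hx
    change (algebraMap (S ⧸ q) (Localization.Away (Ideal.Quotient.mk q g))) (Ideal.Quotient.mk q x) ∈ Q.asIdeal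
    rw [Ideal.Quotient.eq_zero_iff_mem.mpr hx, map_zero]
    exact Q.asIdeal.zero_mem
  · intro h
    change (algebraMap (S ⧸ q) (Localization.Away (Ideal.Quotient.mk q g))) (Ideal.Quotient.mk q g) ∈ Q.asIdeal at h
    exact Q.isPrime.ne_top (Ideal.eq_top_of_isUnit_mem _ h (IsLocalization.Away.algebraMap_isUnit _))
  · rw [← hQ, ← PrimeSpectrum.comap_comp_apply, ← PrimeSpectrum.comap_comp_apply]
    congr 1

theorem result {R S : Type u} [CommRing R] [CommRing S] [Algebra R S] [Algebra.FiniteType R S]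
    (E : Set (PrimeSpectrum S)) (hE : Topology.IsConstructible E) (ξ : PrimeSpectrum R) (hξ : ξ ∈ PrimeSpectrum.comap (algebraMap R S) '' E) :
    ∃ U : Set (PrimeSpectrum R), IsOpen U ∧ closure ({ξ} : Set (PrimeSpectrum R)) ⊆ closure (U ∩ closure {ξ}) ∧ U ∩ closure {ξ} ⊆ PrimeSpectrum.comap (algebraMap R S) '' E := by
  obtain ⟨η, hηE, rfl⟩ := hξ
  obtain ⟨C, rfl⟩ := PrimeSpectrum.exists_constructibleSetData_iff.mpr hE
  simp only [PrimeSpectrum.ConstructibleSetData.toSet, Set.mem_iUnion] at hηE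
  obtain ⟨c, hc, hηc⟩ := hηE
  simp only [PrimeSpectrum.BasicConstructibleSetData.toSet, Set.mem_sdiff, PrimeSpectrum.mem_zeroLocus, Set.singleton_subset_iff, SetLike.mem_coe] at hηc
  obtain ⟨hη1, hη2⟩ := hηc
  obtain ⟨a, ha, hP⟩ := core (R := R) η.asIdeal c.f hη2
  refine ⟨(PrimeSpectrum.basicOpen a : Set (PrimeSpectrum R)), (PrimeSpectrum.basicOpen a).isOpen, ?_, ?_⟩
  · apply closure_mono
    rintro x rfl
    exact ⟨ha, subset_closure rfl⟩
  · rintro p' ⟨hp1, hp2⟩
    rw [PrimeSpectrum.closure_singleton, PrimeSpectrum.mem_zeroLocus] at hp2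
    obtain ⟨q', hq1, hq2, hq3⟩ := hP p' hp2 hp1
    refine ⟨q', ?_, hq3⟩
    simp only [PrimeSpectrum.ConstructibleSetData.toSet, Set.mem_iUnion]
    refine ⟨c, hc, ?_⟩
    simp only [PrimeSpectrum.BasicConstructibleSetData.toSet, Set.mem_sdiff, PrimeSpectrum.mem_zeroLocus, Set.singleton_subset_iff, SetLike.mem_coe]
    exact ⟨hη1.trans hq1, hq2⟩

end Groth.Agent.S9651
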