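import Groth.Statements.S9654
import Mathlib

set_option autoImplicit false
universe u
open CAlg

namespace Groth.Agent.S9654

theorem isIntegral_of_mul_mem {R L : Type*} [CommRing R] [CommRing L] [Algebra R L]
    (N : Submodule R L) (h1 : (1 : L) ∈ N) (hN' : N.FG) (z : L) (hz : ∀ n ∈ N, z * n ∈ N) :
    IsIntegral R z := by
  let A' : Subalgebra R L :=
    { carrier := { x | ∀ n ∈ N, x * n ∈ N }
      mul_mem' := fun {a b} ha hb n hn => by rw [mul_assoc]; exact ha _ (hb _ hn)
      one_mem' := fun n hn => by rw [one_mul]; exact hn
      add_mem' := fun {a b} ha hb n hn => by rw [add_mul]; exact N.add_mem (ha _ hn) (hb _ hn)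
      zero_mem' := fun n _hn => by rw [zero_mul]; exact N.zero_mem
      algebraMap_mem' := fun r n hn => by rw [← Algebra.smul_def]; exact N.smul_mem r hn }
  let f : A' →ₐ[R] Module.End R N :=
    AlgHom.ofLinearMap
      { toFun := fun x => (LinearMap.mulLeft R (x : L)).restrict x.prop
        map_add' := by intro x y; ext; simp [add_mul]
        map_smul' := by intro r s; ext; simp }
      (by ext; simp)
      (by intro x y; ext; simp)
  have hinj : Function.Injective f := by
    rw [injective_iff_map_eq_zero]
    intro s hs
    have : (s : L) * 1 = 0 := congr_arg Subtype.val (LinearMap.congr_fun hs ⟨1, h1⟩)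
    exact Subtype.ext (by simpa using this)
  have : Module.Finite R N := by rwa [Module.Finite.iff_fg]
  have h2 : IsIntegral R (f ⟨z, hz⟩) := Algebra.IsIntegral.isIntegral _
  have h3 : IsIntegral R (⟨z, hz⟩ : A') :=
    (isIntegral_algHom_iff (R := R) (A := A') (B := Module.End R N) f hinj).mp h2
  exact (isIntegral_algHom_iff A'.val Subtype.val_injective).mpr h3

section ab
variable {R L : Type*} [CommRing R] [CommRing L] [Algebra R L] (a b : L) (hab : a * b = 1)
include hab

lemma pow_mul_pow_of_le {i j : ℕ} (h : j ≤ i) : a ^ i * b ^ j = a ^ (i - j) := by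
  obtain ⟨k, rfl⟩ := Nat.exists_eq_add_of_le h
  rw [Nat.add_sub_cancel_left, pow_add, mul_comm (a ^ j), mul_assoc, ← mul_pow, hab, one_pow,
    mul_one]

lemma mul_mem_sup (q : L) (hq : q ∈ Algebra.adjoin R {b}) :
    a * q ∈ (Algebra.adjoin R {a}).toSubmodule ⊔ (Algebra.adjoin R {b}).toSubmodule := by
  rw [Algebra.adjoin_singleton_eq_range_aeval] at hq
  obtain ⟨P, rfl⟩ := hq
  suffices h : ∀ P : Polynomial R, a * Polynomial.aeval b P ∈
      (Algebra.adjoin R {a}).toSubmodule ⊔ (Algebra.adjoin R {b}).toSubmodule from h P
  intro P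
  induction P using Polynomial.induction_on' with
  | add p q hp hq => rw [map_add, mul_add]; exact Submodule.add_mem _ hp hq
  | monomial n r =>
    rw [Polynomial.aeval_monomial]
    rcases n with _ | k
    · rw [pow_zero, mul_one, mul_comm, ← Algebra.smul_def]
      exact Submodule.mem_sup_left
        (Submodule.smul_mem _ _ (Algebra.subset_adjoin (Set.mem_singleton a)))
    · have : a * (algebraMap R L r * b ^ (k + 1)) = r • b ^ k := by
        rw [pow_succ, Algebra.smul_def]
        calc a * (algebraMap R L r * (b ^ k * b)) = algebraMap R L r * b ^ k * (a * b) := by ring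
          _ = algebraMap R L r * b ^ k := by rw [hab, mul_one]
      rw [this]
      exact Submodule.mem_sup_right
        (Submodule.smul_mem _ _ (pow_mem (Algebra.subset_adjoin (Set.mem_singleton b)) k))

end ab

lemma sup_eq {R L : Type*} [CommRing R] [CommRing L] [Algebra R L] (a b : L) (hab : a * b = 1) :
    (Algebra.adjoin R {a}).toSubmodule ⊔ (Algebra.adjoin R {b}).toSubmodule =
      (Algebra.adjoin R {a, b}).toSubmodule := by
  apply le_antisymm
  · refine sup_le ?_ ?_
    · exact Subalgebra.toSubmodule.monotone (Algebra.adjoin_mono (by simp))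
    · exact Subalgebra.toSubmodule.monotone (Algebra.adjoin_mono (by simp))
  · set M := (Algebra.adjoin R {a}).toSubmodule ⊔ (Algebra.adjoin R {b}).toSubmodule with hM
    have hba : b * a = 1 := by rw [mul_comm]; exact hab
    have ha : ∀ m ∈ M, a * m ∈ M := by
      intro m hm
      obtain ⟨p, hp, q, hq, rfl⟩ := Submodule.mem_sup.mp hm
      rw [mul_add]
      refine Submodule.add_mem _ (Submodule.mem_sup_left ?_) (mul_mem_sup a b hab q hq)
      exact (Subalgebra.mem_toSubmodule _).mpr ((Algebra.adjoin R {a}).mul_mem
        (Algebra.subset_adjoin (Set.mem_singleton a)) ((Subalgebra.mem_toSubmodule _).mp hp))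
    have hb : ∀ m ∈ M, b * m ∈ M := by
      intro m hm
      obtain ⟨p, hp, q, hq, rfl⟩ := Submodule.mem_sup.mp hm
      rw [mul_add]
      refine Submodule.add_mem _ ?_ (Submodule.mem_sup_right ?_)
      · have := mul_mem_sup (R := R) b a hba p hp
        rwa [sup_comm] at this
      · exact (Subalgebra.mem_toSubmodule _).mpr ((Algebra.adjoin R {b}).mul_mem
          (Algebra.subset_adjoin (Set.mem_singleton b)) ((Subalgebra.mem_toSubmodule _).mp hq))
    have key : ∀ z ∈ Algebra.adjoin R {a, b}, ∀ m ∈ M, z * m ∈ M := by
      intro z hz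
      induction hz using Algebra.adjoin_induction with
      | mem z hz =>
        rcases hz with rfl | rfl
        · exact ha
        · exact hb
      | algebraMap r => intro m hm; rw [← Algebra.smul_def]; exact Submodule.smul_mem _ _ hm
      | add z w _ _ hz hw => intro m hm; rw [add_mul]; exact Submodule.add_mem _ (hz m hm) (hw m hm)
      | mul z w _ _ hz hw => intro m hm; rw [mul_assoc]; exact hz _ (hw m hm)
    intro z hz
    have h1 : (1 : L) ∈ M := Submodule.mem_sup_left (one_mem (Algebra.adjoin R {a}))
    have := key z hz 1 h1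
    rwa [mul_one] at this

lemma isIntegral_of_mem_inf {R L : Type*} [CommRing R] [CommRing L] [Algebra R L] (a b : L)
    (hab : a * b = 1) (z : L) (hza : z ∈ Algebra.adjoin R {a}) (hzb : z ∈ Algebra.adjoin R {b}) :
    IsIntegral R z := by
  classical
  rw [Algebra.adjoin_singleton_eq_range_aeval] at hza hzb
  obtain ⟨P, hP⟩ := hza
  obtain ⟨Q, hQ⟩ := hzb
  have hba : b * a = 1 := by rw [mul_comm]; exact hab
  set n := P.natDegree
  set m := Q.natDegree
  let T : Set L := ((fun i => a ^ i) '' (Finset.range (n + 1) : Set ℕ)) ∪
    ((fun j => b ^ j) '' (Finset.range (m + 1) : Set ℕ))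
  let N : Submodule R L := Submodule.span R T
  have hTfin : T.Finite :=
    ((Finset.finite_toSet _).image _).union ((Finset.finite_toSet _).image _)
  have hNfg : N.FG := ⟨hTfin.toFinset, by simp [N]⟩
  have hamem : ∀ i ≤ n, a ^ i ∈ N := fun i hi =>
    Submodule.subset_span (Or.inl ⟨i, by simpa using Nat.lt_succ_of_le hi, rfl⟩)
  have hbmem : ∀ j ≤ m, b ^ j ∈ N := fun j hj =>
    Submodule.subset_span (Or.inr ⟨j, by simpa using Nat.lt_succ_of_le hj, rfl⟩)
  have hmon : ∀ i ≤ n, ∀ j ≤ m, a ^ i * b ^ j ∈ N := by
    intro i hi j hj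
    rcases le_total j i with h | h
    · rw [pow_mul_pow_of_le a b hab h]; exact hamem _ (le_trans (Nat.sub_le _ _) hi)
    · rw [mul_comm, pow_mul_pow_of_le b a hba h]; exact hbmem _ (le_trans (Nat.sub_le _ _) hj)
  have h1 : (1 : L) ∈ N := by simpa using hamem 0 (Nat.zero_le _)
  refine isIntegral_of_mul_mem N h1 hNfg z ?_
  have hzP : z = ∑ i ∈ Finset.range (n + 1), P.coeff i • a ^ i := by
    rw [← hP]; exact Polynomial.aeval_eq_sum_range a
  have hzQ : z = ∑ j ∈ Finset.range (m + 1), Q.coeff j • b ^ j := by
    rw [← hQ]; exact Polynomial.aeval_eq_sum_range b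
  intro x hx
  induction hx using Submodule.span_induction with
  | mem x hx =>
    rcases hx with ⟨i, hi, rfl⟩ | ⟨j, hj, rfl⟩
    · have hi' : i ≤ n := Nat.lt_succ_iff.mp (by simpa using hi)
      rw [hzQ, Finset.sum_mul]
      refine Submodule.sum_mem _ fun j hj => ?_
      have hj' : j ≤ m := Nat.lt_succ_iff.mp (Finset.mem_range.mp hj)
      rw [smul_mul_assoc, mul_comm]
      exact Submodule.smul_mem _ _ (hmon i hi' j hj')
    · have hj' : j ≤ m := Nat.lt_succ_iff.mp (by simpa using hj)
      rw [hzP, Finset.sum_mul]
      refine Submodule.sum_mem _ fun i hi => ?_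
      have hi' : i ≤ n := Nat.lt_succ_iff.mp (Finset.mem_range.mp hi)
      rw [smul_mul_assoc]
      exact Submodule.smul_mem _ _ (hmon i hi' j hj')
  | zero => rw [mul_zero]; exact N.zero_mem
  | add x y _ _ hx hy => rw [mul_add]; exact N.add_mem hx hy
  | smul r x _ hx => rw [mul_smul_comm]; exact N.smul_mem r hx


/-- descent: -/
lemma descend {R : Type u} [CommRing R] (t w : R) (ht : t ∈ nonZeroDivisors R)
    (hw : w ∈ nonZeroDivisors R)
    (hu : IsUnit (algebraMap R (Localization.Away w) t))
    (hic : IsIntegrallyClosedIn R (Localization.Away t))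
    (c : Localization.Away w)
    (hc : c ∈ (IsLocalization.Away.lift (S := Localization.Away t) t hu).range)
    (z : Localization.Away w) (hz : IsIntegral R z) (hzc : z ∈ Algebra.adjoin R {c}) :
    z ∈ Set.range (algebraMap R (Localization.Away w)) := by
  let ρ : Localization.Away t →ₐ[R] Localization.Away w :=
    { IsLocalization.Away.lift (S := Localization.Away t) t hu with
      commutes' := fun r => IsLocalization.Away.lift_eq t hu r }
  have hinjw : Function.Injective (algebraMap R (Localization.Away w)) :=
    IsLocalization.injective _ (Submonoid.powers_le.mpr hw)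
  have hinjt : Function.Injective (algebraMap R (Localization.Away t)) :=
    IsLocalization.injective _ (Submonoid.powers_le.mpr ht)
  have hρinj : Function.Injective ρ := by
    change Function.Injective (IsLocalization.Away.lift (S := Localization.Away t) t hu)
    unfold IsLocalization.Away.lift
    rw [IsLocalization.lift_injective_iff]
    intro a b
    rw [hinjw.eq_iff, hinjt.eq_iff]
  have hle : Algebra.adjoin R {c} ≤ ρ.range := by
    refine Algebra.adjoin_le ?_
    rintro _ rfl
    obtain ⟨c', hc'⟩ := hc
    exact ⟨c', hc'⟩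
  obtain ⟨z', rfl⟩ := hle hzc
  have hz' : IsIntegral R z' := (isIntegral_algHom_iff ρ hρinj).mp hz
  obtain ⟨r, rfl⟩ := (IsIntegrallyClosedIn.isIntegral_iff (R := R) (A := Localization.Away t)).mp hz'
  exact ⟨r, (ρ.commutes r).symm⟩


/-- Let R be a ring and x, y ∈ R nonzerodivisors. In the localization R_{xy} let a = x/y and b = y/x,
and let R[a], R[b], R[a, b] be the R-subalgebras they generate. If R is integrally closed in R_x or
in R_y, then the sequence 0 → R → R[a] ⊕ R[b] → R[a, b] → 0 (difference map, then sum map) is short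
exact; equivalently R[a] ∩ R[b] is the image of R and R[a] + R[b] = R[a, b] inside R_{xy}. -/
theorem result {R : Type u} [CommRing R] (x y : R) (hx : x ∈ nonZeroDivisors R) (hy : y ∈ nonZeroDivisors R)
    (hint : IsIntegrallyClosedIn R (Localization.Away x) ∨ IsIntegrallyClosedIn R (Localization.Away y)) :
    (Algebra.adjoin R {algebraMap R (Localization.Away (x * y)) (x * x) * IsLocalization.Away.invSelf (x * y)}).toSubmodule ⊓
        (Algebra.adjoin R {algebraMap R (Localization.Away (x * y)) (y * y) * IsLocalization.Away.invSelf (x * y)}).toSubmodule =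
        (⊥ : Subalgebra R (Localization.Away (x * y))).toSubmodule ∧
      (Algebra.adjoin R {algebraMap R (Localization.Away (x * y)) (x * x) * IsLocalization.Away.invSelf (x * y)}).toSubmodule ⊔
        (Algebra.adjoin R {algebraMap R (Localization.Away (x * y)) (y * y) * IsLocalization.Away.invSelf (x * y)}).toSubmodule =
        (Algebra.adjoin R {algebraMap R (Localization.Away (x * y)) (x * x) * IsLocalization.Away.invSelf (x * y), algebraMap R (Localization.Away (x * y)) (y * y) * IsLocalization.Away.invSelf (x * y)}).toSubmodule := by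
  classical
  set L := Localization.Away (x * y) with hL
  set X : L := algebraMap R L x with hXdef
  set Y : L := algebraMap R L y with hYdef
  set v : L := IsLocalization.Away.invSelf (x * y) with hvdef
  have huv : X * Y * v = 1 := by
    rw [hXdef, hYdef, ← map_mul]
    exact IsLocalization.Away.mul_invSelf (x * y)
  have hxx : algebraMap R L (x * x) = X * X := by rw [map_mul]
  have hyy : algebraMap R L (y * y) = Y * Y := by rw [map_mul]
  rw [hxx, hyy]
  set a : L := X * X * v with hadef
  set b : L := Y * Y * v with hbdef
  have hab : a * b = 1 := by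
    calc a * b = (X * Y * v) * (X * Y * v) := by rw [hadef, hbdef]; ring
      _ = 1 := by rw [huv, one_mul]
  have hXinv : X * (Y * v) = 1 := by rw [← mul_assoc]; exact huv
  have hYinv : Y * (X * v) = 1 := by rw [← huv]; ring
  have hXu : IsUnit X := IsUnit.of_mul_eq_one _ hXinv
  have hYu : IsUnit Y := IsUnit.of_mul_eq_one _ hYinv
  have hxy : x * y ∈ nonZeroDivisors R := mul_mem hx hy
  refine ⟨?_, sup_eq a b hab⟩
  apply le_antisymm
  · intro z hz
    obtain ⟨hza, hzb⟩ := Submodule.mem_inf.mp hz
    rw [Subalgebra.mem_toSubmodule] at hza hzb ⊢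
    rw [Algebra.mem_bot]
    have hzint : IsIntegral R z := isIntegral_of_mem_inf a b hab z hza hzb
    rcases hint with hic | hic
    · refine descend x (x * y) hx hxy hXu hic b ?_ z hzint hzb
      refine ⟨algebraMap R (Localization.Away x) y * IsLocalization.Away.invSelf x, ?_⟩
      have h1 : IsLocalization.Away.lift (S := Localization.Away x) x hXu
          (algebraMap R (Localization.Away x) x) = X := IsLocalization.Away.lift_eq x hXu x
      have h2 : IsLocalization.Away.lift (S := Localization.Away x) x hXu
          (algebraMap R (Localization.Away x) y) = Y := IsLocalization.Away.lift_eq x hXu y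
      have h3 : X * IsLocalization.Away.lift (S := Localization.Away x) x hXu
          (IsLocalization.Away.invSelf x) = 1 := by
        rw [← h1, ← map_mul, IsLocalization.Away.mul_invSelf, map_one]
      have h4 := (hXu.mul_right_inj).mp (h3.trans hXinv.symm)
      rw [map_mul, h2, h4, hbdef]
      ring
    · refine descend y (x * y) hy hxy hYu hic a ?_ z hzint hza
      refine ⟨algebraMap R (Localization.Away y) x * IsLocalization.Away.invSelf y, ?_⟩
      have h1 : IsLocalization.Away.lift (S := Localization.Away y) y hYu
          (algebraMap R (Localization.Away y) y) = Y := IsLocalization.Away.lift_eq y hYu y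
      have h2 : IsLocalization.Away.lift (S := Localization.Away y) y hYu
          (algebraMap R (Localization.Away y) x) = X := IsLocalization.Away.lift_eq y hYu x
      have h3 : Y * IsLocalization.Away.lift (S := Localization.Away y) y hYu
          (IsLocalization.Away.invSelf y) = 1 := by
        rw [← h1, ← map_mul, IsLocalization.Away.mul_invSelf, map_one]
      have h4 := (hYu.mul_right_inj).mp (h3.trans hYinv.symm)
      rw [map_mul, h2, h4, hadef]
      ring
  · refine le_inf ?_ ?_
    · exact Subalgebra.toSubmodule.monotone bot_le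
    · exact Subalgebra.toSubmodule.monotone bot_le

end Groth.Agent.S9654
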