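import Groth.Statements.S9655
import Mathlib

set_option autoImplicit false
universe u
open CAlg

namespace Groth.Agent.S9655

/-- Let R and S be local rings and R → S a ring map, not necessarily local, that is essentially of
finite type. Then for some n there is a maximal ideal m of the polynomial ring R[x_1, …, x_n] lying
over the maximal ideal of R, together with an R-algebra map φ : R[x_1, …, x_n]_m → S making S a
localization of the image of φ; thus S arises from R[x_1, …, x_n]_m by passing to a quotient and
then localizing. -/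
theorem result {R S : Type u} [CommRing R] [CommRing S] [Algebra R S] [IsLocalRing R] [IsLocalRing S] [Algebra.EssFiniteType R S] :
    ∃ (n : ℕ) (m : Ideal (MvPolynomial (Fin n) R)) (_ : m.IsMaximal), m.under R = IsLocalRing.maximalIdeal R ∧
      ∃ (φ : Localization.AtPrime m →ₐ[R] S) (T : Submonoid φ.range), IsLocalization T S := by
  classical
  obtain ⟨σ, hσ⟩ := (Algebra.essFiniteType_iff R S).mp (inferInstance : Algebra.EssFiniteType R S)
  let K := IsLocalRing.ResidueField S
  let res : S →+* K := IsLocalRing.residue S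
  let f : R →+* K := res.comp (algebraMap R S)
  obtain ⟨V, hV, hVloc⟩ := IsLocalRing.exists_factor_valuationRing f
  let n := σ.card
  let e : Fin n ≃ σ := σ.equivFin.symm
  have hunit : ∀ s : S, res s ∉ V → IsUnit s := by
    intro s hs
    by_contra hns
    have : res s = 0 :=
      (IsLocalRing.residue_eq_zero_iff s).mpr ((IsLocalRing.mem_maximalIdeal s).mpr hns)
    exact hs (this ▸ V.zero_mem)
  let t : Fin n → S := fun i => if res (e i : S) ∈ V then (e i : S) else Ring.inverse (e i : S)
  have ht : ∀ i, res (t i) ∈ V := by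
    intro i
    by_cases h : res (e i : S) ∈ V
    · simp only [t, if_pos h]; exact h
    · simp only [t, if_neg h]
      have hu := hunit _ h
      have h1 : res (e i : S) * res (Ring.inverse (e i : S)) = 1 := by
        rw [← map_mul, Ring.mul_inverse_cancel _ hu, map_one]
      rw [eq_inv_of_mul_eq_one_right h1]
      exact (V.mem_or_inv_mem (res (e i : S))).resolve_left h
  let α : MvPolynomial (Fin n) R →ₐ[R] S := MvPolynomial.aeval t
  have hαV : ∀ Q, res (α Q) ∈ V := by
    intro Q
    induction Q using MvPolynomial.induction_on with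
    | C a =>
      simp only [α, MvPolynomial.aeval_C]
      exact hV a
    | add x y hx hy => rw [map_add, map_add]; exact V.add_mem _ _ hx hy
    | mul_X x i hx =>
      rw [map_mul, map_mul]
      refine V.mul_mem _ _ hx ?_
      simp only [α, MvPolynomial.aeval_X]
      exact ht i
  let β : MvPolynomial (Fin n) R →+* V := (res.comp α.toRingHom).codRestrict V hαV
  let J : Ideal (MvPolynomial (Fin n) R) :=
    Ideal.comap α.toRingHom (IsLocalRing.maximalIdeal S) ⊔
      Ideal.map (MvPolynomial.C : R →+* MvPolynomial (Fin n) R) (IsLocalRing.maximalIdeal R)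
  have hJle : J ≤ Ideal.comap β (IsLocalRing.maximalIdeal V) := by
    refine sup_le ?_ ?_
    · intro Q hQ
      rw [Ideal.mem_comap] at hQ ⊢
      have h0 : β Q = 0 := by
        apply Subtype.ext
        change res (α Q) = 0
        exact (IsLocalRing.residue_eq_zero_iff _).mpr hQ
      rw [h0]
      exact Ideal.zero_mem _
    · rw [Ideal.map_le_iff_le_comap]
      intro a ha
      rw [Ideal.mem_comap, Ideal.mem_comap, IsLocalRing.mem_maximalIdeal, mem_nonunits_iff]
      intro hu
      have h1 : β (MvPolynomial.C a) = (f.codRestrict V.toSubring hV) a := by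
        apply Subtype.ext
        change res (α (MvPolynomial.C a)) = f a
        simp only [α, MvPolynomial.aeval_C]
        rfl
      rw [h1] at hu
      have := hVloc.map_nonunit a hu
      exact ((IsLocalRing.mem_maximalIdeal a).mp ha) this
  have hJ : J ≠ ⊤ := by
    intro h
    have h1 : Ideal.comap β (IsLocalRing.maximalIdeal V) = ⊤ := top_le_iff.mp (h ▸ hJle)
    exact (Ideal.comap_ne_top β (IsLocalRing.maximalIdeal.isMaximal V).ne_top) h1
  obtain ⟨m, hm, hJm⟩ := Ideal.exists_le_maximal J hJ
  have hunder : m.under R = IsLocalRing.maximalIdeal R := by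
    apply le_antisymm
    · exact IsLocalRing.le_maximalIdeal (Ideal.comap_ne_top _ hm.ne_top)
    · intro a ha
      rw [Ideal.under_def, Ideal.mem_comap]
      apply hJm
      apply Ideal.mem_sup_right
      exact Ideal.mem_map_of_mem _ ha
  have hf : ∀ y : m.primeCompl, IsUnit (α y) := by
    intro y
    have hy : (y : MvPolynomial (Fin n) R) ∉ m := y.2
    have h1 : (y : MvPolynomial (Fin n) R) ∉
        Ideal.comap α.toRingHom (IsLocalRing.maximalIdeal S) :=
      fun h => hy (hJm (Ideal.mem_sup_left h))
    rw [Ideal.mem_comap] at h1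
    exact IsLocalRing.notMem_maximalIdeal.mp h1
  let φ : Localization.AtPrime m →ₐ[R] S := IsLocalization.liftAlgHom (M := m.primeCompl) hf
  have hφα : ∀ Q, φ (algebraMap _ _ Q) = α Q := fun Q => IsLocalization.lift_eq _ _
  have hrange : ∀ y ∈ α.range, y ∈ φ.range := by
    rintro _ ⟨Q, rfl⟩
    exact ⟨algebraMap _ _ Q, hφα Q⟩
  let T : Submonoid φ.range := (IsUnit.submonoid S).comap (algebraMap φ.range S)
  have claim3 : ∀ z ∈ Algebra.adjoin R (σ : Set S),
      ∃ u : S, u ∈ α.range ∧ IsUnit u ∧ z * u ∈ α.range := by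
    intro z hz
    induction hz using Algebra.adjoin_induction with
    | mem z hz =>
      obtain ⟨i, hi⟩ : ∃ i, (e i : S) = z := ⟨e.symm ⟨z, hz⟩, by simp⟩
      have hti : t i ∈ α.range := ⟨MvPolynomial.X i, by simp [α]⟩
      by_cases h : res (e i : S) ∈ V
      · refine ⟨1, Subalgebra.one_mem _, isUnit_one, ?_⟩
        rw [mul_one, ← hi]
        simpa only [t, if_pos h] using hti
      · have hu := hunit _ h
        refine ⟨Ring.inverse (e i : S), ?_, hu.ringInverse, ?_⟩
        · simpa only [t, if_neg h] using hti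
        · rw [← hi, Ring.mul_inverse_cancel _ hu]
          exact Subalgebra.one_mem _
    | algebraMap r =>
      refine ⟨1, Subalgebra.one_mem _, isUnit_one, ?_⟩
      rw [mul_one]
      exact Subalgebra.algebraMap_mem _ r
    | add x y _ _ hx hy =>
      obtain ⟨u, hu, huu, hxu⟩ := hx
      obtain ⟨v, hv, hvu, hyv⟩ := hy
      refine ⟨u * v, Subalgebra.mul_mem _ hu hv, huu.mul hvu, ?_⟩
      have : (x + y) * (u * v) = (x * u) * v + (y * v) * u := by ring
      rw [this]
      exact Subalgebra.add_mem _ (Subalgebra.mul_mem _ hxu hv) (Subalgebra.mul_mem _ hyv hu)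
    | mul x y _ _ hx hy =>
      obtain ⟨u, hu, huu, hxu⟩ := hx
      obtain ⟨v, hv, hvu, hyv⟩ := hy
      refine ⟨u * v, Subalgebra.mul_mem _ hu hv, huu.mul hvu, ?_⟩
      have : (x * y) * (u * v) = (x * u) * (y * v) := by ring
      rw [this]
      exact Subalgebra.mul_mem _ hxu hyv
  refine ⟨n, m, hm, hunder, φ, T, ?_⟩
  rw [isLocalization_iff]
  refine ⟨fun y => y.2, fun s => ?_, fun {x y} hxy => ⟨1, by
    have : x = y := Subtype.ext hxy
    rw [this]⟩⟩
  obtain ⟨b, hb, hbu, hsb⟩ := hσ s
  obtain ⟨ub, hub, hubu, hbub⟩ := claim3 b hb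
  obtain ⟨uc, huc, hucu, hcuc⟩ := claim3 (s * b) hsb
  have hd : uc * (b * ub) ∈ φ.range := hrange _ (Subalgebra.mul_mem _ huc hbub)
  have hdu : IsUnit (uc * (b * ub)) := hucu.mul (hbu.mul hubu)
  have hnum : (s * b * uc) * ub ∈ φ.range := hrange _ (Subalgebra.mul_mem _ hcuc hub)
  refine ⟨(⟨_, hnum⟩, ⟨⟨_, hd⟩, hdu⟩), ?_⟩
  change s * (uc * (b * ub)) = (s * b * uc) * ub
  ring

end Groth.Agent.S9655
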