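import Groth.Statements.S9656
import Mathlib.RingTheory.IntegralClosure.IsIntegral.Basic
import Mathlib.Algebra.Polynomial.Degree.Support
import Mathlib.Algebra.Polynomial.Monic

set_option autoImplicit false
universe u
open CAlg

namespace Groth.Agent.S9656

open Polynomial

theorem result {ι : Type u} [Fintype ι] {R S : ι → Type u} [∀ i, CommRing (R i)] [∀ i, CommRing (S i)] (f : ∀ i, R i →+* S i) (s : ∀ i, S i) :
    (RingHom.pi fun i => (f i).comp (Pi.evalRingHom R i)).IsIntegralElem s ↔ ∀ i, (f i).IsIntegralElem (s i) := by
  set F : (∀ i, R i) →+* (∀ i, S i) := RingHom.pi fun i => (f i).comp (Pi.evalRingHom R i) with hF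
  have hFi : ∀ i, (Pi.evalRingHom S i).comp F = (f i).comp (Pi.evalRingHom R i) := fun i => rfl
  constructor
  · rintro ⟨p, hpm, hp⟩ i
    refine ⟨p.map (Pi.evalRingHom R i), hpm.map _, ?_⟩
    rw [eval₂_map, ← hFi i]
    have := congrArg (Pi.evalRingHom S i) hp
    rw [hom_eval₂, map_zero] at this
    exact this
  · intro h
    choose p hpm hp using h
    set N := ∑ i, (p i).natDegree with hN
    have hle : ∀ i, (p i).natDegree ≤ N := fun i =>
      Finset.single_le_sum (f := fun i => (p i).natDegree) (fun _ _ => Nat.zero_le _)
        (Finset.mem_univ i)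
    let q : ∀ i, (R i)[X] := fun i => p i * X ^ (N - (p i).natDegree)
    have hqm : ∀ i, (q i).Monic := fun i => (hpm i).mul (monic_X_pow _)
    have hq0 : ∀ i, eval₂ (f i) (s i) (q i) = 0 := fun i => by
      simp only [q, eval₂_mul, hp i, zero_mul]
    have hqdeg : ∀ i, (q i).natDegree ≤ N := fun i => by
      refine (natDegree_mul_le).trans ?_
      have := natDegree_X_pow_le (R := R i) (N - (p i).natDegree)
      have := hle i
      omega
    have hqcoeff : ∀ i, (q i).coeff N = 1 := fun i => by
      rcases subsingleton_or_nontrivial (R i) with h | h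
      · exact Subsingleton.elim _ _
      · have h1 : (q i).natDegree = N := by
          simp only [q]
          rw [(hpm i).natDegree_mul (monic_X_pow _), natDegree_X_pow]
          have := hle i
          omega
        rw [← h1]
        exact (hqm i).coeff_natDegree
    let P : (∀ i, R i)[X] := ∑ k ∈ Finset.range (N + 1), C (fun i => (q i).coeff k) * X ^ k
    have hPmap : ∀ i, P.map (Pi.evalRingHom R i) = q i := fun i => by
      simp only [P, Polynomial.map_sum, Polynomial.map_mul, Polynomial.map_pow, map_X, map_C]
      exact ((q i).as_sum_range_C_mul_X_pow' (Nat.lt_succ_of_le (hqdeg i))).symm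
    have hPm : P.Monic := by
      apply monic_of_natDegree_le_of_coeff_eq_one N
      · apply natDegree_sum_le_of_forall_le
        intro k hk
        refine (natDegree_C_mul_X_pow_le _ _).trans ?_
        exact Nat.lt_succ_iff.mp (Finset.mem_range.mp hk)
      · simp only [P, finsetSum_coeff, coeff_C_mul_X_pow]
        rw [Finset.sum_eq_single N]
        · simp only [if_true]
          funext i
          exact hqcoeff i
        · intro k _ hk
          rw [if_neg (Ne.symm hk)]
        · intro h
          exact absurd (Finset.mem_range.mpr (Nat.lt_succ_self N)) h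
    refine ⟨P, hPm, ?_⟩
    funext i
    have : (Pi.evalRingHom S i) (eval₂ F s P) = 0 := by
      rw [hom_eval₂, hFi i, ← eval₂_map, hPmap i]
      exact hq0 i
    exact this

end Groth.Agent.S9656
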