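import Groth.Statements.S9658
import Mathlib.RingTheory.Ideal.Operations
import Mathlib.Algebra.Module.LocalizedModule.Basic

set_option autoImplicit false
universe u
open CAlg

namespace Groth.Agent.S9658

theorem result {R : Type u} [CommRing R] {ι : Type u} [Fintype ι] (f : ι → R) (hf : Ideal.span (Set.range f) = ⊤)
    (M : Type u) [AddCommGroup M] [Module R M]
    (Mi : ι → Type u) [∀ i, AddCommGroup (Mi i)] [∀ i, Module R (Mi i)] (g : ∀ i, M →ₗ[R] Mi i) [∀ i, IsLocalizedModule (Submonoid.powers (f i)) (g i)]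
    (Mij : ι → ι → Type u) [∀ i j, AddCommGroup (Mij i j)] [∀ i j, Module R (Mij i j)] (gij : ∀ i j, M →ₗ[R] Mij i j) [∀ i j, IsLocalizedModule (Submonoid.powers (f i * f j)) (gij i j)]
    (ρ₁ : ∀ i j, Mi i →ₗ[R] Mij i j) (hρ₁ : ∀ i j, ρ₁ i j ∘ₗ g i = gij i j) (ρ₂ : ∀ i j, Mi j →ₗ[R] Mij i j) (hρ₂ : ∀ i j, ρ₂ i j ∘ₗ g j = gij i j) :
    (∀ m : M, (∀ i, g i m = 0) → m = 0) ∧
      ∀ s : ∀ i, Mi i, (∀ i j, ρ₁ i j (s i) = ρ₂ i j (s j)) → ∃ m : M, ∀ i, g i m = s i := by
  classical
  have hρ₁' : ∀ i j x, ρ₁ i j (g i x) = gij i j x := fun i j x =>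
    LinearMap.congr_fun (hρ₁ i j) x
  have hρ₂' : ∀ i j x, ρ₂ i j (g j x) = gij i j x := fun i j x =>
    LinearMap.congr_fun (hρ₂ i j) x
  constructor
  · intro m hm
    have : m ∈ (⊥ : Submodule R M) := by
      apply Submodule.mem_of_span_eq_top_of_smul_pow_mem ⊥ (Set.range f) hf
      rintro ⟨_, i, rfl⟩
      obtain ⟨⟨_, n, rfl⟩, hn⟩ :=
        (IsLocalizedModule.eq_zero_iff (Submonoid.powers (f i)) (g i)).mp (hm i)
      exact ⟨n, by simpa [Submonoid.smul_def] using hn⟩
    simpa using this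
  · intro s hs
    have h1 : ∀ i, ∃ (n : ℕ) (mi : M), (f i ^ n) • s i = g i mi := by
      intro i
      obtain ⟨⟨mi, ⟨_, n, rfl⟩⟩, h⟩ := IsLocalizedModule.surj (Submonoid.powers (f i)) (g i) (s i)
      exact ⟨n, mi, h⟩
    choose n m₀ hn using h1
    set N := Finset.univ.sup n with hNdef
    have hN : ∀ i, n i ≤ N := fun i => Finset.le_sup (Finset.mem_univ i)
    obtain ⟨m₁, hm₁⟩ : ∃ m₁ : ι → M, ∀ i, f i ^ N • s i = g i (m₁ i) := by
      refine ⟨fun i => f i ^ (N - n i) • m₀ i, fun i => ?_⟩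
      simp only [map_smul, ← hn i, smul_smul, ← pow_add]
      congr 2
      have := hN i
      omega
    have h2 : ∀ i j, ∃ k : ℕ, (f i * f j) ^ k • (f j ^ N • m₁ i) =
        (f i * f j) ^ k • (f i ^ N • m₁ j) := by
      intro i j
      have : gij i j (f j ^ N • m₁ i) = gij i j (f i ^ N • m₁ j) := by
        rw [map_smul, map_smul, ← hρ₁' i j (m₁ i), ← hρ₂' i j (m₁ j), ← hm₁ i, ← hm₁ j, map_smul,
          map_smul, hs i j, smul_comm]
      obtain ⟨⟨_, k, rfl⟩, hk⟩ :=
        IsLocalizedModule.exists_of_eq (S := Submonoid.powers (f i * f j)) this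
      exact ⟨k, hk⟩
    choose k hk using h2
    set K := Finset.univ.sup (fun i => Finset.univ.sup (k i)) with hKdef
    have hK : ∀ i j, k i j ≤ K := fun i j =>
      (Finset.le_sup (f := k i) (Finset.mem_univ j)).trans
        (Finset.le_sup (f := fun i => Finset.univ.sup (k i)) (Finset.mem_univ i))
    have hk' : ∀ i j, (f i * f j) ^ K • (f j ^ N • m₁ i) = (f i * f j) ^ K • (f i ^ N • m₁ j) := by
      intro i j
      have h := congrArg (fun z => (f i * f j) ^ (K - k i j) • z) (hk i j)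
      have e : K = K - k i j + k i j := by have := hK i j; omega
      rw [e, pow_add, mul_smul, mul_smul]
      exact h
    have hspan : Ideal.span (Set.range fun i => f i ^ (N + K)) = ⊤ := by
      have := Ideal.span_pow_eq_top (Set.range f) hf (N + K)
      rwa [← Set.range_comp] at this
    obtain ⟨a, ha⟩ := (Ideal.mem_span_range_iff_exists_fun (R := R)).mp
      (by rw [hspan]; exact Submodule.mem_top : (1 : R) ∈ Ideal.span (Set.range fun i => f i ^ (N + K)))
    refine ⟨∑ i, (a i * f i ^ K) • m₁ i, fun j => ?_⟩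
    have key : f j ^ (N + K) • (∑ i, (a i * f i ^ K) • m₁ i) = f j ^ K • m₁ j := by
      rw [Finset.smul_sum]
      have : ∀ i, f j ^ (N + K) • (a i * f i ^ K) • m₁ i = (a i * f i ^ (N + K)) • (f j ^ K • m₁ j) := by
        intro i
        have h := congrArg (fun z => a i • z) (hk' i j)
        simp only [smul_smul] at h
        rw [smul_smul, smul_smul]
        have e1 : f j ^ (N + K) * (a i * f i ^ K) = a i * ((f i * f j) ^ K * f j ^ N) := by ring
        have e2 : a i * f i ^ (N + K) * f j ^ K = a i * ((f i * f j) ^ K * f i ^ N) := by ring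
        rw [e1, e2]
        exact h
      simp only [this]
      rw [← Finset.sum_smul, ha, one_smul]
    have h3 := congrArg (g j) key
    rw [map_smul, map_smul, ← hm₁ j, smul_smul, ← pow_add, add_comm K N] at h3
    exact (IsLocalizedModule.smul_inj (g j) (⟨f j ^ (N + K), N + K, rfl⟩ : Submonoid.powers (f j)) _ _).mp h3

end Groth.Agent.S9658
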