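import Groth.Statements.S9659
import Mathlib

set_option autoImplicit false
universe u
open CAlg

set_option linter.unusedSectionVars false

namespace Groth.Agent.S9659Aux
open DirectSum

variable {R S : Type u} [CommRing R] [CommRing S] [Algebra R S] (𝒜 : ℤ → Submodule R S)
  [GradedAlgebra 𝒜]

/-- the inverse of a homogeneous unit is homogeneous -/
theorem inv_mem (u : Sˣ) (d : ℤ) (hf : (u : S) ∈ 𝒜 d) : ((u⁻¹ : Sˣ) : S) ∈ 𝒜 (-d) := by
  classical
  set g : S := ((u⁻¹ : Sˣ) : S) with hg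
  have key : ∀ i, i ≠ -d → (decompose 𝒜 g i : S) = 0 := by
    intro i hi
    have h1 : (decompose 𝒜 ((u : S) * g) (d + i) : S) = (u : S) * decompose 𝒜 g i :=
      DirectSum.coe_decompose_mul_add_of_left_mem 𝒜 hf
    have h2 : (u : S) * g = 1 := by simp [hg]
    rw [h2, DirectSum.decompose_of_mem_ne 𝒜 (SetLike.GradedOne.one_mem)
      (by omega : (0 : ℤ) ≠ d + i)] at h1
    exact (u.isUnit.mul_right_eq_zero).mp h1.symm
  rw [← DirectSum.sum_support_decompose 𝒜 g]
  apply Submodule.sum_mem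
  intro i _
  by_cases h : i = -d
  · subst h; exact (decompose 𝒜 g _).2
  · rw [key i h]; exact zero_mem _

theorem zpow_mem (u : Sˣ) (d : ℤ) (hf : (u : S) ∈ 𝒜 d) (m : ℤ) :
    ((u ^ m : Sˣ) : S) ∈ 𝒜 (m * d) := by
  cases m with
  | ofNat k =>
    simp only [Int.ofNat_eq_natCast, zpow_natCast, Units.val_pow_eq_pow_val]
    have := SetLike.pow_mem_graded k hf
    rwa [nsmul_eq_mul] at this
  | negSucc k =>
    rw [zpow_negSucc, ← inv_pow, Units.val_pow_eq_pow_val]
    have := SetLike.pow_mem_graded (k + 1) (inv_mem 𝒜 u d hf)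
    convert this using 2
    rw [Int.negSucc_eq, nsmul_eq_mul]
    push_cast
    ring

theorem T_mem (u : Sˣ) (D : ℕ) (hf : (u : S) ∈ 𝒜 (D : ℤ)) {x : S} {i : ℤ} (hx : x ∈ 𝒜 i) :
    x ^ D * ((u ^ (-i) : Sˣ) : S) ∈ 𝒜 0 := by
  have h1 := SetLike.pow_mem_graded D hx
  have h2 := zpow_mem 𝒜 u D hf (-i)
  have := SetLike.mul_mem_graded h1 h2
  convert this using 2
  rw [nsmul_eq_mul]
  ring

omit [GradedAlgebra 𝒜] in
theorem mem_iff_T (p : Ideal S) [hp : p.IsPrime] (u : Sˣ) (D : ℕ) (hD : 0 < D) (x : S) (i : ℤ) :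
    x ^ D * ((u ^ (-i) : Sˣ) : S) ∈ p ↔ x ∈ p := by
  rw [Ideal.mul_unit_mem_iff_mem p (Units.isUnit _)]
  exact hp.pow_mem_iff_mem D hD

theorem ideal_eq_of_comap_eq (u : Sˣ) (D : ℕ) (hD : 0 < D) (hf : (u : S) ∈ 𝒜 (D : ℤ))
    (p q : Ideal S) [p.IsPrime] [q.IsPrime] (hp : p.IsHomogeneous 𝒜) (hq : q.IsHomogeneous 𝒜)
    (h : Ideal.comap (SetLike.GradeZero.subring 𝒜).subtype p
      = Ideal.comap (SetLike.GradeZero.subring 𝒜).subtype q) : p = q := by
  have key : ∀ (x : S) (i : ℤ), x ∈ 𝒜 i → (x ∈ p ↔ x ∈ q) := by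
    intro x i hx
    rw [← mem_iff_T p u D hD x i, ← mem_iff_T q u D hD x i]
    have hm := T_mem 𝒜 u D hf hx
    have := Ideal.ext_iff.mp h ⟨_, hm⟩
    simpa [Ideal.mem_comap] using this
  ext x
  rw [hp.mem_iff, hq.mem_iff]
  exact forall_congr' fun i => key _ i (decompose 𝒜 x i).2

theorem map_comap_aux (q : Ideal (SetLike.GradeZero.subring 𝒜)) (x : S)
    (hx : x ∈ Ideal.map (SetLike.GradeZero.subring 𝒜).subtype q) :
    ∀ s : S, ∃ y ∈ q, (y : S) = decompose 𝒜 (s * x) 0 := by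
  rw [Ideal.map] at hx
  induction hx using Submodule.span_induction with
  | mem x hx =>
    obtain ⟨a, ha, rfl⟩ := hx
    intro s
    refine ⟨a * ⟨decompose 𝒜 s 0, (decompose 𝒜 s 0).2⟩, q.mul_mem_right _ ha, ?_⟩
    rw [mul_comm s]
    exact (DirectSum.coe_decompose_mul_of_left_mem_zero 𝒜 a.2).symm
  | zero => intro s; exact ⟨0, q.zero_mem, by simp⟩
  | add x y _ _ hx hy =>
    intro s
    obtain ⟨a, ha, ha'⟩ := hx s
    obtain ⟨b, hb, hb'⟩ := hy s
    exact ⟨a + b, q.add_mem ha hb, by simp [mul_add, decompose_add, ha', hb']⟩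
  | smul t x _ hx =>
    intro s
    obtain ⟨a, ha, ha'⟩ := hx (s * t)
    exact ⟨a, ha, by rw [ha', smul_eq_mul, mul_assoc]⟩

theorem mem_of_mem_map (q : Ideal (SetLike.GradeZero.subring 𝒜))
    (x : SetLike.GradeZero.subring 𝒜)
    (hx : (x : S) ∈ Ideal.map (SetLike.GradeZero.subring 𝒜).subtype q) : x ∈ q := by
  obtain ⟨y, hy, hy'⟩ := map_comap_aux 𝒜 q _ hx 1
  rw [one_mul, DirectSum.decompose_of_mem_same 𝒜 x.2] at hy'
  have : y = x := Subtype.ext hy'
  rwa [← this]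

theorem exists_prime (u : Sˣ) (D : ℕ) (hD : 0 < D) (hf : (u : S) ∈ 𝒜 (D : ℤ))
    (q : Ideal (SetLike.GradeZero.subring 𝒜)) [hq : q.IsPrime] :
    ∃ P : Ideal S, P.IsPrime ∧ P.IsHomogeneous 𝒜 ∧
      Ideal.comap (SetLike.GradeZero.subring 𝒜).subtype P = q := by
  set J := Ideal.map (SetLike.GradeZero.subring 𝒜).subtype q with hJ
  have hJhom : J.IsHomogeneous 𝒜 := by
    rw [hJ, Ideal.map]
    apply Ideal.homogeneous_span
    rintro _ ⟨a, _, rfl⟩
    exact ⟨0, a.2⟩
  set P := J.radical with hP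
  have hPhom : P.IsHomogeneous 𝒜 := hJhom.radical
  have hcomap : Ideal.comap (SetLike.GradeZero.subring 𝒜).subtype P = q := by
    ext x
    rw [Ideal.mem_comap]
    constructor
    · rintro ⟨m, hm⟩
      have : x ^ m ∈ q := by
        apply mem_of_mem_map 𝒜 q
        simpa using hm
      exact hq.mem_of_pow_mem m this
    · intro hx
      exact Ideal.le_radical (Ideal.mem_map_of_mem _ hx)
  have hPtop : P ≠ ⊤ := by
    intro h
    have : (1 : SetLike.GradeZero.subring 𝒜) ∈ q := by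
      rw [← hcomap, Ideal.mem_comap, h]; trivial
    exact hq.ne_top ((Ideal.eq_top_iff_one _).mpr this)
  have hrad : ∀ x : S, x ^ D ∈ P → x ∈ P := fun x hx =>
    Ideal.mem_radical_of_pow_mem hx
  have hprime : P.IsPrime := by
    refine hPhom.isPrime_of_homogeneous_mem_or_mem hPtop ?_
    rintro x y ⟨m, hx⟩ ⟨n, hy⟩ hxy
    have hab : (⟨_, T_mem 𝒜 u D hf hx⟩ : SetLike.GradeZero.subring 𝒜)
        * ⟨_, T_mem 𝒜 u D hf hy⟩ ∈ q := by
      rw [← hcomap, Ideal.mem_comap]
      show (x ^ D * ((u ^ (-m) : Sˣ) : S)) * (y ^ D * ((u ^ (-n) : Sˣ) : S)) ∈ P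
      have : (x ^ D * ((u ^ (-m) : Sˣ) : S)) * (y ^ D * ((u ^ (-n) : Sˣ) : S))
          = (x * y) ^ D * (((u ^ (-m) : Sˣ) : S) * ((u ^ (-n) : Sˣ) : S)) := by ring
      rw [this]
      exact P.mul_mem_right _ (Ideal.pow_mem_of_mem P hxy D hD)
    rcases hq.mem_or_mem hab with h | h
    · left
      rw [← hcomap, Ideal.mem_comap] at h
      exact hrad x ((Ideal.mul_unit_mem_iff_mem P (Units.isUnit _)).mp h)
    · right
      rw [← hcomap, Ideal.mem_comap] at h
      exact hrad y ((Ideal.mul_unit_mem_iff_mem P (Units.isUnit _)).mp h)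
  exact ⟨P, hprime, hPhom, hcomap⟩

end Groth.Agent.S9659Aux

namespace Groth.Agent.S9659

/-- Let S be a ℤ-graded ring which contains an invertible homogeneous element of positive degree. Then
the set of homogeneous prime ideals of S, with the topology induced from Spec(S), maps
homeomorphically onto Spec(S₀) by p ↦ p ∩ S₀. -/
theorem result {R S : Type u} [CommRing R] [CommRing S] [Algebra R S] (𝒜 : ℤ → Submodule R S) [GradedAlgebra 𝒜]
    (f : S) (d : ℤ) (hd : 0 < d) (hf : f ∈ 𝒜 d) (hu : IsUnit f) :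
    IsHomeomorph (fun p : {p : PrimeSpectrum S // p.asIdeal.IsHomogeneous 𝒜} => PrimeSpectrum.comap (SetLike.GradeZero.subring 𝒜).subtype p.1) := by
  classical
  obtain ⟨D, rfl⟩ := Int.eq_ofNat_of_zero_le hd.le
  have hD : 0 < D := by exact_mod_cast hd
  obtain ⟨u, rfl⟩ := hu
  have hinj : Function.Injective (fun p : {p : PrimeSpectrum S // p.asIdeal.IsHomogeneous 𝒜} =>
      PrimeSpectrum.comap (SetLike.GradeZero.subring 𝒜).subtype p.1) := by
    intro p q h
    apply Subtype.ext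
    apply PrimeSpectrum.ext
    have := p.1.isPrime
    have := q.1.isPrime
    refine Groth.Agent.S9659Aux.ideal_eq_of_comap_eq 𝒜 u D hD hf _ _ p.2 q.2 ?_
    exact congrArg PrimeSpectrum.asIdeal h
  have hsurj : Function.Surjective (fun p : {p : PrimeSpectrum S // p.asIdeal.IsHomogeneous 𝒜} =>
      PrimeSpectrum.comap (SetLike.GradeZero.subring 𝒜).subtype p.1) := by
    intro q
    have := q.isPrime
    obtain ⟨P, hP, hPhom, hcomap⟩ := Groth.Agent.S9659Aux.exists_prime 𝒜 u D hD hf q.asIdeal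
    refine ⟨⟨⟨P, hP⟩, hPhom⟩, ?_⟩
    apply PrimeSpectrum.ext
    exact hcomap
  refine ⟨?_, ?_, ⟨hinj, hsurj⟩⟩
  · exact (PrimeSpectrum.continuous_comap _).comp continuous_subtype_val
  · rw [(isTopologicalBasis_subtype PrimeSpectrum.isTopologicalBasis_basic_opens
      (fun p : PrimeSpectrum S => p.asIdeal.IsHomogeneous 𝒜)).isOpenMap_iff]
    rintro _ ⟨_, ⟨x, rfl⟩, rfl⟩
    have hset : (fun p : {p : PrimeSpectrum S // p.asIdeal.IsHomogeneous 𝒜} =>
        PrimeSpectrum.comap (SetLike.GradeZero.subring 𝒜).subtype p.1) ''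
          (Subtype.val ⁻¹' ((PrimeSpectrum.basicOpen x : TopologicalSpace.Opens _) : Set _))
        = ⋃ i : ℤ, ((PrimeSpectrum.basicOpen (⟨_, Groth.Agent.S9659Aux.T_mem 𝒜 u D hf
            (DirectSum.decompose 𝒜 x i).2⟩ : SetLike.GradeZero.subring 𝒜) :
              TopologicalSpace.Opens _) : Set _) := by
      ext q
      simp only [Set.mem_image, Set.mem_preimage, Set.mem_iUnion, SetLike.mem_coe,
        PrimeSpectrum.mem_basicOpen]
      constructor
      · rintro ⟨p, hp, rfl⟩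
        have := p.1.isPrime
        rw [p.2.mem_iff] at hp
        push Not at hp
        obtain ⟨i, hi⟩ := hp
        refine ⟨i, ?_⟩
        intro hmem
        apply hi
        exact (Groth.Agent.S9659Aux.mem_iff_T p.1.asIdeal u D hD _ i).mp hmem
      · rintro ⟨i, hi⟩
        obtain ⟨p, rfl⟩ := hsurj q
        have := p.1.isPrime
        refine ⟨p, ?_, rfl⟩
        intro hx
        apply hi
        have := p.2.mem_iff.mp hx i
        exact (Groth.Agent.S9659Aux.mem_iff_T p.1.asIdeal u D hD _ i).mpr this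
    rw [hset]
    exact isOpen_iUnion fun i => (PrimeSpectrum.basicOpen _).2

end Groth.Agent.S9659
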