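import Groth.Statements.S9661
import Mathlib
import Groth.Agent.Lib.Helper90.GradedLocal8

set_option autoImplicit false
universe u
attribute [local instance] MvPolynomial.gradedAlgebra
open CAlg

namespace Groth.Agent.S9661

/-- Let k be a field, d ≥ 1, and I a nonzero homogeneous ideal of the standard-graded polynomial ring
k[X_1, …, X_d]; put M = k[X_1, …, X_d]/I. Then the function n ↦ dim_k M_n (equal to dim_k of the
degree-n part of the polynomial ring minus dim_k of the degree-n part of I) coincides for all large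
n with a polynomial of degree < d - 1, the zero polynomial if d = 1. -/
theorem result {k : Type u} [Field k] (d : ℕ) (hd : 0 < d)
    (I : HomogeneousIdeal (MvPolynomial.homogeneousSubmodule (Fin d) k)) (hI : I ≠ ⊥) :
    ∃ P : Polynomial ℚ, P.degree < ((d - 1 : ℕ) : WithBot ℕ) ∧ ∃ N : ℕ, ∀ n : ℕ, N ≤ n →
      ((Module.finrank k ↥(MvPolynomial.homogeneousSubmodule (Fin d) k n) : ℚ) -
        (Module.finrank k ↥(I.toIdeal.restrictScalars k ⊓ MvPolynomial.homogeneousSubmodule (Fin d) k n) : ℚ)) = P.eval (n : ℚ) := by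
  have hJ : I.toIdeal.IsHomogeneous (MvPolynomial.homogeneousSubmodule (Fin d) k) := I.isHomogeneous
  have hJ0 : I.toIdeal ≠ ⊥ := fun h =>
    hI (HomogeneousIdeal.toIdeal_injective (h.trans HomogeneousIdeal.toIdeal_bot.symm))
  by_cases hJt : I.toIdeal = ⊤
  · refine ⟨0, ?_, 0, fun n _ => ?_⟩
    · rw [Polynomial.degree_zero]
      exact WithBot.bot_lt_coe _
    · rw [Polynomial.eval_zero, hJt, Submodule.restrictScalars_top, top_inf_eq, sub_self]
  · obtain ⟨Q, hdeg, N, hN⟩ :=
      Groth.Agent.Lib.Helper90.GradedLocal.exists_hilbPoly (k := k) (σ := Fin d) hJ hJt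
    refine ⟨Q.comp (Polynomial.X + Polynomial.C 1) - Q,
      Groth.Agent.Lib.Helper90.PolyLim.degree_comp_add_sub_lt Q 1 (d - 1) ?_, N, fun n hn => ?_⟩
    · have h := Groth.Agent.Lib.Helper90.GradedLocal.ringKrullDim_quot_succ_le (k := k) hJ0
      rw [← hdeg] at h
      have h' : Q.natDegree + 1 ≤ d := by exact_mod_cast h
      omega
    · rw [hN n hn]
      simp only [Groth.Agent.Lib.Helper90.HomogSection.hilb,
        Groth.Agent.Lib.Helper90.HomogSection.part]
      push_cast
      rfl

end Groth.Agent.S9661
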