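import Mathlib
import Groth.Statements.S9663

set_option autoImplicit false
universe u
open CAlg

namespace Groth.Agent.S9663

section aux

variable {R : Type*} [CommRing R] {A B C : Type*} [AddCommGroup A] [Module R A]
  [AddCommGroup B] [Module R B] [AddCommGroup C] [Module R C]

theorem surj_pow (b : R) (g : A →ₗ[R] B) [IsLocalizedModule (Submonoid.powers b) g] (z : B) :
    ∃ (w : A) (c : ℕ), b ^ c • z = g w := by
  obtain ⟨⟨w, ⟨_, c, rfl⟩⟩, h⟩ := IsLocalizedModule.surj (Submonoid.powers b) g z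
  exact ⟨w, c, h⟩

theorem eq_zero_pow (b : R) (g : A →ₗ[R] B) [IsLocalizedModule (Submonoid.powers b) g] (w : A)
    (hw : g w = 0) : ∃ n : ℕ, b ^ n • w = 0 := by
  obtain ⟨⟨_, n, rfl⟩, h⟩ := (IsLocalizedModule.eq_zero_iff (Submonoid.powers b) g).mp hw
  exact ⟨n, h⟩

theorem smul_pow_inj (b : R) (g : A →ₗ[R] B) [IsLocalizedModule (Submonoid.powers b) g] (n : ℕ)
    (z : B) (hz : b ^ n • z = 0) : z = 0 := by
  have hu := IsLocalizedModule.map_units g (⟨b ^ n, n, rfl⟩ : Submonoid.powers b)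
  rw [Module.End.isUnit_iff] at hu
  apply hu.1
  rw [map_zero]
  exact hz

theorem ker_pow (a b : R) (g : A →ₗ[R] B) [IsLocalizedModule (Submonoid.powers b) g]
    (t : A →ₗ[R] C) [IsLocalizedModule (Submonoid.powers (a * b)) t] (v : B →ₗ[R] C)
    (hv : v ∘ₗ g = t) (z : B) (hz : v z = 0) : ∃ n : ℕ, a ^ n • z = 0 := by
  obtain ⟨w, c, hw⟩ := surj_pow b g z
  have htw : t w = 0 := by
    rw [← hv, LinearMap.comp_apply, ← hw, map_smul, hz, smul_zero]
  obtain ⟨n, hn⟩ := eq_zero_pow (a * b) t w htw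
  refine ⟨n, ?_⟩
  apply smul_pow_inj b g (n + c)
  have h1 : g ((a * b) ^ n • w) = 0 := by rw [hn, map_zero]
  rw [map_smul, ← hw, mul_pow, smul_smul] at h1
  rw [smul_smul, ← h1]
  congr 1
  ring

theorem surj_of_unit (b : R) (g : A →ₗ[R] B) [IsLocalizedModule (Submonoid.powers b) g]
    (hb : IsUnit (algebraMap R (Module.End R A) b)) : Function.Surjective g := by
  intro z
  obtain ⟨w, c, hw⟩ := surj_pow b g z
  have hu : IsUnit (algebraMap R (Module.End R A) (b ^ c)) := by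
    rw [map_pow]; exact hb.pow c
  rw [Module.End.isUnit_iff] at hu
  obtain ⟨w', hw'⟩ := hu.2 w
  refine ⟨w', ?_⟩
  have : b ^ c • (g w' - z) = 0 := by
    rw [smul_sub, hw, ← map_smul, sub_eq_zero]
    congr 1
  exact sub_eq_zero.mp (smul_pow_inj b g c _ this)

theorem inj_of_unit (b : R) (g : A →ₗ[R] B) [IsLocalizedModule (Submonoid.powers b) g]
    (hb : IsUnit (algebraMap R (Module.End R A) b)) : Function.Injective g := by
  rw [injective_iff_map_eq_zero]
  intro w hw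
  obtain ⟨n, hn⟩ := eq_zero_pow b g w hw
  have hu : IsUnit (algebraMap R (Module.End R A) (b ^ n)) := by
    rw [map_pow]; exact hb.pow n
  rw [Module.End.isUnit_iff] at hu
  apply hu.1
  rw [map_zero]
  exact hn

end aux

/-- Let R be a ring and f_i, i in a finite index set, elements of R (no condition on the ideal they
generate). Suppose given for each i an R-module M_i on which f_i acts invertibly, for each pair (i,
j) an R-linear isomorphism ψ_ij : (M_i)_{f_j} → (M_j)_{f_i}, and suppose the cocycle condition ψ_jk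
∘ ψ_ij = ψ_ik holds as maps (M_i)_{f_j f_k} → (M_k)_{f_i f_j} for all triples (i, j, k). All
localizations are given through their universal properties: (M_i)_{f_j} with its map g from M_i;
(M_i)_{f_j f_k} with its map t from M_i and the compatible maps u from (M_i)_{f_j} and v from
(M_i)_{f_k}; and the three localized isomorphisms Ψ₁ (ψ_ij on (M_i)_{f_j f_k}), Ψ₂ (ψ_jk on
(M_j)_{f_i f_k}) and Ψ₃ (ψ_ik on (M_i)_{f_j f_k}) are given as maps compatible with the ψ's. Let M ⊆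
Π_i M_i be the submodule of families (m_i) with m_i/1 = ψ_ji(m_j/1) in (M_i)_{f_j} for all i, j.
Then for each i the projection M → M_i exhibits M_i as the localization of M at f_i. -/
theorem result {R : Type u} [CommRing R] {ι : Type u} [Finite ι] (f : ι → R)
    (Mi : ι → Type u) [∀ i, AddCommGroup (Mi i)] [∀ i, Module R (Mi i)]
    (hMi : ∀ i, IsUnit (algebraMap R (Module.End R (Mi i)) (f i)))
    (Mij : ι → ι → Type u) [∀ i j, AddCommGroup (Mij i j)] [∀ i j, Module R (Mij i j)]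
    (g : ∀ i j, Mi i →ₗ[R] Mij i j) [∀ i j, IsLocalizedModule (Submonoid.powers (f j)) (g i j)]
    (ψ : ∀ i j, Mij i j ≃ₗ[R] Mij j i)
    (T : ι → ι → ι → Type u) [∀ i j k, AddCommGroup (T i j k)] [∀ i j k, Module R (T i j k)]
    (t : ∀ i j k, Mi i →ₗ[R] T i j k) [∀ i j k, IsLocalizedModule (Submonoid.powers (f j * f k)) (t i j k)]
    (u : ∀ i j k, Mij i j →ₗ[R] T i j k) (hu : ∀ i j k, u i j k ∘ₗ g i j = t i j k)
    (v : ∀ i j k, Mij i k →ₗ[R] T i j k) (hv : ∀ i j k, v i j k ∘ₗ g i k = t i j k)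
    (Ψ₁ : ∀ i j k, T i j k →ₗ[R] T j i k) (hΨ₁ : ∀ i j k, Ψ₁ i j k ∘ₗ u i j k = u j i k ∘ₗ (ψ i j).toLinearMap)
    (Ψ₂ : ∀ i j k, T j i k →ₗ[R] T k i j) (hΨ₂ : ∀ i j k, Ψ₂ i j k ∘ₗ v j i k = v k i j ∘ₗ (ψ j k).toLinearMap)
    (Ψ₃ : ∀ i j k, T i j k →ₗ[R] T k i j) (hΨ₃ : ∀ i j k, Ψ₃ i j k ∘ₗ v i j k = u k i j ∘ₗ (ψ i k).toLinearMap)
    (hcoc : ∀ i j k, Ψ₂ i j k ∘ₗ Ψ₁ i j k = Ψ₃ i j k)
    (M : Submodule R (∀ i, Mi i)) (hM : ∀ m : ∀ i, Mi i, m ∈ M ↔ ∀ i j, g i j (m i) = ψ j i (g j i (m j))) (i : ι) :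
    IsLocalizedModule (Submonoid.powers (f i)) ((LinearMap.proj i).comp M.subtype : ↥M →ₗ[R] Mi i) := by
  classical
  obtain ⟨_⟩ := nonempty_fintype ι
  have hu' : ∀ i j k z, u i j k (g i j z) = t i j k z := fun i j k z =>
    LinearMap.congr_fun (hu i j k) z
  have hv' : ∀ i j k z, v i j k (g i k z) = t i j k z := fun i j k z =>
    LinearMap.congr_fun (hv i j k) z
  have hΨ₁' : ∀ i j k z, Ψ₁ i j k (u i j k z) = u j i k (ψ i j z) := fun i j k z =>
    LinearMap.congr_fun (hΨ₁ i j k) z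
  have hΨ₂' : ∀ i j k z, Ψ₂ i j k (v j i k z) = v k i j (ψ j k z) := fun i j k z =>
    LinearMap.congr_fun (hΨ₂ i j k) z
  have hΨ₃' : ∀ i j k z, Ψ₃ i j k (v i j k z) = u k i j (ψ i k z) := fun i j k z =>
    LinearMap.congr_fun (hΨ₃ i j k) z
  have hcoc' : ∀ i j k z, Ψ₂ i j k (Ψ₁ i j k z) = Ψ₃ i j k z := fun i j k z =>
    LinearMap.congr_fun (hcoc i j k) z
  refine ⟨?_, ?_, ?_⟩
  · rintro ⟨_, n, rfl⟩
    rw [map_pow]
    exact (hMi i).pow n
  · intro x'
    obtain ⟨z, hz⟩ := (ψ i i).surjective (g i i x')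
    obtain ⟨x, rfl⟩ := surj_of_unit (f i) (g i i) (hMi i) z
    have hex : ∀ j, ∃ (y : Mi j) (n : ℕ), f i ^ n • ψ i j (g i j x) = g j i y := fun j =>
      surj_pow (f i) (g j i) _
    choose y Nn hy using hex
    let N := Finset.univ.sup Nn
    let m : ∀ j, Mi j := fun j => f i ^ (N - Nn j) • y j
    have hm : ∀ j, g j i (m j) = f i ^ N • ψ i j (g i j x) := by
      intro j
      have hle : Nn j ≤ N := Finset.le_sup (f := Nn) (Finset.mem_univ j)
      simp only [m]
      rw [map_smul, ← hy, smul_smul, ← pow_add, Nat.sub_add_cancel hle]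
    have hcomp : ∀ j k, v j i k (g j k (m j) - ψ k j (g k j (m k))) = 0 := by
      intro j k
      rw [map_sub, sub_eq_zero]
      have e1 : v j i k (g j k (m j)) = f i ^ N • u j i k (ψ i j (g i j x)) := by
        rw [hv', ← hu', hm, map_smul]
      have e2 : v j i k (ψ k j (g k j (m k))) = f i ^ N • u j i k (ψ i j (g i j x)) := by
        rw [← hΨ₂' i k j, hv' k i j, ← hu' k i j, hm, map_smul, map_smul, ← hΨ₁' i k j,
          hcoc' i k j, hu' i k j, ← hv' i k j, hΨ₃' i k j]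
      rw [e1, e2]
    have hex2 : ∀ p : ι × ι, ∃ n : ℕ,
        f i ^ n • (g p.1 p.2 (m p.1) - ψ p.2 p.1 (g p.2 p.1 (m p.2))) = 0 := fun p =>
      ker_pow (f i) (f p.2) (g p.1 p.2) (t p.1 i p.2) (v p.1 i p.2) (hv p.1 i p.2) _
        (hcomp p.1 p.2)
    choose nn hnn using hex2
    let n := Finset.univ.sup nn
    let m' : ∀ j, Mi j := fun j => f i ^ n • m j
    have hm' : m' ∈ M := by
      rw [hM]
      intro j k
      have hle : nn (j, k) ≤ n := Finset.le_sup (f := nn) (Finset.mem_univ (j, k))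
      have h0 := hnn (j, k)
      simp only at h0
      have h1 : f i ^ n • (g j k (m j) - ψ k j (g k j (m k))) = 0 := by
        rw [← Nat.sub_add_cancel hle, pow_add, mul_smul, h0, smul_zero]
      have e1 : g j k (f i ^ n • m j) = f i ^ n • g j k (m j) := map_smul _ _ _
      have e2 : ψ k j (g k j (f i ^ n • m k)) = f i ^ n • ψ k j (g k j (m k)) :=
        (congrArg (ψ k j) (map_smul (g k j) _ _)).trans (map_smul (ψ k j) _ _)
      change g j k (f i ^ n • m j) = ψ k j (g k j (f i ^ n • m k))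
      rw [e1, e2, ← sub_eq_zero, ← smul_sub]
      exact h1
    have hmi : m i = f i ^ N • x' := by
      apply inj_of_unit (f i) (g i i) (hMi i)
      rw [hm, hz, map_smul]
    refine ⟨(⟨m', hm'⟩, ⟨f i ^ (n + N), n + N, rfl⟩), ?_⟩
    change f i ^ (n + N) • x' = m' i
    simp only [m']
    rw [hmi, smul_smul, pow_add]
  · intro m₁ m₂ h
    have h' : (m₁ : ∀ j, Mi j) i = (m₂ : ∀ j, Mi j) i := h
    have hm₁ := (hM _).mp m₁.2
    have hm₂ := (hM _).mp m₂.2
    have hex : ∀ j, ∃ n : ℕ, f i ^ n • ((m₁ : ∀ j, Mi j) j - (m₂ : ∀ j, Mi j) j) = 0 := by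
      intro j
      apply eq_zero_pow (f i) (g j i)
      rw [map_sub, hm₁ j i, hm₂ j i, h', sub_self]
    choose nn hnn using hex
    refine ⟨⟨f i ^ Finset.univ.sup nn, _, rfl⟩, ?_⟩
    apply Subtype.ext
    funext j
    have hle : nn j ≤ Finset.univ.sup nn := Finset.le_sup (f := nn) (Finset.mem_univ j)
    have h1 : f i ^ Finset.univ.sup nn • ((m₁ : ∀ j, Mi j) j - (m₂ : ∀ j, Mi j) j) = 0 := by
      rw [← Nat.sub_add_cancel hle, pow_add, mul_smul, hnn, smul_zero]
    rw [smul_sub, sub_eq_zero] at h1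
    exact h1

end Groth.Agent.S9663
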