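import Groth.Statements.S9671
import Groth.Agent.Lib.Helper5.GradedQuotient
import Mathlib.RingTheory.MvPolynomial.Homogeneous

set_option autoImplicit false
universe u
open CAlg

namespace Groth.Agent.S9671

section Helpers

open MvPolynomial

attribute [local instance] MvPolynomial.gradedAlgebra

variable {R R' : Type u} [CommRing R] [CommRing R'] [Algebra R R'] {n : ℕ}
  (π : MvPolynomial (Fin n) R →ₐ[R] R')

noncomputable def dehom : MvPolynomial (Option (Fin n)) R →ₐ[R] R' :=
  aeval (fun o : Option (Fin n) => Option.elim o (1 : R') (fun i => π (X i)))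

theorem dehom_none : dehom π (X none) = 1 := by
  rw [dehom, aeval_X]
  rfl

theorem dehom_some (i : Fin n) : dehom π (X (some i)) = π (X i) := by
  rw [dehom, aeval_X]
  rfl

noncomputable def Jh : Ideal (MvPolynomial (Option (Fin n)) R) :=
  Ideal.span {G | ∃ d : ℕ, 1 ≤ d ∧ G ∈ homogeneousSubmodule (Option (Fin n)) R d ∧ dehom π G = 0}

theorem Jh_homogeneous :
    (Jh π).IsHomogeneous (homogeneousSubmodule (Option (Fin n)) R) :=
  Ideal.homogeneous_span _ _ (fun _ ⟨d, _, hx, _⟩ => ⟨d, hx⟩)

theorem Jh_le_ker_dehom : Jh π ≤ RingHom.ker (dehom π).toRingHom := by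
  rw [Jh, Ideal.span_le]
  rintro G ⟨d, _, _, hG⟩
  exact hG

theorem Jh_le_ker_const : Jh π ≤ RingHom.ker (constantCoeff (R := R) (σ := Option (Fin n))) := by
  rw [Jh, Ideal.span_le]
  rintro G ⟨d, hd, hG, _⟩
  rw [SetLike.mem_coe, RingHom.mem_ker, constantCoeff_eq]
  rw [mem_homogeneousSubmodule] at hG
  apply hG.coeff_eq_zero
  rw [map_zero]
  omega

theorem mem_Jh_of {G : MvPolynomial (Option (Fin n)) R} {d : ℕ} (hd : 1 ≤ d)
    (hG : G ∈ homogeneousSubmodule (Option (Fin n)) R d) (h0 : dehom π G = 0) : G ∈ Jh π :=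
  Ideal.subset_span ⟨d, hd, hG, h0⟩

abbrev SS : Type u := MvPolynomial (Option (Fin n)) R ⧸ Jh π

noncomputable abbrev gr : ℕ → Submodule R (SS π) :=
  Lib.Helper5.quotGrading (homogeneousSubmodule (Option (Fin n)) R) (Jh π)

noncomputable instance grAlg : GradedAlgebra (gr π) :=
  Lib.Helper5.quotGradedAlgebra (homogeneousSubmodule (Option (Fin n)) R) (Jh_homogeneous π)

noncomputable def ff : SS π := Ideal.Quotient.mk (Jh π) (X none)

theorem ff_mem : ff π ∈ gr π 1 :=
  Lib.Helper5.mk_mem_quotGrading _ _ (isHomogeneous_X R none)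

noncomputable def dehomS : SS π →ₐ[R] R' :=
  Ideal.Quotient.liftₐ (Jh π) (dehom π) (fun _ ha => RingHom.mem_ker.mp (Jh_le_ker_dehom π ha))

theorem dehomS_mk (G : MvPolynomial (Option (Fin n)) R) :
    dehomS π (Ideal.Quotient.mk (Jh π) G) = dehom π G := rfl

theorem dehomS_ff : dehomS π (ff π) = 1 := by
  rw [ff, dehomS_mk, dehom_none]

noncomputable def constS : SS π →+* R :=
  Ideal.Quotient.lift (Jh π) constantCoeff (fun _ ha => RingHom.mem_ker.mp (Jh_le_ker_const π ha))

theorem constS_algebraMap (r : R) : constS π (algebraMap R (SS π) r) = r := by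
  change constS π (Ideal.Quotient.mk (Jh π) (C r)) = r
  rw [constS, Ideal.Quotient.lift_mk, constantCoeff_C]

theorem algebraMap_injective : Function.Injective (algebraMap R (SS π)) :=
  Function.LeftInverse.injective (constS_algebraMap π)

theorem gr_zero_le (x : SS π) (hx : x ∈ gr π 0) : x ∈ Set.range (algebraMap R (SS π)) := by
  obtain ⟨G, hG, rfl⟩ := Lib.Helper5.exists_of_mem_quotGrading _ _ hx
  rw [homogeneousSubmodule_zero, Submodule.mem_one] at hG
  obtain ⟨r, rfl⟩ := hG
  exact ⟨r, rfl⟩

noncomputable def Phi : Localization.Away (ff π) →+* R' :=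
  IsLocalization.Away.lift (ff π) (g := (dehomS π).toRingHom) (by
    change IsUnit (dehomS π (ff π))
    rw [dehomS_ff]
    exact isUnit_one)

theorem Phi_mk (a : SS π) (d : ℕ) :
    Phi π (Localization.mk a (⟨ff π ^ d, d, rfl⟩ : Submonoid.powers (ff π))) = dehomS π a := by
  have h1 : Localization.mk a (⟨ff π ^ d, d, rfl⟩ : Submonoid.powers (ff π)) *
      algebraMap (SS π) _ (ff π ^ d) = algebraMap (SS π) (Localization.Away (ff π)) a := by
    rw [Localization.mk_eq_mk']
    exact IsLocalization.mk'_spec _ a (⟨ff π ^ d, d, rfl⟩ : Submonoid.powers (ff π))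
  have h2 := congrArg (Phi π) h1
  rw [map_mul, Phi, IsLocalization.Away.lift_eq, IsLocalization.Away.lift_eq] at h2
  change _ * dehomS π (ff π ^ d) = dehomS π a at h2
  rw [map_pow, dehomS_ff, one_pow, mul_one] at h2
  exact h2

noncomputable def e0 : HomogeneousLocalization.Away (gr π) (ff π) →+* R' :=
  (Phi π).comp (algebraMap (HomogeneousLocalization.Away (gr π) (ff π))
    (Localization.Away (ff π)))

theorem e0_mk (d : ℕ) (a : SS π) (ha : a ∈ gr π (d • 1)) :
    e0 π (HomogeneousLocalization.Away.mk (gr π) (ff_mem π) d a ha) = dehomS π a := by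
  change Phi π (HomogeneousLocalization.Away.mk (gr π) (ff_mem π) d a ha).val = _
  rw [HomogeneousLocalization.Away.val_mk]
  exact Phi_mk π a d

theorem e0_injective : Function.Injective (e0 π) := by
  rw [injective_iff_map_eq_zero]
  intro z hz
  obtain ⟨d, a, ha, rfl⟩ := HomogeneousLocalization.Away.mk_surjective (gr π) (ff_mem π) z
  rw [e0_mk] at hz
  obtain ⟨G, hG, rfl⟩ := Lib.Helper5.exists_of_mem_quotGrading _ _ ha
  rw [dehomS_mk] at hz
  have hGX : G * X none ∈ Jh π := by
    refine mem_Jh_of π (d := d • 1 + 1) (by omega) ?_ ?_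
    · rw [mem_homogeneousSubmodule] at hG ⊢
      exact hG.mul (isHomogeneous_X R none)
    · rw [map_mul, hz, zero_mul]
  have h0 : Ideal.Quotient.mk (Jh π) G * ff π = 0 := by
    rw [ff, ← map_mul, Ideal.Quotient.eq_zero_iff_mem]
    exact hGX
  apply HomogeneousLocalization.val_injective
  rw [HomogeneousLocalization.Away.val_mk, HomogeneousLocalization.val_zero,
    Localization.mk_eq_mk', IsLocalization.mk'_eq_zero_iff]
  refine ⟨⟨ff π, 1, pow_one _⟩, ?_⟩
  rw [mul_comm]
  exact h0

theorem e0_range (hπ : Function.Surjective π) : Function.Surjective (e0 π) := by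
  intro r'
  obtain ⟨p, rfl⟩ := hπ r'
  induction p using MvPolynomial.induction_on with
  | C r =>
    refine ⟨HomogeneousLocalization.Away.mk (gr π) (ff_mem π) 0
      (Ideal.Quotient.mk (Jh π) (C r)) ?_, ?_⟩
    · rw [zero_smul]
      exact Lib.Helper5.mk_mem_quotGrading _ _ (isHomogeneous_C _ r)
    · rw [e0_mk, dehomS_mk, dehom, aeval_C, ← MvPolynomial.algebraMap_eq, AlgHom.commutes]
  | add p q hp hq =>
    obtain ⟨zp, hzp⟩ := hp
    obtain ⟨zq, hzq⟩ := hq
    exact ⟨zp + zq, by rw [map_add, map_add, hzp, hzq]⟩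
  | mul_X p i hp =>
    obtain ⟨zp, hzp⟩ := hp
    refine ⟨zp * HomogeneousLocalization.Away.mk (gr π) (ff_mem π) 1
      (Ideal.Quotient.mk (Jh π) (X (some i))) ?_, ?_⟩
    · rw [one_smul]
      exact Lib.Helper5.mk_mem_quotGrading _ _ (isHomogeneous_X R (some i))
    · rw [map_mul, map_mul, hzp, e0_mk, dehomS_mk, dehom_some]

open Classical in
theorem adjoin_top :
    Algebra.adjoin R ((Finset.univ.image
      (fun o : Option (Fin n) => Ideal.Quotient.mk (Jh π) (X o)) : Finset (SS π)) : Set (SS π)) = ⊤ := by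
  classical
  have h1 : ((Finset.univ.image
      (fun o : Option (Fin n) => Ideal.Quotient.mk (Jh π) (X o)) : Finset (SS π)) : Set (SS π)) =
      (Ideal.Quotient.mkₐ R (Jh π)) '' (Set.range (X : Option (Fin n) → _)) := by
    ext z
    simp only [Finset.coe_image, Finset.coe_univ, Set.image_univ, Set.mem_range, Set.mem_image,
      exists_exists_eq_and]
    rfl
  rw [h1, ← AlgHom.map_adjoin, MvPolynomial.adjoin_range_X, Algebra.map_top,
    AlgHom.range_eq_top]
  exact Ideal.Quotient.mkₐ_surjective R (Jh π)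

open Classical in
theorem main (hπ : Function.Surjective π) :
    ∃ (s : Finset (SS π)) (e : HomogeneousLocalization.Away (gr π) (ff π) ≃+* R'),
      Function.Injective (algebraMap R (SS π)) ∧
      (∀ x ∈ gr π 0, x ∈ Set.range (algebraMap R (SS π))) ∧
      (↑s ⊆ (gr π 1 : Set (SS π))) ∧ Algebra.adjoin R (s : Set (SS π)) = ⊤ ∧
      ∀ r : R, (e.symm (algebraMap R R' r)).val =
        algebraMap (SS π) (Localization.Away (ff π)) (algebraMap R (SS π) r) := by
  let e : HomogeneousLocalization.Away (gr π) (ff π) ≃+* R' :=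
    RingEquiv.ofBijective (e0 π) ⟨e0_injective π, e0_range π hπ⟩
  refine ⟨Finset.univ.image (fun o : Option (Fin n) => Ideal.Quotient.mk (Jh π) (X o)), e,
    algebraMap_injective π, gr_zero_le π, ?_, adjoin_top π, ?_⟩
  · intro z hz
    rw [Finset.coe_image] at hz
    obtain ⟨o, _, rfl⟩ := hz
    exact Lib.Helper5.mk_mem_quotGrading _ _ (isHomogeneous_X R o)
  · intro r
    have hmem : algebraMap R (SS π) r ∈ gr π (0 • 1) := by
      rw [zero_smul]
      exact Lib.Helper5.mk_mem_quotGrading _ _ (isHomogeneous_C _ r)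
    have h1 : e (HomogeneousLocalization.Away.mk (gr π) (ff_mem π) 0
        (algebraMap R (SS π) r) hmem) = algebraMap R R' r := by
      change e0 π _ = _
      rw [e0_mk, AlgHom.commutes]
    rw [← h1, RingEquiv.symm_apply_apply, HomogeneousLocalization.Away.val_mk]
    rw [Localization.mk_eq_mk']
    simp only [pow_zero]
    exact IsLocalization.mk'_one _ _

end Helpers

/-- Let R be a ring and R' an R-algebra of finite type. Then there are an ℕ-graded R-algebra S such that
R → S₀ is bijective and S is generated as an R-algebra by a finite set of degree-1 elements, an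
element f ∈ S₁, and a ring isomorphism e between the degree-zero part S_(f) of the localization S_f
and R' which matches r/1 with the image of r in R' for every r ∈ R (so R' is identified with S_(f)
as an R-algebra). The published statement also produces, from a finite R'-module, a finite graded
S-module whose degree-zero localization at f recovers it; that half is not part of this row. -/
theorem result (R R' : Type u) [CommRing R] [CommRing R'] [Algebra R R'] [Algebra.FiniteType R R'] :
    ∃ (S : Type u) (_ : CommRing S) (_ : Algebra R S) (𝒜 : ℕ → Submodule R S) (_ : GradedAlgebra 𝒜) (f : S) (_ : f ∈ 𝒜 1) (s : Finset S)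
      (e : HomogeneousLocalization.Away 𝒜 f ≃+* R'),
      Function.Injective (algebraMap R S) ∧ (∀ x ∈ 𝒜 0, x ∈ Set.range (algebraMap R S)) ∧
      (↑s ⊆ (𝒜 1 : Set S)) ∧ Algebra.adjoin R (s : Set S) = ⊤ ∧
      ∀ r : R, (e.symm (algebraMap R R' r)).val = algebraMap S (Localization.Away f) (algebraMap R S r) := by
  obtain ⟨n, π, hπ⟩ := Algebra.FiniteType.iff_quotient_mvPolynomial''.mp
    (inferInstance : Algebra.FiniteType R R')
  exact ⟨SS π, inferInstance, inferInstance, gr π, grAlg π, ff π, ff_mem π, main π hπ⟩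

end Groth.Agent.S9671
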