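import Groth.Statements.S9673
import Groth.Agent.Lib.Helper20.NormComp
import Groth.Agent.S9672

set_option autoImplicit false
universe u
open CategoryTheory CategoryTheory.Limits AlgebraicGeometry
open Mor

namespace Groth.Agent.S9673

open Groth.Agent.Lib.Helper20.NormComp

/-- Let f : Y ⟶ X be quasi-compact and quasi-separated, with Y normal and the irreducible components of
Y locally finite (equivalently, each quasi-compact open subset of Y meets only finitely many of
them). Let X' be the normalization of X in Y and f' : Y ⟶ X' the canonical morphism. Then X' is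
normal with locally finitely many irreducible components (hence a disjoint union of normal integral
schemes), f' maps generic points of irreducible components of Y to generic points of irreducible
components of X', and over each generic point of a component of X' there lies exactly one generic
point of a component of Y. (Dominance of f' holds for every quasi-compact quasi-separated f and is
not restated.) -/
theorem result {X Y : Scheme.{u}} (f : Y ⟶ X)
    [QuasiCompact f] [QuasiSeparated f] (hY : Pi1.IsNormalScheme Y)
    (hfin : LocallyFinite (fun Z : ↥(irreducibleComponents ↥Y) => (Z : Set ↥Y))) :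
    Pi1.IsNormalScheme f.normalization ∧
    LocallyFinite (fun Z : ↥(irreducibleComponents ↥f.normalization) => (Z : Set ↥f.normalization)) ∧
    (∀ y : Y, closure {y} ∈ irreducibleComponents ↥Y →
      closure {f.toNormalization.base y} ∈ irreducibleComponents ↥f.normalization) ∧
    (∀ x' : ↥f.normalization, closure {x'} ∈ irreducibleComponents ↥f.normalization →
      ∃! y : Y, closure {y} ∈ irreducibleComponents ↥Y ∧ f.toNormalization.base y = x') := by
  -- the piece of a component is an irreducible component of the normalization
  have F4 : ∀ R : Set f.normalization, IsOpen R → IsClosed R → IsIrreducible R →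
      R ∈ irreducibleComponents f.normalization := by
    intro R hRo hRc hRi
    refine ⟨hRi, fun T hT hRT t htT => ?_⟩
    by_contra htR
    obtain ⟨r, hrR⟩ := hRi.1
    obtain ⟨w, -, hw1, hw2⟩ := hT.2 R Rᶜ hRo hRc.isOpen_compl ⟨r, hRT hrR, hrR⟩ ⟨t, htT, htR⟩
    exact hw2 hw1
  -- the closure of the image of the generic point of a component is its piece
  have F5 : ∀ y : Y, closure {y} ∈ irreducibleComponents ↥Y →
      ∃ R : Set f.normalization, IsOpen R ∧ IsClosed R ∧ IsIrreducible R ∧
      (∀ y', f.toNormalization y' ∈ R → y' ∈ closure {y}) ∧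
      closure {f.toNormalization y} = R ∧
      (∀ x' ∈ R, IsDomain (f.normalization.presheaf.stalk x') ∧
        IsIntegrallyClosed (f.normalization.presheaf.stalk x')) := by
    intro y hy
    obtain ⟨R, hRo, hRc, hRi, h1, h2, h3, h4⟩ := exists_component_piece f hY hfin _ hy
    refine ⟨R, hRo, hRc, hRi, fun y' hy' => by_contra fun h => h2 y' h hy', ?_, h4⟩
    apply subset_antisymm
    · exact closure_minimal (Set.singleton_subset_iff.mpr (h1 y (subset_closure rfl))) hRc
    · refine h3.trans ?_
      have := image_closure_subset_closure_image (s := {y}) f.toNormalization.continuous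
      rw [Set.image_singleton] at this
      exact closure_minimal this isClosed_closure
  -- every irreducible component of the normalization comes from a component of `Y`
  have F6 : ∀ T ∈ irreducibleComponents f.normalization, ∃ y : Y,
      closure {y} ∈ irreducibleComponents ↥Y ∧ closure {f.toNormalization y} = T := by
    intro T hT
    obtain ⟨ξ, hξ⟩ := QuasiSober.sober hT.1 (isClosed_of_mem_irreducibleComponents T hT)
    have hξ' : closure {ξ} ∈ irreducibleComponents f.normalization := by rw [hξ.def]; exact hT
    obtain ⟨y, hy, hfy⟩ := Groth.Agent.S9672.result f ξ hξ'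
    exact ⟨y, hy, by rw [show f.toNormalization y = ξ from hfy]; exact hξ.def⟩
  refine ⟨?_, ?_, ?_, ?_⟩
  · -- normality
    intro x'
    obtain ⟨y, hy, hyT⟩ := F6 _ (irreducibleComponent_mem_irreducibleComponents x')
    obtain ⟨R, -, -, -, -, hR, h4⟩ := F5 y hy
    exact h4 x' (by rw [← hR, hyT]; exact mem_irreducibleComponent)
  · -- local finiteness
    intro x'
    obtain ⟨_, ⟨U, hU, rfl⟩, hxU, -⟩ := X.isBasis_affineOpens.exists_subset_of_mem_open
      (Set.mem_univ (f.fromNormalization x')) isOpen_univ
    refine ⟨(f.fromNormalization ⁻¹ᵁ U : Set _), (f.fromNormalization ⁻¹ᵁ U).2.mem_nhds hxU, ?_⟩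
    have hcomp : IsCompact ((f ⁻¹ᵁ U : Y.Opens) : Set Y) :=
      QuasiCompact.isCompact_preimage (f := f) _ U.2 hU.isCompact
    have hSY := hfin.finite_nonempty_inter_compact hcomp
    choose φy hφ1 hφ2 using F6
    let φ : irreducibleComponents f.normalization → irreducibleComponents Y :=
      fun T => ⟨closure {φy T.1 T.2}, hφ1 T.1 T.2⟩
    have hφinj : Function.Injective φ := by
      intro T₁ T₂ h
      have h' : closure {φy T₁.1 T₁.2} = closure {φy T₂.1 T₂.2} := congrArg Subtype.val h
      have hyy : φy T₁.1 T₁.2 = φy T₂.1 T₂.2 :=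
        IsGenericPoint.eq (S := closure {φy T₂.1 T₂.2}) h' rfl
      apply Subtype.ext
      rw [← hφ2 T₁.1 T₁.2, ← hφ2 T₂.1 T₂.2, hyy]
    refine (hSY.preimage hφinj.injOn).subset ?_
    rintro T ⟨w, hwT, hwU⟩
    replace hwT : w ∈ T.1 := hwT
    rw [← hφ2 T.1 T.2] at hwT
    obtain ⟨z, hz1, hz2⟩ := mem_closure_iff.mp hwT _ (f.fromNormalization ⁻¹ᵁ U).2 hwU
    rw [Set.mem_singleton_iff] at hz2
    subst hz2
    refine ⟨φy T.1 T.2, subset_closure rfl, ?_⟩
    have : (f.toNormalization ≫ f.fromNormalization) (φy T.1 T.2) ∈ U := hz1
    rwa [f.toNormalization_fromNormalization] at this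
  · -- generic points go to generic points
    intro y hy
    obtain ⟨R, hRo, hRc, hRi, -, hR, -⟩ := F5 y hy
    rw [show f.toNormalization.base y = f.toNormalization y from rfl, hR]
    exact F4 R hRo hRc hRi
  · -- uniqueness of the generic point above
    intro x' hx'
    obtain ⟨y, hy, hfy⟩ := Groth.Agent.S9672.result f x' hx'
    refine ⟨y, ⟨hy, hfy⟩, ?_⟩
    rintro y₂ ⟨hy₂, hfy₂⟩
    obtain ⟨R, -, -, -, h2, hR, -⟩ := F5 y hy
    have h1 : f.toNormalization y₂ ∈ R := by
      rw [show f.toNormalization y₂ = f.toNormalization y from hfy₂.trans hfy.symm, ← hR]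
      exact subset_closure rfl
    have h3 : y₂ ∈ closure {y} := h2 y₂ h1
    haveI := (hY y₂).1
    have h4 : closure {y₂} = closure {y} :=
      eq_of_mem_of_isDomain_stalk y₂ hy₂ hy (subset_closure rfl) h3
    exact IsGenericPoint.eq (S := closure {y}) h4 rfl

end Groth.Agent.S9673
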