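import Groth.Statements.S9676
import Groth.Agent.Lib.Helper41.NagataNorm
import Groth.Agent.Lib.Helper41.DvrIntClosed
import Groth.Agent.Lib.Helper41.StalkUnit

set_option autoImplicit false
universe u
open CategoryTheory CategoryTheory.Limits AlgebraicGeometry
open Mor

namespace Groth.Agent.S9676

/-- Let f : Y ⟶ X be of finite type with Y reduced and every affine open of X having Nagata coordinate
ring, and let X' be the normalization of X in Y. If x' is a point of X' whose local ring has
dimension 1 and over which the fibre of Y ⟶ X' is empty, then the local ring of X' at x' is a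
discrete valuation ring. (Such an f is automatically quasi-separated; the binder is carried only to
form the relative normalization.) -/
theorem result {X Y : Scheme.{u}} (f : Y ⟶ X)
    [LocallyOfFiniteType f] [QuasiCompact f] [QuasiSeparated f] [IsReduced Y]
    (hX : ∀ U : X.affineOpens, CAlg.IsNagata Γ(X, U))
    (x' : ↥f.normalization) (hdim : ringKrullDim (f.normalization.presheaf.stalk x') = 1)
    (hx' : x' ∉ Set.range f.toNormalization.base) :
    ∃ _ : IsDomain (f.normalization.presheaf.stalk x'),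
      IsDiscreteValuationRing (f.normalization.presheaf.stalk x') := by
  classical
  haveI hfin : IsFinite f.fromNormalization :=
    Groth.Agent.Lib.Helper41.NagataNorm.isFinite_fromNormalization_of_finiteType f hX
  haveI : IsLocallyNoetherian X := ⟨fun U => (hX U).1⟩
  haveI : IsLocallyNoetherian f.normalization :=
    LocallyOfFiniteType.isLocallyNoetherian f.fromNormalization
  obtain ⟨_, ⟨U : X.Opens, hU : IsAffineOpen U, rfl⟩, hxU, -⟩ :=
    X.isBasis_affineOpens.exists_subset_of_mem_open
      (Set.mem_univ (f.fromNormalization x')) isOpen_univ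
  let W₀ : f.normalization.Opens := f.fromNormalization ⁻¹ᵁ U
  have hW₀ : IsAffineOpen W₀ := hU.preimage f.fromNormalization
  have hxW : x' ∈ W₀ := hxU
  let V₀ : Y.Opens := f ⁻¹ᵁ U
  have hVW : V₀ ≤ f.toNormalization ⁻¹ᵁ W₀ := by simp [V₀, W₀, ← Scheme.Hom.comp_preimage]
  have hVc : IsCompact (V₀ : Set Y) :=
    QuasiCompact.isCompact_preimage (f := f) _ U.2 hU.isCompact
  have hVqs : IsQuasiSeparated (V₀ : Set Y) := f.isQuasiSeparated_preimage hU.isQuasiSeparated
  let τ := f.toNormalization.appLE W₀ V₀ hVW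
  letI algAB : Algebra Γ(X, U) Γ(Y, V₀) := (f.app U).hom.toAlgebra
  have hval : (f.normalizationObjIso hU).hom ≫ CommRingCat.ofHom
      (Subalgebra.val (integralClosure Γ(X, U) Γ(Y, V₀))).toRingHom = τ :=
    f.normalizationObjIso_hom_val hU
  have hτ : ∀ r, τ.hom r = (((f.normalizationObjIso hU).hom.hom r :
      integralClosure Γ(X, U) Γ(Y, V₀)) : Γ(Y, V₀)) := fun r => by rw [← hval]; rfl
  have hτinj : Function.Injective τ.hom := by
    intro r r' h
    rw [hτ, hτ] at h
    exact (ConcreteCategory.bijective_of_isIso (f.normalizationObjIso hU).hom).injective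
      (Subtype.ext h)
  have hτic : ∀ b : Γ(Y, V₀), τ.hom.IsIntegralElem b → b ∈ τ.hom.range := by
    rintro b ⟨p, hpm, hp⟩
    let ι : Γ(f.normalization, W₀) →+* integralClosure Γ(X, U) Γ(Y, V₀) :=
      (f.normalizationObjIso hU).hom.hom
    have hb : IsIntegral (integralClosure Γ(X, U) Γ(Y, V₀)) b := by
      refine ⟨p.map ι, hpm.map ι, ?_⟩
      rw [Polynomial.eval₂_map]
      have h1 : (algebraMap (integralClosure Γ(X, U) Γ(Y, V₀)) Γ(Y, V₀)).comp ι = τ.hom := by
        ext r; exact (hτ r).symm
      rw [h1]; exact hp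
    have hb2 : IsIntegral Γ(X, U) b := isIntegral_trans b hb
    refine ⟨(f.normalizationObjIso hU).inv.hom ⟨b, hb2⟩, ?_⟩
    rw [hτ]
    simp
  let S := f.normalization.presheaf.stalk x'
  let σ : Γ(f.normalization, W₀) →+* S := (f.normalization.presheaf.germ W₀ x' hxW).hom
  let M := (hW₀.primeIdealOf ⟨x', hxW⟩).asIdeal.primeCompl
  have hSloc : @IsLocalization _ _ M S _ σ.toAlgebra := hW₀.isLocalization_stalk ⟨x', hxW⟩
  let C := Localization (M.map τ.hom)
  have hunits : ∀ m : M, IsUnit ((algebraMap Γ(Y, V₀) C).comp τ.hom m) := fun m =>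
    IsLocalization.map_units C ⟨τ.hom m, Submonoid.mem_map_of_mem _ m.2⟩
  let ψ : S →+* C := @IsLocalization.lift _ _ M S _ σ.toAlgebra _ _ hSloc
    ((algebraMap _ C).comp τ.hom) hunits
  have hcomm : (algebraMap Γ(Y, V₀) C).comp τ.hom = ψ.comp σ := by
    ext r
    exact (@IsLocalization.lift_eq _ _ M S _ σ.toAlgebra _ _ hSloc _ hunits r).symm
  obtain ⟨hψinj, hψic⟩ := Groth.Agent.Lib.Helper41.injective_and_intClosed_of_isLocalization
    τ.hom σ ψ hcomm M hSloc hτinj hτic
  obtain ⟨a, ham, ha⟩ := Groth.Agent.Lib.Helper41.exists_mem_maximalIdeal_forall_prime_notMem hdim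
  have hau : IsUnit (ψ a) := Groth.Agent.Lib.Helper41.isUnit_of_notMem_range f.toNormalization x'
    hx' W₀ hW₀ hxW V₀ hVW hVc hVqs a
    (fun q hq => ha q.asIdeal q.2 (fun h => hq (PrimeSpectrum.ext h))) (algebraMap _ C) ψ hcomm
  exact Groth.Agent.Lib.Helper41.isDVR_of_integrallyClosedIn hdim ψ hψinj hψic a ham hau

end Groth.Agent.S9676
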