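import Groth.Statements.S9679
import Mathlib
import Groth.Agent.Lib.Helper93.Birat

set_option autoImplicit false
universe u
open CategoryTheory CategoryTheory.Limits AlgebraicGeometry
open Mor

namespace Groth.Agent.S9679

/-- Suppose X and Y have finitely many irreducible components and f : X ⟶ Y is birational, i.e. f
restricts to a bijection between the generic points of the irreducible components of X and those of
Y and induces an isomorphism of local rings at every generic point of an irreducible component of X.
Assume that f is quasi-compact or separated, and moreover that f is locally of finite presentation,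
or else Y is reduced and f is locally of finite type. Under these hypotheses, some dense open V ⊆ Y
has the property that the restriction f⁻¹(V) ⟶ V of f is an isomorphism. -/
theorem result {X Y : Scheme.{u}} (f : X ⟶ Y)
    (hXfin : (irreducibleComponents ↥X).Finite) (hYfin : (irreducibleComponents ↥Y).Finite)
    (hbij : Set.BijOn (fun x : X => f.base x) {x : X | closure {x} ∈ irreducibleComponents ↥X}
      {y : Y | closure {y} ∈ irreducibleComponents ↥Y})
    (hiso : ∀ x : X, closure {x} ∈ irreducibleComponents ↥X → IsIso (f.stalkMap x))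
    (hf₁ : QuasiCompact f ∨ IsSeparated f)
    (hf₂ : (LocallyOfFiniteType f ∧ IsReduced Y) ∨ LocallyOfFinitePresentation f) :
    ∃ V : Y.Opens, Dense (V : Set ↥Y) ∧ IsIso (f ∣_ V) := by
  open Groth.Agent.Lib.Helper93.Birat in
  obtain ⟨U, V, hUV, hU, hV, hiso', hgenU⟩ :=
    exists_dense_opens_isIso_resLE f hYfin hbij hiso hf₂
  rcases hf₁ with hqc | hsep
  · let ι : Type u := {y : Y // closure {y} ∈ irreducibleComponents ↥Y}
    have hloc : ∀ i : ι, ∃ V' : Y.Opens, i.1 ∈ V' ∧ V' ≤ V ∧ f ⁻¹ᵁ V' ≤ U := by
      intro i
      apply exists_nhds_preimage_le_of_quasiCompact f U V i.1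
        (generic_mem_of_dense hYfin V hV i.1 i.2)
      intro t ht
      obtain ⟨ξ, hξ, hξi⟩ := hbij.surjOn i.2
      have hξi' : f.base ξ = i.1 := hξi
      have : t = ξ := fiber_generic_eq f hbij.injOn hiso i.1 i.2 ξ hξ hξi' t
        (eq_of_specializes_of_generic i.2 ht)
      rw [this]
      exact hgenU ξ hξ
    choose V' hmem hle hpre using hloc
    refine ⟨⨆ i, V' i, ?_, ?_⟩
    · intro z
      obtain ⟨η, hη, hηz⟩ := exists_generic_specializes z
      have h1 : η ∈ ((⨆ i, V' i : Y.Opens) : Set Y) :=
        TopologicalSpace.Opens.mem_iSup.mpr ⟨⟨η, hη⟩, hmem ⟨η, hη⟩⟩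
      rw [specializes_iff_mem_closure] at hηz
      exact closure_mono (Set.singleton_subset_iff.mpr h1) hηz
    · apply isIso_morphismRestrict_of_preimage_le f U V (⨆ i, V' i) hUV (iSup_le hle)
      intro z hz
      have hz' : f.base z ∈ (⨆ i, V' i : Y.Opens) := hz
      obtain ⟨i, hi⟩ := TopologicalSpace.Opens.mem_iSup.mp hz'
      exact hpre i hi
  · refine ⟨V, hV, ?_⟩
    exact isIso_morphismRestrict_of_preimage_le f U V V hUV le_rfl
      (preimage_le_of_isSeparated f U V hUV hgenU)

end Groth.Agent.S9679
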