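import Groth.Statements.S9682
import Mathlib
import Groth.Agent.Lib.Helper93.GenFinite

set_option autoImplicit false
universe u
open CategoryTheory CategoryTheory.Limits AlgebraicGeometry
open Mor

namespace Groth.Agent.S9682

/-- Take f : X ⟶ Y locally of finite type and η the generic point of some irreducible component of Y.
Three conditions turn out to coincide: (1) each point of X mapping to η is the generic point of some
irreducible component of X; (2) f is quasi-finite at every point over η; (3) f is quasi-finite at
each point over η that is generic in some irreducible component of X. Stated as (1) iff (2) together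
with (1) iff (3). -/
theorem result {X Y : Scheme.{u}} (f : X ⟶ Y)
    [LocallyOfFiniteType f] (η : Y) (hη : closure {η} ∈ irreducibleComponents ↥Y) :
    ((∀ x : X, f.base x = η → closure {x} ∈ irreducibleComponents ↥X) ↔
      (∀ x : X, f.base x = η → f.QuasiFiniteAt x)) ∧
    ((∀ x : X, f.base x = η → closure {x} ∈ irreducibleComponents ↥X) ↔
      (∀ x : X, f.base x = η → closure {x} ∈ irreducibleComponents ↥X → f.QuasiFiniteAt x)) := by
  have h12 : (∀ x : X, f.base x = η → closure {x} ∈ irreducibleComponents ↥X) →
      (∀ x : X, f.base x = η → f.QuasiFiniteAt x) := by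
    intro H x hx
    apply Groth.Agent.Lib.Helper93.GenFinite.quasiFiniteAt_of_fiber_generic
    intro x' hx'
    exact H x' (hx'.trans hx)
  have h31 : (∀ x : X, f.base x = η → closure {x} ∈ irreducibleComponents ↥X → f.QuasiFiniteAt x) →
      (∀ x : X, f.base x = η → closure {x} ∈ irreducibleComponents ↥X) := by
    intro H x hx
    obtain ⟨ξ, hξ, hs⟩ := Groth.Agent.Lib.Helper93.Birat.exists_generic_specializes x
    have h1 : f.base ξ ⤳ f.base x := hs.map f.continuous
    rw [hx] at h1
    have h2 : f.base ξ = η := Groth.Agent.Lib.Helper93.Birat.eq_of_specializes_of_generic hη h1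
    have h3 := Groth.Agent.Lib.Helper93.GenFinite.eq_of_specializes_of_quasiFiniteAt f
      (H ξ h2 hξ) hs (hx.trans h2.symm)
    rw [h3]; exact hξ
  refine ⟨⟨h12, fun H => h31 (fun x hx _ => H x hx)⟩, ⟨fun H x hx _ => h12 H x hx, h31⟩⟩

end Groth.Agent.S9682
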