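import Groth.Statements.S9709
-- import your own Groth.Agent.* helpers here

set_option autoImplicit false
universe u
open CategoryTheory CategoryTheory.Limits AlgebraicGeometry
open Mor

namespace Groth.Agent.S9709

/-- Let f : X ⟶ S be an integral morphism. Then every point x of X is closed in its fibre: a point of
f⁻¹(f x) specialising from x equals x. -/
theorem result {X S : Scheme.{u}} (f : X ⟶ S) [IsIntegralHom f] (x : X) :
    closure {x} ∩ f.base ⁻¹' {f.base x} = {x} := by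
  apply Set.eq_of_subset_of_subset
  · rintro y ⟨hy, hfy⟩
    have hfy' : f y = f x := hfy
    have hspec : x ⤳ y := specializes_iff_mem_closure.mpr hy
    obtain ⟨_, ⟨V : S.Opens, hV : IsAffineOpen V, rfl⟩, hxV, -⟩ :=
      S.isBasis_affineOpens.exists_subset_of_mem_open (Set.mem_univ (f x)) isOpen_univ
    have hU : IsAffineOpen (f ⁻¹ᵁ V) := hV.preimage f
    have hxU : x ∈ f ⁻¹ᵁ V := hxV
    have hyU : y ∈ f ⁻¹ᵁ V := by
      change f y ∈ V
      rw [hfy']
      exact hxV
    set px := hU.primeIdealOf ⟨x, hxU⟩ with hpx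
    set py := hU.primeIdealOf ⟨y, hyU⟩ with hpy
    have hsp : px ⤳ py := by
      have h0 : (⟨x, hxU⟩ : (f ⁻¹ᵁ V : X.Opens)) ⤳ ⟨y, hyU⟩ :=
        (Topology.IsInducing.subtypeVal.specializes_iff).mp hspec
      exact h0.map hU.isoSpec.hom.continuous
    have hle : px.asIdeal ≤ py.asIdeal := (PrimeSpectrum.le_iff_specializes px py).mpr hsp
    have hcx := IsAffineOpen.comap_primeIdealOf_appLE (f := f) V hV (f ⁻¹ᵁ V) hU le_rfl hxU
    have hcy := IsAffineOpen.comap_primeIdealOf_appLE (f := f) V hV (f ⁻¹ᵁ V) hU le_rfl hyU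
    have hcomap : px.comap (f.appLE V (f ⁻¹ᵁ V) le_rfl).hom =
        py.comap (f.appLE V (f ⁻¹ᵁ V) le_rfl).hom := by
      rw [hcx, hcy]
      congr 1
      exact Subtype.ext hfy'.symm
    by_contra hne
    have hne' : px.asIdeal ≠ py.asIdeal := by
      intro h
      apply hne
      have h1 : px = py := PrimeSpectrum.ext h
      have h2 := hU.fromSpec_primeIdealOf ⟨x, hxU⟩
      have h3 := hU.fromSpec_primeIdealOf ⟨y, hyU⟩
      rw [← hpx, h1] at h2
      rw [← hpy] at h3
      simp only at h2 h3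
      rw [Set.mem_singleton_iff, ← h2, ← h3]
    have hlt : px.asIdeal < py.asIdeal := lt_of_le_of_ne hle hne'
    have hint : (f.appLE V (f ⁻¹ᵁ V) le_rfl).hom.IsIntegral := by
      rw [Scheme.Hom.appLE_eq_app]
      exact f.isIntegral_app V hV
    let _ := (f.appLE V (f ⁻¹ᵁ V) le_rfl).hom.toAlgebra
    have : Algebra.IsIntegral Γ(S, V) Γ(X, f ⁻¹ᵁ V) := ⟨hint⟩
    have hlt' := Ideal.IsIntegral.comap_lt_comap (R := Γ(S, V)) hlt
    have heq : px.asIdeal.comap (algebraMap Γ(S, V) Γ(X, f ⁻¹ᵁ V)) =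
        py.asIdeal.comap (algebraMap Γ(S, V) Γ(X, f ⁻¹ᵁ V)) :=
      congrArg PrimeSpectrum.asIdeal hcomap
    exact absurd heq (ne_of_lt hlt')
  · rintro y rfl
    exact ⟨subset_closure rfl, rfl⟩

end Groth.Agent.S9709
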