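import Groth.Statements.S9685
import Groth.Agent.Lib.Helper73.DimFormula.Closed
import Groth.Agent.S9686

set_option autoImplicit false
universe u
open CategoryTheory CategoryTheory.Limits AlgebraicGeometry
open Mor

namespace Groth.Agent.S9685

/-- Let X and Y be integral schemes with Y locally Noetherian and f : X ⟶ Y dominant and locally of
finite type. If n is the transcendence degree of the function field of X over the function field of
Y (computed on residue fields at the generic points), then dim X ≤ dim Y + n, and equality holds
when the underlying map of f is closed. -/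
theorem result {X Y : Scheme.{u}} [IsIntegral X] [IsIntegral Y]
    [IsLocallyNoetherian Y] (f : X ⟶ Y) [IsDominant f] [LocallyOfFiniteType f] (n : ℕ)
    (hn : letI := (f.residueFieldMap (genericPoint ↥X)).hom.toAlgebra
      Algebra.trdeg (Y.residueField (f.base (genericPoint ↥X))) (X.residueField (genericPoint ↥X)) = n) :
    topologicalKrullDim ↥X ≤ topologicalKrullDim ↥Y + n ∧
      (IsClosedMap f.base → topologicalKrullDim ↥X = topologicalKrullDim ↥Y + n) := by
  have hle : topologicalKrullDim ↥X ≤ topologicalKrullDim ↥Y + n := by
    refine Groth.Agent.S9686.result f n ?_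
    intro ξ hξ
    rw [irreducibleComponents_eq_singleton, Set.mem_singleton_iff] at hξ
    have h1 : IsGenericPoint ξ Set.univ := hξ
    obtain rfl : ξ = genericPoint ↥X := h1.eq (genericPoint_spec ↥X)
    exact hn.le
  refine ⟨hle, fun hclosed => le_antisymm hle ?_⟩
  have hn' : Groth.Agent.Lib.Helper73.resTrdeg f (genericPoint ↥X) = n := hn
  obtain ⟨p, hp1, hp2, hp3⟩ :=
    Groth.Agent.Lib.Helper73.exists_ltSeries_in_fiber f (genericPoint ↥X) n hn'
  have h1 : (n : ℕ∞) ≤ Order.coheight p.head := by
    rw [← hp2]; exact Order.length_le_coheight_head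
  have h2 : Order.height (f p.head) ≤ Order.height p.head :=
    Groth.Agent.Lib.Helper73.height_le_height_of_specializingMap f hclosed.specializingMap
      f.continuous p.head
  have hgen : IsGenericPoint (f (genericPoint ↥X)) (Set.univ : Set ↥Y) := by
    have h := (genericPoint_spec ↥X).image f.continuous
    rwa [Set.image_univ, f.denseRange.closure_range] at h
  have h3 : Order.krullDim ↥Y ≤ (Order.height (f p.head) : WithBot ℕ∞) := by
    rw [Order.krullDim_eq_iSup_height]
    refine iSup_le fun y => ?_
    have : y ≤ f p.head := by
      rw [hp3]; exact hgen.specializes (Set.mem_univ y)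
    exact_mod_cast Order.height_mono this
  rw [Groth.Agent.Lib.Helper73.topologicalKrullDim_eq_krullDim X,
    Groth.Agent.Lib.Helper73.topologicalKrullDim_eq_krullDim Y,
    Order.krullDim_eq_iSup_height_add_coheight_of_nonempty (α := ↥X)]
  calc Order.krullDim ↥Y + (n : WithBot ℕ∞)
      ≤ (Order.height (f p.head) : WithBot ℕ∞) + ((n : ℕ∞) : WithBot ℕ∞) := by gcongr; rfl
    _ ≤ (Order.height p.head : WithBot ℕ∞) + ((Order.coheight p.head : ℕ∞) : WithBot ℕ∞) := by
        gcongr
        · exact_mod_cast h2
        · exact_mod_cast h1
    _ = ((Order.height p.head + Order.coheight p.head : ℕ∞) : WithBot ℕ∞) := by push_cast; rfl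
    _ ≤ _ := by
        exact_mod_cast le_iSup (fun a : ↥X => Order.height a + Order.coheight a) p.head

end Groth.Agent.S9685
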