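import Groth.Statements.S9688
-- import your own Groth.Agent.* helpers here
import Mathlib.AlgebraicGeometry.Normalization
import Mathlib.AlgebraicGeometry.FunctionField
import Mathlib.AlgebraicGeometry.Morphisms.Finite
import Mathlib.RingTheory.Localization.FractionRing

set_option autoImplicit false
universe u
open CategoryTheory CategoryTheory.Limits AlgebraicGeometry
open Mor

namespace Groth.Agent.S9688

open AlgebraicGeometry.Scheme in
/-- Key finiteness: for a nonempty affine open `U` of the integral scheme `X` with N-2 coordinate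
ring, the integral closure of `Γ(X, U)` in `Γ(Spec K(X), f⁻¹U)` is a finite module. -/
theorem finite_integralClosure (X : Scheme.{u}) [IsIntegral X] (U : X.Opens) (hU : IsAffineOpen U)
    (hne : Nonempty ↥U)
    (hJ : @CAlg.IsN2 ↑Γ(X, U) _ (@IsIntegral.component_integral X _ U hne)) :
    letI := ((X.fromSpecStalk (genericPoint ↥X)).app U).hom.toAlgebra
    Module.Finite Γ(X, U)
      (integralClosure Γ(X, U) Γ(Spec (X.presheaf.stalk (genericPoint ↥X)),
        (X.fromSpecStalk (genericPoint ↥X)) ⁻¹ᵁ U)) := by
  have hη : genericPoint X ∈ U :=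
    ((genericPoint_spec X).mem_open_set_iff U.isOpen).mpr (by
      obtain ⟨⟨x, hx⟩⟩ := hne
      exact ⟨x, Set.mem_univ x, hx⟩)
  have _ : IsDomain Γ(X, U) := @IsIntegral.component_integral X _ U hne
  -- the target field with its algebra structure
  let _ : Algebra Γ(X, U) X.functionField := (X.presheaf.germ U (genericPoint X) hη).hom.toAlgebra
  have hfr : IsFractionRing Γ(X, U) X.functionField :=
    @functionField_isFractionRing_of_isAffineOpen X _ U hU hne
  have _ : FaithfulSMul Γ(X, U) X.functionField :=
    (faithfulSMul_iff_algebraMap_injective _ _).2 (IsFractionRing.injective _ _)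
  let _ : Algebra (FractionRing Γ(X, U)) X.functionField := FractionRing.liftAlgebra _ _
  have _ : IsScalarTower Γ(X, U) (FractionRing Γ(X, U)) X.functionField :=
    FractionRing.isScalarTower_liftAlgebra _ _
  have hfd : FiniteDimensional (FractionRing Γ(X, U)) X.functionField := by
    have hsurj : Function.Surjective (algebraMap (FractionRing Γ(X, U)) X.functionField) := by
      intro y
      obtain ⟨a, b, hb, rfl⟩ := IsFractionRing.div_surjective (A := Γ(X, U)) y
      refine ⟨algebraMap _ _ a / algebraMap _ _ b, ?_⟩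
      rw [map_div₀, ← IsScalarTower.algebraMap_apply, ← IsScalarTower.algebraMap_apply]
    exact Module.Finite.of_surjective (Algebra.linearMap _ _) hsurj
  have hfin : Module.Finite Γ(X, U) (integralClosure Γ(X, U) X.functionField) :=
    hJ X.functionField hfd
  -- transfer
  let _ : Algebra Γ(X, U) Γ(Spec (X.presheaf.stalk (genericPoint ↥X)),
        (X.fromSpecStalk (genericPoint ↥X)) ⁻¹ᵁ U) :=
    ((X.fromSpecStalk (genericPoint ↥X)).app U).hom.toAlgebra
  have htop : (X.fromSpecStalk (genericPoint ↥X)) ⁻¹ᵁ U = ⊤ := by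
    ext x
    simp only [TopologicalSpace.Opens.coe_top, Set.mem_univ, iff_true]
    have hx : x = IsLocalRing.closedPoint (X.presheaf.stalk (genericPoint ↥X)) :=
      Subsingleton.elim (α := PrimeSpectrum X.functionField) _ _
    show (X.fromSpecStalk (genericPoint ↥X)) x ∈ U
    rw [hx, Scheme.fromSpecStalk_closedPoint]
    exact hη
  let φ : Γ(Spec (X.presheaf.stalk (genericPoint ↥X)),
        (X.fromSpecStalk (genericPoint ↥X)) ⁻¹ᵁ U) ≅ X.presheaf.stalk (genericPoint ↥X) :=
    (Spec (X.presheaf.stalk (genericPoint ↥X))).presheaf.mapIso (eqToIso htop.symm).op ≪≫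
      Scheme.ΓSpecIso _
  have hφ : (X.fromSpecStalk (genericPoint ↥X)).app U ≫ φ.hom =
      X.presheaf.germ U (genericPoint X) hη := by
    rw [Scheme.fromSpecStalk_app hη]
    simp only [φ, Iso.trans_hom, Functor.mapIso_hom, Iso.op_hom, eqToIso.hom, Category.assoc]
    rw [← Functor.map_comp_assoc]
    have : (homOfLE le_top : (X.fromSpecStalk (genericPoint ↥X)) ⁻¹ᵁ U ⟶ ⊤).op ≫
        (eqToHom htop.symm).op = 𝟙 _ := Subsingleton.elim _ _
    rw [this]
    simp
  let e : Γ(Spec (X.presheaf.stalk (genericPoint ↥X)),
        (X.fromSpecStalk (genericPoint ↥X)) ⁻¹ᵁ U) ≃ₐ[Γ(X, U)] X.functionField :=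
    { φ.commRingCatIsoToRingEquiv with
      commutes' := fun a => by
        have := congr($(hφ).hom a)
        exact this }
  exact Module.Finite.equiv e.symm.mapIntegralClosure.toLinearEquiv

/-- Let X be an integral Japanese scheme (every nonempty affine open has Japanese, i.e. N-2, coordinate
ring). Then the normalization morphism X^ν ⟶ X is finite. (The quasi-compactness and
quasi-separatedness binders on Spec K(X) ⟶ X always hold; they are only needed to form the
normalization.) -/
theorem result (X : Scheme.{u}) [IsIntegral X] [QuasiCompact (X.fromSpecStalk (genericPoint ↥X))] [QuasiSeparated (X.fromSpecStalk (genericPoint ↥X))]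
    (hJ : ∀ (U : X.Opens), IsAffineOpen U → ∀ (hne : Nonempty ↥U),
      @CAlg.IsN2 ↑Γ(X, U) _ (@IsIntegral.component_integral X _ U hne)) :
    IsFinite (Curv2.normalizationι X) := by
  show IsFinite (X.fromSpecStalk (genericPoint ↥X)).fromNormalization
  rw [isFinite_iff]
  refine ⟨inferInstance, fun U hU => ?_⟩
  rw [Scheme.Hom.fromNormalization_app _ hU]
  let _ : Algebra Γ(X, U) Γ(Spec (X.presheaf.stalk (genericPoint ↥X)),
        (X.fromSpecStalk (genericPoint ↥X)) ⁻¹ᵁ U) :=
    ((X.fromSpecStalk (genericPoint ↥X)).app U).hom.toAlgebra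
  have hmain : Module.Finite Γ(X, U)
      (integralClosure Γ(X, U) Γ(Spec (X.presheaf.stalk (genericPoint ↥X)),
        (X.fromSpecStalk (genericPoint ↥X)) ⁻¹ᵁ U)) := by
    by_cases hne : Nonempty ↥U
    · exact finite_integralClosure X U hU hne (hJ U hU hne)
    · have hbot : U = ⊥ := by
        ext x
        simp only [TopologicalSpace.Opens.coe_bot, Set.mem_empty_iff_false, iff_false]
        exact fun hx => hne ⟨⟨x, hx⟩⟩
      subst hbot
      have : Subsingleton (integralClosure Γ(X, (⊥ : X.Opens))
          Γ(Spec (X.presheaf.stalk (genericPoint ↥X)),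
            (X.fromSpecStalk (genericPoint ↥X)) ⁻¹ᵁ (⊥ : X.Opens))) :=
        Module.subsingleton Γ(X, (⊥ : X.Opens)) _
      infer_instance
  rw [CommRingCat.hom_comp]
  refine RingHom.Finite.comp (RingHom.Finite.of_surjective _ ?_) ?_
  · exact (ConcreteCategory.bijective_of_isIso _).surjective
  · rw [CommRingCat.hom_ofHom, RingHom.finite_algebraMap]
    exact hmain

end Groth.Agent.S9688
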