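import Groth.Statements.S9692
import Mathlib
import Groth.Agent.S1616

set_option autoImplicit false
universe u
open CategoryTheory CategoryTheory.Limits AlgebraicGeometry
open Mor

namespace Groth.Agent.S9692

/-- A composition of H-projective morphisms (closed immersions into a projective space P^n over the
target, followed by the projection) is H-projective. -/
theorem result {X Y Z : Scheme.{u}} (f : X ⟶ Y) (g : Y ⟶ Z)
    (hf : RelProj.IsHProjective f) (hg : RelProj.IsHProjective g) :
    RelProj.IsHProjective (f ≫ g) := by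
  obtain ⟨n, i, hi, hif⟩ := hf
  obtain ⟨m, j, hj, hjg⟩ := hg
  have hterm : g ≫ specULiftZIsTerminal.from Z = specULiftZIsTerminal.from Y :=
    specULiftZIsTerminal.hom_ext _ _
  -- base change map `P^n_Y ⟶ P^n_Z`
  let a' : pullback (CohB1.ProjSpace.toSpec n (ULift.{u} ℤ)) (specULiftZIsTerminal.from Y) ⟶
      pullback (CohB1.ProjSpace.toSpec n (ULift.{u} ℤ)) (specULiftZIsTerminal.from Z) :=
    pullback.lift (pullback.fst _ _) (pullback.snd _ _ ≫ g)
      (by rw [pullback.condition, Category.assoc, hterm])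
  have ha1' : a' ≫ pullback.fst _ _ = pullback.fst _ _ := pullback.lift_fst _ _ _
  have ha2' : a' ≫ pullback.snd _ _ = pullback.snd _ _ ≫ g := pullback.lift_snd _ _ _
  have hpb' : IsPullback a' (pullback.snd _ _) (pullback.snd _ _) g := by
    have hright : IsPullback (pullback.fst (CohB1.ProjSpace.toSpec n (ULift.{u} ℤ))
        (specULiftZIsTerminal.from Z)) (pullback.snd _ _)
        (CohB1.ProjSpace.toSpec n (ULift.{u} ℤ)) (specULiftZIsTerminal.from Z) :=
      IsPullback.of_hasPullback _ _
    have hbig : IsPullback (pullback.fst (CohB1.ProjSpace.toSpec n (ULift.{u} ℤ))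
        (specULiftZIsTerminal.from Y)) (pullback.snd _ _)
        (CohB1.ProjSpace.toSpec n (ULift.{u} ℤ)) (g ≫ specULiftZIsTerminal.from Z) := by
      rw [hterm]
      exact IsPullback.of_hasPullback _ _
    exact IsPullback.of_right (by rw [ha1']; exact hbig) ha2' hright
  let a : CohB1.ProjSpaceOver n Y ⟶ CohB1.ProjSpaceOver n Z := a'
  have ha2 : a ≫ CohB1.ProjSpaceOver.toBase n Z = CohB1.ProjSpaceOver.toBase n Y ≫ g := ha2'
  have hpb : IsPullback a (CohB1.ProjSpaceOver.toBase n Y) (CohB1.ProjSpaceOver.toBase n Z) g :=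
    hpb'
  -- the map into the product
  let b : CohB1.ProjSpaceOver n Y ⟶
      pullback (CohB1.ProjSpaceOver.toBase n Z) (CohB1.ProjSpaceOver.toBase m Z) :=
    pullback.lift a (CohB1.ProjSpaceOver.toBase n Y ≫ j) (by rw [ha2, Category.assoc, hjg])
  have hb1 : b ≫ pullback.fst _ _ = a := pullback.lift_fst _ _ _
  have hb2 : b ≫ pullback.snd _ _ = CohB1.ProjSpaceOver.toBase n Y ≫ j := pullback.lift_snd _ _ _
  have hpb2 : IsPullback b (CohB1.ProjSpaceOver.toBase n Y)
      (pullback.snd (CohB1.ProjSpaceOver.toBase n Z) (CohB1.ProjSpaceOver.toBase m Z)) j := by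
    have hright : IsPullback (pullback.fst (CohB1.ProjSpaceOver.toBase n Z)
        (CohB1.ProjSpaceOver.toBase m Z)) (pullback.snd _ _)
        (CohB1.ProjSpaceOver.toBase n Z) (CohB1.ProjSpaceOver.toBase m Z) :=
      IsPullback.of_hasPullback _ _
    refine IsPullback.of_right ?_ hb2 hright
    rw [hb1, hjg]
    exact hpb
  have hbci : IsClosedImmersion b :=
    MorphismProperty.of_isPullback (P := @IsClosedImmersion) hpb2.flip hj
  obtain ⟨φ, hφ, hφb⟩ := Groth.Agent.S1616.result Z n m
  refine ⟨n * m + n + m, i ≫ b ≫ φ, inferInstance, ?_⟩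
  rw [Category.assoc, Category.assoc, hφb, reassoc_of% hb1, ha2, ← Category.assoc, hif]

end Groth.Agent.S9692
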