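import Groth.Statements.S9693
-- no extra imports

set_option autoImplicit false
universe u
open CategoryTheory CategoryTheory.Limits AlgebraicGeometry
open Mor

namespace Groth.Agent.S9693

/-- A base change of an H-projective morphism (a closed immersion into some P^n over the base followed
by the projection) is H-projective. -/
theorem result {X S S' : Scheme.{u}} (f : X ⟶ S) (hf : RelProj.IsHProjective f)
    (g : S' ⟶ S) : RelProj.IsHProjective (pullback.snd f g) := by
  obtain ⟨n, i, hi, hif⟩ := hf
  haveI := hi
  -- notation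
  let π := CohB1.ProjSpace.toSpec n (ULift.{u} ℤ)
  let t : S ⟶ _ := specULiftZIsTerminal.from S
  let t' : S' ⟶ _ := specULiftZIsTerminal.from S'
  have ht : g ≫ t = t' := specULiftZIsTerminal.hom_ext _ _
  -- the comparison map `P^n_{S'} ⟶ P^n_S`
  let q : CohB1.ProjSpaceOver n S' ⟶ CohB1.ProjSpaceOver n S :=
    pullback.lift (pullback.fst π t') (pullback.snd π t' ≫ g)
      (by rw [Category.assoc, ht]; exact pullback.condition)
  have hq1 : q ≫ pullback.fst π t = pullback.fst π t' := pullback.lift_fst _ _ _
  have hq2 : q ≫ CohB1.ProjSpaceOver.toBase n S = CohB1.ProjSpaceOver.toBase n S' ≫ g :=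
    pullback.lift_snd _ _ _
  -- the right square is cartesian
  have hbig : IsPullback (q ≫ pullback.fst π t) (CohB1.ProjSpaceOver.toBase n S') π (g ≫ t) := by
    rw [hq1, ht]
    exact IsPullback.of_hasPullback π t'
  have hright : IsPullback q (CohB1.ProjSpaceOver.toBase n S')
      (CohB1.ProjSpaceOver.toBase n S) g :=
    IsPullback.of_right hbig hq2 (IsPullback.of_hasPullback π t)
  -- the lifted immersion
  have hcomm : (pullback.fst f g ≫ i) ≫ CohB1.ProjSpaceOver.toBase n S = pullback.snd f g ≫ g := by
    rw [Category.assoc, hif]; exact pullback.condition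
  let i' : pullback f g ⟶ CohB1.ProjSpaceOver n S' :=
    hright.lift (pullback.fst f g ≫ i) (pullback.snd f g) hcomm
  have hi'1 : i' ≫ q = pullback.fst f g ≫ i := hright.lift_fst _ _ _
  have hi'2 : i' ≫ CohB1.ProjSpaceOver.toBase n S' = pullback.snd f g := hright.lift_snd _ _ _
  refine ⟨n, i', ?_, hi'2⟩
  -- left square is cartesian
  have hbig2 : IsPullback (i' ≫ CohB1.ProjSpaceOver.toBase n S') (pullback.fst f g) g
      (i ≫ CohB1.ProjSpaceOver.toBase n S) := by
    rw [hi'2, hif]
    exact (IsPullback.of_hasPullback f g).flip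
  have hleft : IsPullback i' (pullback.fst f g) q i :=
    IsPullback.of_right hbig2 hi'1 hright.flip
  exact MorphismProperty.of_isPullback (P := @IsClosedImmersion) hleft.flip hi

end Groth.Agent.S9693
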