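import Groth.Statements.S9694
import Groth.Agent.Lib.Lead.UCAmple
import Groth.Agent.Lib.Helper60.TensorRestrictPow

set_option autoImplicit false
universe u
open CategoryTheory CategoryTheory.Limits AlgebraicGeometry
open Mor

namespace Groth.Agent.S9694

open Groth.Agent.Lib.Lead.Inv Groth.Agent.Lib.Helper60.TensorRestrict

/-- Let f : X ⟶ S be universally closed, L an O_X-module ample relative to f and s a global section of
L, viewed as a morphism O_X ⟶ L. Then the open subscheme X_s of X where s generates L is affine over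
S: the inclusion of X_s followed by f is an affine morphism. -/
theorem result {X S : Scheme.{u}} (f : X ⟶ S) [UniversallyClosed f]
    (L : X.Modules) (hL : RelAmple.IsRelAmple f L) (s : Coh.structureModule X ⟶ L) :
    IsAffineHom ((CohB1.genLocus L s).ι ≫ f) := by
  refine ⟨fun U hU => ?_⟩
  haveI : IsAffine (↑U : Scheme.{u}) := hU
  haveI : UniversallyClosed (f ∣_ U) := IsZariskiLocalAtTarget.restrict ‹_› U
  have hamp : CohB1.IsAmple (L.restrict (f ⁻¹ᵁ U).ι) := hL.2 ⟨U, hU⟩
  have h1 := isAffineOpen_genLocus_of_universallyClosed (f ∣_ U) hamp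
    (restrictSec (f ⁻¹ᵁ U).ι L s)
  rw [genLocus_restrictSec] at h1
  have h2 := h1.image_of_isOpenImmersion (f ⁻¹ᵁ U).ι
  rw [Scheme.Hom.image_preimage_eq_opensRange_inf, Scheme.Opens.opensRange_ι] at h2
  rw [← (CohB1.genLocus L s).ι.isAffineOpen_iff_of_isOpenImmersion]
  have h3 : (CohB1.genLocus L s).ι ''ᵁ (((CohB1.genLocus L s).ι ≫ f) ⁻¹ᵁ U) =
      f ⁻¹ᵁ U ⊓ CohB1.genLocus L s := by
    have : ((CohB1.genLocus L s).ι ≫ f) ⁻¹ᵁ U = (CohB1.genLocus L s).ι ⁻¹ᵁ (f ⁻¹ᵁ U) := rfl
    rw [this, Scheme.Hom.image_preimage_eq_opensRange_inf, Scheme.Opens.opensRange_ι, inf_comm]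
  rw [h3]
  exact h2

end Groth.Agent.S9694
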