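import Groth.Statements.S9695
import Groth.Agent.Lib.Helper35.VA11

set_option autoImplicit false
universe u
open CategoryTheory CategoryTheory.Limits AlgebraicGeometry
open Mor

namespace Groth.Agent.S9695

/-- Suppose f : X ⟶ S is a morphism of finite type and L is an invertible O_X-module. Then L is
f-relatively ample exactly when S can be covered by open subsets V with the following property: for
every such V there is an integer d ≥ 1 for which the tensor power L^{⊗d}, restricted to f⁻¹(V), is
isomorphic to the pullback of O(1) under some V-immersion of f⁻¹(V) into a projective space P^n_V. -/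
theorem result {X S : Scheme.{u}} (f : X ⟶ S)
    [LocallyOfFiniteType f] [QuasiCompact f] (L : X.Modules) (hLinv : PicF.IsInvertible L) :
    RelAmple.IsRelAmple f L ↔
      ∃ (ι : Type u) (V : ι → S.Opens), (⨆ j, V j) = ⊤ ∧
        ∀ j, ∃ d : ℕ, 0 < d ∧
          RelAmple.IsRelVeryAmplePn (f ∣_ V j) ((CohB1.tensorPow L d).restrict (f ⁻¹ᵁ V j).ι) := by
  constructor
  · intro h
    refine ⟨S.affineOpens, fun j => j.1, iSup_affineOpens_eq_top S, fun j => ?_⟩
    obtain ⟨n₀, hn₀⟩ := Groth.Agent.Lib.Helper35.VA.exists_isRelVeryAmplePn_restrict f L h j.1 j.2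
    exact ⟨n₀ + 1, Nat.succ_pos _, hn₀ (n₀ + 1) (Nat.le_succ _)⟩
  · rintro ⟨ι, V, hV, h⟩
    exact Groth.Agent.Lib.Helper35.VA.isRelAmple_of_locally_veryAmplePn f L hLinv V hV h

end Groth.Agent.S9695
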