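import Groth.Statements.S9698
-- no extra imports

set_option autoImplicit false
set_option linter.style.haveILetI false
universe u
open CategoryTheory CategoryTheory.Limits AlgebraicGeometry
open Mor TopologicalSpace Opposite

namespace Groth.Agent.S9698

/-- surjectivity on sections from generation. -/
lemma surj_app {X Y S : Scheme.{u}} (i : X ⟶ Y) (p : Y ⟶ S) (π : X ⟶ S) (hπ : i ≫ p = π)
    (V : S.Opens) (W : Y.Opens) (hW : W ≤ p ⁻¹ᵁ V)
    (U : X.Opens) (hU : i ⁻¹ᵁ W = U) (hUV : U ≤ π ⁻¹ᵁ V)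
    (T : Set Γ(X, U))
    (hT : Subring.closure (Set.range (π.appLE V U hUV).hom ∪ T) = ⊤)
    (hTW : ∀ b ∈ T, ∃ c : Γ(Y, W), (i.appLE W U hU.ge).hom c = b) :
    Function.Surjective (i.app W).hom := by
  subst hπ
  subst hU
  rw [Scheme.Hom.app_eq_appLE]
  rw [← RingHom.range_eq_top, eq_top_iff, ← hT, Subring.closure_le]
  rintro b (⟨a, rfl⟩ | hb)
  · refine ⟨(p.appLE V W hW).hom a, ?_⟩
    rw [← Scheme.Hom.appLE_comp_appLE i p V W (i ⁻¹ᵁ W) hW le_rfl]
    rfl
  · exact hTW b hb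

open AffineSpace in
lemma preimage_W {X S : Scheme.{u}} {n : Type u} (π : X ⟶ S) (v : n → Γ(X, ⊤))
    (V : S.Opens) (j : n) (hle : X.basicOpen (v j) ≤ π ⁻¹ᵁ V) :
    homOfVector π v ⁻¹ᵁ ((𝔸(n; S) ↘ S) ⁻¹ᵁ V ⊓ 𝔸(n; S).basicOpen (coord S j)) =
      X.basicOpen (v j) := by
  rw [Scheme.Hom.preimage_inf, ← Scheme.Hom.comp_preimage, homOfVector_over,
    Scheme.preimage_basicOpen_top, homOfVector_appTop_coord]
  exact inf_eq_right.mpr hle

open AffineSpace in
lemma isClosedImmersion_restrict {X S : Scheme.{u}} {n : Type u} (π : X ⟶ S) (v : n → Γ(X, ⊤))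
    (V : S.Opens) (hV : IsAffineOpen V) (j : n) (hj : IsAffineOpen (X.basicOpen (v j)))
    (hle : X.basicOpen (v j) ≤ π ⁻¹ᵁ V)
    (s : Set Γ(X, X.basicOpen (v j)))
    (hs : Subring.closure (Set.range (π.appLE V _ hle).hom ∪ s) = ⊤)
    (hsv : ∀ b ∈ s, ∃ (m : ℕ) (k : n), X.presheaf.map (homOfLE le_top).op (v k) =
      (X.presheaf.map (homOfLE le_top).op (v j)) ^ m * b) :
    IsClosedImmersion
      (homOfVector π v ∣_ ((𝔸(n; S) ↘ S) ⁻¹ᵁ V ⊓ 𝔸(n; S).basicOpen (coord S j))) := by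
  set i := homOfVector π v with hi
  set p := 𝔸(n; S) ↘ S with hp
  set W := p ⁻¹ᵁ V ⊓ 𝔸(n; S).basicOpen (coord S j) with hWdef
  have hpre : i ⁻¹ᵁ W = X.basicOpen (v j) := by
    rw [hWdef, Scheme.Hom.preimage_inf, ← Scheme.Hom.comp_preimage, hi, hp, homOfVector_over,
      Scheme.preimage_basicOpen_top, homOfVector_appTop_coord]
    exact inf_eq_right.mpr hle
  have hWaff : IsAffineOpen W := by
    have := (hV.preimage p).basicOpen (𝔸(n; S).presheaf.map (homOfLE le_top).op (coord S j))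
    rwa [Scheme.basicOpen_res] at this
  haveI : IsAffine W.toScheme := hWaff
  haveI : IsAffine (i ⁻¹ᵁ W).toScheme := by
    rw [hpre]; exact hj
  apply IsClosedImmersion.of_surjective_of_isAffine
  have key : ∀ W' : 𝔸(n; S).Opens, W' = W → Function.Surjective (i.app W').hom := by
    rintro _ rfl
    refine surj_app i p π (homOfVector_over π v) V W inf_le_left (X.basicOpen (v j)) hpre hle s hs
      ?_
    intro b hb
    obtain ⟨m, k, hk⟩ := hsv b hb
    -- restrictions of coordinates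
    have hρ : ∀ k : n, (i.appLE W (X.basicOpen (v j)) hpre.ge).hom
        (𝔸(n; S).presheaf.map (homOfLE (le_top : W ≤ ⊤)).op (coord S k)) =
        X.presheaf.map (homOfLE le_top).op (v k) := by
      intro k
      rw [← CommRingCat.comp_apply, Scheme.Hom.map_appLE, Scheme.Hom.appLE, CommRingCat.comp_apply]
      rw [← homOfVector_appTop_coord π v k]
      rfl
    have hu : IsUnit (𝔸(n; S).presheaf.map (homOfLE (le_top : W ≤ ⊤)).op (coord S j)) := by
      have h1 : IsUnit (𝔸(n; S).presheaf.map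
          (homOfLE (𝔸(n; S).basicOpen_le (coord S j))).op (coord S j)) :=
        RingedSpace.isUnit_res_basicOpen _ (coord S j)
      have h2 := h1.map (𝔸(n; S).presheaf.map
        (homOfLE (inf_le_right : W ≤ 𝔸(n; S).basicOpen (coord S j))).op).hom
      convert h2 using 1
      rw [← CommRingCat.comp_apply, ← Functor.map_comp]
      rfl
    obtain ⟨d, hd⟩ := hu.exists_right_inv
    refine ⟨𝔸(n; S).presheaf.map (homOfLE (le_top : W ≤ ⊤)).op (coord S k) * d ^ m, ?_⟩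
    have hd' := congrArg (i.appLE W (X.basicOpen (v j)) hpre.ge).hom hd
    rw [map_mul, hρ, map_one] at hd'
    rw [map_mul, hρ, map_pow, hk]
    calc _ = b * ((X.presheaf.map (homOfLE le_top).op (v j)) *
          (i.appLE W (X.basicOpen (v j)) hpre.ge).hom d) ^ m := by ring
      _ = b := by rw [hd', one_pow, mul_one]
  have hsurj : Function.Surjective (i.app (W.ι ''ᵁ ⊤) ≫
      X.presheaf.map (eqToHom (image_morphismRestrict_preimage i W ⊤)).op).hom := by
    rw [CommRingCat.hom_comp, RingHom.coe_comp]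
    exact (ConcreteCategory.bijective_of_isIso _).2.comp (key _ W.ι_image_top)
  intro z
  obtain ⟨y, hy⟩ := hsurj z
  exact ⟨y, (congrArg (fun φ => (ConcreteCategory.hom φ) y) (morphismRestrict_appTop i W)).trans hy⟩

instance respR : MorphismProperty.RespectsRight (@IsImmersion.{u}) @IsOpenImmersion.{u} where
  postcomp i hi f hf := by
    haveI : IsOpenImmersion i := hi
    haveI : IsImmersion f := hf
    infer_instance

open AffineSpace in
theorem aux {X S : Scheme.{u}} (π : X ⟶ S) [LocallyOfFiniteType π] [X.IsQuasiAffine] :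
    ∃ (ι : Type u) (_ : Finite ι) (i : X ⟶ 𝔸(ι; S)),
      IsImmersion i ∧ i ≫ (𝔸(ι; S) ↘ S) = π := by
  classical
  have H : ∀ x : X, ∃ (V : S.Opens) (r : Γ(X, ⊤)), IsAffineOpen V ∧
      IsAffineOpen (X.basicOpen r) ∧ x ∈ X.basicOpen r ∧ X.basicOpen r ≤ π ⁻¹ᵁ V := by
    intro x
    obtain ⟨_, ⟨V, hV : IsAffineOpen V, rfl⟩, hxV, -⟩ :=
      S.isBasis_affineOpens.exists_subset_of_mem_open (Set.mem_univ (π x)) isOpen_univ
    obtain ⟨_, ⟨_, ⟨r, hr, rfl⟩, rfl⟩, hxr, hrV⟩ :=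
      (Scheme.IsQuasiAffine.isBasis_basicOpen X).exists_subset_of_mem_open
        (show x ∈ (π ⁻¹ᵁ V : Set X) from hxV) (π ⁻¹ᵁ V).2
    exact ⟨V, r, hV, hr, hxr, hrV⟩
  choose V r hV hr hxr hrV using H
  obtain ⟨t, ht⟩ := isCompact_univ.elim_finite_subcover
    (fun x => (X.basicOpen (r x) : Set X)) (fun x => (X.basicOpen (r x)).2)
    (fun x _ => Set.mem_iUnion.mpr ⟨x, hxr x⟩)
  have hft : ∀ x, ∃ s : Finset Γ(X, X.basicOpen (r x)),
      Subring.closure (Set.range (π.appLE (V x) _ (hrV x)).hom ∪ ↑s) = ⊤ := by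
    intro x
    have h := LocallyOfFiniteType.finiteType_appLE π (hV x) (hr x) (hrV x)
    letI := (π.appLE (V x) _ (hrV x)).hom.toAlgebra
    obtain ⟨s, hs⟩ := h.out
    refine ⟨s, ?_⟩
    have := congrArg Subalgebra.toSubring hs
    rwa [Algebra.adjoin_eq_ring_closure, Algebra.top_toSubring] at this
  choose s hs using hft
  have hloc : ∀ x (b : Γ(X, X.basicOpen (r x))), ∃ (m : ℕ) (a : Γ(X, ⊤)),
      X.presheaf.map (homOfLE le_top).op a =
        (X.presheaf.map (homOfLE le_top).op (r x)) ^ m * b := by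
    intro x b
    obtain ⟨m, a, ha⟩ := exists_eq_pow_mul_of_isCompact_of_isQuasiSeparated X ⊤
      isCompact_univ isQuasiSeparated_univ (r x) b
    exact ⟨m, a, ha⟩
  choose m a ha using hloc
  let ι : Type u := {x // x ∈ t} ⊕ (Σ x : {x // x ∈ t}, {b // b ∈ s x.1})
  let v : ι → Γ(X, ⊤) := Sum.elim (fun x => r x.1) (fun q => a q.1.1 q.2.1)
  refine ⟨ι, inferInstance, homOfVector π v, ?_, homOfVector_over π v⟩
  apply IsZariskiLocalAtTarget.of_range_subset_iSup (P := @IsImmersion)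
    (fun x : {x // x ∈ t} =>
      (𝔸(ι; S) ↘ S) ⁻¹ᵁ V x.1 ⊓ 𝔸(ι; S).basicOpen (coord S (Sum.inl x)))
  · rintro _ ⟨y, rfl⟩
    obtain ⟨x, hx, hyx⟩ : ∃ x ∈ t, y ∈ X.basicOpen (r x) := by
      simpa using ht (Set.mem_univ y)
    refine Opens.mem_iSup.mpr ⟨⟨x, hx⟩, ?_⟩
    have h1 : y ∈ homOfVector π v ⁻¹ᵁ ((𝔸(ι; S) ↘ S) ⁻¹ᵁ V x ⊓
        𝔸(ι; S).basicOpen (coord S (Sum.inl ⟨x, hx⟩))) := by
      rw [preimage_W π v (V x) (Sum.inl ⟨x, hx⟩) (hrV x)]
      exact hyx
    exact h1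
  · intro x
    have := isClosedImmersion_restrict π v (V x.1) (hV x.1) (Sum.inl x) (hr x.1) (hrV x.1)
      (show Set Γ(X, X.basicOpen (v (Sum.inl x))) from
        ((s x.1 : Finset _) : Set Γ(X, X.basicOpen (r x.1)))) (hs x.1) ?_
    · infer_instance
    · intro b hb
      exact ⟨m x.1 b, Sum.inr ⟨x, ⟨b, hb⟩⟩, ha x.1 b⟩

open AffineSpace in
set_option backward.isDefEq.respectTransparency.types false in
lemma isIso_reindex {n m : Type u} (e : m ≃ n) (S : Scheme.{u}) : IsIso (reindex e S) := by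
  refine ⟨reindex e.symm S, ?_, ?_⟩
  · ext k <;> simp
  · ext k <;> simp


/-- Let π : X ⟶ S be locally of finite type with X quasi-affine. Then there exist n ≥ 0 and an immersion
i : X ⟶ A^n_S over S (affine n-space on the index type Fin n, lifted to the ambient universe). -/
theorem result {X S : Scheme.{u}} (π : X ⟶ S)
    [LocallyOfFiniteType π] [X.IsQuasiAffine] :
    ∃ (n : ℕ) (i : X ⟶ 𝔸(ULift.{u} (Fin n); S)), IsImmersion i ∧ i ≫ (𝔸(ULift.{u} (Fin n); S) ↘ S) = π := by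
  obtain ⟨ι, hι, i, hi, hπ⟩ := aux π
  let e : ULift.{u} (Fin (Nat.card ι)) ≃ ι := Equiv.ulift.trans (Finite.equivFin ι).symm
  haveI := isIso_reindex e S
  refine ⟨Nat.card ι, i ≫ AffineSpace.reindex e S, inferInstance, ?_⟩
  rw [Category.assoc, AffineSpace.reindex_over, hπ]

end Groth.Agent.S9698
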