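import Groth.Statements.S9700
import Groth.Agent.Lib.Helper41.ValCenterGen

set_option autoImplicit false
universe u
open CategoryTheory CategoryTheory.Limits AlgebraicGeometry
open Mor

namespace Groth.Agent.S9700

/-- Let f : X ⟶ S and h : U ⟶ X be quasi-compact with h(U) dense in X. Suppose each valuative square
over f, whose map Spec K ⟶ X factors through h, has a unique diagonal lift. Then f is universally
closed, and f is also separated provided it is quasi-separated. -/
theorem result {U X S : Scheme.{u}} (f : X ⟶ S) (h : U ⟶ X)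
    [QuasiCompact f] [QuasiCompact h] (hd : DenseRange h.base)
    (H : ∀ sq : ValuativeCommSq f, (∃ i : Spec (.of sq.K) ⟶ U, i ≫ h = sq.i₁) →
      Nonempty (Unique sq.commSq.LiftStruct)) :
    UniversallyClosed f ∧ (QuasiSeparated f → IsSeparated f) := by
  refine ⟨Groth.Agent.Lib.Helper41.ValCenter.universallyClosed_of_dense_unique_lifts f h hd H,
    fun hqs => ?_⟩
  haveI : QuasiCompact (pullback.diagonal f) := hqs.1
  have hΔ : UniversallyClosed (pullback.diagonal f) := by
    refine Groth.Agent.Lib.Helper41.ValCenter.universallyClosed_of_dense_unique_lifts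
      (pullback.diagonal f) h hd (fun sq hsq => ?_)
    obtain ⟨i, hi⟩ := hsq
    let a : Spec (.of sq.R) ⟶ X := sq.i₂ ≫ pullback.fst f f
    let b : Spec (.of sq.R) ⟶ X := sq.i₂ ≫ pullback.snd f f
    have hw := sq.commSq.w
    have ha : Spec.map (CommRingCat.ofHom (algebraMap sq.R sq.K)) ≫ a = sq.i₁ := by
      change _ ≫ sq.i₂ ≫ _ = _
      rw [← Category.assoc, ← hw, Category.assoc, pullback.diagonal_fst, Category.comp_id]
    have hb : Spec.map (CommRingCat.ofHom (algebraMap sq.R sq.K)) ≫ b = sq.i₁ := by
      change _ ≫ sq.i₂ ≫ _ = _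
      rw [← Category.assoc, ← hw, Category.assoc, pullback.diagonal_snd, Category.comp_id]
    have hab : a ≫ f = b ≫ f := by
      change (sq.i₂ ≫ _) ≫ f = (sq.i₂ ≫ _) ≫ f
      rw [Category.assoc, Category.assoc, pullback.condition]
    have hc : CommSq sq.i₁ (Spec.map (CommRingCat.ofHom (algebraMap sq.R sq.K))) f (a ≫ f) :=
      ⟨by rw [← Category.assoc, ha]⟩
    let sqf : ValuativeCommSq f := { R := sq.R, K := sq.K, commSq := hc, .. }
    obtain ⟨hu⟩ := H sqf ⟨i, hi⟩
    let la : sqf.commSq.LiftStruct := ⟨a, ha, rfl⟩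
    let lb : sqf.commSq.LiftStruct := ⟨b, hb, hab.symm⟩
    have heq : a = b := congrArg CommSq.LiftStruct.l ((hu.uniq la).trans (hu.uniq lb).symm)
    have hi₂ : sq.i₂ = a ≫ pullback.diagonal f := by
      apply pullback.hom_ext
      · rw [Category.assoc, pullback.diagonal_fst, Category.comp_id]
      · rw [Category.assoc, pullback.diagonal_snd, Category.comp_id, heq]
    refine ⟨⟨⟨⟨a, ha, hi₂.symm⟩⟩, fun l => ?_⟩⟩
    apply CommSq.LiftStruct.ext
    apply (cancel_mono (pullback.diagonal f)).1
    exact l.fac_right.trans hi₂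
  exact ⟨IsClosedImmersion.of_isPreimmersion _ (pullback.diagonal f).isClosedMap.isClosed_range⟩

end Groth.Agent.S9700
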