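import Groth.Statements.S9703
import Groth.Agent.Lib.Helper16.SplitTower3

set_option autoImplicit false
universe u
open CategoryTheory CategoryTheory.Limits AlgebraicGeometry
open Mor

namespace Groth.Agent.S9703

/-- Let f : Y ⟶ X be finite with X affine. Then there exist a surjective finite locally free b : X' ⟶ X,
a finite locally free c : Z' ⟶ X' and a closed immersion i of Y' = X' ×_X Y into Z' over X' such
that Z' is, as a set, the union of finitely many closed subschemes each mapping isomorphically onto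
X'. (The published statement also records that Y' ⟶ Y is surjective finite locally free, which
follows by base change; this row omits it.) -/
theorem result {X Y : Scheme.{u}} [IsAffine X] (f : Y ⟶ X)
    [IsFinite f] :
    ∃ (X' : Scheme.{u}) (b : X' ⟶ X) (Z' : Scheme.{u}) (c : Z' ⟶ X') (i : pullback f b ⟶ Z'),
      Mor2.IsFinLocFree b ∧ Surjective b ∧ Mor2.IsFinLocFree c ∧ IsClosedImmersion i ∧
      i ≫ c = pullback.snd f b ∧
      ∃ (m : ℕ) (Zj : Fin m → Scheme.{u}) (ιj : ∀ j, Zj j ⟶ Z'),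
        (∀ j, IsClosedImmersion (ιj j)) ∧ (∀ j, IsIso (ιj j ≫ c)) ∧
        (⋃ j, Set.range (ιj j).base) = Set.univ := by
  haveI : IsAffine Y := isAffine_of_isAffineHom f
  have hnat : f ≫ X.isoSpec.hom = Y.isoSpec.hom ≫ Spec.map f.appTop :=
    (Scheme.isoSpec_hom_naturality f).symm
  have hfin : IsFinite (Spec.map f.appTop) := by
    have h1 : Spec.map f.appTop = Y.isoSpec.inv ≫ f ≫ X.isoSpec.hom := by
      rw [hnat, Iso.inv_hom_id_assoc]
    rw [h1]
    infer_instance
  have hφ : f.appTop.hom.Finite := (IsFinite.SpecMap_iff _).mp hfin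
  obtain ⟨X', b₀, Z', c, i₀, ⟨hb1, hb2, hb3⟩, hbs, hc, hi, hic, m, Zj, ιj, h1, h2, h3⟩ :=
    Helper16.SplitTower.spec_case f.appTop hφ
  have comm2 : (b₀ ≫ X.isoSpec.inv) ≫ X.isoSpec.hom = 𝟙 X' ≫ b₀ := by
    simp
  refine ⟨X', b₀ ≫ X.isoSpec.inv, Z', c,
    pullback.map f (b₀ ≫ X.isoSpec.inv) (Spec.map f.appTop) b₀ Y.isoSpec.hom (𝟙 X') X.isoSpec.hom
      hnat comm2 ≫ i₀, ⟨?_, ?_, ?_⟩, ?_, hc, ?_, ?_, m, Zj, ιj, h1, h2, h3⟩
  · infer_instance
  · infer_instance
  · infer_instance
  · infer_instance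
  · infer_instance
  · rw [Category.assoc, hic]
    rw [pullback.map]
    rw [pullback.lift_snd, Category.comp_id]

end Groth.Agent.S9703
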