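import Groth.Statements.S9711
import Groth.Agent.Lib.Helper48.Conormal13
import Groth.Agent.S9375

set_option autoImplicit false
universe u
open CategoryTheory CategoryTheory.Limits AlgebraicGeometry
open OmegaSh

namespace Groth.Agent.S9711

/-- Let p : X ⟶ Y be smooth and i : Z ⟶ X, j : Z ⟶ Y quasi-compact immersions with i ≫ p = j. Then the
canonical sequence 0 → C_{Z/Y} → C_{Z/X} → i^*Ω_{X/Y} → 0 is short exact; here Ω_{X/Y} is any
receptacle of a universal Y-derivation of O_X, the first map is the canonical map of conormal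
sheaves and the second is the one induced by the derivation. (The published statement allows
arbitrary immersions; quasi-compactness of i and j is assumed here to form the conormal sheaves.) -/
theorem result {Z X Y : Scheme.{u}} (p : X ⟶ Y) [Smooth p]
    (i : Z ⟶ X) (j : Z ⟶ Y) [IsImmersion i] [IsImmersion j] [QuasiCompact i] [QuasiCompact j] (hij : i ≫ p = j)
    (Ω : X.Modules) (d : OmegaSh.Der p Ω) (hd : OmegaSh.IsUniversal d)
    (ψ : (Scheme.Modules.pullback (𝟙 Z)).obj (Omega.conormal j) ⟶ Omega.conormal i)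
    (hψ : OmegaSh.IsConormalMap i j p (𝟙 Z) ψ)
    (φ : Omega.conormal i ⟶ (Scheme.Modules.pullback i).obj Ω) (hφ : OmegaSh.IsConormalDiff i d φ) :
    ∃ w : ψ ≫ φ = 0, (ShortComplex.mk ψ φ w).ShortExact := by
  classical
  obtain ⟨w, hex, hepi⟩ := Groth.Agent.S9375.result p i j hij Ω d hd ψ hψ φ hφ
  subst hij
  let 𝓑 : Set Z.Opens := {U | ∃ (V : X.Opens) (W : Y.Opens) (hVW : V ≤ p ⁻¹ᵁ W),
    Groth.Agent.Lib.Helper48.Conormal.IsGoodFor i V ∧ IsAffineOpen W ∧
    i ⁻¹ᵁ V = (i ≫ p) ⁻¹ᵁ W ∧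
    Function.Surjective ((i ≫ p).appLE W (i ⁻¹ᵁ V) (fun _ hx => hVW hx)) ∧ U = i ⁻¹ᵁ V}
  have hB : TopologicalSpace.Opens.IsBasis 𝓑 := by
    rw [TopologicalSpace.Opens.isBasis_iff_nbhd]
    intro O z hz
    obtain ⟨V, W, hVW, hV, hW, hzV, hVO, hiV, hsurj⟩ :=
      Groth.Agent.Lib.Helper48.Conormal.exists_goodPair p i z O hz
    exact ⟨i ⁻¹ᵁ V, ⟨V, W, hVW, hV, hW, hiV, hsurj, rfl⟩, hzV, hVO⟩
  have hψψ' : ψ = (Scheme.Modules.pullbackId Z).hom.app (Omega.conormal (i ≫ p)) ≫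
      Groth.Agent.Lib.Helper48.Conormal.ψ' p i ψ := by
    unfold Groth.Agent.Lib.Helper48.Conormal.ψ' Groth.Agent.Lib.Helper48.Conormal.ψ₂
    rw [← Category.assoc, Iso.hom_inv_id_app, Category.id_comp]
  haveI hmono' : Mono (Groth.Agent.Lib.Helper48.Conormal.ψ' p i ψ) := by
    refine Groth.Agent.Lib.Helper48.Conormal.mono_of_basis _ _ hB ?_
    rintro U ⟨V, W, hVW, hV, hW, hiV, hsurj, rfl⟩
    exact Groth.Agent.Lib.Helper48.Conormal.ψ'_app_injective_of_smooth p i ψ hψ hV hW hVW hiV hsurj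
  haveI hmono : Mono ψ := by
    rw [hψψ']
    infer_instance
  exact ⟨w, { exact := hex, mono_f := hmono, epi_g := hepi }⟩

end Groth.Agent.S9711
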