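import Groth.Statements.S9713
import Groth.Agent.Lib.Helper41.ConstGrBC

set_option autoImplicit false
universe u
open CategoryTheory CategoryTheory.Limits AlgebraicGeometry
open Mor

namespace Groth.Agent.S9713

/-- A base change of a locally projective morphism (every point of the base has an open neighbourhood U
with f⁻¹(U) ⟶ U projective) is locally projective. Here f⁻¹(U) ⟶ U projective means isomorphic over
U to the relative Proj of a quasi-coherent graded algebra generated by its finite-type degree-one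
part; the published definition uses closed subschemes of P(E) with E of finite type, an equivalent
condition. -/
theorem result {X S S' : Scheme.{u}} (f : X ⟶ S) (hf : RelProj.IsLocallyProjective f)
    (g : S' ⟶ S) : RelProj.IsLocallyProjective (pullback.snd f g) := by
  classical
  intro s'
  obtain ⟨U, hsU, 𝒮, P, p, chart, e, hgen, hft, hrel, he⟩ := hf (g s')
  -- an affine neighbourhood of the point in `U`
  obtain ⟨W, hW, hsW, -⟩ := exists_isAffineOpen_mem_and_subset
    (X := (U : Scheme.{u})) (x := ⟨g s', hsU⟩) (U := ⊤) trivial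
  -- an affine neighbourhood of `s'` mapping into it
  have hs' : s' ∈ g ⁻¹ᵁ (U.ι ''ᵁ W) := ⟨⟨g s', hsU⟩, hsW, rfl⟩
  obtain ⟨U', hU', hsU', hU'le⟩ := exists_isAffineOpen_mem_and_subset hs'
  refine ⟨U', hsU', ?_⟩
  haveI : IsAffine (U' : Scheme.{u}) := hU'
  -- the morphism `U' ⟶ U`
  have hrange : Set.range (U'.ι ≫ g) ⊆ Set.range U.ι := by
    rintro _ ⟨t, rfl⟩
    obtain ⟨w, -, hw⟩ := hU'le t.2
    exact ⟨w, hw⟩
  let h : (U' : Scheme.{u}) ⟶ (U : Scheme.{u}) := IsOpenImmersion.lift U.ι (U'.ι ≫ g) hrange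
  have hh : h ≫ U.ι = U'.ι ≫ g := IsOpenImmersion.lift_fac _ _ _
  have hle : (⊤ : (U' : Scheme.{u}).Opens) ≤ h ⁻¹ᵁ W := by
    intro t _
    obtain ⟨w, hwW, hw⟩ := hU'le t.2
    have h1 : U.ι (h t) = U.ι w := by
      have := congr($(hh) t)
      rw [Scheme.Hom.comp_apply, Scheme.Hom.comp_apply] at this
      rw [this]
      exact hw.symm
    have h2 : h t = w := U.ι.isOpenEmbedding.injective h1
    change h t ∈ W
    rw [h2]
    exact hwW
  -- the pulled back graded algebra and its relative `Proj`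
  obtain ⟨g₀, hg₀⟩ := Groth.Agent.Lib.Helper41.ConstGrBC.exists_isPullback 𝒮 h W hW hle hrel
  -- `P` is the base change of `X` to `U`
  have hP : IsPullback (e.inv ≫ (f ⁻¹ᵁ U).ι) p f U.ι := by
    refine (isPullback_morphismRestrict f U).flip.of_iso e (Iso.refl _) (Iso.refl _) (Iso.refl _)
      ?_ ?_ ?_ ?_
    · simp
    · rw [he]; simp
    · simp
    · simp
  have h1 : IsPullback (g₀ ≫ e.inv ≫ (f ⁻¹ᵁ U).ι)
      (Groth.Agent.Lib.Helper74.RelProjLib.relProjHom (Groth.Agent.Lib.Helper41.ConstGrBC.pb 𝒮 h W hW hle)) f (U'.ι ≫ g) := by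
    rw [← hh]
    exact hg₀.paste_horiz hP
  have h2 : IsPullback ((pullback.snd f g ⁻¹ᵁ U').ι ≫ pullback.fst f g)
      (pullback.snd f g ∣_ U') f (U'.ι ≫ g) :=
    (isPullback_morphismRestrict (pullback.snd f g) U').flip.paste_horiz
      (IsPullback.of_hasPullback f g)
  refine ⟨(Groth.Agent.Lib.Helper41.ConstGrBC.pb 𝒮 h W hW hle), Groth.Agent.Lib.Helper74.RelProjLib.relProj (Groth.Agent.Lib.Helper41.ConstGrBC.pb 𝒮 h W hW hle),
    Groth.Agent.Lib.Helper74.RelProjLib.relProjHom (Groth.Agent.Lib.Helper41.ConstGrBC.pb 𝒮 h W hW hle),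
    Groth.Agent.Lib.Helper74.RelProjLib.relProjChart (Groth.Agent.Lib.Helper41.ConstGrBC.pb 𝒮 h W hW hle), h2.isoIsPullback _ _ h1,
    Groth.Agent.Lib.Helper41.ConstGrBC.isGenDegOne_pb 𝒮 h W hW hle hgen,
    Groth.Agent.Lib.Helper41.ConstGrBC.isFTDeg_one_pb 𝒮 h W hW hle hft,
    Groth.Agent.Lib.Helper74.RelProjLib.isRelProj_relProj (Groth.Agent.Lib.Helper41.ConstGrBC.pb 𝒮 h W hW hle), ?_⟩
  exact IsPullback.isoIsPullback_hom_snd _ _ h2 h1

end Groth.Agent.S9713
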