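import Groth.Statements.S9714
import Mathlib.AlgebraicGeometry.Artinian
import Mathlib.AlgebraicGeometry.Limits
import Mathlib.RingTheory.Unramified.Field
import Mathlib.RingTheory.Unramified.Finite
import Mathlib.RingTheory.Etale.Field

set_option autoImplicit false
universe u
open CategoryTheory CategoryTheory.Limits AlgebraicGeometry
open Mor

namespace Groth.Agent.S9714

section aux

variable {k : Type u} [Field k] {X : Scheme.{u}} (f : X ⟶ Spec (CommRingCat.of k))

/-- The structure map `k → Γ(X, U)` for an affine open `U`. -/
noncomputable def strMap {U : X.Opens} (hU : IsAffineOpen U) : CommRingCat.of k ⟶ Γ(X, U) :=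
  Spec.preimage (hU.fromSpec ≫ f)

lemma map_strMap {U : X.Opens} (hU : IsAffineOpen U) :
    Spec.map (strMap f hU) = hU.fromSpec ≫ f :=
  Spec.map_preimage _

lemma strMap_formallyUnramified [FormallyUnramified f] {U : X.Opens} (hU : IsAffineOpen U) :
    (strMap f hU).hom.FormallyUnramified := by
  rw [← HasRingHomProperty.Spec_iff (P := @FormallyUnramified), map_strMap]
  exact IsZariskiLocalAtSource.comp ‹_› _

lemma strMap_finiteType [LocallyOfFiniteType f] {U : X.Opens} (hU : IsAffineOpen U) :
    (strMap f hU).hom.FiniteType := by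
  rw [← HasRingHomProperty.Spec_iff (P := @LocallyOfFiniteType), map_strMap]
  exact IsZariskiLocalAtSource.comp ‹_› _

lemma finite_and_reduced [FormallyUnramified f] [LocallyOfFiniteType f] {U : X.Opens}
    (hU : IsAffineOpen U) :
    letI := (strMap f hU).hom.toAlgebra
    Module.Finite k Γ(X, U) ∧ IsReduced Γ(X, U) := by
  let _ := (strMap f hU).hom.toAlgebra
  have h1 : Algebra.FormallyUnramified k Γ(X, U) := strMap_formallyUnramified f hU
  have h2 : Algebra.FiniteType k Γ(X, U) := strMap_finiteType f hU
  exact ⟨Algebra.FormallyUnramified.finite_of_free k _,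
    Algebra.FormallyUnramified.isReduced_of_field k _⟩

lemma isLocallyArtinian [FormallyUnramified f] [LocallyOfFiniteType f] : IsLocallyArtinian X where
  isArtinianRing_presheaf_obj U := by
    let _ := (strMap f U.2).hom.toAlgebra
    have := (finite_and_reduced f U.2).1
    exact IsArtinianRing.of_finite k _

/-- the one point open. -/
def pt [DiscreteTopology X] (x : X) : X.Opens := ⟨{x}, isOpen_discrete _⟩

lemma isAffineOpen_pt [DiscreteTopology X] (x : X) : IsAffineOpen (pt x) :=
  .of_subsingleton Set.subsingleton_singleton

lemma isField_pt [FormallyUnramified f] [LocallyOfFiniteType f] [DiscreteTopology X] (x : X) :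
    IsField Γ(X, pt x) := by
  have hU := isAffineOpen_pt x
  have : IsReduced Γ(X, pt x) := (finite_and_reduced f hU).2
  have e : (pt x : X.Opens) ≃ₜ PrimeSpectrum Γ(X, pt x) := hU.isoSpec.hom.homeomorph
  have : Subsingleton (pt x : X.Opens) := Set.subsingleton_singleton.coe_sort
  have : Nonempty (pt x : X.Opens) := ⟨⟨x, rfl⟩⟩
  have : Subsingleton (PrimeSpectrum Γ(X, pt x)) := e.symm.injective.subsingleton
  have : Nonempty (PrimeSpectrum Γ(X, pt x)) := ⟨e ⟨x, rfl⟩⟩
  have : Nontrivial Γ(X, pt x) := (PrimeSpectrum.nonempty_iff_nontrivial).mp this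
  exact PrimeSpectrum.subsingleton_iff_isField_of_isReduced.mp inferInstance

end aux

/-- Let k be a field and X a scheme over k. The structure morphism X ⟶ Spec k is unramified (formally
unramified and locally of finite type) if and only if X is isomorphic over k to a disjoint union of
spectra of finite separable field extensions of k. -/
theorem result (k : Type u) [Field k] {X : Scheme.{u}}
    (f : X ⟶ Spec (CommRingCat.of k)) :
    (FormallyUnramified f ∧ LocallyOfFiniteType f) ↔
      ∃ (ι : Type u) (K : ι → Type u) (_ : ∀ i, Field (K i)) (_ : ∀ i, Algebra k (K i)),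
        (∀ i, FiniteDimensional k (K i) ∧ Algebra.IsSeparable k (K i)) ∧
        ∃ e : X ≅ ∐ (fun i => Spec (CommRingCat.of (K i))),
          e.hom ≫ Sigma.desc (fun i => Spec.map (CommRingCat.ofHom (algebraMap k (K i)))) = f := by
  constructor
  · rintro ⟨hFU, hLFT⟩
    have hArt : IsLocallyArtinian X := isLocallyArtinian f
    have hdisc : DiscreteTopology X := inferInstance
    let K : X → Type u := fun x => Γ(X, pt x)
    let instF : ∀ x, Field (K x) := fun x => (isField_pt f x).toField
    let instA : ∀ x, Algebra k (K x) := fun x => (strMap f (isAffineOpen_pt x)).hom.toAlgebra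
    refine ⟨X, K, instF, instA, ?_, ?_⟩
    · intro x
      have h1 : Algebra.FormallyUnramified k (K x) :=
        strMap_formallyUnramified f (isAffineOpen_pt x)
      have h2 : Algebra.FiniteType k (K x) := strMap_finiteType f (isAffineOpen_pt x)
      exact ⟨(finite_and_reduced f (isAffineOpen_pt x)).1,
        Algebra.FormallyUnramified.isSeparable k (K x)⟩
    · let g : ∀ x : X, Spec (CommRingCat.of (K x)) ⟶ X := fun x => (isAffineOpen_pt x).fromSpec
      have hg : ∀ x, IsOpenImmersion (g x) := fun x =>
        inferInstanceAs (IsOpenImmersion (isAffineOpen_pt x).fromSpec)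
      have hrange : ∀ x, Set.range (g x) = {x} := fun x => (isAffineOpen_pt x).range_fromSpec
      have hopen : IsOpenImmersion (Sigma.desc g) := by
        refine isOpenImmersion_sigmaDesc _ _ (fun i j hij => ?_)
        simp [Function.onFun, hrange, hij]
      have hiso : IsIso (Sigma.desc g) := by
        apply isIso_of_isOpenImmersion_of_opensRange_eq_top
        rw [eq_top_iff]
        intro x _
        obtain ⟨y, hy⟩ : x ∈ Set.range (g x) := by
          rw [hrange]
          rfl
        refine ⟨(Sigma.ι (fun x => Spec (CommRingCat.of (K x))) x).base y, ?_⟩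
        rw [← Scheme.Hom.comp_apply, Sigma.ι_desc]
        exact hy
      refine ⟨(asIso (Sigma.desc g)).symm, ?_⟩
      simp only [Iso.symm_hom, asIso_inv, IsIso.inv_comp_eq]
      refine Sigma.hom_ext _ _ fun x => ?_
      simp only [Sigma.ι_desc, Sigma.ι_desc_assoc]
      exact map_strMap f (isAffineOpen_pt x)
  · rintro ⟨ι, K, instF, instA, hK, e, he⟩
    have h1 : ∀ i, FormallyUnramified (Spec.map (CommRingCat.ofHom (algebraMap k (K i)))) := by
      intro i
      rw [HasRingHomProperty.Spec_iff (P := @FormallyUnramified), CommRingCat.hom_ofHom,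
        RingHom.formallyUnramified_algebraMap]
      have := (hK i).2
      exact Algebra.FormallyUnramified.of_isSeparable _ _
    have h2 : ∀ i, LocallyOfFiniteType (Spec.map (CommRingCat.ofHom (algebraMap k (K i)))) := by
      intro i
      rw [HasRingHomProperty.Spec_iff (P := @LocallyOfFiniteType), CommRingCat.hom_ofHom,
        RingHom.finiteType_algebraMap]
      have := (hK i).1
      infer_instance
    rw [← he]
    exact ⟨MorphismProperty.comp_mem _ _ _ (inferInstance : FormallyUnramified e.hom)
        (IsZariskiLocalAtSource.sigmaDesc h1),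
      MorphismProperty.comp_mem _ _ _ (inferInstance : LocallyOfFiniteType e.hom)
        (IsZariskiLocalAtSource.sigmaDesc h2)⟩

end Groth.Agent.S9714
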