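import Groth.Statements.S9716
import Groth.Agent.S19692

set_option autoImplicit false
universe u
open CategoryTheory AlgebraicGeometry
open Mor

namespace Groth.Agent.S9716

open Groth.Agent.Lib.Helper2.QCAlgMod Groth.Agent.Lib.Helper2.FinrankAff
  Groth.Agent.Lib.Helper2.KerSec Groth.Agent.Lib.Helper2.LocFreeAff Groth.Agent.S19692


/-- (1) ⇔ (2): a morphism f : X ⟶ S is affine with direct image f_*O_X a finite locally free O_S-module
(locally on S isomorphic to a finite direct sum of copies of the structure sheaf, of possibly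
varying rank) if and only if f is finite, flat and locally of finite presentation. -/
theorem result {X S : Scheme.{u}} (f : X ⟶ S) :
    (IsAffineHom f ∧ FlatMod.IsFinLocFree ((Scheme.Modules.pushforward f).obj (Coh.structureModule X))) ↔
      Mor2.IsFinLocFree f := by
  haveI := Groth.Agent.S19696.structureModule_isQuasicoherent X
  constructor
  · rintro ⟨haff, hfree⟩
    haveI := isQuasicoherent_pushforward_of_qcqs f (Coh.structureModule X)
    have key : ∀ y : S, ∃ (U : S.Opens) (hU : IsAffineOpen U) (_ : y ∈ U) (d : ℕ),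
        letI : Algebra Γ(S, U) Γ(X, f ⁻¹ᵁ U) := (f.app U).hom.toAlgebra
        Nonempty (Γ(X, f ⁻¹ᵁ U) ≃ₗ[Γ(S, U)] (Fin d → Γ(S, U))) := by
      intro y
      obtain ⟨V, d, hyV, hV⟩ := exists_equiv_of_isFinLocFree _ hfree y
      obtain ⟨_, ⟨U, hU : IsAffineOpen U, rfl⟩, hyU, hUV⟩ :=
        (S.isBasis_affineOpens).exists_subset_of_mem_open hyV V.2
      obtain ⟨e⟩ := hV U hUV hU
      exact ⟨U, hU, hyU, d, ⟨(pushEquiv f U).symm.trans e⟩⟩
    have hfin : IsFinite f := by
      refine of_forall_isPullback_fromSpec @IsFinite f fun x => ?_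
      obtain ⟨U, hU, hxU, d, ⟨e⟩⟩ := key x
      refine ⟨U, hU, hxU, _, f.app U, _, isPullback_fromSpec_of_isAffineHom f hU, ?_⟩
      rw [IsFinite.SpecMap_iff]
      letI : Algebra Γ(S, U) Γ(X, f ⁻¹ᵁ U) := (f.app U).hom.toAlgebra
      exact Module.Finite.equiv e.symm
    have hflat : Flat f := by
      refine of_forall_isPullback_fromSpec @Flat f fun x => ?_
      obtain ⟨U, hU, hxU, d, ⟨e⟩⟩ := key x
      refine ⟨U, hU, hxU, _, f.app U, _, isPullback_fromSpec_of_isAffineHom f hU, ?_⟩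
      rw [Flat.SpecMap_iff]
      letI : Algebra Γ(S, U) Γ(X, f ⁻¹ᵁ U) := (f.app U).hom.toAlgebra
      exact Module.Flat.of_linearEquiv e
    have hfp : LocallyOfFinitePresentation f := by
      refine of_forall_isPullback_fromSpec @LocallyOfFinitePresentation f fun x => ?_
      obtain ⟨U, hU, hxU, d, ⟨e⟩⟩ := key x
      refine ⟨U, hU, hxU, _, f.app U, _, isPullback_fromSpec_of_isAffineHom f hU, ?_⟩
      rw [LocallyOfFinitePresentation.SpecMap_iff]
      letI : Algebra Γ(S, U) Γ(X, f ⁻¹ᵁ U) := (f.app U).hom.toAlgebra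
      haveI : Module.FinitePresentation Γ(S, U) Γ(X, f ⁻¹ᵁ U) :=
        Module.FinitePresentation.of_equiv e.symm
      exact (inferInstance : Algebra.FinitePresentation Γ(S, U) Γ(X, f ⁻¹ᵁ U))
    exact ⟨hfin, hflat, hfp⟩
  · rintro ⟨hfin, hflat, hfp⟩
    refine ⟨inferInstance, ?_⟩
    haveI := isQuasicoherent_pushforward_of_qcqs f (Coh.structureModule X)
    apply isFinLocFree_of_projective
    intro y
    obtain ⟨_, ⟨U, hU : IsAffineOpen U, rfl⟩, hyU, -⟩ :=
      (S.isBasis_affineOpens).exists_subset_of_mem_open (Set.mem_univ y) isOpen_univ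
    refine ⟨U, hU, hyU, ?_⟩
    letI : Algebra Γ(S, U) Γ(X, f ⁻¹ᵁ U) := (f.app U).hom.toAlgebra
    have h1 : Module.Finite Γ(S, U) Γ(X, f ⁻¹ᵁ U) := IsFinite.finite_app f U hU
    have h2 : Module.Flat Γ(S, U) Γ(X, f ⁻¹ᵁ U) := by
      have := HasRingHomProperty.appLE @Flat f hflat ⟨U, hU⟩ ⟨f ⁻¹ᵁ U, hU.preimage f⟩ le_rfl
      rwa [Scheme.Hom.appLE_eq_app] at this
    have h3 : Algebra.FinitePresentation Γ(S, U) Γ(X, f ⁻¹ᵁ U) := by
      have := HasRingHomProperty.appLE @LocallyOfFinitePresentation f hfp ⟨U, hU⟩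
        ⟨f ⁻¹ᵁ U, hU.preimage f⟩ le_rfl
      rwa [Scheme.Hom.appLE_eq_app] at this
    have h4 : Module.FinitePresentation Γ(S, U) Γ(X, f ⁻¹ᵁ U) :=
      Module.FinitePresentation.of_finite_of_finitePresentation _ _
    have h5 : Module.Projective Γ(S, U) Γ(X, f ⁻¹ᵁ U) :=
      Module.Flat.projective_of_finitePresentation
    exact ⟨Module.Finite.equiv (pushEquiv f U).symm,
      Module.Projective.of_equiv (pushEquiv f U).symm⟩

end Groth.Agent.S9716
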