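import Groth.Statements.S9720
import Groth.Agent.Lib.Helper19.UnramifiedLocus
import Mathlib.AlgebraicGeometry.Fiber
import Mathlib.RingTheory.Unramified.Field

set_option autoImplicit false
universe u
open CategoryTheory CategoryTheory.Limits AlgebraicGeometry
open Mor

namespace Groth.Agent.S9720

/-- Let f : X ⟶ S be locally of finite type such that for every point s of S the fibre X_s is isomorphic
over κ(s) to a coproduct of schemes Spec K_i, each K_i a finite separable extension field of κ(s).
In that case f is formally unramified (so unramified, being locally of finite type). -/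
theorem result {X S : Scheme.{u}} (f : X ⟶ S) [LocallyOfFiniteType f]
    (H : ∀ s : S, ∃ (ι : Type u) (K : ι → Type u) (_ : ∀ i, Field (K i))
      (_ : ∀ i, Algebra (S.residueField s) (K i)),
      (∀ i, FiniteDimensional (S.residueField s) (K i) ∧ Algebra.IsSeparable (S.residueField s) (K i)) ∧
        ∃ e : f.fiber s ≅ ∐ (fun i => Spec (CommRingCat.of (K i))),
          e.hom ≫ Sigma.desc (fun i => Spec.map (CommRingCat.ofHom (algebraMap (S.residueField s) (K i)))) =
            f.fiberToSpecResidueField s) :
    FormallyUnramified f := by
  suffices h : ∀ x : X, ∃ U : X.Opens, x ∈ U ∧ FormallyUnramified (U.ι ≫ f) by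
    choose U hxU hU using h
    rw [IsZariskiLocalAtSource.iff_of_iSup_eq_top (P := @FormallyUnramified) U]
    · exact hU
    · rw [eq_top_iff]
      rintro x -
      exact TopologicalSpace.Opens.mem_iSup.mpr ⟨x, hxU x⟩
  intro x
  obtain ⟨ι, K, _, _, hK, e, he⟩ := H (f x)
  obtain ⟨x', hx'⟩ : x ∈ Set.range (f.fiberι (f x)) := by
    rw [f.range_fiberι]
    rfl
  have hFU : FormallyUnramified (f.fiberToSpecResidueField (f x)) := by
    rw [← he]
    have h1 : FormallyUnramified (Sigma.desc fun i =>
        Spec.map (CommRingCat.ofHom (algebraMap (S.residueField (f x)) (K i)))) := by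
      apply IsZariskiLocalAtSource.sigmaDesc
      intro i
      rw [HasRingHomProperty.Spec_iff (P := @FormallyUnramified)]
      have := (hK i).2
      rw [CommRingCat.hom_ofHom, RingHom.formallyUnramified_algebraMap]
      exact Algebra.FormallyUnramified.of_isSeparable _ _
    exact MorphismProperty.comp_mem _ _ _ (inferInstance : FormallyUnramified e.hom) h1
  have h2 := Groth.Agent.Lib.Helper19.exists_nhd_formallyUnramified_of_pullback f
    (S.fromSpecResidueField (f x)) x' ⟨⊤, trivial, by
      have : FormallyUnramified (pullback.snd f (S.fromSpecResidueField (f x))) := hFU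
      exact IsZariskiLocalAtSource.comp this _⟩
  obtain ⟨U, hU1, hU2⟩ := h2
  exact ⟨U, hx' ▸ hU1, hU2⟩

end Groth.Agent.S9720
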