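import Groth.Statements.S9722
import Groth.Agent.Lib.Helper19.RingHomProp
import Mathlib.RingTheory.Unramified.LocalStructure

set_option autoImplicit false
universe u
open CategoryTheory AlgebraicGeometry
open Mor

namespace Groth.Agent.S9722

/-- Let f : X ⟶ S be a morphism, x a point of X and V an affine open neighbourhood of f(x) in S. Then f
is étale on some open neighbourhood of x if and only if there is an affine open neighbourhood U of x
with f(U) ⊆ V such that Γ(X, U) is a standard étale algebra over Γ(S, V) through the induced ring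
map. -/
theorem result {X S : Scheme.{u}} (f : X ⟶ S) (x : X)
    (V : S.Opens) (hV : IsAffineOpen V) (hxV : f x ∈ V) :
    (∃ W : X.Opens, x ∈ W ∧ Etale (W.ι ≫ f)) ↔
      ∃ (U : X.Opens) (_ : IsAffineOpen U) (_ : x ∈ U) (e : U ≤ f ⁻¹ᵁ V),
        letI := (f.appLE V U e).hom.toAlgebra
        Algebra.IsStandardEtale Γ(S, V) Γ(X, U) := by
  have hresp : MorphismProperty.RespectsRight @Etale.{u} @IsOpenImmersion :=
    ⟨fun i hi f hf => MorphismProperty.comp_mem _ f i hf (@Etale.instOfIsOpenImmersion _ _ i hi)⟩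
  constructor
  · rintro ⟨W, hxW, hW⟩
    obtain ⟨_, ⟨U₀ : X.Opens, hU₀ : IsAffineOpen U₀, rfl⟩, hxU₀, hU₀W⟩ :=
      X.isBasis_affineOpens.exists_subset_of_mem_open
        (show x ∈ ((W ⊓ f ⁻¹ᵁ V : X.Opens) : Set X) from ⟨hxW, hxV⟩) (W ⊓ f ⁻¹ᵁ V).2
    have hU₀W' : U₀ ≤ W := fun y hy => (hU₀W hy).1
    have e₀ : U₀ ≤ f ⁻¹ᵁ V := fun y hy => (hU₀W hy).2
    have h1 : Etale (U₀.ι ≫ f) := by
      rw [← X.homOfLE_ι hU₀W', Category.assoc]
      exact IsZariskiLocalAtSource.comp hW _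
    rw [Groth.Agent.Lib.Helper19.ι_comp_iff_appLE @Etale f hV hU₀ e₀] at h1
    let _ := (f.appLE V U₀ e₀).hom.toAlgebra
    have hEt : Algebra.Etale Γ(S, V) Γ(X, U₀) := h1
    let Q := hU₀.primeIdealOf ⟨x, hxU₀⟩
    have : Algebra.IsEtaleAt Γ(S, V) Q.asIdeal :=
      Algebra.FormallyEtale.comp Γ(S, V) Γ(X, U₀) _
    obtain ⟨g, hgQ, hg⟩ := Algebra.IsEtaleAt.exists_isStandardEtale (R := Γ(S, V)) Q.asIdeal
    have hxg : x ∈ X.basicOpen g := by
      have h2 : hU₀.fromSpec Q = x := hU₀.fromSpec_primeIdealOf ⟨x, hxU₀⟩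
      rw [← h2]
      change Q ∈ hU₀.fromSpec ⁻¹ᵁ X.basicOpen g
      rw [hU₀.fromSpec_preimage_basicOpen]
      exact hgQ
    refine ⟨X.basicOpen g, hU₀.basicOpen g, hxg, (X.basicOpen_le g).trans e₀, ?_⟩
    let _ := (f.appLE V (X.basicOpen g) ((X.basicOpen_le g).trans e₀)).hom.toAlgebra
    have : IsLocalization.Away g Γ(X, X.basicOpen g) := hU₀.isLocalization_basicOpen g
    have : IsScalarTower Γ(S, V) Γ(X, U₀) Γ(X, X.basicOpen g) := by
      apply IsScalarTower.of_algebraMap_eq'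
      simp only [RingHom.algebraMap_toAlgebra]
      rw [← f.appLE_map e₀ (homOfLE (X.basicOpen_le g)).op]
      rfl
    exact Algebra.IsStandardEtale.of_equiv
      ((IsLocalization.algEquiv (Submonoid.powers g) (Localization.Away g)
        Γ(X, X.basicOpen g)).restrictScalars Γ(S, V))
  · rintro ⟨U, hU, hxU, e, h⟩
    refine ⟨U, hxU, ?_⟩
    rw [Groth.Agent.Lib.Helper19.ι_comp_iff_appLE @Etale f hV hU e]
    let _ := (f.appLE V U e).hom.toAlgebra
    have : Algebra.Etale Γ(S, V) Γ(X, U) := inferInstance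
    exact this

end Groth.Agent.S9722
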