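import Groth.Statements.S9723
-- no extra imports

set_option autoImplicit false
universe u
open FlatMor

namespace Groth.Agent.S9723

open AlgebraicGeometry CategoryTheory in
theorem surj_of_sq_zero {A : Type u} [CommRing A] (I : Ideal A) (hI : I ^ 2 = ⊥) :
    Function.Surjective (Spec.map (CommRingCat.ofHom (Ideal.Quotient.mk I))) := by
  intro x
  have hx : (x : PrimeSpectrum A) ∈ PrimeSpectrum.zeroLocus (I : Set A) := by
    have h2 : I ^ 2 ≤ (x : PrimeSpectrum A).asIdeal := by rw [hI]; exact bot_le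
    haveI := (x : PrimeSpectrum A).isPrime
    exact Ideal.IsPrime.le_of_pow_le h2
  have hr := range_comap_of_surjective (A ⧸ I) (Ideal.Quotient.mk I)
    Ideal.Quotient.mk_surjective
  rw [Ideal.mk_ker] at hr
  rw [← hr] at hx
  obtain ⟨y, hy⟩ := hx
  exact ⟨y, hy⟩


open AlgebraicGeometry CategoryTheory in
/-- Let f : X ⟶ S be formally étale (unique infinitesimal lifting against square-zero thickenings of
affine schemes), and let U be an open subscheme of X and V an open subscheme of S such that f maps U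
into V. Then the restricted morphism U ⟶ V is formally étale. -/
theorem result {X S : Scheme.{u}} (f : X ⟶ S) (hf : MoreMor.IsFormallyEtaleHom f)
    (U : X.Opens) (V : S.Opens) (h : U ≤ f ⁻¹ᵁ V) : MoreMor.IsFormallyEtaleHom (f.resLE V U h) := by
  intro A _ I hI a b hab
  have h1 : Spec.map (CommRingCat.ofHom (Ideal.Quotient.mk I)) ≫ (b ≫ V.ι) = (a ≫ U.ι) ≫ f := by
    rw [← Category.assoc, hab, Category.assoc, Category.assoc, Scheme.Hom.resLE_comp_ι]
  obtain ⟨l, ⟨hl1, hl2⟩, hlu⟩ := hf A I hI (a ≫ U.ι) (b ≫ V.ι) h1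
  have hrange : Set.range l ⊆ Set.range U.ι := by
    rintro _ ⟨x, rfl⟩
    obtain ⟨y, rfl⟩ := surj_of_sq_zero I hI x
    refine ⟨a y, ?_⟩
    have := congrArg (fun φ : Spec (CommRingCat.of (A ⧸ I)) ⟶ X => φ y) hl1
    simpa using this.symm
  refine ⟨IsOpenImmersion.lift U.ι l hrange, ⟨?_, ?_⟩, ?_⟩
  · rw [← cancel_mono U.ι, Category.assoc, IsOpenImmersion.lift_fac]; exact hl1
  · rw [← cancel_mono V.ι, Category.assoc, Scheme.Hom.resLE_comp_ι, ← Category.assoc,
      IsOpenImmersion.lift_fac]; exact hl2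
  · rintro l' ⟨h1', h2'⟩
    rw [← cancel_mono U.ι, IsOpenImmersion.lift_fac]
    apply hlu
    refine ⟨?_, ?_⟩
    · rw [← Category.assoc, h1']
    · rw [Category.assoc, ← Scheme.Hom.resLE_comp_ι f h, ← Category.assoc, h2']

end Groth.Agent.S9723
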