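import Groth.Statements.S9724
import Mathlib
import Groth.Agent.Lib.Helper51.SepFibreSch

set_option autoImplicit false
universe u
open FlatMor

namespace Groth.Agent.S9724

open AlgebraicGeometry CategoryTheory Limits in
/-- Let f : X ⟶ S be a morphism and x a point such that f is smooth on an open neighbourhood of x, the
residue field extension κ(x)/κ(f x) is separable (formally smooth), and x is not the generic point
of any irreducible component of the fibre over f x, i.e. (the fibre being smooth over a field near
x) the maximal ideal of the local ring of the fibre at x is nonzero. Then there are an affine open U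
∋ x and a nonzerodivisor h' of Γ(X, U) vanishing at x such that the closed subscheme V(h') of U, an
effective Cartier divisor through x, is smooth over S. -/
theorem result {X S : Scheme.{u}} (f : X ⟶ S) (x : X)
    (W : X.Opens) (hxW : x ∈ W) (hW : Smooth (W.ι ≫ f))
    (hsep : letI := (f.residueFieldMap x).hom.toAlgebra
      Algebra.FormallySmooth (S.residueField (f x)) (X.residueField x))
    (hgen : IsLocalRing.maximalIdeal ↑((f.fiber (f x)).presheaf.stalk (f.asFiber x)) ≠ ⊥) :
    ∃ (U : X.Opens) (hU : IsAffineOpen U) (hx : x ∈ U) (h' : Γ(X, U)), h' ∈ nonZeroDivisors Γ(X, U) ∧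
      X.presheaf.germ U x hx h' ∈ IsLocalRing.maximalIdeal ↑(X.presheaf.stalk x) ∧
      Smooth (Spec.map (CommRingCat.ofHom (Ideal.Quotient.mk (Ideal.span {h'}))) ≫ hU.fromSpec ≫ f) := by
  have hne : (IsLocalRing.maximalIdeal ↑(S.presheaf.stalk (f x))).map (f.stalkMap x).hom ≠
      IsLocalRing.maximalIdeal ↑(X.presheaf.stalk x) := by
    intro h
    exact hgen (Groth.Agent.Lib.Helper51.FibreStalkMax.maximalIdeal_fiber_stalk_eq_bot f (f x)
      (f.asFiber x) x (f.fiberι_asFiber x) h)
  obtain ⟨y, hym, hd⟩ :=
    Groth.Agent.Lib.Helper51.SepFibreSch.exists_mem_maximalIdeal_one_tmul_D_ne_zero f x W hxW hW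
      hsep hne
  obtain ⟨U, hU, hxU, h', hgerm, hnzd, hsm⟩ :=
    Groth.Agent.Lib.Helper51.SmoothDivisorSch.exists_smooth_divisor_of_germ f x W hxW hW y hd
  exact ⟨U, hU, hxU, h', hnzd, hgerm ▸ hym, hsm⟩

end Groth.Agent.S9724
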