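import Groth.Statements.S9727
import Groth.Agent.Lib.Helper57.StdEtLift4

set_option autoImplicit false
universe u
open FlatMor

namespace Groth.Agent.S9727

open AlgebraicGeometry CategoryTheory Limits in
/-- Let f : X ⟶ S be a morphism, x a point of X with image s, and (V, v) ⟶ (X_s, x) an étale
neighbourhood of x in its fibre. Then there is an étale neighbourhood (U, u) ⟶ (X, x) whose fibre
U_s over s admits a morphism of étale neighbourhoods (U_s, u) ⟶ (V, v) over X_s which is an open
immersion. -/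
theorem result {X S V : Scheme.{u}} (f : X ⟶ S) (x : X)
    (g : V ⟶ f.fiber (f x)) [Etale g] (v : V) (hv : g v = f.asFiber x) :
    ∃ (U : Scheme.{u}) (p : U ⟶ X) (u : U) (m : (p ≫ f).fiber (f x) ⟶ V) (u' : ↑((p ≫ f).fiber (f x))),
      Etale p ∧ p u = x ∧ IsOpenImmersion m ∧ m ≫ g = MoreMor.fiberMap p f (f x) ∧
      (p ≫ f).fiberι (f x) u' = u ∧ m u' = v := by
  classical
  obtain ⟨U, p, W, j, q, w, hp, hj, hw, sq⟩ :=
    Groth.Agent.Lib.Helper57.StdEtLift.exists_etale_lift (f.fiberι (f x)) g v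
  have sqF : IsPullback ((p ≫ f).fiberι (f x)) (MoreMor.fiberMap p f (f x)) p
      (f.fiberι (f x)) := by
    have s : IsPullback ((p ≫ f).fiberι (f x))
        (MoreMor.fiberMap p f (f x) ≫ f.fiberToSpecResidueField (f x)) (p ≫ f)
        (S.fromSpecResidueField (f x)) := by
      have h1 : MoreMor.fiberMap p f (f x) ≫ f.fiberToSpecResidueField (f x) =
          (p ≫ f).fiberToSpecResidueField (f x) := by
        unfold MoreMor.fiberMap
        exact pullback.lift_snd _ _ _
      rw [h1]
      exact IsPullback.of_hasPullback (p ≫ f) (S.fromSpecResidueField (f x))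
    have t : IsPullback (f.fiberι (f x)) (f.fiberToSpecResidueField (f x)) f
        (S.fromSpecResidueField (f x)) :=
      IsPullback.of_hasPullback f (S.fromSpecResidueField (f x))
    refine IsPullback.of_bot s ?_ t
    unfold MoreMor.fiberMap
    exact (pullback.lift_fst _ _ _).symm
  let e := sqF.isoIsPullback _ _ sq
  have he1 : e.hom ≫ q = (p ≫ f).fiberι (f x) := sqF.isoIsPullback_hom_fst _ _ sq
  have he2 : e.hom ≫ (j ≫ g) = MoreMor.fiberMap p f (f x) := sqF.isoIsPullback_hom_snd _ _ sq
  have hm : (e.hom ≫ j) (e.inv w) = v := by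
    rw [← Scheme.Hom.comp_apply, Iso.inv_hom_id_assoc, hw]
  refine ⟨U, p, (p ≫ f).fiberι (f x) (e.inv w), e.hom ≫ j, e.inv w, hp, ?_, inferInstance, ?_,
    rfl, hm⟩
  · rw [← Scheme.Hom.comp_apply, sqF.w, Scheme.Hom.comp_apply, ← he2, ← Category.assoc,
      Scheme.Hom.comp_apply, hm, hv, Scheme.Hom.fiberι_asFiber]
  · rw [Category.assoc, he2]

end Groth.Agent.S9727
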