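import Groth.Statements.S9728
import Mathlib.Tactic
import Groth.Agent.Lib.Helper43.KRSmoothImm
-- import your own Groth.Agent.* helpers here

set_option autoImplicit false
universe u
open FlatMor

namespace Groth.Agent.S9728

open AlgebraicGeometry CategoryTheory Limits in
/-- Given S-schemes U, P, P' with P and P' smooth over S, immersions i : U ⟶ P and i' : U ⟶ P'
compatible with the structure maps to S, and a point u of U, some restriction of i to an open
neighbourhood of u is a Koszul-regular immersion exactly when some restriction of i' to an open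
neighbourhood of u is. -/
theorem result {S U P P' : Scheme.{u}} (q : U ⟶ S)
    (p : P ⟶ S) (p' : P' ⟶ S) [Smooth p] [Smooth p'] (i : U ⟶ P) (i' : U ⟶ P') [IsImmersion i] [IsImmersion i']
    (hi : i ≫ p = q) (hi' : i' ≫ p' = q) (u : U) :
    (∃ V : U.Opens, u ∈ V ∧ RegImm.IsRegularImmersion RegImm.Kind.koszul (V.ι ≫ i)) ↔
      (∃ V : U.Opens, u ∈ V ∧ RegImm.IsRegularImmersion RegImm.Kind.koszul (V.ι ≫ i')) := by
  classical
  have hw : i ≫ p = i' ≫ p' := hi.trans hi'.symm
  let k : U ⟶ pullback p p' := pullback.lift i i' hw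
  have hk1 : k ≫ pullback.fst p p' = i := pullback.lift_fst _ _ _
  have hk2 : k ≫ pullback.snd p p' = i' := pullback.lift_snd _ _ _
  haveI : IsImmersion (k ≫ pullback.fst p p') := by rw [hk1]; infer_instance
  haveI : IsImmersion k := IsImmersion.of_comp k (pullback.fst p p')
  haveI : Smooth (pullback.fst p p') := MorphismProperty.pullback_fst _ _ inferInstance
  haveI : Smooth (pullback.snd p p') := MorphismProperty.pullback_snd _ _ inferInstance
  have key : ∀ V : U.Opens, RegImm.IsRegularImmersion RegImm.Kind.koszul (V.ι ≫ i) ↔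
      RegImm.IsRegularImmersion RegImm.Kind.koszul (V.ι ≫ i') := by
    intro V
    have h1 := Groth.Agent.Lib.Helper43.KRSmoothImm.regImm_koszul_iff_of_smooth
      (V.ι ≫ i) (V.ι ≫ k) (pullback.fst p p') (by rw [Category.assoc, hk1])
    have h2 := Groth.Agent.Lib.Helper43.KRSmoothImm.regImm_koszul_iff_of_smooth
      (V.ι ≫ i') (V.ι ≫ k) (pullback.snd p p') (by rw [Category.assoc, hk2])
    exact h1.trans h2.symm
  constructor
  · rintro ⟨V, hV, h⟩
    exact ⟨V, hV, (key V).1 h⟩
  · rintro ⟨V, hV, h⟩
    exact ⟨V, hV, (key V).2 h⟩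

end Groth.Agent.S9728
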