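import Groth.Statements.S9729
import Mathlib.Tactic
import Groth.Agent.Lib.Helper43.KoszulAtDescent
-- import your own Groth.Agent.* helpers here

set_option autoImplicit false
universe u
open FlatMor

namespace Groth.Agent.S9729

open AlgebraicGeometry CategoryTheory Limits in
/-- Let f : X ⟶ Y and g : Y ⟶ S be morphisms with g smooth. If f ≫ g is a local complete intersection
morphism (Koszul at every point of X) then f is a local complete intersection morphism. -/
theorem result {X Y S : Scheme.{u}} (f : X ⟶ Y) (g : Y ⟶ S) [Smooth g]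
    (h : ∀ x : X, Synt.IsKoszulAt (f ≫ g) x) (x : X) : Synt.IsKoszulAt f x := by
  haveI : IsZariskiLocalAtSource @LocallyOfFiniteType.{u} :=
    HasRingHomProperty.instIsZariskiLocalAtSource (P := @LocallyOfFiniteType)
      (Q := @RingHom.FiniteType)
  -- `f ≫ g` and hence `f` are locally of finite type
  have hlft' : LocallyOfFiniteType (f ≫ g) := by
    choose U' P' i' π' hx' hlft _ _ _ using h
    refine IsZariskiLocalAtSource.of_iSup_eq_top (P := @LocallyOfFiniteType) U' ?_ hlft
    rw [eq_top_iff]
    intro x' _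
    rw [TopologicalSpace.Opens.mem_iSup]
    exact ⟨x', hx' x'⟩
  haveI : LocallyOfFiniteType f := locallyOfFiniteType_of_comp f g
  obtain ⟨U, P, i₀, π, hxU, hci, hsm, hfac⟩ :=
    Groth.Agent.Lib.Helper43.KoszulAtDescent.exists_factorisation f x
  haveI := hci
  haveI := hsm
  refine ⟨U, P, i₀, π, hxU, inferInstance, ?_, hsm, hfac⟩
  have hK : ∀ u : ↥(U : Scheme.{u}), Synt.IsKoszulAt (U.ι ≫ f ≫ g) u := fun u =>
    Groth.Agent.Lib.Helper43.KoszulAtDescent.isKoszulAt_openImmersion_comp U.ι (f ≫ g) u (h (U.ι u))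
  refine Groth.Agent.Lib.Helper43.KoszulAtFactor.regImm_of_koszulAt (U.ι ≫ f ≫ g) hK (π ≫ g) i₀ ?_
  rw [← Category.assoc, hfac, Category.assoc]

end Groth.Agent.S9729
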