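import Groth.Statements.S9736
import Groth.Agent.S9148
import Groth.Agent.Lib.Helper94.SyntP

set_option autoImplicit false
universe u
open FlatMor

namespace Groth.Agent.S9736

open TensorProduct in
/-- the pushout square of rings -/
theorem isPushout_aux (R₀ R : Type u) [CommRing R₀] [CommRing R] [Algebra R₀ R] (n c : ℕ)
    (F₀ : Fin c → MvPolynomial (Fin n) R₀) (F : Fin c → MvPolynomial (Fin n) R)
    (hF : ∀ i, MvPolynomial.map (algebraMap R₀ R) (F₀ i) = F i) :
    ∃ ψ : Synt.RelGCIRing R₀ n c F₀ →+* Synt.RelGCIRing R n c F,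
      CategoryTheory.IsPushout (CommRingCat.ofHom (algebraMap R₀ R))
        (CommRingCat.ofHom (algebraMap R₀ (Synt.RelGCIRing R₀ n c F₀)))
        (CommRingCat.ofHom (algebraMap R (Synt.RelGCIRing R n c F)))
        (CommRingCat.ofHom ψ) := by
  have hF' : (fun i => MvPolynomial.map (algebraMap R₀ R) (F₀ i)) = F := funext hF
  subst hF'
  let e := Groth.Agent.Lib.Helper94.SyntP.baseChangeEquiv R₀ R n c F₀
  let ψ : Synt.RelGCIRing R₀ n c F₀ →ₐ[R₀]
      Synt.RelGCIRing R n c (fun i => MvPolynomial.map (algebraMap R₀ R) (F₀ i)) :=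
    (e.toAlgHom.restrictScalars R₀).comp Algebra.TensorProduct.includeRight
  letI : Algebra (Synt.RelGCIRing R₀ n c F₀)
      (Synt.RelGCIRing R n c (fun i => MvPolynomial.map (algebraMap R₀ R) (F₀ i))) :=
    ψ.toRingHom.toAlgebra
  haveI : IsScalarTower R₀ (Synt.RelGCIRing R₀ n c F₀)
      (Synt.RelGCIRing R n c (fun i => MvPolynomial.map (algebraMap R₀ R) (F₀ i))) :=
    IsScalarTower.of_algebraMap_eq fun x => (ψ.commutes x).symm
  haveI : Algebra.IsPushout R₀ R (Synt.RelGCIRing R₀ n c F₀)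
      (Synt.RelGCIRing R n c (fun i => MvPolynomial.map (algebraMap R₀ R) (F₀ i))) := by
    constructor
    exact IsBaseChange.of_equiv e.toLinearEquiv (fun x => rfl)
  exact ⟨ψ.toRingHom, CommRingCat.isPushout_of_isPushout R₀ R (Synt.RelGCIRing R₀ n c F₀)
    (Synt.RelGCIRing R n c (fun i => MvPolynomial.map (algebraMap R₀ R) (F₀ i)))⟩

open AlgebraicGeometry CategoryTheory Limits in

open AlgebraicGeometry CategoryTheory Limits in
/-- Let f : X ⟶ S be a standard syntomic morphism of affine schemes. Then f is the base change of a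
morphism of finite type f₀ : X₀ ⟶ S₀ between affine schemes with S₀ of finite type over ℤ and f₀
standard syntomic. -/
theorem result {X S : Scheme.{u}} (f : X ⟶ S) [IsAffine X] [IsAffine S] (hf : Synt.IsStandardSyntomic f) :
    ∃ (X₀ S₀ : Scheme.{u}) (f₀ : X₀ ⟶ S₀) (g : S ⟶ S₀) (g' : X ⟶ X₀), IsAffine X₀ ∧ IsAffine S₀ ∧ IsPullback g' f f₀ g ∧
      Algebra.FiniteType ℤ Γ(S₀, ⊤) ∧ LocallyOfFiniteType f₀ ∧ Synt.IsStandardSyntomic f₀ := by
  obtain ⟨R, _, n, c, F, hGCI, e₁, e₂, comm⟩ := hf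
  obtain ⟨R₀, F₀, hFT, hF, hGCI₀⟩ := Groth.Agent.S9148.result R n c F hGCI
  obtain ⟨ψ, hψ⟩ := isPushout_aux R₀ R n c F₀ F hF
  have hpb := AlgebraicGeometry.isPullback_SpecMap_of_isPushout _ _ _ _ hψ
  refine ⟨Spec (CommRingCat.of (Synt.RelGCIRing R₀ n c F₀)), Spec (CommRingCat.of R₀),
    Spec.map (CommRingCat.ofHom (algebraMap R₀ (Synt.RelGCIRing R₀ n c F₀))),
    e₂.hom ≫ Spec.map (CommRingCat.ofHom (algebraMap R₀ R)),
    e₁.hom ≫ Spec.map (CommRingCat.ofHom ψ), inferInstance, inferInstance, ?_, ?_, ?_, ?_⟩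
  · -- pullback
    have h1 : IsPullback (Spec.map (CommRingCat.ofHom ψ))
        (Spec.map (CommRingCat.ofHom (algebraMap R (Synt.RelGCIRing R n c F))))
        (Spec.map (CommRingCat.ofHom (algebraMap R₀ (Synt.RelGCIRing R₀ n c F₀))))
        (Spec.map (CommRingCat.ofHom (algebraMap R₀ R))) := hpb.flip
    refine IsPullback.of_iso h1 e₁.symm (Iso.refl _) e₂.symm (Iso.refl _) ?_ ?_ ?_ ?_
    · simp
    · rw [Iso.symm_hom, Iso.symm_hom, Iso.eq_inv_comp, ← Category.assoc, comm]; simp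
    · simp
    · simp
  · -- finite type over ℤ
    let e : Γ(Spec (CommRingCat.of R₀), ⊤) ≃+* R₀ :=
      (Scheme.ΓSpecIso (CommRingCat.of R₀)).commRingCatIsoToRingEquiv
    exact Algebra.FiniteType.equiv hFT e.symm.toIntAlgEquiv
  · rw [HasRingHomProperty.Spec_iff (P := @LocallyOfFiniteType)]
    rw [CommRingCat.hom_ofHom, RingHom.finiteType_algebraMap]
    exact Algebra.FiniteType.of_surjective (Ideal.Quotient.mkₐ R₀ _) Ideal.Quotient.mk_surjective
  · exact ⟨R₀, inferInstance, n, c, F₀, hGCI₀, Iso.refl _, Iso.refl _, by simp⟩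


end Groth.Agent.S9736
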