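import Groth.Statements.S9737
import Mathlib
import Groth.Agent.Lib.Helper46.LimCombine
import Groth.Agent.Lib.Helper50.FGLim

set_option autoImplicit false
universe u
open FlatMor

namespace Groth.Agent.S9737

open AlgebraicGeometry CategoryTheory Limits Groth.Agent.Lib.Helper50 in
private lemma exists_fg_subalgebra_range_le {A₁ A₂ A : Type u} [CommRing A₁] [CommRing A₂]
    [CommRing A] [Algebra A₁ A] (φ : A₂ →+* A) (h : Algebra.FiniteType ℤ A₂) :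
    ∃ R : Subalgebra A₁ A, R.FG ∧ ∀ x, φ x ∈ R := by
  obtain ⟨s, hs⟩ := h.out
  refine ⟨Algebra.adjoin A₁ (φ '' (s : Set A₂)), ?_, ?_⟩
  · exact Subalgebra.fg_def.mpr ⟨φ '' (s : Set A₂), s.finite_toSet.image _, rfl⟩
  · intro x
    have hx : x ∈ Algebra.adjoin ℤ (s : Set A₂) := by rw [hs]; trivial
    induction hx using Algebra.adjoin_induction with
    | mem x hx => exact Algebra.subset_adjoin ⟨x, hx, rfl⟩
    | algebraMap r =>
      rw [eq_intCast, map_intCast]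
      exact intCast_mem _ r
    | add x y _ _ hx hy => rw [map_add]; exact add_mem hx hy
    | mul x y _ _ hx hy => rw [map_mul]; exact mul_mem hx hy

open AlgebraicGeometry CategoryTheory Limits in
private lemma main_of_limit (P Q : MorphismProperty Scheme.{u}) [P.IsStableUnderBaseChange]
    [Q.IsStableUnderBaseChange]
    {I : Type u} [SmallCategory I] [IsCofiltered I]
    (D : I ⥤ Scheme.{u}) (c : Cone D) (hc : IsLimit c)
    [∀ (i j : I) (f : i ⟶ j), IsAffineHom (D.map f)] [∀ i, IsAffine (D.obj i)] (i : I)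
    {X S : Scheme.{u}} (f : X ⟶ S) (e : S ≅ c.pt)
    {X₁ S₁ X₂ S₂ : Scheme.{u}} [IsAffine X₁] [IsAffine S₁] [IsAffine X₂] [IsAffine S₂]
    (f₁ : X₁ ⟶ S₁) (g₁ : S ⟶ S₁) (g₁' : X ⟶ X₁) (h₁ : IsPullback g₁' f f₁ g₁)
    (f₂ : X₂ ⟶ S₂) (g₂ : S ⟶ S₂) (g₂' : X ⟶ X₂) (h₂ : IsPullback g₂' f f₂ g₂)
    [LocallyOfFinitePresentation f₁] [LocallyOfFinitePresentation f₂]
    (t₁ : D.obj i ⟶ S₁) (t₂ : D.obj i ⟶ S₂)
    (e₁ : e.hom ≫ c.π.app i ≫ t₁ = g₁) (e₂ : e.hom ≫ c.π.app i ≫ t₂ = g₂)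
    (hP : P f₁) (hQ : Q f₂) :
    ∃ (j : I) (X₀ : Scheme.{u}) (f₀ : X₀ ⟶ D.obj j) (g' : X ⟶ X₀), IsAffine X₀ ∧
      IsPullback g' f f₀ (e.hom ≫ c.π.app j) ∧ LocallyOfFiniteType f₀ ∧ P f₀ ∧ Q f₀ := by
  have w₁ : g₁' ≫ f₁ = ((f ≫ e.hom) ≫ c.π.app i) ≫ t₁ := by
    rw [h₁.w, ← e₁]; simp
  have w₂ : g₂' ≫ f₂ = ((f ≫ e.hom) ≫ c.π.app i) ≫ t₂ := by
    rw [h₂.w, ← e₂]; simp
  have h8 : IsPullback (𝟙 X) (f ≫ e.hom) f e.inv := IsPullback.of_horiz_isIso ⟨by simp⟩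
  have hX : IsPullback (pullback.lift g₁' ((f ≫ e.hom) ≫ c.π.app i) w₁) (f ≫ e.hom)
      (pullback.snd f₁ t₁) (c.π.app i) := by
    refine IsPullback.of_right ?_ (pullback.lift_snd _ _ _) (IsPullback.of_hasPullback f₁ t₁)
    rw [pullback.lift_fst]
    have := h8.paste_horiz h₁
    rwa [Category.id_comp, ← e₁, Iso.inv_hom_id_assoc] at this
  have hY : IsPullback (pullback.lift g₂' ((f ≫ e.hom) ≫ c.π.app i) w₂) (f ≫ e.hom)
      (pullback.snd f₂ t₂) (c.π.app i) := by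
    refine IsPullback.of_right ?_ (pullback.lift_snd _ _ _) (IsPullback.of_hasPullback f₂ t₂)
    rw [pullback.lift_fst]
    have := h8.paste_horiz h₂
    rwa [Category.id_comp, ← e₂, Iso.inv_hom_id_assoc] at this
  obtain ⟨j, ψ, X₀, f₀, g', a, b, hg, ha, hb⟩ :=
    Groth.Agent.Lib.Helper46.exists_common_stage D c hc i (pullback.snd f₁ t₁) (pullback.snd f₂ t₂)
      (f ≫ e.hom) _ hX _ hY
  have haff : IsAffineHom f₀ :=
    MorphismProperty.of_isPullback (P := @IsAffineHom) ha inferInstance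
  have h9 : IsPullback (𝟙 X) f (f ≫ e.hom) e.hom := IsPullback.of_horiz_isIso ⟨by simp⟩
  refine ⟨j, X₀, f₀, g', isAffine_of_isAffineHom f₀, ?_, ?_, ?_, ?_⟩
  · have := h9.paste_horiz hg
    rwa [Category.id_comp] at this
  · exact MorphismProperty.of_isPullback (P := @LocallyOfFiniteType) ha inferInstance
  · exact P.of_isPullback (ha.paste_horiz (IsPullback.of_hasPullback f₁ t₁)) hP
  · exact Q.of_isPullback (hb.paste_horiz (IsPullback.of_hasPullback f₂ t₂)) hQ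

open AlgebraicGeometry CategoryTheory Limits in
/-- Suppose P and Q are classes of morphisms of schemes preserved by arbitrary pullback, and f : X ⟶ S
is a finitely presented morphism of affine schemes. If f arises by pullback from a finite-type
morphism f₁ : X₁ ⟶ S₁ satisfying P, and also from a finite-type morphism f₂ : X₂ ⟶ S₂ satisfying Q,
where all four schemes are affine and Γ(S₁), Γ(S₂) are finitely generated ℤ-algebras, then f arises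
by pullback from a single finite-type morphism f₀ : X₀ ⟶ S₀ of affine schemes, with Γ(S₀) finitely
generated over ℤ, satisfying both P and Q. -/
theorem result (P Q : MorphismProperty Scheme.{u}) [P.IsStableUnderBaseChange] [Q.IsStableUnderBaseChange]
    {X S : Scheme.{u}} (f : X ⟶ S) [IsAffine X] [IsAffine S] [LocallyOfFinitePresentation f]
    {X₁ S₁ X₂ S₂ : Scheme.{u}} [IsAffine X₁] [IsAffine S₁] [IsAffine X₂] [IsAffine S₂]
    (f₁ : X₁ ⟶ S₁) (g₁ : S ⟶ S₁) (g₁' : X ⟶ X₁) (h₁ : IsPullback g₁' f f₁ g₁)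
    (f₂ : X₂ ⟶ S₂) (g₂ : S ⟶ S₂) (g₂' : X ⟶ X₂) (h₂ : IsPullback g₂' f f₂ g₂)
    (hS₁ : Algebra.FiniteType ℤ Γ(S₁, ⊤)) (hS₂ : Algebra.FiniteType ℤ Γ(S₂, ⊤))
    [LocallyOfFiniteType f₁] [LocallyOfFiniteType f₂] (hP : P f₁) (hQ : Q f₂) :
    ∃ (X₀ S₀ : Scheme.{u}) (f₀ : X₀ ⟶ S₀) (g : S ⟶ S₀) (g' : X ⟶ X₀), IsAffine X₀ ∧ IsAffine S₀ ∧ IsPullback g' f f₀ g ∧
      Algebra.FiniteType ℤ Γ(S₀, ⊤) ∧ LocallyOfFiniteType f₀ ∧ P f₀ ∧ Q f₀ := by
  classical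
  letI : Algebra Γ(S₁, ⊤) Γ(S, ⊤) := g₁.appTop.hom.toAlgebra
  obtain ⟨R₂, hR₂, hmem⟩ := exists_fg_subalgebra_range_le (A₁ := Γ(S₁, ⊤)) g₂.appTop.hom hS₂
  haveI : IsLocallyNoetherian S₁ := by
    haveI : IsNoetherianRing Γ(S₁, ⊤) := Algebra.FiniteType.isNoetherianRing ℤ _
    exact isLocallyNoetherian_of_affine_cover
      (S := fun _ : Unit ↦ ⟨⊤, isAffineOpen_top S₁⟩) (by simp) (fun _ => this)
  haveI : IsLocallyNoetherian S₂ := by
    haveI : IsNoetherianRing Γ(S₂, ⊤) := Algebra.FiniteType.isNoetherianRing ℤ _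
    exact isLocallyNoetherian_of_affine_cover
      (S := fun _ : Unit ↦ ⟨⊤, isAffineOpen_top S₂⟩) (by simp) (fun _ => this)
  have e₁' : S.isoSpec.hom ≫ Spec.map (CommRingCat.ofHom R₂.val.toRingHom) ≫
      (Spec.map (CommRingCat.ofHom (algebraMap Γ(S₁, ⊤) R₂)) ≫ S₁.isoSpec.inv) = g₁ := by
    have : CommRingCat.ofHom (algebraMap Γ(S₁, ⊤) R₂) ≫ CommRingCat.ofHom R₂.val.toRingHom =
        g₁.appTop := by
      ext x; rfl
    rw [← Category.assoc (Spec.map _), ← Spec.map_comp, this, ← Category.assoc,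
      Scheme.isoSpec_hom_naturality]
    simp
  have e₂' : S.isoSpec.hom ≫ Spec.map (CommRingCat.ofHom R₂.val.toRingHom) ≫
      (Spec.map (CommRingCat.ofHom (g₂.appTop.hom.codRestrict R₂ hmem)) ≫ S₂.isoSpec.inv) =
      g₂ := by
    have : CommRingCat.ofHom (g₂.appTop.hom.codRestrict R₂ hmem) ≫
        CommRingCat.ofHom R₂.val.toRingHom = g₂.appTop := by
      ext x; rfl
    rw [← Category.assoc (Spec.map _), ← Spec.map_comp, this, ← Category.assoc,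
      Scheme.isoSpec_hom_naturality]
    simp
  have e₁ : S.isoSpec.hom ≫
      (Groth.Agent.Lib.Helper50.fgSpecCone Γ(S₁, ⊤) Γ(S, ⊤)).π.app (Opposite.op ⟨R₂, hR₂⟩) ≫
      (Spec.map (CommRingCat.ofHom (algebraMap Γ(S₁, ⊤) R₂)) ≫ S₁.isoSpec.inv) = g₁ := e₁'
  have e₂ : S.isoSpec.hom ≫
      (Groth.Agent.Lib.Helper50.fgSpecCone Γ(S₁, ⊤) Γ(S, ⊤)).π.app (Opposite.op ⟨R₂, hR₂⟩) ≫
      (Spec.map (CommRingCat.ofHom (g₂.appTop.hom.codRestrict R₂ hmem)) ≫ S₂.isoSpec.inv) =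
      g₂ := e₂'
  obtain ⟨j, X₀, f₀, g', hX₀, hpb, hft, hP₀, hQ₀⟩ := main_of_limit P Q
    (Groth.Agent.Lib.Helper50.fgSpecDiagram Γ(S₁, ⊤) Γ(S, ⊤))
    (Groth.Agent.Lib.Helper50.fgSpecCone Γ(S₁, ⊤) Γ(S, ⊤))
    (Groth.Agent.Lib.Helper50.isLimitFgSpecCone Γ(S₁, ⊤) Γ(S, ⊤))
    (Opposite.op ⟨R₂, hR₂⟩) f S.isoSpec f₁ g₁ g₁' h₁ f₂ g₂ g₂' h₂
    (Spec.map (CommRingCat.ofHom (algebraMap Γ(S₁, ⊤) R₂)) ≫ S₁.isoSpec.inv)
    (Spec.map (CommRingCat.ofHom (g₂.appTop.hom.codRestrict R₂ hmem)) ≫ S₂.isoSpec.inv)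
    e₁ e₂ hP hQ
  refine ⟨X₀, _, f₀, _, g', hX₀, inferInstance, hpb, ?_, hft, hP₀, hQ₀⟩
  -- finite type over ℤ
  obtain ⟨⟨R, hR⟩⟩ := j
  have h1 : Algebra.FiniteType Γ(S₁, ⊤) R := (Subalgebra.fg_iff_finiteType R).mp hR
  have h2 : Algebra.FiniteType ℤ R := Algebra.FiniteType.trans hS₁ h1
  exact Algebra.FiniteType.equiv h2
    (Scheme.ΓSpecIso (CommRingCat.of R)).symm.commRingCatIsoToRingEquiv.toIntAlgEquiv

end Groth.Agent.S9737
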