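import Groth.Statements.S9740
import Groth.Agent.Lib.Helper57.FOThick

set_option autoImplicit false
universe u
open OmegaSh

namespace Groth.Agent.S9740

open AlgebraicGeometry CategoryTheory Limits in
/-- Let h : Z ⟶ X be formally unramified with universal first order thickening (i : Z ⟶ Z', h' : Z' ⟶
X), let V ⊆ Z and U ⊆ X be opens with h(V) ⊆ U, and let V' ⊆ Z' be the open with i⁻¹(V') = V (so
h'(V') ⊆ U). Then the restricted pair (V ⟶ V', V' ⟶ U) is a universal first-order thickening for the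
restriction V ⟶ U of h. The published statement also asserts that this restriction is formally
unramified and that the conormal sheaf of Z over X restricts on V to that of V over U; this row
states only the thickening part. -/
theorem result {Z Z' X : Scheme.{u}} (h : Z ⟶ X) [FormallyUnramified h] (i : Z ⟶ Z') (h' : Z' ⟶ X)
    (hu : OmegaSh.IsUnivThickening h i h') (V : Z.Opens) (U : X.Opens) (hVU : V ≤ h ⁻¹ᵁ U)
    (V' : Z'.Opens) (hV' : i ⁻¹ᵁ V' = V) (hV'U : V' ≤ h' ⁻¹ᵁ U) :
    OmegaSh.IsUnivThickening (h.resLE U V hVU) (i.resLE V' V hV'.ge) (h'.resLE U V' hV'U) := by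
  subst hV'
  obtain ⟨hi, hih', huniv⟩ := hu
  refine ⟨?_, ?_, ?_⟩
  · rw [Scheme.Hom.resLE_eq_morphismRestrict]
    exact Groth.Agent.Lib.Helper57.FOThick.baseChange hi (isPullback_morphismRestrict i V').flip
  · rw [← cancel_mono U.ι, Category.assoc, Scheme.Hom.resLE_comp_ι, Scheme.Hom.resLE_comp_ι,
      Scheme.Hom.resLE_comp_ι_assoc, hih']
  · intro T T' jT b a hjT hab
    have h1 : jT ≫ (b ≫ U.ι) = (a ≫ (i ⁻¹ᵁ V').ι) ≫ h := by
      rw [← Category.assoc, hab, Category.assoc, Category.assoc, Scheme.Hom.resLE_comp_ι]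
    obtain ⟨a'', ⟨ha''1, ha''2⟩, ha''u⟩ := huniv T T' jT (b ≫ U.ι) (a ≫ (i ⁻¹ᵁ V').ι) hjT h1
    have hsurj : Function.Surjective jT := hjT.1.2.surj
    have hrange : Set.range a'' ⊆ Set.range V'.ι := by
      rintro _ ⟨t', rfl⟩
      obtain ⟨t, rfl⟩ := hsurj t'
      have h2 : a'' (jT t) = i ((i ⁻¹ᵁ V').ι (a t)) := by
        have := congrArg (fun g : T ⟶ Z' => g t) ha''1
        simpa using this
      rw [h2, Scheme.Opens.range_ι]
      exact (a t).2
    refine ⟨IsOpenImmersion.lift V'.ι a'' hrange, ⟨?_, ?_⟩, ?_⟩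
    · rw [← cancel_mono V'.ι, Category.assoc, IsOpenImmersion.lift_fac, ha''1, Category.assoc,
        Category.assoc, Scheme.Hom.resLE_comp_ι]
    · rw [← cancel_mono U.ι, Category.assoc, Scheme.Hom.resLE_comp_ι,
        IsOpenImmersion.lift_fac_assoc, ha''2]
    · rintro a₂ ⟨ha₂1, ha₂2⟩
      rw [← cancel_mono V'.ι, IsOpenImmersion.lift_fac]
      apply ha''u
      constructor
      · rw [← Category.assoc, ha₂1, Category.assoc, Scheme.Hom.resLE_comp_ι, Category.assoc]
      · rw [Category.assoc, ← Scheme.Hom.resLE_comp_ι h' hV'U, ← Category.assoc, ha₂2]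

end Groth.Agent.S9740
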