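import Groth.Statements.S9741
import Groth.Agent.Lib.Helper57.FOThick

set_option autoImplicit false
universe u
open OmegaSh

namespace Groth.Agent.S9741

open AlgebraicGeometry CategoryTheory Limits in
/-- Let a : Z ⟶ Y and b : Y ⟶ X be formally unramified, let (i : Z ⟶ Z', c : Z' ⟶ X) be universal among
first order thickenings of Z relative to X (for a ≫ b), and (j : Y ⟶ Y', d : Y' ⟶ X) likewise for Y
relative to X (for b). Then there is a morphism of thickenings m : Z' ⟶ Y' over X (i ≫ m = a ≫ j and
m ≫ d = c) such that Z ⟶ Y ×_{Y'} Z' (components a and i), together with the projection to Y, is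
universal among first order thickenings of Z relative to Y (for a). The published statement also
asserts an exact sequence of conormal sheaves; this row states only the thickening assertion. -/
theorem result {Z Y X Z' Y' : Scheme.{u}} (a : Z ⟶ Y) (b : Y ⟶ X)
    [FormallyUnramified a] [FormallyUnramified b] (i : Z ⟶ Z') (c : Z' ⟶ X) (hZ : OmegaSh.IsUnivThickening (a ≫ b) i c)
    (j : Y ⟶ Y') (d : Y' ⟶ X) (hY : OmegaSh.IsUnivThickening b j d) :
    ∃ (m : Z' ⟶ Y') (hm : i ≫ m = a ≫ j), m ≫ d = c ∧
      OmegaSh.IsUnivThickening a (pullback.lift a i hm.symm) (pullback.fst j m) := by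
  obtain ⟨hi, hic, hZu⟩ := hZ
  obtain ⟨hj, hjd, hYu⟩ := hY
  -- the morphism of thickenings
  obtain ⟨m, ⟨hm1, hm2⟩, -⟩ := hYu Z Z' i c a hi hic
  refine ⟨m, hm1, hm2, ?_, pullback.lift_fst _ _ _, ?_⟩
  · -- first order thickening
    have hq : MoreMor.IsFirstOrderThickening (pullback.snd j m) :=
      Groth.Agent.Lib.Helper57.FOThick.baseChange hj (IsPullback.of_hasPullback j m)
    have : IsClosedImmersion (pullback.snd j m) := hq.1.1
    apply Groth.Agent.Lib.Helper57.FOThick.of_comp _ (pullback.snd j m)
    rw [pullback.lift_snd]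
    exact hi
  · intro T T' jT β α hjT hαβ
    -- the map to `Z'`
    have h1 : jT ≫ (β ≫ b) = α ≫ (a ≫ b) := by
      rw [← Category.assoc, hαβ, Category.assoc]
    obtain ⟨γ, ⟨hγ1, hγ2⟩, hγu⟩ := hZu T T' jT (β ≫ b) α hjT h1
    -- compatibility in `Y'`
    have h2 : jT ≫ (β ≫ b) = (α ≫ a) ≫ b := by rw [h1, Category.assoc]
    obtain ⟨δ, -, hδu⟩ := hYu T T' jT (β ≫ b) (α ≫ a) hjT h2
    have e1 : β ≫ j = δ := hδu _ ⟨by rw [← Category.assoc, hαβ, Category.assoc],
      by rw [Category.assoc, hjd]⟩
    have e2 : γ ≫ m = δ := hδu _ ⟨by rw [← Category.assoc, hγ1, Category.assoc, hm1,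
      Category.assoc], by rw [Category.assoc, hm2, hγ2]⟩
    refine ⟨pullback.lift β γ (e1.trans e2.symm), ⟨?_, pullback.lift_fst _ _ _⟩, ?_⟩
    · apply pullback.hom_ext
      · rw [Category.assoc, pullback.lift_fst, Category.assoc, pullback.lift_fst, hαβ]
      · rw [Category.assoc, pullback.lift_snd, Category.assoc, pullback.lift_snd, hγ1]
    · rintro α' ⟨hα'1, hα'2⟩
      apply pullback.hom_ext
      · rw [pullback.lift_fst, hα'2]
      · rw [pullback.lift_snd]
        apply hγu
        constructor
        · rw [← Category.assoc, hα'1, Category.assoc, pullback.lift_snd]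
        · rw [Category.assoc, ← hm2, ← Category.assoc (pullback.snd j m), ← pullback.condition,
            Category.assoc, hjd, ← Category.assoc, hα'2]

end Groth.Agent.S9741
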