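import Groth.Statements.S9749
-- import your own Groth.Agent.* helpers here

set_option autoImplicit false
universe u
open Flatn

namespace Groth.Agent.S9749

theorem relFP_of_retract (R S : Type u) [CommRing R] [CommRing S] [Algebra R S] (M N : Type u)
    [AddCommGroup M] [Module S M] [AddCommGroup N] [Module S N] (i : N →ₗ[S] M) (p : M →ₗ[S] N)
    (h : ∀ x, p (i x) = x) (hM : FlatCA.RelFinitePresentation R S M) :
    FlatCA.RelFinitePresentation R S N := by
  obtain ⟨n, φ, hφ, hfp⟩ := hM
  refine ⟨n, φ, hφ, ?_⟩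
  letI : Module (MvPolynomial (Fin n) R) M := Module.compHom M φ.toRingHom
  letI : Module (MvPolynomial (Fin n) R) N := Module.compHom N φ.toRingHom
  have hfp' : Module.FinitePresentation (MvPolynomial (Fin n) R) M := hfp
  let p' : M →ₗ[MvPolynomial (Fin n) R] N :=
    { toFun := p
      map_add' := p.map_add
      map_smul' := fun c m => p.map_smul (φ c) m }
  let i' : N →ₗ[MvPolynomial (Fin n) R] M :=
    { toFun := i
      map_add' := i.map_add
      map_smul' := fun c m => i.map_smul (φ c) m }
  have hsurj : Function.Surjective p' := fun x => ⟨i x, h x⟩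
  have hker : LinearMap.ker p' = LinearMap.range (LinearMap.id - i' ∘ₗ p') := by
    ext m
    simp only [LinearMap.mem_ker, LinearMap.mem_range]
    constructor
    · intro hm
      refine ⟨m, ?_⟩
      simp [hm]
    · rintro ⟨y, rfl⟩
      simp only [LinearMap.sub_apply, LinearMap.id_apply, LinearMap.comp_apply, map_sub]
      change p y - p (i (p y)) = 0
      rw [h, sub_self]
  refine Module.finitePresentation_of_surjective p' hsurj ?_
  rw [hker, LinearMap.range_eq_map]
  exact (Module.Finite.fg_top).map _

open AlgebraicGeometry CategoryTheory Limits in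
/-- For f : X ⟶ S locally of finite type and quasi-coherent O_X-modules F, F', relative finite
presentation over S of the biproduct F ⊞ F' implies the same property for each summand. -/
theorem result {X S : Scheme.{u}} (f : X ⟶ S) [LocallyOfFiniteType f] (F F' : X.Modules) [Coh.IsQCoh F] [Coh.IsQCoh F']
    (h : Flatn.IsRelFP f (F ⊞ F')) : Flatn.IsRelFP f F ∧ Flatn.IsRelFP f F' := by
  have key : ∀ (G : X.Modules) (i : G ⟶ F ⊞ F') (p : F ⊞ F' ⟶ G), i ≫ p = 𝟙 G →
      Flatn.IsRelFP f G := by
    intro G i p hip
    obtain ⟨𝒱, h𝒱, h2⟩ := h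
    refine ⟨𝒱, h𝒱, fun V hV => ?_⟩
    obtain ⟨𝒰, h𝒰, h3⟩ := h2 V hV
    refine ⟨𝒰, h𝒰, fun U hU hle => ?_⟩
    have h4 := h3 U hU hle
    rw [Flatn.relFPOn_iff] at h4 ⊢
    letI := (f.appLE (V : S.Opens) (U : X.Opens) hle).hom.toAlgebra
    refine relFP_of_retract _ _ _ _ (i.val.app (Opposite.op (U : X.Opens))).hom
      (p.val.app (Opposite.op (U : X.Opens))).hom (fun x => ?_) h4
    have := congrArg (fun t : G ⟶ G => (t.val.app (Opposite.op (U : X.Opens))).hom x) hip
    exact this
  exact ⟨key F biprod.inl biprod.fst (by simp), key F' biprod.inr biprod.snd (by simp)⟩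

end Groth.Agent.S9749
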