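import Groth.Statements.S9750
import Groth.Agent.S9732
import Groth.Agent.Lib.Helper19.FormallyEtaleGlue
import Groth.Agent.Lib.Helper57.UnivThickGlue
import Groth.Agent.Lib.Helper21.ClImmUnit3
import Groth.Agent.Lib.Helper48.OmegaAff7

set_option autoImplicit false
universe u
open FlatMor

namespace Groth.Agent.S9750

open AlgebraicGeometry CategoryTheory Limits in
theorem fot_id (X : Scheme.{u}) : MoreMor.IsFirstOrderThickening (𝟙 X) := by
  refine ⟨⟨inferInstance, inferInstance⟩, ?_⟩
  rw [Scheme.Hom.ker_eq_bot_of_isIso, Scheme.IdealSheafData.bot_mul]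

open AlgebraicGeometry CategoryTheory Limits in
theorem fot_mk (A : Type u) [CommRing A] (I : Ideal A) (hI : I ^ 2 = ⊥) :
    MoreMor.IsFirstOrderThickening (Spec.map (CommRingCat.ofHom (Ideal.Quotient.mk I))) := by
  refine Groth.Agent.S9732.fot_spec _ Ideal.Quotient.mk_surjective ?_
  rw [CommRingCat.hom_ofHom, Ideal.mk_ker]
  exact hI

open AlgebraicGeometry CategoryTheory Limits in
theorem partA_mp {X S : Scheme.{u}} (f : X ⟶ S) (hf : MoreMor.IsFormallyEtaleHom f) :
    FormallyUnramified f ∧ OmegaSh.IsUnivThickening f (𝟙 X) f := by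
  refine ⟨?_, fot_id X, Category.id_comp f, ?_⟩
  · apply AlgebraicGeometry.FormallyUnramified.of_hom_ext
    intro R S' φ hφ hk g₁ g₂ e1 e2
    have hu := Groth.Agent.Lib.Helper19.FEG.existsUnique_lift f hf (Spec.map φ)
      (Groth.Agent.S9732.fot_spec φ hφ hk) (Spec.map φ ≫ g₁) (g₁ ≫ f) (by rw [Category.assoc])
    exact hu.unique ⟨rfl, rfl⟩ ⟨e1.symm, e2.symm⟩
  · intro T T' j b a hj w
    have hu := Groth.Agent.Lib.Helper19.FEG.existsUnique_lift f hf j hj a b w
    simpa only [Category.comp_id] using hu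

open AlgebraicGeometry CategoryTheory Limits in
theorem partA_mpr {X S : Scheme.{u}} (f : X ⟶ S) (hu : OmegaSh.IsUnivThickening f (𝟙 X) f) :
    MoreMor.IsFormallyEtaleHom f := by
  intro A _ I hI a b w
  have h := hu.2.2 _ _ (Spec.map (CommRingCat.ofHom (Ideal.Quotient.mk I))) b a (fot_mk A I hI) w
  simpa only [Category.comp_id] using h

open CategoryTheory Limits in
theorem isZero_leftAdjoint {C D : Type*} [Category C] [Category D] [HasZeroMorphisms C]
    [HasZeroMorphisms D] {F : C ⥤ D} {G : D ⥤ C} (adj : F ⊣ G) {M : C} (hM : IsZero M) :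
    IsZero (F.obj M) := by
  rw [IsZero.iff_id_eq_zero]
  exact (adj.homEquiv M (F.obj M)).injective (hM.eq_of_src _ _)

open CategoryTheory Limits in
theorem isZero_rightAdjoint {C D : Type*} [Category C] [Category D] [HasZeroMorphisms C]
    [HasZeroMorphisms D] {F : C ⥤ D} {G : D ⥤ C} (adj : F ⊣ G) {N : D} (hN : IsZero N) :
    IsZero (G.obj N) := by
  rw [IsZero.iff_id_eq_zero]
  exact (adj.homEquiv (G.obj N) N).symm.injective (hN.eq_of_tgt _ _)

open AlgebraicGeometry CategoryTheory Limits Groth.Agent.Lib.Helper48.OmegaAff in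
theorem isZero_idealMod_of_isIso {X X' : Scheme.{u}} (i : X ⟶ X') [IsIso i] [QuasiCompact i] :
    IsZero (ClSub.idealMod i.ker) := by
  rw [isZero_iff_subsingleton_sections]
  refine subsingleton_sections_of_basis _ fun x W hx => ?_
  obtain ⟨U, hU, hxU, hUW⟩ := exists_isAffineOpen_mem_and_subset (x := x) (U := W) hx
  refine ⟨U, hxU, hUW, ⟨fun s t => ?_⟩⟩
  apply idealModιL_injective i.ker U
  have hinj : Function.Injective (i.app U).hom :=
    (ConcreteCategory.bijective_of_isIso (i.app U)).1
  have h0 : ∀ s : Γ(ClSub.idealMod i.ker, U), idealModιL i.ker U s = 0 := by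
    intro s
    apply hinj
    rw [map_zero]
    exact app_idealModι_eq_zero i hU s
  rw [h0 s, h0 t]

open AlgebraicGeometry CategoryTheory Limits Groth.Agent.Lib.Helper48.OmegaAff in
theorem killed {X X' : Scheme.{u}} (i : X ⟶ X') [QuasiCompact i] (hsq : i.ker * i.ker = ⊥) :
    ClSub.KilledByIdeal i.ker (ClSub.idealMod i.ker) := by
  intro U a ha m
  apply idealModιL_injective i.ker U.1
  have h1 : idealModιL i.ker U.1 m ∈ i.ker.ideal U := by
    rw [Scheme.Hom.ker_apply, RingHom.mem_ker]
    exact app_idealModι_eq_zero i U.2 m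
  have h2 : a * idealModιL i.ker U.1 m ∈ (i.ker * i.ker).ideal U := by
    rw [Scheme.IdealSheafData.ideal_mul]
    exact Ideal.mul_mem_mul ha h1
  rw [hsq] at h2
  have h3 : a * idealModιL i.ker U.1 m = 0 := by simpa using h2
  refine Eq.trans ?_ (map_zero _).symm
  exact ((idealModιL i.ker U.1).map_smul a m).trans h3

open AlgebraicGeometry CategoryTheory Limits Groth.Agent.Lib.Helper48.OmegaAff in
theorem ker_eq_bot_of_isZero {X' : Scheme.{u}} (K : X'.IdealSheafData)
    (hz : IsZero (ClSub.idealMod K)) : K = ⊥ := by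
  rw [isZero_iff_subsingleton_sections] at hz
  rw [eq_bot_iff]
  intro U a ha
  have hx : (ClSub.toSubscheme K).app U.1 (OmegaSh.strSect X' U.1 a) = 0 := by
    rw [OmegaSh.toSubscheme_app_strSect]
    rw [← Scheme.IdealSheafData.ker_subschemeι_app, RingHom.mem_ker] at ha
    exact ha
  have h1 := OmegaSh.ι_kerLift (ClSub.toSubscheme K) U.1 (OmegaSh.strSect X' U.1 a) hx
  have := hz U.1
  have h2 : OmegaSh.kerLift (ClSub.toSubscheme K) U.1 (OmegaSh.strSect X' U.1 a) hx = 0 :=
    Subsingleton.elim (α := Γ(ClSub.idealMod K, U.1)) _ _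
  rw [h2, map_zero] at h1
  have h3 : a = 0 := h1.symm
  rw [h3]
  exact Ideal.zero_mem _

open AlgebraicGeometry CategoryTheory Limits in
theorem partB_mp {X S X' : Scheme.{u}} (f : X ⟶ S) (i : X ⟶ X') (h' : X' ⟶ S) [QuasiCompact i]
    (hu : OmegaSh.IsUnivThickening f i h') (hf : MoreMor.IsFormallyEtaleHom f) :
    IsZero (Omega.conormal i) := by
  have hu0 := (partA_mp f hf).2
  have : IsIso i := Groth.Agent.Lib.Helper57.UnivThickGlue.isIso_of_univ hu0 hu i
    (Category.id_comp i) hu.2.1
  exact isZero_leftAdjoint (Scheme.Modules.pullbackPushforwardAdjunction i)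
    (isZero_idealMod_of_isIso i)

open AlgebraicGeometry CategoryTheory Limits in
theorem partB_mpr {X S X' : Scheme.{u}} (f : X ⟶ S) (i : X ⟶ X') (h' : X' ⟶ S) [QuasiCompact i]
    (hu : OmegaSh.IsUnivThickening f i h') (hz : IsZero (Omega.conormal i)) :
    MoreMor.IsFormallyEtaleHom f := by
  have hci : IsClosedImmersion i := hu.1.1.1
  have hiso := Groth.Agent.Lib.Helper21.ClImmUnit.isIso_unit_of_killedByIdeal i
    (ClSub.idealMod i.ker) (killed i hu.1.2)
  have hz2 : IsZero ((Scheme.Modules.pushforward i).obj (Omega.conormal i)) :=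
    isZero_rightAdjoint (Scheme.Modules.pullbackPushforwardAdjunction i) hz
  have hz3 : IsZero (ClSub.idealMod i.ker) :=
    hz2.of_iso (@asIso _ _ _ _ ((Scheme.Modules.pullbackPushforwardAdjunction i).unit.app
      (ClSub.idealMod i.ker)) hiso)
  have hker : i.ker = ⊥ := ker_eq_bot_of_isZero i.ker hz3
  have : IsIso i := IsClosedImmersion.isIso_iff_ker_eq_bot.mpr hker
  intro A _ I hI a b w
  obtain ⟨a', ⟨h1, h2⟩, hun⟩ := hu.2.2 _ _ (Spec.map (CommRingCat.ofHom (Ideal.Quotient.mk I)))
    b a (fot_mk A I hI) w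
  refine ⟨a' ≫ inv i, ⟨?_, ?_⟩, ?_⟩
  · rw [← Category.assoc, h1, Category.assoc, IsIso.hom_inv_id, Category.comp_id]
  · rw [← hu.2.1, Category.assoc, IsIso.inv_hom_id_assoc, h2]
  · rintro l ⟨hl1, hl2⟩
    have := hun (l ≫ i) ⟨by rw [← Category.assoc, hl1], by rw [Category.assoc, hu.2.1, hl2]⟩
    rw [← this, Category.assoc, IsIso.hom_inv_id, Category.comp_id]

open AlgebraicGeometry CategoryTheory Limits in
/-- (1) ⇔ (2) ⇔ (3): a morphism f : X ⟶ S is formally étale (unique infinitesimal lifting against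
square-zero thickenings of affine schemes) if and only if f is formally unramified and X, through
the identity and f, is its own universal square-zero (first order) thickening relative to f; and,
for f formally unramified with universal first order thickening data (i : X ⟶ X', h' : X' ⟶ S), f is
formally étale if and only if the conormal sheaf of i (the conormal sheaf of f) is zero. The
published statement also lists a fourth equivalent condition, the vanishing of both the sheaf of
differentials and the conormal sheaf; this row omits it. -/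
theorem result {X S : Scheme.{u}} (f : X ⟶ S) :
    (MoreMor.IsFormallyEtaleHom f ↔ FormallyUnramified f ∧ OmegaSh.IsUnivThickening f (𝟙 X) f) ∧
    (∀ {X' : Scheme.{u}} (i : X ⟶ X') (h' : X' ⟶ S) [QuasiCompact i], FormallyUnramified f →
      OmegaSh.IsUnivThickening f i h' → (MoreMor.IsFormallyEtaleHom f ↔ IsZero (Omega.conormal i))) := by
  refine ⟨⟨partA_mp f, fun h => partA_mpr f h.2⟩, ?_⟩
  intro X' i h' _ _ hu
  exact ⟨partB_mp f i h' hu, partB_mpr f i h' hu⟩

end Groth.Agent.S9750
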