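import Groth.Statements.S9755
import Groth.Agent.Lib.Helper87.BranchFibre

set_option autoImplicit false
universe u
open Brnch

namespace Groth.Agent.S9755

open AlgebraicGeometry CategoryTheory Limits in
/-- For f : X ⟶ S and x ∈ X lying over s, the branch number of the fibre X_s at x equals the supremum,
over elementary étale neighbourhoods (U, u) of (X, x) (étale, u ↦ x, trivial residue field
extension), of how many irreducible components of U_s contain the point of U_s above u. -/
theorem result {X S : Scheme.{u}} (f : X ⟶ S) (x : X) :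
    Brnch.numBranchesAt (f.fiber (f x)) (f.asFiber x) = ⨆ (U : Scheme.{u}) (g : U ⟶ X) (u : U) (_ : Hens2.IsEtaleNbhd g u x),
      {Z : Set ↑((g ≫ f).fiber (f x)) | Z ∈ irreducibleComponents ↑((g ≫ f).fiber (f x)) ∧
        ∃ u' ∈ Z, (g ≫ f).fiberι (f x) u' = u}.encard := by
  open Groth.Agent.Lib.Helper87.BranchFibre Groth.Agent.Lib.Helper67.FiberStalk in
  apply le_antisymm
  · rw [← ENat.forall_natCast_le_iff_le]
    intro n hn
    obtain ⟨U, g, u, hnb, hle⟩ := exists_etaleNbhd_fibre_le f x n hn
    have hy : (g ≫ f).base u = f.base x := by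
      rw [Scheme.Hom.comp_base, TopCat.comp_app, hnb.base_eq]
    rw [← encard_fibre_comps_eq (g ≫ f) u (f.base x) hy] at hle
    exact hle.trans
      (le_iSup_of_le U (le_iSup_of_le g (le_iSup_of_le u (le_iSup_of_le hnb le_rfl))))
  · refine iSup_le fun U => iSup_le fun g => iSup_le fun u => iSup_le fun h => ?_
    haveI := h.etale
    have hres := h.residue_bijective
    have hgu' : g.base u = x := h.base_eq
    subst hgu'
    have hy : (g ≫ f).base u = f.base (g.base u) := rfl
    have h1 := encard_fibre_comps_eq (g ≫ f) u (f.base (g.base u)) hy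
    exact h1.le.trans (encard_fibIdeal_le_numBranchesAt f g u hres)

end Groth.Agent.S9755
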