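import Groth.Statements.S9756
import Groth.Agent.Lib.Helper55.FL.SliceScheme
import Groth.Agent.Lib.Helper67.FiberStalk
import Groth.Agent.Lib.Helper67.Depth

set_option autoImplicit false
universe u
open FlatMor

namespace Groth.Agent.S9756

open AlgebraicGeometry CategoryTheory Limits in
/-- Let f : X ⟶ S be locally of finite presentation and flat at a point x, and assume the local ring of
the fibre X_{f x} at x has depth at least 1. Then there are an affine open U ∋ x and a
nonzerodivisor h' of Γ(X, U) vanishing at x such that the closed subscheme V(h') of U, an effective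
Cartier divisor through x, is flat and locally of finite presentation over S. The published
statement concludes that V(h') ⟶ S is of finite presentation; this row concludes only that it is
flat and locally of finite presentation, which is what the published argument (slicing by a lift of
a fibrewise nonzerodivisor) yields, and which is equivalent when S is quasi-separated, V(h') being
affine. -/
theorem result {X S : Scheme.{u}} (f : X ⟶ S) [LocallyOfFinitePresentation f] (x : X)
    (hflat : (f.stalkMap x).hom.Flat)
    (hdepth : 1 ≤ LocCoh.depth ↑((f.fiber (f x)).presheaf.stalk (f.asFiber x)) ↑((f.fiber (f x)).presheaf.stalk (f.asFiber x))) :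
    ∃ (U : X.Opens) (hU : IsAffineOpen U) (hx : x ∈ U) (h' : Γ(X, U)), h' ∈ nonZeroDivisors Γ(X, U) ∧
      X.presheaf.germ U x hx h' ∈ IsLocalRing.maximalIdeal ↑(X.presheaf.stalk x) ∧
      Flat (Spec.map (CommRingCat.ofHom (Ideal.Quotient.mk (Ideal.span {h'}))) ≫ hU.fromSpec ≫ f) ∧
      LocallyOfFinitePresentation (Spec.map (CommRingCat.ofHom (Ideal.Quotient.mk (Ideal.span {h'}))) ≫ hU.fromSpec ≫ f) := by
  classical
  -- a regular element in the maximal ideal of the fibre local ring
  have h1 := (Groth.Agent.Lib.Helper67.one_le_idealDepth_iff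
    (IsLocalRing.maximalIdeal ↑((f.fiber (f x)).presheaf.stalk (f.asFiber x)))
    ↑((f.fiber (f x)).presheaf.stalk (f.asFiber x))).1 hdepth
  obtain ⟨r, hr, hreg⟩ : ∃ r ∈ IsLocalRing.maximalIdeal
      ↑((f.fiber (f x)).presheaf.stalk (f.asFiber x)),
      IsSMulRegular ↑((f.fiber (f x)).presheaf.stalk (f.asFiber x)) r := by
    rcases h1 with h1 | h1
    · exfalso
      rw [smul_eq_mul, Ideal.mul_top] at h1
      exact (IsLocalRing.maximalIdeal.isMaximal _).ne_top h1
    · exact h1
  let e := Groth.Agent.Lib.Helper67.FiberStalk.fiberStalkEquiv f x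
  obtain ⟨h, hh⟩ := Ideal.Quotient.mk_surjective (e r)
  have hnu : ¬ IsUnit h := by
    intro hu
    have h2 : IsUnit (e r) := hh ▸ hu.map _
    have h3 : IsUnit r := by
      have := h2.map e.symm
      rwa [RingEquiv.symm_apply_apply] at this
    exact hr h3
  have hregQ : Ideal.Quotient.mk (Ideal.map (f.stalkMap x).hom
      (IsLocalRing.maximalIdeal (S.presheaf.stalk (f x)))) h ∈ nonZeroDivisors
      (X.presheaf.stalk x ⧸ Ideal.map (f.stalkMap x).hom
        (IsLocalRing.maximalIdeal (S.presheaf.stalk (f x)))) := by
    rw [mem_nonZeroDivisors_iff_right]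
    intro y hy
    rw [hh] at hy
    have h4 : e.symm y * r = 0 := by
      have := congrArg e.symm hy
      rwa [map_mul, RingEquiv.symm_apply_apply, map_zero] at this
    have h5 : e.symm y = 0 := by
      apply hreg
      change r • e.symm y = r • 0
      rw [smul_eq_mul, smul_eq_mul, mul_zero, mul_comm]
      exact h4
    have := congrArg e h5
    rwa [RingEquiv.apply_symm_apply, map_zero] at this
  obtain ⟨U, hU, hx, h', hgerm, hnzd, hfl, hlfp⟩ :=
    Groth.Agent.Lib.Helper55.FL.slice_scheme f x hflat h hregQ
  refine ⟨U, hU, hx, h', hnzd, ?_, hfl, hlfp⟩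
  rw [hgerm]
  exact hnu

end Groth.Agent.S9756
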