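import Groth.Statements.S9757
import Groth.Agent.Lib.Helper73.DimFormula.CMFlat.CMOpenFP

set_option autoImplicit false
universe u
open FlatMor

namespace Groth.Agent.S9757

open AlgebraicGeometry CategoryTheory Limits in
/-- Suppose the morphism f : X ⟶ S is flat and locally of finite presentation. Then X contains open
subsets U_d, indexed by d ∈ ℕ, such that for every s ∈ S the union of all U_d intersects the fibre
X_s in a dense subset of X_s, and each U_d ⟶ S is of relative dimension d. Because U_d is open in X,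
this is the same as requiring that at every point x of U_d the fibre of f containing x has local
dimension d at x; that pointwise form is the one this row uses. -/
theorem result {X S : Scheme.{u}} (f : X ⟶ S) [Flat f] [LocallyOfFinitePresentation f] :
    ∃ U : ℕ → X.Opens, (∀ s : S, Dense ((f.fiberι s) ⁻¹' ((⨆ d, U d : X.Opens) : Set ↑X))) ∧
      ∀ (d : ℕ) (x : ↑X), x ∈ U d → FlatMor.fibreDimAt f x = d := by
  open Groth.Agent.Lib.Helper73 AlgebraicGeometry CategoryTheory TopologicalSpace in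
  let U : ℕ → X.Opens := fun d =>
    ⟨interior {x : X | FlatMor.fibreDimAt f x = ((d : ℕ) : WithBot ℕ∞)}, isOpen_interior⟩
  refine ⟨U, ?_, ?_⟩
  swap
  · intro d x hx
    have hx' : x ∈ interior {x : X | FlatMor.fibreDimAt f x = ((d : ℕ) : WithBot ℕ∞)} := hx
    have hx'' : x ∈ {x : X | FlatMor.fibreDimAt f x = ((d : ℕ) : WithBot ℕ∞)} :=
      interior_subset hx'
    exact hx''
  intro s
  rw [dense_iff_inter_open]
  intro V hV ⟨v, hv⟩
  obtain ⟨ξb, hξbv, hξbmax⟩ := exists_maximal_specializes v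
  have hξbV : ξb ∈ V := hξbv.mem_open hV hv
  obtain ⟨hfξ, hξmax⟩ := fiberι_maximal_of_maximal f s ξb hξbmax
  set ξ := f.fiberι s ξb with hξ
  have hCM : MoreMor.IsCMAt f ξ := isCMAt_of_maximal_fiber f ξ (Flat.stalkMap f ξ)
    (fun t ht hft => hξmax t ht (hft.trans hfξ))
  obtain ⟨W, hξW, hW⟩ := exists_open_fibreDimAt_eq_of_isCMAt_fp f ξ hCM
  obtain ⟨d, hd⟩ := exists_fibreDimAt_eq_natCast f ξ
  refine ⟨ξb, hξbV, ?_⟩
  rw [Set.mem_preimage, SetLike.mem_coe, Opens.mem_iSup]
  refine ⟨d, ?_⟩
  show ξ ∈ interior {x : X | FlatMor.fibreDimAt f x = ((d : ℕ) : WithBot ℕ∞)}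
  rw [mem_interior]
  exact ⟨W, fun w hw => (hW w hw).trans hd, W.2, hξW⟩

end Groth.Agent.S9757
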