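import Groth.Statements.S9759
import Mathlib
import Groth.Agent.Lib.Helper46.FlatModel

set_option autoImplicit false
universe u
open FlatMor

namespace Groth.Agent.S9759

open AlgebraicGeometry CategoryTheory Limits in
/-- Let f : X ⟶ S be a flat morphism of finite presentation between affine schemes. Then f is the base
change of a morphism of finite type f₀ : X₀ ⟶ S₀ between affine schemes with S₀ of finite type over
ℤ and f₀ flat. -/
theorem result {X S : Scheme.{u}} (f : X ⟶ S) [IsAffine X] [IsAffine S] [LocallyOfFinitePresentation f] [Flat f] :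
    ∃ (X₀ S₀ : Scheme.{u}) (f₀ : X₀ ⟶ S₀) (g : S ⟶ S₀) (g' : X ⟶ X₀), IsAffine X₀ ∧ IsAffine S₀ ∧ IsPullback g' f f₀ g ∧
      Algebra.FiniteType ℤ Γ(S₀, ⊤) ∧ LocallyOfFiniteType f₀ ∧ Flat f₀ := by
  have hfp : RingHom.FinitePresentation f.appTop.hom :=
    (HasRingHomProperty.iff_of_isAffine (P := @LocallyOfFinitePresentation)).1 inferInstance
  have hfl : RingHom.Flat f.appTop.hom :=
    (HasRingHomProperty.iff_of_isAffine (P := @Flat)).1 inferInstance
  algebraize [f.appTop.hom]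
  obtain ⟨R₀, B₀, _, _, _, _, e, hR₀, -, hB₀, hB₀fl⟩ :=
    Groth.Agent.Lib.Helper46.FlatModel.exists_flat_model Γ(S, ⊤) Γ(X, ⊤)
  let ψ : B₀ →+* Γ(X, ⊤) := (e : TensorProduct R₀ Γ(S, ⊤) B₀ →+* Γ(X, ⊤)).comp
    (Algebra.TensorProduct.includeRight (R := R₀) (A := Γ(S, ⊤)) (B := B₀)).toRingHom
  have hpo : IsPushout (CommRingCat.ofHom (algebraMap R₀ Γ(S, ⊤)))
      (CommRingCat.ofHom (algebraMap R₀ B₀))
      (CommRingCat.ofHom (algebraMap Γ(S, ⊤) Γ(X, ⊤))) (CommRingCat.ofHom ψ) := by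
    refine (CommRingCat.isPushout_tensorProduct R₀ Γ(S, ⊤) B₀).of_iso (Iso.refl _) (Iso.refl _)
      (Iso.refl _) e.toRingEquiv.toCommRingCatIso (by simp) (by simp) ?_ ?_
    · ext x
      exact e.commutes x
    · rw [Iso.refl_hom, Category.id_comp]
      rfl
  have hpb := (isPullback_SpecMap_of_isPushout _ _ _ _ hpo).flip
  refine ⟨Spec (.of B₀), Spec (.of R₀), Spec.map (CommRingCat.ofHom (algebraMap R₀ B₀)),
    S.isoSpec.hom ≫ Spec.map (CommRingCat.ofHom (algebraMap R₀ Γ(S, ⊤))),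
    X.isoSpec.hom ≫ Spec.map (CommRingCat.ofHom ψ), inferInstance, inferInstance, ?_, ?_, ?_, ?_⟩
  · refine hpb.of_iso X.isoSpec.symm (Iso.refl _) S.isoSpec.symm (Iso.refl _) ?_ ?_ ?_ ?_
    · simp
    · exact Scheme.isoSpec_inv_naturality f
    · simp
    · simp
  · exact Algebra.FiniteType.equiv hR₀
      (Scheme.ΓSpecIso (.of R₀)).commRingCatIsoToRingEquiv.symm.toIntAlgEquiv
  · rw [HasRingHomProperty.Spec_iff (P := @LocallyOfFiniteType)]
    exact RingHom.finiteType_algebraMap.2 inferInstance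
  · rw [HasRingHomProperty.Spec_iff (P := @Flat)]
    exact RingHom.flat_algebraMap_iff.2 hB₀fl

end Groth.Agent.S9759
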