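import Groth.Statements.S9763


set_option autoImplicit false
universe u
open FlatMor

namespace Groth.Agent.S9763

open AlgebraicGeometry CategoryTheory Limits in
/-- `Spec (A ⧸ I) ⟶ Spec A` is surjective on points when `I` has square zero. -/
theorem surjective_of_sq_zero (A : Type u) [CommRing A] (I : Ideal A) (hI : I ^ 2 = ⊥) :
    Function.Surjective (Spec.map (CommRingCat.ofHom (Ideal.Quotient.mk I))).base := by
  intro x
  have h1 : Set.range (PrimeSpectrum.comap (Ideal.Quotient.mk I)) = Set.univ := by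
    rw [_root_.range_comap_of_surjective _ _ Ideal.Quotient.mk_surjective,
      Ideal.mk_ker, PrimeSpectrum.zeroLocus_eq_univ_iff]
    intro a ha
    refine ⟨2, ?_⟩
    have : a ^ 2 ∈ I ^ 2 := Ideal.pow_mem_pow ha 2
    rw [hI] at this
    exact this
  have hx : x ∈ Set.range (PrimeSpectrum.comap (Ideal.Quotient.mk I)) := by
    rw [h1]; trivial
  obtain ⟨y, hy⟩ := hx
  exact ⟨y, hy⟩

open AlgebraicGeometry CategoryTheory Limits in
/-- Let f : X ⟶ S be formally smooth (infinitesimal lifting against square-zero thickenings of affine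
schemes), and let U be an open of X and V an open of S with U contained in the preimage of V under
f. Then the induced morphism U ⟶ V is formally smooth. -/
theorem result {X S : Scheme.{u}} (f : X ⟶ S) (hf : MoreMor.IsFormallySmoothHom f)
    (U : X.Opens) (V : S.Opens) (h : U ≤ f ⁻¹ᵁ V) : MoreMor.IsFormallySmoothHom (f.resLE V U h) := by
  intro A _ I hI a b hab
  have hcomm : Spec.map (CommRingCat.ofHom (Ideal.Quotient.mk I)) ≫ (b ≫ V.ι) = (a ≫ U.ι) ≫ f := by
    rw [← Category.assoc, hab, Category.assoc, Category.assoc, Scheme.Hom.resLE_comp_ι]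
  obtain ⟨l', hl'1, hl'2⟩ := hf A I hI (a ≫ U.ι) (b ≫ V.ι) hcomm
  have hrange : Set.range l'.base ⊆ Set.range U.ι.base := by
    rintro _ ⟨x, rfl⟩
    obtain ⟨y, rfl⟩ := surjective_of_sq_zero A I hI x
    have := congrArg (fun g => g.base y) hl'1
    simp only [Scheme.Hom.comp_base, TopCat.hom_comp, ContinuousMap.comp_apply] at this
    exact ⟨a.base y, this.symm⟩
  refine ⟨IsOpenImmersion.lift U.ι l' hrange, ?_, ?_⟩
  · rw [← cancel_mono U.ι, Category.assoc, IsOpenImmersion.lift_fac, hl'1]
  · rw [← cancel_mono V.ι, Category.assoc, Scheme.Hom.resLE_comp_ι, ← Category.assoc,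
      IsOpenImmersion.lift_fac, hl'2]

end Groth.Agent.S9763
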