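import Groth.Statements.S9771
import Groth.Agent.Lib.Helper57.FlatThick
import Groth.Agent.Lib.Helper57.UnivThickGlue
import Groth.Agent.S9732

set_option autoImplicit false
universe u
open FlatMor

namespace Groth.Agent.S9771

open AlgebraicGeometry CategoryTheory Limits in
/-- An unramified (formally unramified and locally of finite type) flat morphism of schemes is formally
étale. (When the morphism is moreover locally of finite presentation this is the statement that flat
unramified morphisms are étale; the content here is the case without finite presentation.) -/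
theorem result {X S : Scheme.{u}} (f : X ⟶ S)
    [Flat f] [FormallyUnramified f] [LocallyOfFiniteType f] : MoreMor.IsFormallyEtaleHom f := by
  intro A _ I hI a b hab
  have ht : MoreMor.IsFirstOrderThickening
      (Spec.map (CommRingCat.ofHom (Ideal.Quotient.mk I))) :=
    Groth.Agent.S9732.fot_spec _ Ideal.Quotient.mk_surjective (by
      show RingHom.ker (Ideal.Quotient.mk I) ^ 2 = ⊥
      rw [Ideal.mk_ker, hI])
  generalize Spec.map (CommRingCat.ofHom (Ideal.Quotient.mk I)) = t at ht hab
  have htcl : IsClosedImmersion t := ht.1.1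
  -- uniqueness
  have huniq : ∀ l₁ l₂ : Spec (CommRingCat.of A) ⟶ X, t ≫ l₁ = a ∧ l₁ ≫ f = b →
      t ≫ l₂ = a ∧ l₂ ≫ f = b → l₁ = l₂ := by
    rintro l₁ l₂ ⟨h1, h2⟩ ⟨h1', h2'⟩
    exact AlgebraicGeometry.FormallyUnramified.hom_ext t ⟨2, by rw [pow_two]; exact ht.2⟩ f
      (h1.trans h1'.symm) (h2.trans h2'.symm)
  -- existence
  have hc : MoreMor.IsFirstOrderThickening
      (pullback.fst (pullback.snd f b) t) :=
    Groth.Agent.Lib.Helper57.FOThick.baseChange ht (IsPullback.of_hasPullback (pullback.snd f b) t).flip
  have hσT1 : pullback.lift (pullback.lift a t hab.symm) (𝟙 _) (by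
      rw [pullback.lift_snd, Category.id_comp]) ≫ pullback.snd (pullback.snd f b) t = 𝟙 _ :=
    pullback.lift_snd _ _ _
  have hσT2 : pullback.lift (pullback.lift a t hab.symm) (𝟙 _) (by
      rw [pullback.lift_snd, Category.id_comp]) ≫ pullback.fst (pullback.snd f b) t =
      pullback.lift a t hab.symm :=
    pullback.lift_fst _ _ _
  generalize pullback.lift (pullback.lift a t hab.symm) (𝟙 _) (by
      rw [pullback.lift_snd, Category.id_comp]) = σT at hσT1 hσT2
  have hσ1 : pullback.lift a t hab.symm ≫ pullback.fst f b = a := pullback.lift_fst _ _ _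
  have hσ2 : pullback.lift a t hab.symm ≫ pullback.snd f b = t := pullback.lift_snd _ _ _
  generalize pullback.lift a t hab.symm = σ at hσT2 hσ1 hσ2
  have : FormallyUnramified (pullback.snd f b) :=
    MorphismProperty.pullback_snd (P := @FormallyUnramified) f b inferInstance
  have : LocallyOfFiniteType (pullback.snd f b) :=
    MorphismProperty.pullback_snd (P := @LocallyOfFiniteType) f b inferInstance
  have : Flat (pullback.snd f b) :=
    MorphismProperty.pullback_snd (P := @Flat) f b inferInstance
  have : FormallyUnramified (pullback.snd (pullback.snd f b) t) :=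
    MorphismProperty.pullback_snd (P := @FormallyUnramified) _ _ inferInstance
  have : LocallyOfFiniteType (pullback.snd (pullback.snd f b) t) :=
    MorphismProperty.pullback_snd (P := @LocallyOfFiniteType) _ _ inferInstance
  have hpost : MorphismProperty.HasOfPostcompProperty @IsOpenImmersion
      (@LocallyOfFiniteType ⊓ @FormallyUnramified) := by
    rw [MorphismProperty.hasOfPostcompProperty_iff_le_diagonal]
    intro X Y g ⟨hft, hfu⟩
    exact inferInstanceAs (IsOpenImmersion (pullback.diagonal g))
  have hσTopen : IsOpenImmersion σT :=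
    MorphismProperty.of_postcomp (W := @IsOpenImmersion)
      (W' := @LocallyOfFiniteType ⊓ @FormallyUnramified) σT
      (pullback.snd (pullback.snd f b) t) ⟨inferInstance, inferInstance⟩ (by
        rw [hσT1]; exact inferInstanceAs (IsOpenImmersion (𝟙 _)))
  have hmem := Groth.Agent.Lib.Helper57.UnivThickGlue.mem_thickOpen _ hc.1 σT.opensRange
  have hpre := Groth.Agent.Lib.Helper57.UnivThickGlue.preimage_thickOpen _ hc.1 σT.opensRange
  generalize Groth.Agent.Lib.Helper57.UnivThickGlue.thickOpen _ hc.1 σT.opensRange = U at hmem hpre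
  have hr : Set.range σ ⊆ Set.range U.ι := by
    rintro _ ⟨x, rfl⟩
    rw [Scheme.Opens.range_ι, ← hσT2]
    exact (hmem (σT x)).mpr ⟨x, rfl⟩
  have hσ' : IsOpenImmersion.lift U.ι σ hr ≫ U.ι = σ := IsOpenImmersion.lift_fac _ _ _
  generalize IsOpenImmersion.lift U.ι σ hr = σ' at hσ'
  have sq1 : IsPullback σ' σT U.ι (pullback.fst (pullback.snd f b) t) :=
    IsOpenImmersion.isPullback σ' σT U.ι _ (by rw [hσT2, hσ']) (by
      rw [Scheme.Opens.opensRange_ι, hpre])
  have hσ'fot : MoreMor.IsFirstOrderThickening σ' :=
    Groth.Agent.Lib.Helper57.FOThick.baseChange hc sq1.flip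
  have hst : σ' ≫ (U.ι ≫ pullback.snd f b) = t := by
    rw [← Category.assoc, hσ', hσ2]
  have : FormallyUnramified (U.ι ≫ pullback.snd f b) :=
    MorphismProperty.comp_mem (W := @FormallyUnramified) _ _ inferInstance inferInstance
  have hiso : IsIso (U.ι ≫ pullback.snd f b) :=
    Groth.Agent.Lib.Helper57.FlatThick.isIso_of_thickenings _ σ' t hst hσ'fot.1 ht.1
  refine ⟨inv (U.ι ≫ pullback.snd f b) ≫ U.ι ≫ pullback.fst f b, ⟨?_, ?_⟩, ?_⟩
  · have h1 : t ≫ inv (U.ι ≫ pullback.snd f b) = σ' := by
      rw [← hst, Category.assoc, IsIso.hom_inv_id, Category.comp_id]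
    rw [← Category.assoc, h1, ← Category.assoc, hσ', hσ1]
  · rw [Category.assoc, Category.assoc, pullback.condition, ← Category.assoc U.ι,
      IsIso.inv_hom_id_assoc]
  · intro l' hl'
    exact huniq _ _ hl' ⟨by
      have h1 : t ≫ inv (U.ι ≫ pullback.snd f b) = σ' := by
        rw [← hst, Category.assoc, IsIso.hom_inv_id, Category.comp_id]
      rw [← Category.assoc, h1, ← Category.assoc, hσ', hσ1], by
      rw [Category.assoc, Category.assoc, pullback.condition, ← Category.assoc U.ι,
        IsIso.inv_hom_id_assoc]⟩

end Groth.Agent.S9771
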