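import Groth.Statements.S9772
import Groth.Agent.Lib.Helper48.KoszulThick4
import Groth.Agent.Lib.Helper48.H1Conormal4
import Groth.Agent.Lib.Helper43.RegImmFlatBC
import Groth.Agent.Lib.Helper43.KoszulH1
import Groth.Agent.S1488

set_option autoImplicit false
universe u
open OmegaSh

namespace Groth.Agent.S9772

open AlgebraicGeometry CategoryTheory Limits in
/-- Suppose f : X ⟶ Y is Koszul at every point of X (a local complete intersection morphism) and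
formally unramified, and (i : X ⟶ X', h' : X' ⟶ Y) is universal first order thickening data for f.
Then the conormal sheaf of i (the conormal sheaf of f) is finite locally free. The published
statement also asserts that for a local complete intersection morphism unramified and formally
unramified are equivalent; this row states only the conormal clause. -/
theorem result {X Y X' : Scheme.{u}} (f : X ⟶ Y)
    (hf : ∀ x : X, Synt.IsKoszulAt f x) [FormallyUnramified f] (i : X ⟶ X') (h' : X' ⟶ Y)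
    (hu : OmegaSh.IsUnivThickening f i h') : FlatMod.IsFinLocFree (Omega.conormal i) := by
  apply Groth.Agent.Lib.Helper15.LocFreeLocus.isFinLocFree_of_forall_LF
  intro x
  obtain ⟨U, P, j, π, hxU, -, hj, hsm, hjπ⟩ := hf x
  obtain ⟨U₀, hzU₀, hci, -⟩ := hj.2 ⟨x, hxU⟩
  refine ⟨U.ι ''ᵁ (j ⁻¹ᵁ U₀.1), ⟨⟨x, hxU⟩, hzU₀, rfl⟩,
    Groth.Agent.Lib.Helper48.KoszulThick.LF_of_restrict f i h' hu _ ?_⟩
  intro W'' iW hW'' huW
  -- the closed immersion over the chart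
  have hε : (U.ι.isoImage (j ⁻¹ᵁ U₀.1)).hom ≫ (U.ι ''ᵁ (j ⁻¹ᵁ U₀.1)).ι = (j ⁻¹ᵁ U₀.1).ι ≫ U.ι :=
    Scheme.Hom.isoImage_hom_ι _ _
  have h₁ : RegImm.IsRegularImmersion .koszul (j ∣_ U₀.1) :=
    Groth.Agent.Lib.Helper43.RegImmFlatBC.regImm_baseChange .koszul j U₀.1.ι (j ∣_ U₀.1)
      (j ⁻¹ᵁ U₀.1).ι (isPullback_morphismRestrict j U₀.1).flip hj
  have h₂ : RegImm.IsRegularImmersion .koszul
      ((U.ι.isoImage (j ⁻¹ᵁ U₀.1)).inv ≫ (j ∣_ U₀.1)) :=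
    Groth.Agent.Lib.Helper43.RegImmFlatBC.regImm_baseChange .koszul (j ∣_ U₀.1) (𝟙 _)
      ((U.ι.isoImage (j ⁻¹ᵁ U₀.1)).inv ≫ (j ∣_ U₀.1)) (U.ι.isoImage (j ⁻¹ᵁ U₀.1)).inv
      (IsPullback.of_horiz_isIso ⟨by rw [Category.comp_id]⟩) h₁
  haveI := (inferInstance : MorphismProperty.IsMultiplicative
    (@IsClosedImmersion.{u})).toIsStableUnderComposition
  have hcl : IsClosedImmersion ((U.ι.isoImage (j ⁻¹ᵁ U₀.1)).inv ≫ (j ∣_ U₀.1)) :=
    MorphismProperty.comp_mem _ _ _ (inferInstance : IsClosedImmersion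
      (U.ι.isoImage (j ⁻¹ᵁ U₀.1)).inv) hci
  have hC : FlatMod.IsFinLocFree
      (Omega.conormal ((U.ι.isoImage (j ⁻¹ᵁ U₀.1)).inv ≫ (j ∣_ U₀.1))) := by
    apply Groth.Agent.Lib.Helper48.Conormal.isFinLocFree_conormal_of_h1
    intro z
    obtain ⟨O, hzO, hciO, rs, hrs, hker⟩ := h₂.2 z
    exact ⟨O, hzO, hciO, rs,
      Groth.Agent.Lib.Helper43.KoszulH1.isH1Regular_of_isKoszulRegularSeq rs hrs, hker⟩
  have hsm₂ : Smooth (U₀.1.ι ≫ π) := inferInstance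
  have hπ₂ : MoreMor.IsFormallySmoothHom (U₀.1.ι ≫ π) :=
    ((Groth.Agent.S1488.result (U₀.1.ι ≫ π)).1 hsm₂).2
  have hjπ₂ : ((U.ι.isoImage (j ⁻¹ᵁ U₀.1)).inv ≫ (j ∣_ U₀.1)) ≫ (U₀.1.ι ≫ π) =
      (U.ι ''ᵁ (j ⁻¹ᵁ U₀.1)).ι ≫ f := by
    rw [Category.assoc, ← Category.assoc (j ∣_ U₀.1), morphismRestrict_ι, Category.assoc, hjπ,
      ← Category.assoc (j ⁻¹ᵁ U₀.1).ι, ← hε, Category.assoc, Iso.inv_hom_id_assoc]
  have hfu : FormallyUnramified ((U.ι ''ᵁ (j ⁻¹ᵁ U₀.1)).ι ≫ f) :=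
    MorphismProperty.comp_mem _ _ _ (inferInstance : FormallyUnramified (U.ι ''ᵁ (j ⁻¹ᵁ U₀.1)).ι)
      (inferInstance : FormallyUnramified f)
  apply Groth.Agent.Lib.Helper2.LocFreeAff.isFinLocFree_of_projective
  intro z
  exact Groth.Agent.Lib.Helper48.KoszulThick.exists_affine_finite_projective
    ((U.ι ''ᵁ (j ⁻¹ᵁ U₀.1)).ι ≫ f) iW hW'' huW _ (U₀.1.ι ≫ π) hπ₂ hjπ₂ hC z

end Groth.Agent.S9772
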