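import Groth.Statements.S9773
import Groth.Agent.S15821

set_option autoImplicit false
universe u
open FlatMor

namespace Groth.Agent.S9773

theorem koszul_of_kind {R : Type u} [CommRing R] (k : RegImm.Kind)
    (hk : k = RegImm.Kind.regular ∨ k = RegImm.Kind.koszul) (rs : List R) (h : k.Seq R rs) :
    RegImm.Kind.Seq .koszul R rs := by
  rcases hk with rfl | rfl
  · exact (Groth.Agent.S15821.result R rs h.toIsWeaklyRegular).1
  · exact h

open AlgebraicGeometry CategoryTheory Limits in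
/-- A regular immersion of schemes, and likewise a Koszul-regular immersion, is a local complete
intersection morphism (Koszul at every point). -/
theorem result {Z X : Scheme.{u}} (i : Z ⟶ X) (k : RegImm.Kind)
    (hk : k = RegImm.Kind.regular ∨ k = RegImm.Kind.koszul) (hi : RegImm.IsRegularImmersion k i) (z : Z) :
    Synt.IsKoszulAt i z := by
  obtain ⟨himm, hreg⟩ := hi
  have hiso : IsIso (⊤ : Z.Opens).ι := by
    have : (⊤ : Z.Opens).ι = Z.topIso.hom := rfl
    rw [this]; infer_instance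
  refine ⟨⊤, X, (⊤ : Z.Opens).ι ≫ i, 𝟙 X, trivial, inferInstance, ⟨inferInstance, ?_⟩,
    inferInstance, by simp⟩
  intro z'
  obtain ⟨U, hzU, hcl, rs, hrs, hker⟩ := hreg ((⊤ : Z.Opens).ι z')
  refine ⟨U, ?_, ?_, rs, koszul_of_kind k hk rs hrs, ?_⟩
  · simpa using hzU
  · rw [morphismRestrict_comp]
    have h1 : IsIso ((⊤ : Z.Opens).ι ∣_ i ⁻¹ᵁ U.1) := inferInstance
    have h2 : IsClosedImmersion ((⊤ : Z.Opens).ι ∣_ i ⁻¹ᵁ U.1) := inferInstance
    exact MorphismProperty.comp_mem _ _ _ h2 hcl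
  · rw [← hker]
    have hinj : Function.Injective ((⊤ : Z.Opens).ι.app (i ⁻¹ᵁ U.1)).hom :=
      (ConcreteCategory.bijective_of_isIso ((⊤ : Z.Opens).ι.app (i ⁻¹ᵁ U.1))).1
    have e : ∀ x, (((⊤ : Z.Opens).ι ≫ i).app U.1).hom x =
      ((⊤ : Z.Opens).ι.app (i ⁻¹ᵁ U.1)).hom ((i.app U.1).hom x) := fun x => rfl
    ext x
    rw [RingHom.mem_ker, RingHom.mem_ker, e]
    exact ⟨fun h => hinj (h.trans (map_zero _).symm), fun h => by rw [h]; exact map_zero _⟩

end Groth.Agent.S9773
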