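import Groth.Statements.S9781
import Groth.Agent.Lib.Helper87.BranchEtaleHens
import Groth.Agent.S9752
import Groth.Agent.S9235

set_option autoImplicit false
universe u
open Brnch

namespace Groth.Agent.S9781

open AlgebraicGeometry CategoryTheory Limits in
/-- The local ring of X at x is unibranch exactly when, for each étale morphism g : U ⟶ X and point u
over x with trivial residue field extension (an elementary étale neighbourhood), the point u lies on
a single irreducible component of U. -/
theorem result (X : Scheme.{u}) (x : X) :
    CAlg2.IsUnibranch ↑(X.presheaf.stalk x) ↔ ∀ (U : Scheme.{u}) (g : U ⟶ X) (u : U), Hens2.IsEtaleNbhd g u x →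
      {Z : Set ↑U | Z ∈ irreducibleComponents ↑U ∧ u ∈ Z}.encard = 1 := by
  rw [← Groth.Agent.S9235.result]
  have hone : ∀ (U : Scheme.{u}) (u : U),
      1 ≤ {Z : Set ↑U | Z ∈ irreducibleComponents ↑U ∧ u ∈ Z}.encard := by
    intro U u
    rw [Set.one_le_encard_iff_nonempty]
    exact ⟨irreducibleComponent u, irreducibleComponent_mem_irreducibleComponents u,
      mem_irreducibleComponent⟩
  constructor
  · intro h U g u hnb
    haveI := hnb.etale
    apply le_antisymm _ (hone U u)
    have h1 := Groth.Agent.Lib.Helper87.BranchEtaleHens.encard_comps_le_numBranchesAt g u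
      hnb.residue_bijective
    rw [hnb.base_eq] at h1
    exact h1.trans_eq h
  · intro h
    have h1 := Groth.Agent.S9752.result X x
    show Brnch.numBranchesAt X x = 1
    rw [h1]
    apply le_antisymm
    · refine iSup_le fun U => iSup_le fun g => iSup_le fun u => iSup_le fun hh => ?_
      exact (h U g u hh).le
    · have hid : Hens2.IsEtaleNbhd (𝟙 X) x x := by
        refine ⟨inferInstance, rfl, ?_⟩
        rw [Scheme.residueFieldMap_id]
        exact Function.bijective_id
      exact le_iSup_of_le X (le_iSup_of_le (𝟙 X) (le_iSup_of_le x
        (le_iSup_of_le hid (hone X x))))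

end Groth.Agent.S9781
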