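import Groth.Statements.S9783
import Groth.Agent.Lib.Helper48.DerLift3

set_option autoImplicit false
universe u
open OmegaSh

namespace Groth.Agent.S9783

open AlgebraicGeometry CategoryTheory Limits in
/-- Let q : X ⟶ S be a morphism, h : Z ⟶ X formally unramified, and (i : Z ⟶ Z', h' : Z' ⟶ X) the
universal first order thickening attached to h. Let d_X : O_X → Ω_X be a universal S-derivation,
d_{Z'} : O_{Z'} → Ω_{Z'} a universal S-derivation for Z' over S via h' ≫ q, and c : (h')^*Ω_X ⟶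
Ω_{Z'} the O_{Z'}-linear map compatible with them (the canonical map c_{h'}). Then the pullback of c
along i, a map h^*Ω_X ⟶ Ω_{Z'} ⊗ O_Z, is an isomorphism. -/
theorem result {Z X S Z' : Scheme.{u}} (h : Z ⟶ X) (q : X ⟶ S) [FormallyUnramified h]
    (i : Z ⟶ Z') (h' : Z' ⟶ X) (hu : OmegaSh.IsUnivThickening h i h')
    (ΩX : X.Modules) (dX : OmegaSh.Der q ΩX) (hdX : OmegaSh.IsUniversal dX)
    (ΩZ' : Z'.Modules) (dZ' : OmegaSh.Der (h' ≫ q) ΩZ') (hdZ' : OmegaSh.IsUniversal dZ')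
    (c : (Scheme.Modules.pullback h').obj ΩX ⟶ ΩZ') (hc : OmegaSh.IsDiffCompat h' dX dZ' c) :
    IsIso ((Scheme.Modules.pullback i).map c) := by
  have hcl : IsClosedImmersion i := hu.1.1.1
  let Pred : Z'.Opens → Prop := fun W' => ∃ (V : X.Opens) (R : S.Opens),
    IsAffineOpen V ∧ IsAffineOpen R ∧ W' ≤ h' ⁻¹ᵁ V ∧ V ≤ q ⁻¹ᵁ R
  have hP : ∀ z : Z, ∃ V₀ : Z'.Opens, i z ∈ V₀ ∧ ∀ W' ≤ V₀, Pred W' := by
    intro z
    obtain ⟨_, ⟨R, hR : IsAffineOpen R, rfl⟩, hzR, -⟩ :=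
      (S.isBasis_affineOpens).exists_subset_of_mem_open (Set.mem_univ (q (h' (i z)))) isOpen_univ
    obtain ⟨_, ⟨V, hV : IsAffineOpen V, rfl⟩, hzV, hVR⟩ :=
      (X.isBasis_affineOpens).exists_subset_of_mem_open (show h' (i z) ∈ (q ⁻¹ᵁ R : Set X) from hzR)
        (q ⁻¹ᵁ R).isOpen
    exact ⟨h' ⁻¹ᵁ V, hzV, fun W' hW' => ⟨V, R, hV, hR, hW', hVR⟩⟩
  have hB := Groth.Agent.Lib.Helper48.Conormal.isBasis_goodFor i Pred hP
  have h1 : Epi ((Scheme.Modules.pullback i).map c) := by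
    refine Groth.Agent.Lib.Helper48.Conormal.epi_of_basis _ _ hB ?_
    rintro _ ⟨W', hW', ⟨V, R, hV, hR, e, eR⟩, rfl⟩
    exact (Groth.Agent.Lib.Helper48.DerLift.app_bijective h q i h' hu dX hdX dZ' hdZ' c hc hW'.1 hV hR
      e eR).2
  have h2 : Mono ((Scheme.Modules.pullback i).map c) := by
    refine Groth.Agent.Lib.Helper48.Conormal.mono_of_basis _ _ hB ?_
    rintro _ ⟨W', hW', ⟨V, R, hV, hR, e, eR⟩, rfl⟩
    exact (Groth.Agent.Lib.Helper48.DerLift.app_bijective h q i h' hu dX hdX dZ' hdZ' c hc hW'.1 hV hR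
      e eR).1
  exact isIso_of_mono_of_epi _

end Groth.Agent.S9783
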