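import Groth.Statements.S9785
import Groth.Agent.S9784
import Groth.Agent.Lib.Helper48.LciMono4

set_option autoImplicit false
universe u
open OmegaSh

namespace Groth.Agent.S9785

open AlgebraicGeometry CategoryTheory Limits in
/-- Let i : Z ⟶ Y and b : Y ⟶ X be formally unramified, let (i' : Z ⟶ Z', c) be a first order thickening
over X that is universal for i ≫ b, (j : Y ⟶ Y', d) one universal for b, m : Z' ⟶ Y' the morphism of
thickenings over X compatible with i, (i'' : Z ⟶ Z'', e) a first order thickening over Y that is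
universal for i, and n : Z'' ⟶ Z' the morphism of thickenings over X extending the identity of Z.
Let ψ₁ : i^*C_{Y/Y'} ⟶ C_{Z/Z'} and ψ₂ : C_{Z/Z'} ⟶ C_{Z/Z''} be the canonical maps of conormal
sheaves induced by (i, m) and (id, n); these are the conormal sheaves C_{Y/X}, C_{Z/X}, C_{Z/Y} of
the formally unramified morphisms and the canonical maps between them. Assume moreover that i is
Koszul at every point of Z, i.e. i is lci. Then 0 ⟶ i^*C_{Y/X} ⟶ C_{Z/X} ⟶ C_{Z/Y} ⟶ 0 is a short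
exact sequence. -/
theorem result {Z Y X Z' Y' Z'' : Scheme.{u}} (i : Z ⟶ Y) (b : Y ⟶ X)
    [FormallyUnramified i] [FormallyUnramified b]
    (i' : Z ⟶ Z') (c : Z' ⟶ X) (hZ' : OmegaSh.IsUnivThickening (i ≫ b) i' c)
    (j : Y ⟶ Y') (d : Y' ⟶ X) (hY' : OmegaSh.IsUnivThickening b j d)
    (m : Z' ⟶ Y') (hm₁ : i' ≫ m = i ≫ j) (hm₂ : m ≫ d = c)
    (i'' : Z ⟶ Z'') (e : Z'' ⟶ Y) (hZ'' : OmegaSh.IsUnivThickening i i'' e)
    (n : Z'' ⟶ Z') (hn₁ : i'' ≫ n = i') (hn₂ : n ≫ c = e ≫ b)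
    (ψ₁ : (Scheme.Modules.pullback i).obj (Omega.conormal j) ⟶ Omega.conormal i') (hψ₁ : OmegaSh.IsConormalMap i' j m i ψ₁)
    (ψ₂ : (Scheme.Modules.pullback (𝟙 Z)).obj (Omega.conormal i') ⟶ Omega.conormal i'') (hψ₂ : OmegaSh.IsConormalMap i'' i' n (𝟙 Z) ψ₂)
    (hlci : ∀ z : Z, Synt.IsKoszulAt i z) :
    ∃ w : (Scheme.Modules.pullback (𝟙 Z)).map ψ₁ ≫ ψ₂ = 0, (ShortComplex.mk _ _ w).ShortExact := by
  obtain ⟨w, hex, hepi⟩ := Groth.Agent.S9784.result i b i' c hZ' j d hY' m hm₁ hm₂ i'' e hZ'' n hn₁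
    hn₂ ψ₁ hψ₁ ψ₂ hψ₂
  have hmono : Mono ψ₁ :=
    Groth.Agent.Lib.Helper48.LciMono.mono_of_lci i b i' c hZ' j d hY' m hm₁ hm₂ ψ₁ hψ₁ hlci
  have hmono' : Mono ((Scheme.Modules.pullback (𝟙 Z)).map ψ₁) := by
    have h1 := (Scheme.Modules.pullbackId Z).hom.naturality ψ₁
    have e1 := (Iso.eq_comp_inv ((Scheme.Modules.pullbackId Z).app (Omega.conormal i'))).mpr h1
    rw [e1]
    have h3 : Mono ((𝟭 Z.Modules).map ψ₁) := hmono
    have h4 : Mono ((Scheme.Modules.pullbackId Z).hom.app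
        ((Scheme.Modules.pullback i).obj (Omega.conormal j)) ≫ (𝟭 Z.Modules).map ψ₁) :=
      mono_comp _ _
    exact mono_comp _ _
  haveI := hepi
  exact ⟨w, ShortComplex.ShortExact.mk hex⟩

end Groth.Agent.S9785
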