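import Groth.Statements.S9787
import Groth.Agent.S2894
import Groth.Agent.Lib.Helper20.SmoothPairCoords
import Groth.Agent.Lib.Helper20.BlowSmooth
import Groth.Agent.Lib.Helper51.VarRegular
import Groth.Agent.Lib.Helper3.QuasiRegular

set_option autoImplicit false
universe u
open CategoryTheory CategoryTheory.Limits AlgebraicGeometry TopologicalSpace
open FlatMor

namespace Groth.Agent.S9787

open Groth.Agent.Lib.Helper20

theorem ideal_eq_top {X : Scheme.{u}} (I : X.IdealSheafData) (U : X.Opens) (hU : IsAffineOpen U)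
    (h : ∀ y ∈ U, y ∉ I.support) : I.ideal ⟨U, hU⟩ = ⊤ := by
  have h1 := I.coe_support_inter ⟨U, hU⟩
  have h2 := hU.fromSpec_image_zeroLocus (I.ideal ⟨U, hU⟩ : Set Γ(X, U))
  have h3 : (I.support : Set X) ∩ U = ∅ := by
    ext y
    simp only [Set.mem_inter_iff, SetLike.mem_coe, Set.mem_empty_iff_false, iff_false, not_and]
    intro hy hyU
    exact h y hyU hy
  rw [← h1, h3, Set.image_eq_empty] at h2
  exact PrimeSpectrum.zeroLocus_empty_iff_eq_top.mp h2

theorem quasiRegular_coords {R₀ A' : Type u} [CommRing R₀] [CommRing A'] {m n : ℕ}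
    (ψ : MvPolynomial (ULift.{u} (Fin m ⊕ Fin n)) R₀ →+* A') (hψ : ψ.Etale) :
    CAlgX.IsQuasiRegular (fun j : Fin n => ψ (MvPolynomial.X (ULift.up (Sum.inr j)))) := by
  letI := ψ.toAlgebra
  haveI : Module.Flat (MvPolynomial (ULift.{u} (Fin m ⊕ Fin n)) R₀) A' := by
    rw [← RingHom.flat_algebraMap_iff]
    exact (RingHom.Etale.iff_flat_and_formallyUnramified.mp hψ).1
  let v : Fin n → ULift.{u} (Fin m ⊕ Fin n) := fun j => ULift.up (Sum.inr j)
  have hv : Function.Injective v := fun a b hab => Sum.inr_injective (ULift.up_injective hab)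
  have hw := (Groth.Agent.Lib.Helper51.VarRegular.isWeaklyRegular_X_of_injective
    (R := R₀) n v hv).of_flat (S := A')
  apply Groth.Agent.Lib.Helper3.QReg.isQuasiRegular_of_isWeaklyRegular
  rw [List.map_ofFn] at hw
  exact hw

theorem smooth_blowUp {Z X X' S : Scheme.{u}} (q : X ⟶ S) [Smooth q] (i : Z ⟶ X)
    [IsClosedImmersion i] [Smooth (i ≫ q)] (b : X' ⟶ X) (hb : BlowUp.IsBlowUp b i.ker) :
    Smooth (b ≫ q) := by
  have hQ : RingHom.StableUnderCompositionWithLocalizationAwaySource @RingHom.Smooth := by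
    intro R S T _ _ _ _ r _ f hf
    exact RingHom.Smooth.comp (RingHom.Smooth.holdsForLocalizationAway S r) hf
  rw [HasRingHomProperty.iff_exists_appLE (P := @Smooth) hQ]
  intro x'
  by_cases hx : b x' ∈ i.ker.support
  · have hx2 : b x' ∈ Set.range i := by
      have h1 : (i.ker.support : Set X) = closure (Set.range i) := Scheme.Hom.support_ker i
      have h2 : b x' ∈ (i.ker.support : Set X) := hx
      rw [h1, i.isClosedEmbedding.isClosed_range.closure_eq] at h2
      exact h2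
    obtain ⟨z, hz⟩ := hx2
    obtain ⟨V, hV, U, hU, eU, m, n, ψ, hzU, hψ, hψC, hker⟩ :=
      SmoothPairCoords.exists_coords q i z
    have hbx : b x' ∈ U := hz ▸ hzU
    obtain ⟨a, ⟨k, rfl⟩, W, hW, hWU, ε, hxW, hε⟩ :=
      GenChart.exists_chart i.ker b hb U hU
        (Set.range fun j : Fin n => ψ (MvPolynomial.X (ULift.up (Sum.inr j)))) hker.symm x' hbx
    have hle : W ≤ (b ≫ q) ⁻¹ᵁ V := fun y hy => eU (hWU hy)
    refine ⟨⟨V, hV⟩, ⟨W, hW⟩, hxW, hle, ?_⟩
    have h1 : ((b ≫ q).appLE V W hle).hom =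
        (b.appLE U W hWU).hom.comp (ψ.comp MvPolynomial.C) := by
      rw [hψC, ← CommRingCat.hom_comp, Scheme.Hom.appLE_comp_appLE]
    rw [h1]
    refine BlowSmooth.smooth_chart ψ hψ (ULift.up (Sum.inr k))
      {s | ∃ j : Fin n, j ≠ k ∧ s = ULift.up (Sum.inr j)} ?_ _ ?_ _ ε hε
    · rintro ⟨j, hj, h⟩
      exact hj (Sum.inr_injective (ULift.up_injective h)).symm
    · rw [hker]
      congr 1
      ext y
      constructor
      · rintro ⟨j, rfl⟩
        by_cases hjk : j = k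
        · exact ⟨_, ⟨_, Set.mem_insert _ _, rfl⟩, by rw [hjk]⟩
        · exact ⟨_, ⟨_, Set.mem_insert_of_mem _ ⟨j, hjk, rfl⟩, rfl⟩, rfl⟩
      · rintro ⟨_, ⟨s, hs, rfl⟩, rfl⟩
        rcases hs with rfl | ⟨j, -, rfl⟩
        · exact ⟨k, rfl⟩
        · exact ⟨j, rfl⟩
  · obtain ⟨_, ⟨V, hV, rfl⟩, hxV, -⟩ :=
      S.isBasis_affineOpens.exists_subset_of_mem_open (Set.mem_univ (q (b x'))) isOpen_univ
    have hO : IsOpen ((q ⁻¹ᵁ V : Set X) ∩ (i.ker.support : Set X)ᶜ) :=
      (q ⁻¹ᵁ V).2.inter i.ker.support.isClosed.isOpen_compl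
    obtain ⟨_, ⟨U, hU, rfl⟩, hxU, hUO⟩ :=
      X.isBasis_affineOpens.exists_subset_of_mem_open
        (show b x' ∈ (q ⁻¹ᵁ V : Set X) ∩ (i.ker.support : Set X)ᶜ from ⟨hxV, hx⟩) hO
    have eU : U ≤ q ⁻¹ᵁ V := fun y hy => (hUO hy).1
    have htop : i.ker.ideal ⟨U, hU⟩ = ⊤ :=
      ideal_eq_top i.ker U hU (fun y hy => (hUO hy).2)
    obtain ⟨a, ha, W, hW, hWU, ε, hxW, hε⟩ :=
      GenChart.exists_chart i.ker b hb U hU {(1 : Γ(X, U))}
        (by rw [htop, Ideal.span_singleton_one]) x' hxU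
    rw [Set.mem_singleton_iff] at ha
    subst ha
    have hle : W ≤ (b ≫ q) ⁻¹ᵁ V := fun y hy => eU (hWU hy)
    refine ⟨⟨V, hV⟩, ⟨W, hW⟩, hxW, hle, ?_⟩
    have h1 : ((b ≫ q).appLE V W hle).hom =
        (b.appLE U W hWU).hom.comp (q.appLE V U eU).hom := by
      rw [← CommRingCat.hom_comp, Scheme.Hom.appLE_comp_appLE]
    rw [h1]
    exact BlowSmooth.smooth_chart_one _ (q.smooth_appLE hV hU eU) _ _ ε hε

theorem smooth_exc {Z X X' S : Scheme.{u}} (q : X ⟶ S) [Smooth q] (i : Z ⟶ X)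
    [IsClosedImmersion i] [Smooth (i ≫ q)] (b : X' ⟶ X) (hb : BlowUp.IsBlowUp b i.ker) :
    Smooth ((BlowUp.exceptional b i.ker).subschemeι ≫ b ≫ q) := by
  have hle : i.ker ≤ ((BlowUp.exceptional b i.ker).subschemeι ≫ b).ker :=
    Scheme.IdealSheafData.le_map_iff_comap_le.mpr le_rfl
  let g : (BlowUp.exceptional b i.ker).subscheme ⟶ Z :=
    IsClosedImmersion.lift i ((BlowUp.exceptional b i.ker).subschemeι ≫ b) hle
  have hg : g ≫ i = (BlowUp.exceptional b i.ker).subschemeι ≫ b :=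
    IsClosedImmersion.lift_fac _ _ _
  haveI : Smooth g := by
    refine Groth.Agent.S2894.smooth_exceptional i ?_ b hb _ rfl g hg
    intro z
    obtain ⟨V, hV, U, hU, eU, m, n, ψ, hzU, hψ, hψC, hker⟩ :=
      SmoothPairCoords.exists_coords q i z
    exact ⟨U, hU, hzU, n, _, quasiRegular_coords ψ hψ, hker⟩
  have h2 : (BlowUp.exceptional b i.ker).subschemeι ≫ b ≫ q = g ≫ i ≫ q := by
    rw [← Category.assoc, ← hg, Category.assoc]
  rw [h2]
  infer_instance

/-- For a smooth q : X ⟶ S and a closed immersion i : Z ⟶ X whose composite with q is smooth, any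
blowing up b : X' ⟶ X of the ideal sheaf of Z (given by its universal property) is smooth over S,
and so is its exceptional divisor. The published statement also identifies the exceptional divisor
over Z with the projective bundle of the conormal sheaf, with O(1) the restriction of O_{X'}(−E);
this row proves only the two smoothness claims. -/
theorem result {Z X X' S : Scheme.{u}} (q : X ⟶ S) [Smooth q] (i : Z ⟶ X) [IsClosedImmersion i]
    [Smooth (i ≫ q)] (b : X' ⟶ X) (hb : BlowUp.IsBlowUp b i.ker) :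
    Smooth (b ≫ q) ∧ Smooth ((BlowUp.exceptional b i.ker).subschemeι ≫ b ≫ q) := by
  exact ⟨smooth_blowUp q i b hb, smooth_exc q i b hb⟩

end Groth.Agent.S9787
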