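import Groth.Statements.S9791
import Groth.Agent.Lib.Helper69.NormField3
import Groth.Agent.Lib.Helper30.SmoothLocal
import Groth.Agent.S9491

set_option autoImplicit false
universe u
open CategoryTheory CategoryTheory.Limits AlgebraicGeometry
open FlatMor

namespace Groth.Agent.S9791

open AlgebraicGeometry CategoryTheory CategoryTheory.Limits
open Groth.Agent.Lib.Helper69.NormField

set_option linter.style.haveILetI false

/-- transport of the `NormField` facts to an arbitrary presentation of the generic-point morphism. -/
theorem facts {X : Scheme.{u}} [IsIntegral X] {L : Type u} [Field L] (φ : X.functionField →+* L)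
    (g : Spec (CommRingCat.of L) ⟶ X) (hg : g = gen φ) [QuasiCompact g] [QuasiSeparated g] :
    Pi1.IsNormalScheme g.normalization ∧
    g.toNormalization (IsLocalRing.closedPoint L) = genericPoint g.normalization ∧
    (∀ n : g.normalization, g.fromNormalization n = genericPoint X →
      n = genericPoint g.normalization) ∧
    Function.Injective (Scheme.stalkClosedPointTo g.toNormalization).hom ∧
    Set.range (Scheme.stalkClosedPointTo g.toNormalization).hom = {y : L | φ.IsIntegralElem y} := by
  subst hg
  exact ⟨isNormalScheme_normalization φ, toNormalization_closedPoint φ,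
    eq_genericPoint_of_fromNormalization_eq φ, stalkClosedPointTo_injective φ,
    range_stalkClosedPointTo φ⟩

theorem facts_id (X : Scheme.{u}) [IsIntegral X]
    [QuasiCompact (X.fromSpecStalk (genericPoint X))]
    [QuasiSeparated (X.fromSpecStalk (genericPoint X))] :
    Pi1.IsNormalScheme (X.fromSpecStalk (genericPoint X)).normalization ∧
    (X.fromSpecStalk (genericPoint X)).toNormalization
      (IsLocalRing.closedPoint (X.presheaf.stalk (genericPoint X))) =
      genericPoint (X.fromSpecStalk (genericPoint X)).normalization ∧
    (∀ n : (X.fromSpecStalk (genericPoint X)).normalization,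
      (X.fromSpecStalk (genericPoint X)).fromNormalization n = genericPoint X →
      n = genericPoint (X.fromSpecStalk (genericPoint X)).normalization) ∧
    Function.Bijective
      (Scheme.stalkClosedPointTo (X.fromSpecStalk (genericPoint X)).toNormalization).hom := by
  have hg : (X.fromSpecStalk (genericPoint X) : Spec (CommRingCat.of X.functionField) ⟶ X) =
      gen (RingHom.id X.functionField) := by
    show _ = Spec.map (CommRingCat.ofHom (RingHom.id X.functionField)) ≫ _
    have : CommRingCat.ofHom (RingHom.id X.functionField) = 𝟙 _ := rfl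
    rw [this, Spec.map_id, Category.id_comp]
  obtain ⟨h1, h2, h3, h4, h5⟩ := facts (RingHom.id X.functionField)
    (X.fromSpecStalk (genericPoint X) : Spec (CommRingCat.of X.functionField) ⟶ X) hg
  refine ⟨h1, h2, h3, h4, ?_⟩
  intro y
  have : y ∈ Set.range (Scheme.stalkClosedPointTo
      (X.fromSpecStalk (genericPoint X) :
        Spec (CommRingCat.of X.functionField) ⟶ X).toNormalization).hom := by
    rw [h5]
    exact ⟨Polynomial.X - Polynomial.C y, Polynomial.monic_X_sub_C y, by simp⟩
  exact this

section setup
variable {X Y : Scheme.{u}} (f : X ⟶ Y) [Smooth f] [IsIntegral X] [IsIntegral Y]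

lemma map_genericPoint : f (genericPoint X) = genericPoint Y := by
  obtain ⟨ξ, h1, h2⟩ := Flat.generalizingMap f (genericPoint_specializes (f (genericPoint X)))
  have : ξ = genericPoint X := (Specializes.antisymm h1 (genericPoint_specializes ξ)).eq
  rw [← this]; exact h2

lemma exists_u : ∃ u : Spec (X.presheaf.stalk (genericPoint X)) ⟶
    Spec (Y.presheaf.stalk (genericPoint Y)),
    u ≫ Y.fromSpecStalk (genericPoint Y) = X.fromSpecStalk (genericPoint X) ≫ f := by
  have key : ∀ y (_ : f (genericPoint X) = y), ∃ u : Spec (X.presheaf.stalk (genericPoint X)) ⟶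
      Spec (Y.presheaf.stalk y), u ≫ Y.fromSpecStalk y = X.fromSpecStalk (genericPoint X) ≫ f := by
    rintro _ rfl
    exact ⟨Spec.map (f.stalkMap _), Scheme.SpecMap_stalkMap_fromSpecStalk f⟩
  exact key _ (map_genericPoint f)

/-- the generic fibre of `f`, as a scheme over `X`. -/
noncomputable abbrev jη : pullback (Y.fromSpecStalk (genericPoint Y)) f ⟶ X :=
  pullback.snd (Y.fromSpecStalk (genericPoint Y)) f

lemma range_jη : Set.range (jη f) = f ⁻¹' {genericPoint Y} := by
  rw [Scheme.Pullback.range_snd]
  congr 1
  ext y
  simp only [Set.mem_range, Set.mem_singleton_iff]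
  constructor
  · rintro ⟨s, rfl⟩
    have h1 : Y.fromSpecStalk (genericPoint Y) s ∈ Set.range (Y.fromSpecStalk (genericPoint Y)) :=
      ⟨s, rfl⟩
    rw [Scheme.range_fromSpecStalk] at h1
    exact (Specializes.antisymm h1 (genericPoint_specializes _)).eq
  · rintro rfl
    exact ⟨IsLocalRing.closedPoint _, Scheme.fromSpecStalk_closedPoint⟩

end setup

lemma normal_spec_field (K : CommRingCat.{u}) [hK : Fact (IsField K)] (s : Spec K) :
    IsDomain ((Spec K).presheaf.stalk s) ∧ IsIntegrallyClosed ((Spec K).presheaf.stalk s) := by
  letI : Field K := hK.out.toField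
  have hs : s = IsLocalRing.closedPoint K := Subsingleton.elim (α := PrimeSpectrum K) _ _
  subst hs
  let e : K ≃+* (Spec K).presheaf.stalk (IsLocalRing.closedPoint K) :=
    (stalkClosedPointIso K).symm.commRingCatIsoToRingEquiv
  exact ⟨e.toMulEquiv.isDomain_iff.mp inferInstance, IsIntegrallyClosed.of_equiv e⟩

section setup2
variable {X Y : Scheme.{u}} (f : X ⟶ Y) [Smooth f] [IsIntegral X] [IsIntegral Y]

lemma normal_genericFibre :
    Pi1.IsNormalScheme (pullback (Y.fromSpecStalk (genericPoint Y)) f) := by
  intro z
  have hz : z ∈ (pullback.fst (Y.fromSpecStalk (genericPoint Y)) f).smoothLocus := by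
    rw [Scheme.Hom.smoothLocus_eq_top]; trivial
  rw [Groth.Agent.Lib.Helper30.SmoothLocal.stalk_normal_iff_of_smoothAt _ z hz]
  haveI : Fact (IsField (Y.presheaf.stalk (genericPoint Y))) :=
    ⟨Field.toIsField Y.functionField⟩
  exact normal_spec_field _ _

lemma exists_generic_genericFibre :
    ∃ ζ : ↥(pullback (Y.fromSpecStalk (genericPoint Y)) f), jη f ζ = genericPoint X := by
  have : genericPoint X ∈ Set.range (jη f) := by
    rw [range_jη]; exact map_genericPoint f
  exact this

instance isIntegral_genericFibre :
    IsIntegral (pullback (Y.fromSpecStalk (genericPoint Y)) f) := by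
  obtain ⟨ζ, hζ⟩ := exists_generic_genericFibre f
  haveI : IrreducibleSpace ↥(pullback (Y.fromSpecStalk (genericPoint Y)) f) := by
    have hcl : closure ({ζ} : Set ↥(pullback (Y.fromSpecStalk (genericPoint Y)) f)) = Set.univ := by
      ext z
      simp only [Set.mem_univ, iff_true]
      rw [← specializes_iff_mem_closure,
        ← (jη f).isEmbedding.toIsInducing.specializes_iff, hζ]
      exact genericPoint_specializes _
    rw [irreducibleSpace_def]
    show IsIrreducible (Set.univ : Set ↥(pullback (Y.fromSpecStalk (genericPoint Y)) f))
    rw [← hcl]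
    exact isIrreducible_singleton.closure
  haveI : IsReduced (pullback (Y.fromSpecStalk (genericPoint Y)) f) := by
    haveI : ∀ z : ↥(pullback (Y.fromSpecStalk (genericPoint Y)) f),
        _root_.IsReduced ((pullback (Y.fromSpecStalk (genericPoint Y)) f).presheaf.stalk z) :=
      fun z => by
        haveI := (normal_genericFibre f z).1
        infer_instance
    exact isReduced_of_isReduced_stalk _
  exact isIntegral_of_irreducibleSpace_of_isReduced _

end setup2

lemma surj_of_eq {N : Scheme.{u}} {R : CommRingCat.{u}} [IsLocalRing R] {t t' : Spec R ⟶ N}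
    (h : t = t') (hs : Function.Surjective (Scheme.stalkClosedPointTo t').hom) :
    Function.Surjective (Scheme.stalkClosedPointTo t).hom := by
  subst h; exact hs

lemma isNormalScheme_of_iso {A B : Scheme.{u}} (e : A ⟶ B) [IsIso e] (hB : Pi1.IsNormalScheme B) :
    Pi1.IsNormalScheme A := by
  intro a
  obtain ⟨h1, h2⟩ := hB (e a)
  let r : B.presheaf.stalk (e a) ≃+* A.presheaf.stalk a :=
    (asIso (e.stalkMap a)).commRingCatIsoToRingEquiv
  exact ⟨r.toMulEquiv.isDomain_iff.mp h1, IsIntegrallyClosed.of_equiv r⟩

section main
variable {X Y : Scheme.{u}} (f : X ⟶ Y) [Smooth f] [IsIntegral X] [IsIntegral Y]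
    [QuasiCompact (X.fromSpecStalk (genericPoint X))]
    [QuasiSeparated (X.fromSpecStalk (genericPoint X))]
    [QuasiCompact (Y.fromSpecStalk (genericPoint Y))]
    [QuasiSeparated (Y.fromSpecStalk (genericPoint Y))]

lemma normal_target :
    Pi1.IsNormalScheme (pullback (Y.fromSpecStalk (genericPoint Y)).fromNormalization f) := by
  intro z
  have hz : z ∈ (pullback.fst (Y.fromSpecStalk (genericPoint Y)).fromNormalization f).smoothLocus := by
    rw [Scheme.Hom.smoothLocus_eq_top]; trivial
  rw [Groth.Agent.Lib.Helper30.SmoothLocal.stalk_normal_iff_of_smoothAt _ z hz]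
  exact (facts_id Y).1 _

lemma normal_Nη : Pi1.IsNormalScheme (jη f).normalization :=
  isNormalScheme_of_iso ((Y.fromSpecStalk (genericPoint Y)).normalizationPullback f)
    (normal_target f)

end main

section main2
variable {X Y : Scheme.{u}} (f : X ⟶ Y) [Smooth f] [IsIntegral X] [IsIntegral Y]
    [QuasiCompact (X.fromSpecStalk (genericPoint X))]
    [QuasiSeparated (X.fromSpecStalk (genericPoint X))]
    [QuasiCompact (Y.fromSpecStalk (genericPoint Y))]
    [QuasiSeparated (Y.fromSpecStalk (genericPoint Y))]

/-- the comparison `X^ν ⟶ (normalization of X in the generic fibre)` is an isomorphism. -/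
theorem exists_iso_Nη : ∃ c : (X.fromSpecStalk (genericPoint X)).normalization ⟶ (jη f).normalization,
    IsIso c ∧ c ≫ (jη f).fromNormalization = (X.fromSpecStalk (genericPoint X)).fromNormalization := by
  obtain ⟨u, hu⟩ := exists_u f
  let t : Spec (X.presheaf.stalk (genericPoint X)) ⟶ pullback (Y.fromSpecStalk (genericPoint Y)) f :=
    pullback.lift u (X.fromSpecStalk (genericPoint X)) hu
  have ht : t ≫ jη f = X.fromSpecStalk (genericPoint X) := pullback.lift_snd _ _ _
  have H : X.fromSpecStalk (genericPoint X) =
      (t ≫ (jη f).toNormalization) ≫ (jη f).fromNormalization := by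
    rw [Category.assoc, Scheme.Hom.toNormalization_fromNormalization, ht]
  let c := (X.fromSpecStalk (genericPoint X)).normalizationDesc (t ≫ (jη f).toNormalization)
    (jη f).fromNormalization H
  have hτc : (X.fromSpecStalk (genericPoint X)).toNormalization ≫ c = t ≫ (jη f).toNormalization :=
    (X.fromSpecStalk (genericPoint X)).toNormalization_normalizationDesc _ _ H
  have hc : c ≫ (jη f).fromNormalization = (X.fromSpecStalk (genericPoint X)).fromNormalization :=
    (X.fromSpecStalk (genericPoint X)).normalizationDesc_comp _ _ H
  refine ⟨c, ?_, hc⟩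
  obtain ⟨-, hτ, -, -⟩ := facts_id X
  -- the generic point of the generic fibre
  set pt := IsLocalRing.closedPoint (X.presheaf.stalk (genericPoint X)) with hpt
  have hζ : jη f (t pt) = genericPoint X := by
    have : jη f (t pt) = (t ≫ jη f) pt := rfl
    rw [this, ht, Scheme.fromSpecStalk_closedPoint]
  have hcl : closure ({t pt} : Set ↥(pullback (Y.fromSpecStalk (genericPoint Y)) f)) = Set.univ := by
    ext z
    simp only [Set.mem_univ, iff_true]
    rw [← specializes_iff_mem_closure,
      ← (jη f).isEmbedding.toIsInducing.specializes_iff, hζ]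
    exact genericPoint_specializes _
  have hcl' : closure ({(jη f).toNormalization (t pt)} : Set ↥(jη f).normalization) = Set.univ := by
    have hd := (jη f).toNormalization.denseRange
    rw [Set.eq_univ_iff_forall]
    intro n
    have h1 : Set.range (jη f).toNormalization ⊆
        closure ({(jη f).toNormalization (t pt)} : Set ↥(jη f).normalization) := by
      rintro _ ⟨z, rfl⟩
      have hz : z ∈ closure ({t pt} : Set ↥(pullback (Y.fromSpecStalk (genericPoint Y)) f)) := by
        rw [hcl]; trivial
      have := image_closure_subset_closure_image (jη f).toNormalization.continuous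
        (Set.mem_image_of_mem _ hz)
      rwa [Set.image_singleton] at this
    exact closure_minimal h1 isClosed_closure (hd n)
  have hgen : ((X.fromSpecStalk (genericPoint X)).toNormalization ≫ c) pt =
      genericPoint ↥(jη f).normalization := by
    rw [hτc]
    exact ((genericPoint_spec _).eq (isGenericPoint_def.mpr hcl')).symm
  have hsurj : Function.Surjective (Scheme.stalkClosedPointTo
      ((X.fromSpecStalk (genericPoint X)).toNormalization ≫ c)).hom := by
    apply surj_of_eq hτc
    haveI : SurjectiveOnStalks ((t ≫ (jη f).toNormalization) ≫ (jη f).fromNormalization) := by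
      rw [← H]; infer_instance
    haveI : SurjectiveOnStalks (t ≫ (jη f).toNormalization) :=
      SurjectiveOnStalks.of_comp _ (jη f).fromNormalization
    have h1 : Function.Surjective ((t ≫ (jη f).toNormalization).stalkMap pt).hom :=
      (t ≫ (jη f).toNormalization).stalkMap_surjective _
    have h2 : Function.Surjective
        (stalkClosedPointIso (X.presheaf.stalk (genericPoint X))).hom.hom :=
      (ConcreteCategory.bijective_of_isIso _).surjective
    exact h2.comp h1
  exact isIso_of_integral_birational (L := X.functionField) (normal_Nη f) c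
    (X.fromSpecStalk (genericPoint X)).toNormalization hτ hgen hsurj

end main2

lemma isIso_snd_of_lift {A B C S : Scheme.{u}} {f : A ⟶ C} {g : B ⟶ C} (a : S ⟶ A) (b : S ⟶ B)
    (w : a ≫ f = b ≫ g) (h1 : IsIso (pullback.lift a b w)) (h2 : IsIso b) :
    IsIso (pullback.snd f g) := by
  have h3 : IsIso (pullback.lift a b w ≫ pullback.snd f g) := by
    rw [pullback.lift_snd]; exact h2
  exact IsIso.of_isIso_comp_left (pullback.lift a b w) _

theorem isIso_snd_aux {Y : Scheme.{u}} [IsIntegral Y]
    (g : Spec (CommRingCat.of Y.functionField) ⟶ Y) (hg : g = gen (RingHom.id Y.functionField))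
    [QuasiCompact g] [QuasiSeparated g] :
    IsIso (pullback.snd g.fromNormalization (Y.fromSpecStalk (genericPoint Y))) := by
  subst hg
  have halg : ∀ y : Y.functionField, (RingHom.id Y.functionField).IsIntegralElem y := fun y =>
    ⟨Polynomial.X - Polynomial.C y, Polynomial.monic_X_sub_C y, by simp⟩
  have hθ := Groth.Agent.S9491.isIso_lift (RingHom.id Y.functionField) halg
  have h2 : IsIso (Spec.map (CommRingCat.ofHom (RingHom.id Y.functionField))) := by
    have : CommRingCat.ofHom (RingHom.id Y.functionField) = 𝟙 _ := rfl
    rw [this, Spec.map_id]; infer_instance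
  exact isIso_snd_of_lift _ _ _ hθ h2

theorem isIso_snd (Y : Scheme.{u}) [IsIntegral Y]
    [QuasiCompact (Y.fromSpecStalk (genericPoint Y))]
    [QuasiSeparated (Y.fromSpecStalk (genericPoint Y))] :
    IsIso (pullback.snd (Y.fromSpecStalk (genericPoint Y)).fromNormalization
      (Y.fromSpecStalk (genericPoint Y))) := by
  have hg : (Y.fromSpecStalk (genericPoint Y) : Spec (CommRingCat.of Y.functionField) ⟶ Y) =
      gen (RingHom.id Y.functionField) := by
    show _ = Spec.map (CommRingCat.ofHom (RingHom.id Y.functionField)) ≫ _
    have : CommRingCat.ofHom (RingHom.id Y.functionField) = 𝟙 _ := rfl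
    rw [this, Spec.map_id, Category.id_comp]
  exact isIso_snd_aux (Y.fromSpecStalk (genericPoint Y) :
    Spec (CommRingCat.of Y.functionField) ⟶ Y) hg

/-- maps into the normalization lying over the generic point are determined by their composite
to `Y`. -/
theorem eq_of_comp_eq {Y S : Scheme.{u}} [IsIntegral Y]
    [QuasiCompact (Y.fromSpecStalk (genericPoint Y))]
    [QuasiSeparated (Y.fromSpecStalk (genericPoint Y))]
    (a a' : S ⟶ (Y.fromSpecStalk (genericPoint Y)).normalization)
    (u' : S ⟶ Spec (Y.presheaf.stalk (genericPoint Y)))
    (ha : a ≫ (Y.fromSpecStalk (genericPoint Y)).fromNormalization =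
      u' ≫ Y.fromSpecStalk (genericPoint Y))
    (ha' : a' ≫ (Y.fromSpecStalk (genericPoint Y)).fromNormalization =
      u' ≫ Y.fromSpecStalk (genericPoint Y)) : a = a' := by
  haveI := isIso_snd Y
  have h : pullback.lift a u' ha = pullback.lift a' u' ha' := by
    rw [← cancel_mono (pullback.snd (Y.fromSpecStalk (genericPoint Y)).fromNormalization
      (Y.fromSpecStalk (genericPoint Y))), pullback.lift_snd, pullback.lift_snd]
  calc a = pullback.lift a u' ha ≫ pullback.fst _ _ := (pullback.lift_fst _ _ _).symm
    _ = pullback.lift a' u' ha' ≫ pullback.fst _ _ := by rw [h]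
    _ = a' := pullback.lift_fst _ _ _


/-- In the case of integral schemes: let f : X ⟶ Y be a smooth morphism with X and Y integral, and let
X^ν ⟶ X and Y^ν ⟶ Y be the normalizations (in the function fields). Then X^ν is isomorphic over X to
the fibre product X ×_Y Y^ν, and such an isomorphism is unique. (The published statement requires
only that each quasi-compact open subset of Y meet finitely many irreducible components of Y, and
also derives this for X; this row assumes X and Y integral, the case in which the normalization used
here is defined. The quasi-compactness and quasi-separatedness binders on Spec K(X) → X and Spec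
K(Y) → Y always hold and are needed only to form the normalization.) -/
theorem result {X Y : Scheme.{u}} (f : X ⟶ Y) [Smooth f] [IsIntegral X] [IsIntegral Y]
    [QuasiCompact (X.fromSpecStalk (genericPoint X))] [QuasiSeparated (X.fromSpecStalk (genericPoint X))]
    [QuasiCompact (Y.fromSpecStalk (genericPoint Y))] [QuasiSeparated (Y.fromSpecStalk (genericPoint Y))] :
    ∃! e : Curv2.normalization X ≅ pullback f (Curv2.normalizationι Y),
      e.hom ≫ pullback.fst f (Curv2.normalizationι Y) = Curv2.normalizationι X := by
  obtain ⟨c, hciso, hc⟩ := exists_iso_Nη f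
  haveI := hciso
  let Φ := (Y.fromSpecStalk (genericPoint Y)).normalizationPullback f
  let e₀ : (X.fromSpecStalk (genericPoint X)).normalization ≅
      pullback f (Y.fromSpecStalk (genericPoint Y)).fromNormalization :=
    asIso c ≪≫ asIso Φ ≪≫ pullbackSymmetry (Y.fromSpecStalk (genericPoint Y)).fromNormalization f
  have he₀ : e₀.hom ≫ pullback.fst f (Y.fromSpecStalk (genericPoint Y)).fromNormalization =
      (X.fromSpecStalk (genericPoint X)).fromNormalization := by
    show (c ≫ Φ ≫ (pullbackSymmetry (Y.fromSpecStalk (genericPoint Y)).fromNormalization f).hom) ≫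
      pullback.fst f (Y.fromSpecStalk (genericPoint Y)).fromNormalization =
      (X.fromSpecStalk (genericPoint X)).fromNormalization
    rw [Category.assoc, Category.assoc, pullbackSymmetry_hom_comp_fst,
      Scheme.Hom.normalizationPullback_snd]
    exact hc
  let e : Curv2.normalization X ≅ pullback f (Curv2.normalizationι Y) := e₀
  have he : e.hom ≫ pullback.fst f (Curv2.normalizationι Y) = Curv2.normalizationι X := he₀
  haveI : IsAffineHom (pullback.fst f (Y.fromSpecStalk (genericPoint Y)).fromNormalization) :=
    MorphismProperty.pullback_fst (P := @IsAffineHom) f _ inferInstance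
  have huniq : ∀ (a b : (X.fromSpecStalk (genericPoint X)).normalization ⟶
      pullback f (Y.fromSpecStalk (genericPoint Y)).fromNormalization),
      a ≫ pullback.fst f (Y.fromSpecStalk (genericPoint Y)).fromNormalization =
        (X.fromSpecStalk (genericPoint X)).fromNormalization →
      b ≫ pullback.fst f (Y.fromSpecStalk (genericPoint Y)).fromNormalization =
        (X.fromSpecStalk (genericPoint X)).fromNormalization → a = b := by
    intro a b ha hb
    obtain ⟨u, hu⟩ := exists_u f
    refine Scheme.Hom.normalization.hom_ext (f := X.fromSpecStalk (genericPoint X)) a b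
      (pullback.fst f (Y.fromSpecStalk (genericPoint Y)).fromNormalization) ?_ ha hb
    apply pullback.hom_ext
    · rw [Category.assoc, Category.assoc, ha, hb]
    · rw [Category.assoc, Category.assoc]
      apply eq_of_comp_eq _ _ u
      · rw [Category.assoc, Category.assoc, ← pullback.condition, reassoc_of% ha,
          Scheme.Hom.toNormalization_fromNormalization_assoc, hu]
      · rw [Category.assoc, Category.assoc, ← pullback.condition, reassoc_of% hb,
          Scheme.Hom.toNormalization_fromNormalization_assoc, hu]
  refine ⟨e, he, ?_⟩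
  intro e' he'
  apply Iso.ext
  exact huniq e'.hom e₀.hom he' he₀


end Groth.Agent.S9791
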