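import Groth.Statements.S9792
import Mathlib.RingTheory.Ideal.KrullsHeightTheorem
import Mathlib.AlgebraicGeometry.Properties
import Mathlib.Order.OrderIsoNat
-- import your own Groth.Agent.* helpers here

set_option autoImplicit false
universe u
open CategoryTheory AlgebraicGeometry TopologicalSpace
open Props

namespace Groth.Agent.S9792

theorem coheight_ne_top (S : Scheme.{u}) [IsLocallyNoetherian S] (x : S) :
    Order.coheight x ≠ ⊤ := by
  have h1 := ringKrullDim_stalk_eq_coheight x
  have h2 : ringKrullDim (S.presheaf.stalk x) ≠ ⊤ := ringKrullDim_ne_top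
  intro h
  rw [h] at h1
  exact h2 h1

theorem coheight_lt_of_specializes (S : Scheme.{u}) [IsLocallyNoetherian S] {a b : S}
    (hab : a ⤳ b) (hne : a ≠ b) : Order.coheight a < Order.coheight b := by
  have hlt : b < a := by
    refine ⟨hab, fun hba => hne ?_⟩
    exact (hab.antisymm hba).eq
  have h1 := Order.coheight_add_one_le hlt
  have h2 := coheight_ne_top S a
  exact lt_of_lt_of_le (ENat.lt_add_one_iff h2 |>.mpr le_rfl) h1

theorem no_desc_chain (S : Scheme.{u}) [IsNoetherian S] (y : ℕ → S)
    (h : ∀ n, y n ⤳ y (n + 1) ∧ y n ≠ y (n + 1)) : False := by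
  let c : ℕ → Closeds S := fun n => ⟨closure {y n}, isClosed_closure⟩
  obtain ⟨n, hn⟩ := WellFounded.not_rel_apply_succ (r := ((· < ·) : Closeds S → Closeds S → Prop)) c
  apply hn
  refine lt_of_le_of_ne ?_ ?_
  · exact specializes_iff_closure_subset.mp (h n).1
  · intro heq
    have heq' : closure ({y (n + 1)} : Set S) = closure {y n} := congrArg (fun z : Closeds S => (z : Set S)) heq
    have : y (n + 1) ⤳ y n := by
      rw [specializes_iff_closure_subset, heq']
    exact (h n).2 (((h n).1.antisymm this).eq)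

theorem no_asc_chain (S : Scheme.{u}) [IsNoetherian S] (y : ℕ → S)
    (h : ∀ n, y (n + 1) ⤳ y n ∧ y (n + 1) ≠ y n) : False := by
  obtain ⟨n, hn⟩ := WellFounded.not_rel_apply_succ (r := ((· < ·) : ℕ∞ → ℕ∞ → Prop))
    (fun n => Order.coheight (y n))
  exact hn (coheight_lt_of_specializes S (h n).1 (h n).2)


/-- In a Noetherian scheme, every infinite set of points contains an infinite subset no two distinct
members of which are related by specialization. -/
theorem result (S : Scheme.{u}) [IsNoetherian S]
    (T : Set S) (hT : T.Infinite) :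
    ∃ T' : Set S, T' ⊆ T ∧ T'.Infinite ∧ ∀ a ∈ T', ∀ b ∈ T', a ⤳ b → a = b := by
  let f : ℕ → S := fun n => (hT.natEmbedding T n : S)
  have hfinj : Function.Injective f := fun a b hab =>
    (hT.natEmbedding T).injective (Subtype.ext hab)
  have hfT : ∀ n, f n ∈ T := fun n => (hT.natEmbedding T n).2
  obtain ⟨g, hg⟩ := exists_increasing_or_nonincreasing_subseq'
    (fun a b : S => a ⤳ b ∧ a ≠ b) f
  rcases hg with hg | hg
  · exact (no_desc_chain S (fun n => f (g n)) hg).elim
  obtain ⟨k, hk⟩ := exists_increasing_or_nonincreasing_subseq'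
    (fun a b : S => b ⤳ a ∧ b ≠ a) (fun n => f (g n))
  rcases hk with hk | hk
  · exact (no_asc_chain S (fun n => f (g (k n))) hk).elim
  let x : ℕ → S := fun n => f (g (k n))
  have hxinj : Function.Injective x := fun a b hab =>
    k.injective (g.injective (hfinj hab))
  refine ⟨Set.range x, ?_, Set.infinite_range_of_injective hxinj, ?_⟩
  · rintro _ ⟨n, rfl⟩
    exact hfT _
  · rintro _ ⟨m, rfl⟩ _ ⟨n, rfl⟩ hspec
    by_contra hne
    rcases lt_trichotomy m n with hmn | hmn | hmn
    · exact hg (k m) (k n) (k.strictMono hmn) ⟨hspec, hne⟩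
    · exact hne (by rw [hmn])
    · exact hk n m hmn ⟨hspec, hne⟩

end Groth.Agent.S9792
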