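import Groth.Statements.S9794
import Mathlib
import Groth.Agent.S9793

set_option autoImplicit false
universe u
open CategoryTheory AlgebraicGeometry TopologicalSpace
open Props

set_option linter.unusedSectionVars false

namespace Groth.Agent.S9794Aux

theorem main {X : Type*} [TopologicalSpace X] [NoetherianSpace X] [QuasiSober X]
    (H : ∀ (A : Set X) (t : X), t ∈ A → ∃ t₀ ∈ A, (∀ t' ∈ A, t' ⤳ t₀ → t' = t₀) ∧ t₀ ⤳ t)
    (T : Set X) : ∃ E : Set X, E ⊆ T ∧ E.Countable ∧ T ⊆ closure E := by
  classical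
  set T' : Set X := {s | ∃ E : Set X, E ⊆ T ∧ E.Countable ∧ closure E = closure {s}} with hT'
  have hTT' : T ⊆ T' := fun t ht =>
    ⟨{t}, by simpa using ht, Set.countable_singleton t, rfl⟩
  have hch : ∀ s : X, ∃ E : Set X, s ∈ T' → (E ⊆ T ∧ E.Countable ∧ closure E = closure {s}) := by
    intro s
    by_cases hs : s ∈ T'
    · obtain ⟨E, hE⟩ := hs
      exact ⟨E, fun _ => hE⟩
    · exact ⟨∅, fun h => absurd h hs⟩
  choose Es hEs using hch
  set T0 : Set X := {t | t ∈ T' ∧ ∀ t' ∈ T', t' ⤳ t → t' = t} with hT0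
  have hT0fin : T0.Finite := by
    by_contra hinf
    have hinf' : T0.Infinite := hinf
    let emb := Set.Infinite.natEmbedding T0 hinf'
    set E' : Set X := Set.range (fun n => (emb n : X)) with hE'
    have hE'sub : E' ⊆ T0 := by
      rintro _ ⟨n, rfl⟩; exact (emb n).2
    have hE'inf : E'.Infinite := by
      apply Set.infinite_range_of_injective
      intro a b hab
      exact emb.injective (Subtype.ext hab)
    have hE'c : E'.Countable := Set.countable_range _
    set D : Set X := ⋃ s ∈ E', Es s with hD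
    have hDT : D ⊆ T := by
      intro x hx
      simp only [hD, Set.mem_iUnion] at hx
      obtain ⟨s, hs, hx⟩ := hx
      exact (hEs s (hE'sub hs).1).1 hx
    have hDc : D.Countable := hE'c.biUnion (fun s hs => (hEs s (hE'sub hs).1).2.1)
    have hE'D : E' ⊆ closure D := by
      intro s hs
      have h1 : s ∈ closure (Es s) := by
        rw [(hEs s (hE'sub hs).1).2.2]; exact subset_closure rfl
      exact closure_mono (Set.subset_biUnion_of_mem (u := fun s => Es s) hs) h1
    obtain ⟨𝒮, hfin, hcl, hirr, hW⟩ :=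
      NoetherianSpace.exists_finite_set_isClosed_irreducible (isClosed_closure (s := D))
    -- some member contains infinitely many points of E'
    have hex : ∃ Z ∈ 𝒮, (E' ∩ Z).Infinite := by
      by_contra hno
      push Not at hno
      have hsub : E' ⊆ ⋃ Z ∈ 𝒮, (E' ∩ Z) := by
        intro e he
        have : e ∈ ⋃₀ 𝒮 := hW ▸ hE'D he
        obtain ⟨Z, hZ, heZ⟩ := this
        exact Set.mem_biUnion hZ ⟨he, heZ⟩
      have hfin2 : (⋃ Z ∈ 𝒮, (E' ∩ Z)).Finite :=
        hfin.biUnion (fun Z hZ => hno Z hZ)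
      exact hE'inf (hfin2.subset hsub)
    obtain ⟨Z, hZ, hZinf⟩ := hex
    obtain ⟨Z', hZZ', hZ'max⟩ := hfin.exists_le_maximal hZ
    have hZ'mem : Z' ∈ 𝒮 := hZ'max.prop
    have hZ'inf : (E' ∩ Z').Infinite := hZinf.mono (Set.inter_subset_inter_right _ hZZ')
    -- Z' ⊆ closure (D ∩ Z')
    have hZ'cl : Z' ⊆ closure (D ∩ Z') := by
      have hDsub : D ⊆ ⋃ Y ∈ 𝒮, (D ∩ Y) := by
        intro d hd
        have : d ∈ ⋃₀ 𝒮 := hW ▸ subset_closure hd
        obtain ⟨Y, hY, hdY⟩ := this
        exact Set.mem_biUnion hY ⟨hd, hdY⟩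
      have h1 : Z' ⊆ ⋃ Y ∈ 𝒮, closure (D ∩ Y) := by
        have : Z' ⊆ closure D := by
          rw [hW]; exact Set.subset_sUnion_of_mem hZ'mem
        refine this.trans ?_
        rw [← hfin.closure_biUnion]
        exact closure_mono hDsub
      have h2 := isIrreducible_iff_sUnion_isClosed.1 (hirr Z' hZ'mem)
        (hfin.toFinset.image (fun Y => closure (D ∩ Y)))
        (by
          intro z hz
          simp only [Finset.mem_image] at hz
          obtain ⟨Y, -, rfl⟩ := hz
          exact isClosed_closure)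
        (by
          intro x hx
          have := h1 hx
          simp only [Set.mem_iUnion] at this
          obtain ⟨Y, hY, hxY⟩ := this
          refine ⟨closure (D ∩ Y), ?_, hxY⟩
          simp only [Finset.coe_image, Set.Finite.coe_toFinset, Set.mem_image]
          exact ⟨Y, hY, rfl⟩)
      obtain ⟨z, hz, hZ'z⟩ := h2
      simp only [Finset.mem_image, Set.Finite.mem_toFinset] at hz
      obtain ⟨Y, hY, rfl⟩ := hz
      have hYcl : closure (D ∩ Y) ⊆ Y := closure_minimal Set.inter_subset_right (hcl Y hY)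
      have hZ'Y : Z' ⊆ Y := hZ'z.trans hYcl
      have hYZ' : Y ⊆ Z' := hZ'max.le_of_ge hY hZ'Y
      exact hZ'z.trans (closure_mono (Set.inter_subset_inter_right _ hYZ'))
    obtain ⟨ξ, hξ⟩ := QuasiSober.sober (hirr Z' hZ'mem) (hcl Z' hZ'mem)
    have hξcl : closure {ξ} = Z' := hξ.def
    have hξT' : ξ ∈ T' := by
      refine ⟨D ∩ Z', Set.inter_subset_left.trans hDT, hDc.mono Set.inter_subset_left, ?_⟩
      rw [hξcl]
      exact Set.Subset.antisymm (closure_minimal Set.inter_subset_right (hcl Z' hZ'mem)) hZ'cl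
    obtain ⟨e1, he1, e2, he2, hne⟩ := hZ'inf.nontrivial
    have h1 : ξ = e1 := by
      refine (hE'sub he1.1).2 ξ hξT' ?_
      rw [specializes_iff_mem_closure, hξcl]; exact he1.2
    have h2 : ξ = e2 := by
      refine (hE'sub he2.1).2 ξ hξT' ?_
      rw [specializes_iff_mem_closure, hξcl]; exact he2.2
    exact hne (h1.symm.trans h2)
  refine ⟨⋃ s ∈ T0, Es s, ?_, ?_, ?_⟩
  · intro x hx
    simp only [Set.mem_iUnion] at hx
    obtain ⟨s, hs, hx⟩ := hx
    exact (hEs s hs.1).1 hx
  · exact hT0fin.countable.biUnion (fun s hs => (hEs s hs.1).2.1)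
  · intro t ht
    obtain ⟨t₀, ht₀, hmin, hspec⟩ := H T' t (hTT' ht)
    have ht₀0 : t₀ ∈ T0 := ⟨ht₀, hmin⟩
    have h1 : t ∈ closure (Es t₀) := by
      rw [(hEs t₀ ht₀).2.2]; exact specializes_iff_mem_closure.1 hspec
    exact closure_mono (Set.subset_biUnion_of_mem (u := fun s => Es s) ht₀0) h1

end Groth.Agent.S9794Aux

namespace Groth.Agent.S9794

/-- In a Noetherian scheme, an infinite dense set of points contains a countable subset which is dense. -/
theorem result (S : Scheme.{u}) [IsNoetherian S]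
    (T : Set S) (hT : T.Infinite) (hd : Dense T) :
    ∃ E : Set S, E ⊆ T ∧ E.Countable ∧ Dense E := by
  obtain ⟨E, hET, hEc, hTE⟩ := Groth.Agent.S9794Aux.main (X := S)
    (fun A t ht => Groth.Agent.S9793.result S A t ht) T
  refine ⟨E, hET, hEc, ?_⟩
  rw [dense_iff_closure_eq] at hd ⊢
  apply Set.eq_univ_of_univ_subset
  rw [← hd]
  exact closure_minimal hTE isClosed_closure

end Groth.Agent.S9794
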