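import Groth.Statements.S9798
import Mathlib.AlgebraicGeometry.Artinian
import Mathlib.Topology.KrullDimension

set_option autoImplicit false
universe u
open CategoryTheory AlgebraicGeometry TopologicalSpace
open Props

namespace Groth.Agent.S9798

theorem dim_nonneg_of_mem {X : Type*} [TopologicalSpace X] (U : Set X) (x : X) (hx : x ∈ U) :
    0 ≤ topologicalKrullDim U := by
  unfold topologicalKrullDim
  rw [Order.krullDim_nonneg_iff]
  exact ⟨⟨closure {(⟨x, hx⟩ : U)}, isIrreducible_singleton.closure, isClosed_closure⟩⟩

/-- A point of a locally Noetherian scheme has local dimension zero exactly when it is isolated. -/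
theorem result (X : Scheme.{u}) [IsLocallyNoetherian X] (x : X) :
    FlatMor.localDim X x = 0 ↔ IsOpen ({x} : Set X) := by
  unfold FlatMor.localDim
  constructor
  · intro h
    have h1 : (⨅ U : {U : TopologicalSpace.Opens X // x ∈ U}, topologicalKrullDim (U.1 : Set X)) < 1 := by
      rw [h]; exact zero_lt_one
    rw [iInf_lt_iff] at h1
    obtain ⟨⟨U, hxU⟩, hU⟩ := h1
    have hU0 : topologicalKrullDim (U : Set X) ≤ 0 := by
      have h0 := dim_nonneg_of_mem (U : Set X) x hxU
      generalize topologicalKrullDim (U : Set X) = d at hU h0 ⊢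
      induction d using WithBot.recBotCoe with
      | bot => exact bot_le
      | coe d =>
        rw [show (1 : WithBot ℕ∞) = ((1 : ℕ∞) : WithBot ℕ∞) from rfl, WithBot.coe_lt_coe,
          Order.lt_one_iff] at hU
        rw [hU]; rfl
    have hart : IsLocallyArtinian (U : Scheme) :=
      IsLocallyArtinian.of_topologicalKrullDim_le_zero hU0
    have hdisc : DiscreteTopology (U : Scheme) := inferInstance
    have hopen : IsOpen ({⟨x, hxU⟩} : Set U) := isOpen_discrete _
    have := U.isOpen.isOpenEmbedding_subtypeVal.isOpenMap _ hopen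
    convert this using 1
    ext y
    constructor
    · intro hy
      have hy' : y = x := hy
      subst hy'
      exact ⟨⟨y, hxU⟩, rfl, rfl⟩
    · rintro ⟨⟨z, hz⟩, hz', rfl⟩
      have : (⟨z, hz⟩ : U) = ⟨x, hxU⟩ := hz'
      exact congrArg Subtype.val this
  · intro h
    apply le_antisymm
    · let U : {U : TopologicalSpace.Opens X // x ∈ U} := ⟨⟨{x}, h⟩, rfl⟩
      refine (iInf_le _ U).trans ?_
      have : Subsingleton ((U.1 : TopologicalSpace.Opens X) : Set X) := by
        constructor
        rintro ⟨a, ha⟩ ⟨b, hb⟩
        have ha' : a = x := ha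
        have hb' : b = x := hb
        subst ha' hb'
        rfl
      exact topologicalKrullDim_zero_of_discreteTopology _
    · apply le_iInf
      rintro ⟨U, hxU⟩
      exact dim_nonneg_of_mem (U : Set X) x hxU

end Groth.Agent.S9798
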