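import Groth.Statements.S9799
import Mathlib
import Groth.Agent.Lib.Helper93.Birat

set_option autoImplicit false
universe u
open CategoryTheory AlgebraicGeometry TopologicalSpace
open Props

namespace Groth.Agent.S9799

/-- Let X be a normal scheme (all local rings are integrally closed domains) such that every
quasi-compact open subset has finitely many irreducible components. Then the irreducible components
of X are open and pairwise disjoint; hence X is the disjoint union of its irreducible components,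
each an open subscheme which is normal and integral. -/
theorem result (X : Scheme.{u})
    (hfin : ∀ U : X.Opens, IsCompact (U : Set X) → (irreducibleComponents ↥U).Finite)
    (hN : Pi1.IsNormalScheme X) :
    (∀ Z ∈ irreducibleComponents X, IsOpen Z) ∧
      ∀ Z ∈ irreducibleComponents X, ∀ Z' ∈ irreducibleComponents X, Z ≠ Z' → Disjoint Z Z' := by
  have h1 : ∀ x : X, ∃ ξ₀ : X, ξ₀ ⤳ x ∧ ∀ z : X, z ⤳ x → ξ₀ ⤳ z := by
    intro x
    have hdom := (hN x).1
    let P₀ : PrimeSpectrum (X.presheaf.stalk x) := ⟨⊥, Ideal.isPrime_bot⟩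
    refine ⟨X.fromSpecStalk x P₀, ?_, ?_⟩
    · have : X.fromSpecStalk x P₀ ∈ Set.range (X.fromSpecStalk x) := ⟨_, rfl⟩
      rw [Scheme.range_fromSpecStalk] at this
      exact this
    · intro z hz
      have : z ∈ Set.range (X.fromSpecStalk x) := by
        rw [Scheme.range_fromSpecStalk]; exact hz
      obtain ⟨P, rfl⟩ := this
      have hsp : P₀ ⤳ P := (PrimeSpectrum.le_iff_specializes _ _).1 (bot_le (a := P.asIdeal))
      exact hsp.map (X.fromSpecStalk x).continuous
  have h2 : ∀ x : X, ∀ Z ∈ irreducibleComponents X, ∀ Z' ∈ irreducibleComponents X,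
      x ∈ Z → x ∈ Z' → Z = Z' := by
    intro x Z hZ Z' hZ' hxZ hxZ'
    obtain ⟨ξ₀, _, hξ₀⟩ := h1 x
    have key : ∀ W ∈ irreducibleComponents X, x ∈ W → W = closure {ξ₀} := by
      intro W hW hxW
      obtain ⟨ξ, hξ⟩ := QuasiSober.sober hW.1 (isClosed_of_mem_irreducibleComponents W hW)
      have hξW : closure {ξ} = W := hξ.def
      have h3 : ξ ⤳ x := by rw [specializes_iff_mem_closure, hξW]; exact hxW
      have h4 : ξ₀ ⤳ ξ := hξ₀ ξ h3
      have h5 : ξ₀ = ξ :=
        Groth.Agent.Lib.Helper93.Birat.eq_of_specializes_of_generic (hξW ▸ hW) h4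
      rw [h5, hξW]
    rw [key Z hZ hxZ, key Z' hZ' hxZ']
  refine ⟨?_, ?_⟩
  · intro Z hZ
    rw [isOpen_iff_forall_mem_open]
    intro x hxZ
    obtain ⟨U, hU, hxU, -⟩ := exists_isAffineOpen_mem_and_subset (U := ⊤) (x := x) (by simp)
    have hUfin := hfin U hU.isCompact
    let B : Set (Set U) := {T | T ∈ irreducibleComponents U ∧ (⟨x, hxU⟩ : U) ∉ T}
    have hBfin : B.Finite := hUfin.subset (fun T hT => hT.1)
    have hBcl : IsClosed (⋃₀ B) := by
      rw [Set.sUnion_eq_biUnion]
      exact hBfin.isClosed_biUnion (fun T hT => isClosed_of_mem_irreducibleComponents T hT.1)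
    let N : Set U := (⋃₀ B)ᶜ
    have hNopen : IsOpen N := hBcl.isOpen_compl
    have : QuasiSober (U : Set X) := U.isOpenEmbedding'.quasiSober
    have : QuasiSober U := this
    refine ⟨Subtype.val '' N, ?_, U.isOpen.isOpenMap_subtype_val _ hNopen, ⟨⟨x, hxU⟩, ?_, rfl⟩⟩
    · rintro _ ⟨u, hu, rfl⟩
      have hT := irreducibleComponent_mem_irreducibleComponents u
      have huT : u ∈ irreducibleComponent u := mem_irreducibleComponent
      have hxT : (⟨x, hxU⟩ : U) ∈ irreducibleComponent u := by
        by_contra hx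
        exact hu ⟨_, ⟨hT, hx⟩, huT⟩
      obtain ⟨τ, hτ⟩ := QuasiSober.sober (isIrreducible_irreducibleComponent (x := u))
        isClosed_irreducibleComponent
      have hτT : closure {τ} = irreducibleComponent u := hτ.def
      have hτu : τ ⤳ u := by rw [specializes_iff_mem_closure, hτT]; exact huT
      have hτx : τ ⤳ (⟨x, hxU⟩ : U) := by rw [specializes_iff_mem_closure, hτT]; exact hxT
      have hτu' : τ.1 ⤳ u.1 := Topology.IsInducing.subtypeVal.specializes_iff.2 hτu
      have hτx' : τ.1 ⤳ x := Topology.IsInducing.subtypeVal.specializes_iff.2 hτx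
      have hτmax : closure {τ.1} ∈ irreducibleComponents X := by
        obtain ⟨ζ, hζ, hζτ⟩ := Groth.Agent.Lib.Helper93.Birat.exists_generic_specializes τ.1
        have hζU : ζ ∈ U := hζτ.mem_open U.2 τ.2
        have hζτ' : (⟨ζ, hζU⟩ : U) ⤳ τ := Topology.IsInducing.subtypeVal.specializes_iff.1 hζτ
        have h6 : (⟨ζ, hζU⟩ : U) = τ :=
          Groth.Agent.Lib.Helper93.Birat.eq_of_specializes_of_generic (hτT ▸ hT) hζτ'
        rw [← h6]; exact hζ
      have hZeq : Z = closure {τ.1} :=
        h2 x Z hZ _ hτmax hxZ (specializes_iff_mem_closure.1 hτx')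
      rw [hZeq]
      exact specializes_iff_mem_closure.1 hτu'
    · rintro ⟨T, hT, hxT⟩
      exact hT.2 hxT
  · intro Z hZ Z' hZ' hne
    rw [Set.disjoint_left]
    intro x hxZ hxZ'
    exact hne (h2 x Z hZ Z' hZ' hxZ hxZ')

end Groth.Agent.S9799
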