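import Groth.Statements.S9800
import Groth.Agent.Lib.Helper64.DimLib

set_option autoImplicit false
universe u
open CategoryTheory AlgebraicGeometry TopologicalSpace
open Props

namespace Groth.Agent.S9800

open Groth.Agent.Lib.Helper64.DimLib
set_option linter.style.haveILetI false

/-- A locally Noetherian normal scheme of dimension at most one is regular, that is, all of its local
rings are regular local rings. -/
theorem result (X : Scheme.{u})
    [IsLocallyNoetherian X] (hN : Pi1.IsNormalScheme X) (hd : topologicalKrullDim X ≤ 1) (x : X) :
    IsRegularLocalRing (X.presheaf.stalk x) := by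
  haveI : IsDomain (X.presheaf.stalk x) := (hN x).1
  haveI : IsIntegrallyClosed (X.presheaf.stalk x) := (hN x).2
  have hdim : ringKrullDim (X.presheaf.stalk x) ≤ 1 := (ringKrullDim_stalk_le X x).trans hd
  haveI : Ring.KrullDimLE 1 (X.presheaf.stalk x) := Ring.krullDimLE_iff.mpr hdim
  haveI : Ring.DimensionLEOne (X.presheaf.stalk x) :=
    ⟨fun hp hprime => hprime.isMaximal_of_ne_bot hp⟩
  haveI : IsDedekindDomain (X.presheaf.stalk x) := {}
  exact IsRegularLocalRing.of_isRegularRing_of_isLocalRing _

end Groth.Agent.S9800
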