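import Groth.Statements.S9802
import Mathlib
import Groth.Agent.S9392
import Groth.Agent.S9394
import Groth.Agent.Lib.Helper77.NagDesc3

set_option autoImplicit false
universe u
open CategoryTheory AlgebraicGeometry TopologicalSpace
open Props

set_option linter.unusedSectionVars false

namespace Groth.Agent.S9802Aux

open CAlg Groth.Agent.Lib.Helper77.NagDesc

theorem isN2_of_isNagata_domain (A : Type u) [CommRing A] [IsDomain A] (h : IsNagata A) :
    IsN2 A := by
  haveI : (⊥ : Ideal A).IsPrime := Ideal.isPrime_bot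
  exact isN2_of_ringEquiv (RingEquiv.quotientBot A) (h.2 ⊥)

/-- sections over the preimage of an affine open under a closed immersion from an integral scheme -/
theorem isN2_preimage {X : Scheme.{u}} (hN : ∀ U : X.Opens, IsAffineOpen U → IsNagata Γ(X, U))
    (Z : Scheme.{u}) (i : Z ⟶ X) [IsClosedImmersion i] [IsIntegral Z] (U : X.Opens)
    (hU : IsAffineOpen U) [Nonempty (i ⁻¹ᵁ U)] : IsN2 Γ(Z, i ⁻¹ᵁ U) := by
  apply isN2_of_isNagata_domain
  exact isNagata_of_surjective (i.app U).hom (i.app_surjective U hU) (hN U hU)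

theorem isN2_basicOpen {Z : Scheme.{u}} [IsIntegral Z] (W : Z.Opens) (hW : IsAffineOpen W)
    [Nonempty W] (hN : IsN2 Γ(Z, W)) (g : Γ(Z, W)) (D : Z.Opens) [Nonempty D]
    (hD : D = Z.basicOpen g) : IsN2 Γ(Z, D) := by
  subst hD
  haveI := hW.isLocalization_basicOpen g
  exact Groth.Agent.S9392.result Γ(Z, W) (Submonoid.powers g) Γ(Z, Z.basicOpen g) hN

theorem forward {X : Scheme.{u}} (hN : ∀ U : X.Opens, IsAffineOpen U → IsNagata Γ(X, U))
    (Z : Scheme.{u}) (i : Z ⟶ X) [IsClosedImmersion i] [IsIntegral Z] (V : Z.Opens)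
    [Nonempty V] (hV : IsAffineOpen V) : IsN2 Γ(Z, V) := by
  classical
  let s : Set Γ(Z, V) := {f | ∃ h : Nonempty (Z.basicOpen f),
    (haveI := h; IsN2 Γ(Z, Z.basicOpen f))}
  have hcov : ∀ z ∈ V, ∃ f ∈ s, z ∈ Z.basicOpen f := by
    intro z hz
    obtain ⟨_, ⟨U, hU : IsAffineOpen U, rfl⟩, hxU, -⟩ :=
      (X.isBasis_affineOpens).exists_subset_of_mem_open (Set.mem_univ (i z)) isOpen_univ
    have hW : IsAffineOpen (i ⁻¹ᵁ U) := hU.preimage i
    have hzW : z ∈ i ⁻¹ᵁ U := hxU
    haveI : Nonempty (i ⁻¹ᵁ U) := ⟨⟨z, hzW⟩⟩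
    obtain ⟨f, g, hfg, hzf⟩ := exists_basicOpen_le_affine_inter hV hW z ⟨hz, hzW⟩
    haveI hne : Nonempty (Z.basicOpen f) := ⟨⟨z, hzf⟩⟩
    refine ⟨f, ⟨hne, ?_⟩, hzf⟩
    exact isN2_basicOpen (i ⁻¹ᵁ U) hW (isN2_preimage hN Z i U hU) g _ hfg
  have hspan : Ideal.span s = ⊤ := by
    rw [← hV.self_le_iSup_basicOpen_iff]
    intro z hz
    obtain ⟨f, hf, hzf⟩ := hcov z hz
    exact (Opens.mem_iSup).2 ⟨⟨f, hf⟩, hzf⟩
  obtain ⟨s', hs's, hs'⟩ := (Ideal.span_eq_top_iff_finite s).1 hspan
  let ι : Type u := {x : Γ(Z, V) // x ∈ s'}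
  let f : ι → Γ(Z, V) := fun k => k.1
  have hf : Ideal.span (Set.range f) = ⊤ := by
    have : Set.range f = (s' : Set Γ(Z, V)) := by
      ext x
      simp [f, ι]
    rw [this, hs']
  haveI hne : ∀ k : ι, Nonempty (Z.basicOpen (f k)) := fun k => (hs's k.2).1
  haveI hloc : ∀ k : ι, IsLocalization.Away (f k) Γ(Z, Z.basicOpen (f k)) :=
    fun k => hV.isLocalization_basicOpen (f k)
  exact Groth.Agent.S9394.result Γ(Z, V) f hf (fun k => Γ(Z, Z.basicOpen (f k)))
    (fun k => (hs's k.2).2)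

theorem isReduced_subscheme_vanishingIdeal {X : Scheme.{u}} (C : Closeds X) :
    IsReduced (Scheme.IdealSheafData.vanishingIdeal C).subscheme := by
  haveI : ∀ j, IsReduced ((Scheme.IdealSheafData.vanishingIdeal C).subschemeCover.openCover.X j) := by
    intro j
    let j' : X.affineOpens := j
    have hrad : ((Scheme.IdealSheafData.vanishingIdeal C).ideal j').IsRadical := by
      rw [Scheme.IdealSheafData.vanishingIdeal_ideal]
      exact PrimeSpectrum.isRadical_vanishingIdeal _
    haveI : _root_.IsReduced (Γ(X, j'.1) ⧸ (Scheme.IdealSheafData.vanishingIdeal C).ideal j') :=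
      (Ideal.isRadical_iff_quotient_reduced _).1 hrad
    change IsReduced (Spec (.of (Γ(X, j'.1) ⧸ (Scheme.IdealSheafData.vanishingIdeal C).ideal j')))
    infer_instance
  exact IsReduced.of_openCover _ (Scheme.IdealSheafData.vanishingIdeal C).subschemeCover.openCover

theorem backward {X : Scheme.{u}} [IsLocallyNoetherian X]
    (hJ : ∀ (Z : Scheme.{u}) (i : Z ⟶ X) [IsClosedImmersion i] [IsIntegral Z]
        (V : Z.Opens) [Nonempty V], IsAffineOpen V → CAlg.IsN2 Γ(Z, V))
    (U : X.Opens) (hU : IsAffineOpen U) : IsNagata Γ(X, U) := by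
  refine ⟨IsLocallyNoetherian.component_noetherian ⟨U, hU⟩, ?_⟩
  intro p hp
  let q : PrimeSpectrum Γ(X, U) := ⟨p, hp⟩
  let x : X := hU.fromSpec q
  have hxU : x ∈ U := by
    have : x ∈ Set.range hU.fromSpec := ⟨q, rfl⟩
    rw [hU.range_fromSpec] at this
    exact this
  let C : Closeds X := ⟨closure {x}, isClosed_closure⟩
  let I := Scheme.IdealSheafData.vanishingIdeal C
  have hI : I.ideal ⟨U, hU⟩ = p := by
    rw [Scheme.IdealSheafData.vanishingIdeal_ideal]
    have h1 : hU.fromSpec ⁻¹' (closure {x}) = closure {q} := by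
      rw [hU.fromSpec.isOpenEmbedding.isOpenMap.preimage_closure_eq_closure_preimage
        hU.fromSpec.continuous]
      congr 1
      ext y
      simp only [Set.mem_preimage, Set.mem_singleton_iff]
      exact ⟨fun h => hU.fromSpec.isOpenEmbedding.injective h, fun h => by rw [h]⟩
    change PrimeSpectrum.vanishingIdeal (hU.fromSpec ⁻¹' (closure {x})) = p
    have h2 : PrimeSpectrum.vanishingIdeal (hU.fromSpec ⁻¹' (closure {x})) =
        PrimeSpectrum.vanishingIdeal (closure {q}) := congrArg PrimeSpectrum.vanishingIdeal h1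
    rw [h2, PrimeSpectrum.vanishingIdeal_closure, PrimeSpectrum.vanishingIdeal_singleton]
  haveI : IsReduced I.subscheme := isReduced_subscheme_vanishingIdeal C
  have hsupp : (I.support : Set X) = closure {x} :=
    Scheme.IdealSheafData.coe_support_vanishingIdeal C
  haveI : IrreducibleSpace I.subscheme := by
    have h1 : IsIrreducible (I.support : Set X) := by
      rw [hsupp]
      exact isIrreducible_singleton.closure
    exact Subtype.irreducibleSpace h1
  haveI : IsIntegral I.subscheme := isIntegral_of_irreducibleSpace_of_isReduced _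
  have hW : IsAffineOpen (I.subschemeι ⁻¹ᵁ U) := hU.preimage I.subschemeι
  have hxs : x ∈ (I.support : Set X) := by
    rw [hsupp]
    exact subset_closure rfl
  haveI : Nonempty (I.subschemeι ⁻¹ᵁ U) := ⟨⟨⟨x, hxs⟩, hxU⟩⟩
  have h2 : IsN2 Γ(I.subscheme, I.subschemeι ⁻¹ᵁ U) := hJ I.subscheme I.subschemeι _ hW
  let e : Γ(I.subscheme, I.subschemeι ⁻¹ᵁ U) ≃+* Γ(X, U) ⧸ I.ideal ⟨U, hU⟩ :=
    (I.subschemeObjIso ⟨U, hU⟩).commRingCatIsoToRingEquiv
  haveI hprime : (I.ideal ⟨U, hU⟩).IsPrime := hI ▸ hp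
  exact isN2_quot_congr' p _ hI.symm (isN2_of_ringEquiv e h2)

end Groth.Agent.S9802Aux

namespace Groth.Agent.S9802

/-- A locally Noetherian scheme is Nagata (every affine open has a Nagata coordinate ring) if and only
if every integral closed subscheme is Japanese (every nonempty affine open of it has an N-2
coordinate ring). -/
theorem result (X : Scheme.{u})
    [IsLocallyNoetherian X] :
    (∀ U : X.Opens, IsAffineOpen U → CAlg.IsNagata Γ(X, U)) ↔
      ∀ (Z : Scheme.{u}) (i : Z ⟶ X) [IsClosedImmersion i] [IsIntegral Z]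
        (V : Z.Opens) [Nonempty V], IsAffineOpen V → CAlg.IsN2 Γ(Z, V) := by
  constructor
  · intro hN Z i _ _ V _ hV
    exact Groth.Agent.S9802Aux.forward hN Z i V hV
  · intro hJ U hU
    exact Groth.Agent.S9802Aux.backward hJ U hU

end Groth.Agent.S9802
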