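import Groth.Statements.S9803
import Mathlib
import Groth.Agent.Lib.Helper80.Jouanolou

set_option autoImplicit false
universe u
open CategoryTheory AlgebraicGeometry TopologicalSpace
open Props

namespace Groth.Agent.S9803

open Groth.Agent.Lib.Helper80.Jouanolou TensorProduct Limits

/-- finite cover of a compact open of `Spec A` by basic opens, indexed by `Fin n` -/
lemma exists_fin_cover {A : CommRingCat.{u}} (S : Set (PrimeSpectrum A)) (ho : IsOpen S)
    (hc : IsCompact S) :
    ∃ (n : ℕ) (f : Fin n → A),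
      S = ⋃ i, (PrimeSpectrum.basicOpen (f i) : Set (PrimeSpectrum A)) := by
  classical
  obtain ⟨s, hsfin, hs⟩ := (isCompact_open_iff_eq_finite_iUnion_of_isTopologicalBasis
    (fun r : A => (PrimeSpectrum.basicOpen r : Set (PrimeSpectrum A)))
    PrimeSpectrum.isTopologicalBasis_basic_opens PrimeSpectrum.isCompact_basicOpen S).mp ⟨hc, ho⟩
  let e := hsfin.toFinset.equivFin
  refine ⟨hsfin.toFinset.card, fun i => ((e.symm i : hsfin.toFinset) : A), ?_⟩
  rw [hs]
  ext x
  simp only [Set.mem_iUnion]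
  constructor
  · rintro ⟨r, hr, hx⟩
    refine ⟨e ⟨r, hsfin.mem_toFinset.mpr hr⟩, ?_⟩
    simpa using hx
  · rintro ⟨i, hx⟩
    exact ⟨((e.symm i : hsfin.toFinset) : A), hsfin.mem_toFinset.mp (e.symm i).2, hx⟩

/-- cancelling a monomorphism in a pullback square -/
lemma isPullback_of_comp_mono {C : Type*} [Category C] {P X Y Z W : C} {fst : P ⟶ X} {snd : P ⟶ Y}
    {f : X ⟶ Z} {g : Y ⟶ Z} (i : Z ⟶ W) [Mono i] (H : IsPullback fst snd (f ≫ i) (g ≫ i)) :
    IsPullback fst snd f g := by
  have hw : fst ≫ f = snd ≫ g := by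
    rw [← cancel_mono i, Category.assoc, Category.assoc]
    exact H.w
  refine IsPullback.of_isLimit' ⟨hw⟩ (PullbackCone.IsLimit.mk _
    (fun s => H.lift s.fst s.snd (by rw [← Category.assoc, s.condition, Category.assoc]))
    (fun s => H.lift_fst _ _ _) (fun s => H.lift_snd _ _ _)
    (fun s m h1 h2 => H.hom_ext (by rw [h1, H.lift_fst]) (by rw [h2, H.lift_snd])))

/-- A quasi-affine scheme X admits a morphism from an affine scheme T which, after base change to any
affine scheme over X, becomes isomorphic over that affine scheme to an affine space of fixed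
dimension n. -/
theorem result (X : Scheme.{u}) [X.IsQuasiAffine] :
    ∃ (n : ℕ) (T : Scheme.{u}) (_ : IsAffine T) (p : T ⟶ X),
      ∀ (X' : Scheme.{u}) [IsAffine X'] (g : X' ⟶ X),
        ∃ e : Limits.pullback g p ≅ 𝔸(ULift.{u} (Fin n); X'),
          e.hom ≫ (𝔸(ULift.{u} (Fin n); X') ↘ X') = Limits.pullback.fst g p := by
  let A : CommRingCat.{u} := Γ(X, ⊤)
  let j : X ⟶ Spec A := X.toSpecΓ
  obtain ⟨n, f, hf⟩ := exists_fin_cover (A := A) (Set.range j.base)
    j.isOpenEmbedding.isOpen_range (isCompact_range j.continuous)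
  let π : Spec (.of (JRing f)) ⟶ Spec A :=
    Spec.map (CommRingCat.ofHom (algebraMap A (JRing f)))
  have hrange : Set.range π.base ⊆ Set.range j.base := by
    rintro _ ⟨q, rfl⟩
    refine (Set.ext_iff.mp hf _).mpr ?_
    by_contra hcon
    simp only [Set.mem_iUnion, not_exists] at hcon
    have hle : Ideal.span (Set.range fun i => algebraMap A (JRing f) (f i)) ≤ q.asIdeal := by
      rw [Ideal.span_le]
      rintro _ ⟨i, rfl⟩
      by_contra hni
      exact hcon i hni
    rw [span_map_eq_top] at hle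
    exact q.isPrime.ne_top (top_le_iff.mp hle)
  let p : Spec (.of (JRing f)) ⟶ X := IsOpenImmersion.lift j π hrange
  have hp : p ≫ j = π := IsOpenImmersion.lift_fac _ _ _
  refine ⟨n, Spec (.of (JRing f)), inferInstance, p, ?_⟩
  intro X' _ g
  let B : CommRingCat.{u} := Γ(X', ⊤)
  let ρ : A ⟶ B := g.appTop
  let _ : Algebra A B := ρ.hom.toAlgebra
  have hgj : g ≫ j = X'.isoSpec.hom ≫ Spec.map ρ := by
    rw [Scheme.isoSpec_hom]
    exact (Scheme.toSpecΓ_naturality g)
  have hspan : Ideal.span (Set.range fun i => algebraMap A B (f i)) = ⊤ := by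
    by_contra hne
    obtain ⟨m, hm, hle⟩ := Ideal.exists_le_maximal _ hne
    let q : Spec B := ⟨m, hm.isPrime⟩
    let x' : X' := X'.isoSpec.inv.base q
    have h1 : (g ≫ j).base x' ∈ Set.range j.base := ⟨g.base x', rfl⟩
    have h2 : (g ≫ j).base x' = (Spec.map ρ).base q := by
      rw [hgj]
      show (X'.isoSpec.hom ≫ Spec.map ρ).base (X'.isoSpec.inv.base q) = _
      rw [← Scheme.Hom.comp_apply, Iso.inv_hom_id_assoc]
    have h1' := (Set.ext_iff.mp hf _).mp h1
    rw [h2] at h1'
    obtain ⟨i, hi⟩ := Set.mem_iUnion.mp h1'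
    exact hi (hle (Ideal.subset_span ⟨i, rfl⟩))
  obtain ⟨u, hu⟩ : ∃ u : Fin n → B, ∑ i, algebraMap A B (f i) * u i = 1 := by
    have h1 : (1 : B) ∈ Ideal.span (Set.range fun i => algebraMap A B (f i)) := by
      rw [hspan]; trivial
    obtain ⟨c, hc⟩ := (Ideal.mem_span_range_iff_exists_fun).mp h1
    exact ⟨c, by rw [← hc]; exact Finset.sum_congr rfl fun i _ => mul_comm _ _⟩
  let ι : CommRingCat.of (B ⊗[A] JRing f) ≅
      CommRingCat.of (MvPolynomial (ULift.{u} (Fin n)) B) :=
    (equiv f u hu).toRingEquiv.toCommRingCatIso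
  have H1 := isPullback_SpecMap_of_isPushout _ _ _ _
    (CommRingCat.isPushout_tensorProduct A B (JRing f))
  let e₁ : Spec (.of (B ⊗[A] JRing f)) ≅ 𝔸(ULift.{u} (Fin n); X') :=
    Scheme.Spec.mapIso ι.symm.op ≪≫ (AffineSpace.isoOfIsAffine (ULift.{u} (Fin n)) X').symm
  let q : 𝔸(ULift.{u} (Fin n); X') ⟶ Spec (.of (JRing f)) :=
    e₁.inv ≫ Spec.map (CommRingCat.ofHom
      (Algebra.TensorProduct.includeRight (R := A) (A := B) (B := JRing f)).toRingHom)
  have H2 : IsPullback (𝔸(ULift.{u} (Fin n); X') ↘ X') q (g ≫ j) (p ≫ j) := by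
    rw [hp]
    refine H1.of_iso e₁ X'.isoSpec.symm (Iso.refl _) (Iso.refl _) ?_ ?_ ?_ ?_
    · have hι : CommRingCat.ofHom (MvPolynomial.C : B →+* MvPolynomial (ULift.{u} (Fin n)) B) ≫
          ι.inv = CommRingCat.ofHom (Algebra.TensorProduct.includeLeftRingHom
            (R := A) (A := B) (B := JRing f)) := by
        ext b
        exact equiv_symm_C f u hu b
      simp only [e₁, Iso.trans_hom, Functor.mapIso_hom, Iso.op_hom, Iso.symm_hom, Scheme.Spec_map,
        Quiver.Hom.unop_op, Category.assoc, AffineSpace.isoOfIsAffine_inv_over]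
      rw [← Spec.map_comp_assoc, hι]
    · simp [q]
    · rw [hgj]
      simp only [Iso.refl_hom, Category.comp_id, Iso.symm_hom, Iso.inv_hom_id_assoc]
      rfl
    · simp [π]
  have H3 := isPullback_of_comp_mono j H2
  refine ⟨H3.isoPullback.symm, ?_⟩
  simp

end Groth.Agent.S9803
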