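import Groth.Statements.S9804
import Mathlib

set_option autoImplicit false
universe u
open CategoryTheory AlgebraicGeometry TopologicalSpace
open Props

namespace Groth.Agent.S9804

/-- For quasi-affine schemes U and V and an open immersion j : U → V, the scheme U is the fibre product
of the composite U → V → Spec Γ(V, O_V) and the morphism Spec Γ(U, O_U) → Spec Γ(V, O_V) induced by
restriction of sections along j: the square whose sides are the identity of U, the canonical
morphism U → Spec Γ(U, O_U), that composite and that induced morphism is cartesian. -/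
theorem result {U V : Scheme.{u}} (j : U ⟶ V)
    [IsOpenImmersion j] [U.IsQuasiAffine] [V.IsQuasiAffine] :
    IsPullback (𝟙 U) U.toSpecΓ (j ≫ V.toSpecΓ) (Spec.map j.appTop) := by
  let s := U.toSpecΓ
  let t := Spec.map j.appTop
  let m := j ≫ V.toSpecΓ
  have hst : s ≫ t = m := (Scheme.toSpecΓ_naturality j).symm
  have key : ∀ (p : Spec Γ(U, ⊤)) (u : U), t p = m u → p ∈ Set.range s := by
    intro p u hpu
    obtain ⟨_, ⟨_, ⟨g, hg, rfl⟩, rfl⟩, hug, hgj⟩ :=
      (Scheme.IsQuasiAffine.isBasis_basicOpen V).exists_subset_of_mem_open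
        (show j u ∈ (j.opensRange : Set V) from ⟨u, rfl⟩) j.opensRange.2
    have hgj' : V.basicOpen g ≤ j.opensRange := hgj
    let g' := j.appTop g
    have hpre : j ⁻¹ᵁ V.basicOpen g = U.basicOpen g' := Scheme.preimage_basicOpen_top j g
    have haff : IsAffineOpen (U.basicOpen g') := by
      rw [← hpre, ← j.isAffineOpen_iff_of_isOpenImmersion]
      convert hg using 1
      rw [Scheme.Hom.image_preimage_eq_opensRange_inf]
      exact inf_eq_right.mpr hgj'
    have hp : p ∈ PrimeSpectrum.basicOpen g' := by
      have h1 : t p ∈ PrimeSpectrum.basicOpen g := by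
        rw [hpu]
        have h2 : j u ∈ V.toSpecΓ ⁻¹ᵁ PrimeSpectrum.basicOpen g := by
          rw [Scheme.toSpecΓ_preimage_basicOpen]; exact hug
        exact h2
      exact h1
    have hloc : IsLocalization.Away g' Γ(U, U.basicOpen g') :=
      isLocalization_basicOpen_of_qcqs isCompact_univ isQuasiSeparated_univ g'
    let ρ := U.presheaf.map (homOfLE (le_top : U.basicOpen g' ≤ ⊤)).op
    have hrange : Set.range (Spec.map ρ) = (PrimeSpectrum.basicOpen g' : Set (PrimeSpectrum Γ(U, ⊤))) :=
      PrimeSpectrum.localization_away_comap_range (R := Γ(U, ⊤)) Γ(U, U.basicOpen g') g'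
    obtain ⟨p', hp'⟩ : p ∈ Set.range (Spec.map ρ) := by rw [hrange]; exact hp
    have hiso : IsIso (U.basicOpen g').toSpecΓ := by
      rw [← haff.isoSpec_hom]; infer_instance
    obtain ⟨u', hu'⟩ := ((U.basicOpen g').toSpecΓ).homeomorph.surjective p'
    refine ⟨(U.basicOpen g').ι u', ?_⟩
    change ((U.basicOpen g').ι ≫ U.toSpecΓ) u' = p
    rw [← Scheme.Opens.toSpecΓ_SpecMap_presheaf_map_top, Scheme.Hom.comp_apply]
    rw [← hp']
    congr 1
  have hcomm : 𝟙 U ≫ m = s ≫ t := by rw [Category.id_comp, hst]
  let l : U ⟶ Limits.pullback m t := Limits.pullback.lift (𝟙 U) s hcomm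
  have hl₁ : l ≫ Limits.pullback.fst m t = 𝟙 U := Limits.pullback.lift_fst _ _ _
  have hl₂ : l ≫ Limits.pullback.snd m t = s := Limits.pullback.lift_snd _ _ _
  have hm : IsOpenImmersion m := inferInstance
  have hsnd : IsOpenImmersion (Limits.pullback.snd m t) := inferInstance
  have hlo : IsOpenImmersion l := by
    have : IsOpenImmersion (l ≫ Limits.pullback.snd m t) := by rw [hl₂]; infer_instance
    exact IsOpenImmersion.of_comp l (Limits.pullback.snd m t)
  have hls : Surjective l := by
    refine ⟨fun z => ?_⟩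
    have hz : t (Limits.pullback.snd m t z) = m (Limits.pullback.fst m t z) := by
      rw [← Scheme.Hom.comp_apply, ← Scheme.Hom.comp_apply, Limits.pullback.condition]
    obtain ⟨u', hu'⟩ := key _ _ hz
    refine ⟨u', ?_⟩
    apply (Limits.pullback.snd m t).isOpenEmbedding.injective
    rw [← Scheme.Hom.comp_apply, hl₂]
    exact hu'
  have hliso : IsIso l := (isIso_iff_isOpenImmersion_and_surjective l).mpr ⟨hlo, hls⟩
  exact IsPullback.of_iso_pullback ⟨hcomm⟩ (asIso l) hl₁ hl₂

end Groth.Agent.S9804
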