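import Groth.Statements.S9808
import Groth.Agent.Lib.Helper11.ClosedPoint
import Groth.Agent.Lib.Helper11.CMLocalize

set_option autoImplicit false
universe u
open CategoryTheory AlgebraicGeometry TopologicalSpace
open Props

namespace Groth.Agent.S9808

/-- A locally Noetherian scheme is Cohen-Macaulay (all local rings Cohen-Macaulay) as soon as its local
rings at closed points are Cohen-Macaulay, and conversely. -/
theorem result (X : Scheme.{u}) [IsLocallyNoetherian X] :
    (∀ x : X, LocCoh.IsCohenMacaulayLocalRing (X.presheaf.stalk x)) ↔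
      ∀ x : X, IsClosed ({x} : Set X) → LocCoh.IsCohenMacaulayLocalRing (X.presheaf.stalk x) := by
  constructor
  · intro H x _
    exact H x
  · intro H x
    obtain ⟨y, hxy, hy⟩ := Groth.Agent.Lib.Helper11.ClosedPoint.exists_specializes_isClosed X x
    have hreg := H y hy
    obtain ⟨_, ⟨U₀, hU, rfl⟩, hyU, -⟩ := X.isBasis_affineOpens.exists_subset_of_mem_open
      (Set.mem_univ y) isOpen_univ
    obtain ⟨U, rfl⟩ : ∃ U : X.Opens, U = U₀ := ⟨U₀, rfl⟩
    have hxU : x ∈ U := hxy.mem_open U.2 hyU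
    rw [Groth.Agent.Lib.Helper11.CMLocalize.stalk_CM_iff hU y hyU] at hreg
    rw [Groth.Agent.Lib.Helper11.CMLocalize.stalk_CM_iff hU x hxU]
    have hι : Topology.IsOpenEmbedding hU.fromSpec := hU.fromSpec.isOpenEmbedding
    have hsp : hU.primeIdealOf ⟨x, hxU⟩ ⤳ hU.primeIdealOf ⟨y, hyU⟩ := by
      apply hι.isInducing.specializes_iff.mp
      rw [hU.fromSpec_primeIdealOf, hU.fromSpec_primeIdealOf]
      exact hxy
    have hle : (hU.primeIdealOf ⟨x, hxU⟩).asIdeal ≤ (hU.primeIdealOf ⟨y, hyU⟩).asIdeal :=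
      (PrimeSpectrum.le_iff_specializes
        (hU.primeIdealOf ⟨x, hxU⟩ : PrimeSpectrum Γ(X, U)) (hU.primeIdealOf ⟨y, hyU⟩)).mpr hsp
    exact Groth.Agent.Lib.Helper11.CMLocalize.isCohenMacaulayLocalRing_atPrime_of_le _
      (hU.primeIdealOf ⟨y, hyU⟩).asIdeal (hU.primeIdealOf ⟨x, hxU⟩).asIdeal hle

end Groth.Agent.S9808
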