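import Groth.Statements.S9811
import Groth.Agent.Lib.Helper87.GeomBranchSum
import Groth.Agent.Lib.Helper87.HensStrict

set_option autoImplicit false
universe u
open Brnch

namespace Groth.Agent.S9811

/-- Geometric branches, in terms of the local ring: for a local ring A with finitely many minimal prime
ideals, the number of geometric branches of A is the sum over the minimal primes p of the numbers of
geometric branches of the local domains A/p. -/
theorem result (A : Type u) [CommRing A] [IsLocalRing A]
    (h : (minimalPrimes A).Finite) :
    Brnch.numGeomBranches A =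
      ∑ᶠ p : minimalPrimes A,
        haveI : p.1.IsPrime := p.2.1.1
        Brnch.numGeomBranches (A ⧸ p.1) := by
  haveI := h.fintype
  rw [finsum_eq_sum_of_fintype]
  have : Hensel.IsStrictHenselization A (Groth.Agent.Lib.Helper87.Hens.Hsh A) :=
    Groth.Agent.Lib.Helper87.Hens.isStrictHenselization_Hsh A
  have : Module.Flat A (Groth.Agent.Lib.Helper87.Hens.Hsh A) :=
    Groth.Agent.Lib.Helper87.Hens.flat_of_isStrictHenselization A _
  rw [← Groth.Agent.S9238.result A (Groth.Agent.Lib.Helper87.Hens.Hsh A),
    Groth.Agent.Lib.Helper87.BranchSum.card_minimalPrimes_eq_sum A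
      (Groth.Agent.Lib.Helper87.Hens.Hsh A)]
  refine Finset.sum_congr rfl (fun p _ => ?_)
  have : p.1.IsPrime := p.2.1.1
  exact (Groth.Agent.Lib.Helper87.BranchSum.numGeomBranches_quotient A
    (Groth.Agent.Lib.Helper87.Hens.Hsh A) p.1).symm

end Groth.Agent.S9811
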