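import Groth.Statements.S9816
import Groth.Agent.Lib.Lead.Avoid1
import Groth.Agent.Lib.Lead.Ample2
import Groth.Agent.Lib.Helper35.PbBase

set_option autoImplicit false
universe u
open CategoryTheory CategoryTheory.Limits AlgebraicGeometry TopologicalSpace
open Props

namespace Groth.Agent.S9816

/-- Over a quasi-separated base S, if X and Y carry ample invertible modules L and N, then the tensor
product of their pullbacks along the two projections is an ample invertible module on the fibre
product of X and Y over S. -/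
theorem result {X Y S : Scheme.{u}} [QuasiSeparatedSpace S]
    (f : X ⟶ S) (g : Y ⟶ S) (L : X.Modules) (N : Y.Modules) (hL : CohB1.IsAmple L) (hN : CohB1.IsAmple N) :
    CohB1.IsAmple (CohB1.tensorMod ((Scheme.Modules.pullback (pullback.fst f g)).obj L)
      ((Scheme.Modules.pullback (pullback.snd f g)).obj N)) := by
  have hA := Groth.Agent.Lib.Helper35.PbInv.isInvertible_pullback (u := pullback.fst f g) hL.1
  have hB := Groth.Agent.Lib.Helper35.PbInv.isInvertible_pullback (u := pullback.snd f g) hN.1
  haveI := hL.2.1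
  haveI := hN.2.1
  haveI : QuasiCompact f := inferInstance
  haveI : CompactSpace ↥(pullback f g) :=
    QuasiCompact.compactSpace_of_compactSpace (pullback.snd f g)
  refine ⟨Groth.Agent.Lib.Helper35.Gen.isInvertible_tensorMod hA hB, inferInstance, fun z => ?_⟩
  obtain ⟨S₀, hS₀, hzS₀, -⟩ := exists_isAffineOpen_mem_and_subset
    (x := f (pullback.fst f g z)) (U := ⊤) trivial
  have hzS₀' : g (pullback.snd f g z) ∈ S₀ := by
    have h1 : g (pullback.snd f g z) = f (pullback.fst f g z) := by
      have := congrArg (fun φ : pullback f g ⟶ S => φ z) (pullback.condition (f := f) (g := g))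
      exact this.symm
    rw [h1]
    exact hzS₀
  obtain ⟨a, s, hxs, hsS, hsaff⟩ := Groth.Agent.Lib.Lead.Inv.exists_affine_section_le hL
    (f ⁻¹ᵁ S₀) (pullback.fst f g z) hzS₀
  obtain ⟨b, t, hyt, htS, htaff⟩ := Groth.Agent.Lib.Lead.Inv.exists_affine_section_le hN
    (g ⁻¹ᵁ S₀) (pullback.snd f g z) hzS₀'
  obtain ⟨s', hs'⟩ := Groth.Agent.Lib.Helper35.PbInv.exists_pullback_section
    (u := pullback.fst f g) hL.1 (a + 1) s
  obtain ⟨t', ht'⟩ := Groth.Agent.Lib.Helper35.PbInv.exists_pullback_section
    (u := pullback.snd f g) hN.1 (b + 1) t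
  obtain ⟨k, w, hw⟩ := Groth.Agent.Lib.Lead.Inv.exists_section_tensor hA hB s' t'
  refine ⟨k, w, ?_, ?_⟩
  · rw [hw, hs', ht']
    exact ⟨hxs, hyt⟩
  · rw [hw, hs', ht']
    exact Groth.Agent.Lib.Helper35.PbInv.isAffineOpen_inf_preimage_of_pullback f g _ S₀ _
      hsaff hS₀ htaff hsS htS

end Groth.Agent.S9816
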