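import Groth.Statements.S9818
import Groth.Agent.Lib.Helper2.QCohLim

set_option autoImplicit false
universe u
open CategoryTheory CategoryTheory.Limits AlgebraicGeometry TopologicalSpace Opposite
open Props

namespace Groth.Agent.S9818

open Scheme.Modules Groth.Agent.Lib.Helper2.KerSec

set_option backward.isDefEq.respectTransparency false in
theorem isIso_app_of_isPullback {X : Scheme.{u}} {H A B F : X.Modules} {prA : H ⟶ A} {ψ : H ⟶ F}
    {α : A ⟶ B} {η : F ⟶ B} (hpb : IsPullback prA ψ α η) (V : X.Opens) (hη : IsIso (η.app V)) :
    IsIso (prA.app V) := by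
  let E := SheafOfModules.evaluation X.ringCatSheaf (op V)
  have hfl : PreservesFiniteLimits E := SheafOfModules.Finite.evaluationPreservesFiniteLimits _ _
  have h1 : IsPullback (E.map prA) (E.map ψ) (E.map α) (E.map η) := hpb.map E
  have h2 : IsIso (E.map η) := by
    have : IsIso ((forget₂ (ModuleCat _) Ab).map (E.map η)) := hη
    exact isIso_of_reflects_iso _ (forget₂ (ModuleCat _) Ab)
  have h3 : IsIso (E.map prA) := h1.isIso_fst_of_isIso
  exact Functor.map_isIso (forget₂ (ModuleCat _) Ab) (E.map prA)



/-- For an open subscheme U of a scheme X with quasi-compact inclusion, a quasi-coherent module G on U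
with a map to the restriction of a quasi-coherent module F on X extends to a quasi-coherent module H
on X with a map to F restricting to the given one. Taking F = 0, every quasi-coherent module on U
extends to a quasi-coherent module on X. -/
theorem result {X : Scheme.{u}} (U : X.Opens) [QuasiCompact U.ι]
    (F : X.Modules) [Coh.IsQCoh F] (G : (U : Scheme.{u}).Modules) [Coh.IsQCoh G] (φ : G ⟶ F.restrict U.ι) :
    ∃ (H : X.Modules) (ψ : H ⟶ F) (e : H.restrict U.ι ≅ G), Coh.IsQCoh H ∧
      e.hom ≫ φ = (Scheme.Modules.restrictFunctor U.ι).map ψ := by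
  have hF : F.IsQuasicoherent := ‹Coh.IsQCoh F›
  have hG : G.IsQuasicoherent := ‹Coh.IsQCoh G›
  let j := U.ι
  let adj := restrictAdjunction j
  let A := (pushforward j).obj G
  let B := (pushforward j).obj (F.restrict j)
  let α : A ⟶ B := (pushforward j).map φ
  let η : F ⟶ B := adj.unit.app F
  have hA : A.IsQuasicoherent := isQuasicoherent_pushforward_of_qcqs j G
  have hB : B.IsQuasicoherent := isQuasicoherent_pushforward_of_qcqs j _
  have hH : (pullback α η).IsQuasicoherent := isQuasicoherent_pullback α η
  have hpb : IsPullback (pullback.fst α η) (pullback.snd α η) α η := IsPullback.of_hasPullback α η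
  have hiso : IsIso ((restrictFunctor j).map (pullback.fst α η)) := by
    rw [Hom.isIso_iff_isIso_app]
    intro W
    have hη : IsIso (η.app (j ''ᵁ W)) := by
      have heq : j ''ᵁ (j ⁻¹ᵁ (j ''ᵁ W)) = j ''ᵁ W := by
        rw [j.preimage_image_eq]
      have : η.app (j ''ᵁ W) = F.presheaf.map (eqToHom heq).op := rfl
      rw [this]
      exact Functor.map_isIso F.presheaf (eqToHom heq).op
    exact isIso_app_of_isPullback hpb (j ''ᵁ W) hη
  let e : (pullback α η).restrict j ≅ G :=
    @asIso _ _ _ _ ((restrictFunctor j).map (pullback.fst α η)) hiso ≪≫ asIso (adj.counit.app G)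
  refine ⟨pullback α η, pullback.snd α η, e, hH, ?_⟩
  have h1 : adj.counit.app G ≫ φ = (restrictFunctor j).map α ≫ adj.counit.app (F.restrict j) :=
    (adj.counit.naturality φ).symm
  have h2 : (restrictFunctor j).map η ≫ adj.counit.app (F.restrict j) = 𝟙 _ :=
    adj.left_triangle_components F
  have h3 : (restrictFunctor j).map (pullback.fst α η) ≫ (restrictFunctor j).map α =
      (restrictFunctor j).map (pullback.snd α η) ≫ (restrictFunctor j).map η := by
    rw [← Functor.map_comp, ← Functor.map_comp, pullback.condition]
  calc e.hom ≫ φ = (restrictFunctor j).map (pullback.fst α η) ≫ adj.counit.app G ≫ φ := by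
        simp [e]
    _ = (restrictFunctor j).map (pullback.snd α η) ≫ (restrictFunctor j).map η ≫
          adj.counit.app (F.restrict j) := by
        rw [h1, ← Category.assoc, h3, Category.assoc]
    _ = (restrictFunctor j).map (pullback.snd α η) := by rw [h2, Category.comp_id]

end Groth.Agent.S9818
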