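import Groth.Statements.S9822
import Mathlib

set_option autoImplicit false
universe u
open CategoryTheory CategoryTheory.Limits AlgebraicGeometry TopologicalSpace Opposite
open Props

namespace Groth.Agent.S9822

/-- A scheme is irreducible if and only if it is nonempty and every nonempty affine open subset is
irreducible. -/
theorem result (X : Scheme.{u}) :
    IrreducibleSpace X ↔ Nonempty X ∧ ∀ U : X.Opens, IsAffineOpen U → (U : Set X).Nonempty → IsIrreducible (U : Set X) := by
  constructor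
  · intro h
    refine ⟨h.toNonempty, fun U _ hne => ⟨hne, ?_⟩⟩
    exact (PreirreducibleSpace.isPreirreducible_univ (X := X)).open_subset U.isOpen
      (Set.subset_univ _)
  · rintro ⟨hne, H⟩
    have hpre : IsPreirreducible (Set.univ : Set X) := by
      rintro u v hu hv ⟨x, -, hxu⟩ ⟨y, -, hyv⟩
      obtain ⟨Ux, hUx, hxUx, -⟩ :=
        exists_isAffineOpen_mem_and_subset (X := X) (x := x) (U := ⊤) trivial
      obtain ⟨Uy, hUy, hyUy, -⟩ :=
        exists_isAffineOpen_mem_and_subset (X := X) (x := y) (U := ⊤) trivial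
      have hxy : ((Ux : Set X) ∩ Uy).Nonempty := by
        by_contra hempty
        rw [Set.not_nonempty_iff_eq_empty] at hempty
        have hdisj : Disjoint Ux Uy := by
          rw [← TopologicalSpace.Opens.coe_disjoint, Set.disjoint_iff_inter_eq_empty]
          exact hempty
        have hirr := H (Ux ⊔ Uy) (hUx.sup_of_disjoint hUy hdisj) ⟨x, Or.inl hxUx⟩
        obtain ⟨z, -, hz⟩ := hirr.2 Ux Uy Ux.isOpen Uy.isOpen
          ⟨x, Or.inl hxUx, hxUx⟩ ⟨y, Or.inr hyUy, hyUy⟩
        rw [hempty] at hz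
        exact hz
      have h1 := H Ux hUx ⟨x, hxUx⟩
      obtain ⟨z, hzUx, hzu, hzUy⟩ := h1.2 u Uy hu Uy.isOpen ⟨x, hxUx, hxu⟩
        (by obtain ⟨w, hw1, hw2⟩ := hxy; exact ⟨w, hw1, hw2⟩)
      have h2 := H Uy hUy ⟨y, hyUy⟩
      obtain ⟨w, -, hwu, hwv⟩ := h2.2 u v hu hv ⟨z, hzUy, hzu⟩ ⟨y, hyUy, hyv⟩
      exact ⟨w, trivial, hwu, hwv⟩
    exact { isPreirreducible_univ := hpre, toNonempty := hne }

end Groth.Agent.S9822
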