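import Groth.Statements.S9823
import Groth.Agent.Lib.Helper40.FTIdeal

set_option autoImplicit false
universe u
open CategoryTheory CategoryTheory.Limits AlgebraicGeometry TopologicalSpace Opposite
open Props

namespace Groth.Agent.S9823

open Groth.Agent.Lib.Helper40.FTIdeal

/-- (⇐): if all `I.ideal V` are f.g. then the complement of the support meets each affine in a
compact set. -/
theorem isCompact_compl_support_inter {X : Scheme.{u}} (I : X.IdealSheafData)
    (V : X.affineOpens) (hfg : (I.ideal V).FG) :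
    IsCompact (((I.support : Set X)ᶜ) ∩ (V.1 : Set X)) := by
  obtain ⟨s, hs⟩ := hfg
  have h1 : ((I.support : Set X)ᶜ) ∩ (V.1 : Set X) = ⋃ g ∈ s, (X.basicOpen g : Set X) := by
    ext x
    simp only [Set.mem_inter_iff, Set.mem_compl_iff, Set.mem_iUnion, SetLike.mem_coe, exists_prop]
    constructor
    · rintro ⟨hx, hxV⟩
      rw [Scheme.IdealSheafData.mem_support_iff_of_mem (U := V) hxV, ← hs,
        Scheme.zeroLocus_span, Scheme.mem_zeroLocus_iff] at hx
      push Not at hx
      obtain ⟨g, hg, hxg⟩ := hx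
      exact ⟨g, hg, hxg⟩
    · rintro ⟨g, hg, hxg⟩
      have hxV : x ∈ V.1 := X.basicOpen_le g hxg
      refine ⟨?_, hxV⟩
      rw [Scheme.IdealSheafData.mem_support_iff_of_mem (U := V) hxV, ← hs,
        Scheme.zeroLocus_span, Scheme.mem_zeroLocus_iff]
      push Not
      exact ⟨g, hg, hxg⟩
  rw [h1]
  exact s.isCompact_biUnion fun g _ => (V.2.basicOpen g).isCompact


theorem exists_ft_ideal_of_finite {X : Scheme.{u}} [CompactSpace X] [QuasiSeparatedSpace X]
    (s : Set X.affineOpens) (hs : s.Finite) :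
    ∃ I : X.IdealSheafData, (∀ V : X.affineOpens, (I.ideal V).FG) ∧
      (I.support : Set X) = (⋃ W ∈ s, (W.1 : Set X))ᶜ := by
  induction s, hs using Set.Finite.induction_on with
  | empty =>
    refine ⟨⊥, fun V => ?_, ?_⟩
    · change (⊥ : Ideal _).FG
      exact Submodule.fg_bot
    · rw [Scheme.IdealSheafData.support_bot]
      simp
  | @insert W s hW hs ih =>
    obtain ⟨I, hI, hsupp⟩ := ih
    obtain ⟨J, hJ, hJsupp, -⟩ := exists_ft_ideal_support_eq_compl W.1 W.2
    refine ⟨I ⊔ J, fun V => ?_, ?_⟩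
    · change (I.ideal V ⊔ J.ideal V).FG
      exact Submodule.FG.sup (hI V) (hJ V)
    · rw [Scheme.IdealSheafData.support_sup]
      change (I.support : Set X) ∩ (J.support : Set X) = _
      rw [hsupp, hJsupp, Set.biUnion_insert, Set.compl_union, Set.inter_comm]

theorem result (X : Scheme.{u}) [CompactSpace X] [QuasiSeparatedSpace X]
    (U : X.Opens) :
    IsCompact (U : Set X) ↔
      ∃ I : X.IdealSheafData, (∀ V : X.affineOpens, (I.ideal V).FG) ∧ (I.support : Set X) = (U : Set X)ᶜ := by
  constructor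
  · intro hU
    obtain ⟨s, hs, e⟩ := (isCompact_iff_finite_and_eq_biUnion_affineOpens (U := U)).mp hU
    obtain ⟨I, hI, hsupp⟩ := exists_ft_ideal_of_finite s hs
    refine ⟨I, hI, ?_⟩
    rw [hsupp, e]
    congr 1
    simp
  · rintro ⟨I, hI, hsupp⟩
    obtain ⟨t, ht, et⟩ := (isCompact_iff_finite_and_eq_biUnion_affineOpens
      (U := (⊤ : X.Opens))).mp isCompact_univ
    have hU : (U : Set X) = ⋃ V ∈ t, (((I.support : Set X)ᶜ) ∩ (V.1 : Set X)) := by
      rw [← Set.inter_iUnion₂, hsupp, compl_compl]
      have : (⋃ V ∈ t, (V.1 : Set X)) = Set.univ := by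
        have h2 := congrArg (fun W : X.Opens => (W : Set X)) et
        simp only [Opens.coe_top, Opens.coe_iSup] at h2
        exact h2.symm
      rw [this, Set.inter_univ]
    rw [hU]
    exact ht.isCompact_biUnion fun V _ => isCompact_compl_support_inter I V (hI V)

end Groth.Agent.S9823
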