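import Groth.Statements.S9826
import Groth.Agent.Lib.Helper2.FinLocFreeAff

set_option autoImplicit false
universe u
open CategoryTheory CategoryTheory.Limits AlgebraicGeometry TopologicalSpace Opposite
open Props

namespace Groth.Agent.S9826

open Groth.Agent.Lib.Helper2.FinLocFreeAff Groth.Agent.Lib.Lead.CohAff


/-- The sheaf associated to a module over a ring is of finite type on the spectrum if and only if the
module is finitely generated. -/
theorem result (R : CommRingCat.{u}) (M : ModuleCat.{u} R) :
    CohB1.IsFT (tilde M) ↔ Module.Finite R M := by
  haveI : (tilde M).IsQuasicoherent := inferInstance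
  rw [finite_iff_tilde]
  constructor
  · intro h
    exact finite_sections_of_isFiniteType (tilde M) h (isAffineOpen_top (Spec R))
  · intro h
    apply isFiniteType_of_finite_sections
    intro x
    exact ⟨⊤, isAffineOpen_top _, trivial, h⟩

end Groth.Agent.S9826
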