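import Groth.Statements.S9830
import Mathlib

set_option autoImplicit false
universe u
open CategoryTheory AlgebraicGeometry TopologicalSpace
open Props

namespace Groth.Agent.S9830

open Limits Scheme Pullback in
set_option backward.defeqAttrib.useBackward true in
set_option backward.isDefEq.respectTransparency false in
theorem mem_diagonalCoverDiagonalRange_of_fst_eq_snd {X Y : Scheme.{u}} (f : X ⟶ Y)
    (𝒰 : Y.OpenCover) (𝒱 : ∀ i, (pullback f (𝒰.f i)).OpenCover)
    (x : ↥(pullback f f)) (H : pullback.fst f f x = pullback.snd f f x) :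
    x ∈ diagonalCoverDiagonalRange f 𝒰 𝒱 := by
  simp only [diagonalCoverDiagonalRange, openCoverOfBase_I₀, openCoverOfBase_X,
    openCoverOfLeftRight_I₀, Opens.iSup_mk, Opens.carrier_eq_coe, Hom.coe_opensRange, Opens.mem_mk,
    Set.mem_iUnion, Set.mem_range, Sigma.exists]
  let i := 𝒰.idx (f (pullback.fst f f x))
  obtain ⟨y : 𝒰.X i, hy : 𝒰.f i y = f _⟩ :=
    𝒰.covers (f (pullback.fst f f x))
  obtain ⟨z, hz₁, hz₂⟩ := exists_preimage_pullback _ _ hy.symm
  let j := (𝒱 i).idx z
  obtain ⟨w : (𝒱 i).X j, hy : (𝒱 i).f j w = z⟩ := (𝒱 i).covers z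
  refine ⟨i, j, ?_⟩
  simp_rw [diagonalCover_map]
  change x ∈ Set.range _
  simp only [diagonalCover, openCoverOfBase_I₀,
    Precoverage.ZeroHypercover.pullback₁_toPreZeroHypercover, PreZeroHypercover.pullback₁_X,
    Precoverage.ZeroHypercover.bind_toPreZeroHypercover, openCoverOfBase_X,
    PreZeroHypercover.bind_X, openCoverOfLeftRight_I₀, openCoverOfLeftRight_X]
  rw [range_map]
  simp [← H, ← hz₁, ← hy]

open Limits in
theorem isSeparated_of_t2 {X Y : Scheme.{u}} (f : X ⟶ Y) [T2Space X] : IsSeparated f := by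
  constructor
  let 𝒰 := Y.affineCover
  let 𝒱 (i) := (pullback f (𝒰.f i)).affineCover
  let W := Scheme.Pullback.diagonalCoverDiagonalRange f 𝒰 𝒱
  have hclosed : IsClosed {z : ↥(pullback f f) | pullback.fst f f z = pullback.snd f f z} :=
    isClosed_eq (pullback.fst f f).continuous (pullback.snd f f).continuous
  have hsub : closure (Set.range (pullback.diagonal f)) ⊆ (W : Set ↥(pullback f f)) := by
    intro z hz
    have h1 : z ∈ {z : ↥(pullback f f) | pullback.fst f f z = pullback.snd f f z} := by
      refine closure_minimal ?_ hclosed hz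
      rintro _ ⟨x, rfl⟩
      show pullback.fst f f (pullback.diagonal f x) = pullback.snd f f (pullback.diagonal f x)
      rw [← Scheme.Hom.comp_apply, ← Scheme.Hom.comp_apply]
      simp
    exact mem_diagonalCoverDiagonalRange_of_fst_eq_snd f 𝒰 𝒱 z h1
  let V : (pullback f f).Opens := ⟨(closure (Set.range (pullback.diagonal f)))ᶜ,
    isClosed_closure.isOpen_compl⟩
  have hV : IsEmpty (pullback.diagonal f ⁻¹ᵁ V).toScheme := by
    refine ⟨fun ⟨x, hx⟩ => ?_⟩
    exact hx (subset_closure ⟨x, rfl⟩)
  have hcov : (⨆ b : Bool, if b then W else V) = ⊤ := by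
    rw [eq_top_iff]
    intro z _
    by_cases hz : z ∈ closure (Set.range (pullback.diagonal f))
    · exact TopologicalSpace.Opens.mem_iSup.mpr ⟨true, hsub hz⟩
    · exact TopologicalSpace.Opens.mem_iSup.mpr ⟨false, hz⟩
  refine IsZariskiLocalAtTarget.of_iSup_eq_top (fun b : Bool => if b then W else V) hcov ?_
  intro b
  cases b
  · show IsClosedImmersion (pullback.diagonal f ∣_ V)
    infer_instance
  · show IsClosedImmersion (pullback.diagonal f ∣_ W)
    exact isClosedImmersion_diagonal_restrict_diagonalCoverDiagonalRange f 𝒰 𝒱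

/-- A scheme whose underlying space is Hausdorff is separated. (The published statement assumes X of
dimension zero; a Hausdorff scheme always has dimension at most zero, so this row omits that
hypothesis.) -/
theorem result (X : Scheme.{u}) [T2Space X] : X.IsSeparated := by
  exact ⟨isSeparated_of_t2 _⟩

end Groth.Agent.S9830
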