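import Groth.Statements.S9835
import Mathlib
import Groth.Agent.S9392
import Groth.Agent.S9394

set_option autoImplicit false
universe u
open CategoryTheory AlgebraicGeometry TopologicalSpace
open Props

namespace Groth.Agent.S9835

/-- If an integral scheme has an affine open covering by spectra of Japanese (N-2) domains, then the
coordinate ring of every nonempty affine open is a Japanese domain. -/
theorem result (X : Scheme.{u}) [IsIntegral X] {ι : Type u}
    (U : ι → X.Opens) [∀ i, Nonempty (U i)] (hU : iSup U = ⊤) (haff : ∀ i, IsAffineOpen (U i))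
    (hJ : ∀ i, CAlg.IsN2 Γ(X, U i)) (V : X.Opens) [Nonempty V] (hV : IsAffineOpen V) :
    CAlg.IsN2 Γ(X, V) := by
  have key : ∀ (_ : Nonempty V), CAlg.IsN2 Γ(X, V) := by
    refine of_affine_open_cover (P := fun W => ∀ (_ : Nonempty W.1), CAlg.IsN2 Γ(X, W.1))
      (fun i => ⟨U i, haff i⟩) hU ⟨V, hV⟩ ?_ ?_ (fun i _ => hJ i)
    · intro W f hW hne
      have hneW : Nonempty W.1 := by
        obtain ⟨x⟩ := hne
        exact ⟨⟨x.1, X.basicOpen_le f x.2⟩⟩
      have hne' : Nonempty (X.basicOpen f) := hne
      have := W.2.isLocalization_basicOpen f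
      exact Groth.Agent.S9392.result Γ(X, W.1) (Submonoid.powers f) Γ(X, X.basicOpen f) (hW hneW)
    · intro W s hs hW hne
      let ι' : Type u := {f : s // f.1 ≠ 0}
      let g : ι' → Γ(X, W.1) := fun f => f.1.1
      have hg : Ideal.span (Set.range g) = ⊤ := by
        rw [eq_top_iff, ← hs, Ideal.span_le]
        intro x hx
        by_cases hx0 : x = 0
        · rw [hx0]
          exact zero_mem _
        · exact Ideal.subset_span ⟨⟨⟨x, hx⟩, hx0⟩, rfl⟩
      have hne' : ∀ f : ι', Nonempty (X.basicOpen (g f)) := by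
        intro f
        have h1 : X.basicOpen (g f) ≠ ⊥ := fun h0 => f.2 ((basicOpen_eq_bot_iff _).mp h0)
        obtain ⟨x, hx⟩ := (Opens.ne_bot_iff_nonempty _).mp h1
        exact ⟨⟨x, hx⟩⟩
      have hloc : ∀ f : ι', IsLocalization.Away (g f) Γ(X, X.basicOpen (g f)) :=
        fun f => W.2.isLocalization_basicOpen (g f)
      exact Groth.Agent.S9394.result Γ(X, W.1) g hg (fun f => Γ(X, X.basicOpen (g f)))
        (fun f => hW f.1 (hne' f))
  exact key inferInstance

end Groth.Agent.S9835
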