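import Groth.Statements.S9838
import Groth.Agent.Lib.Lead.CohAff3
import Groth.Agent.Lib.Helper2.KerSec

set_option autoImplicit false
universe u
open CategoryTheory AlgebraicGeometry

namespace Groth.Agent.S9838

open Groth.Agent.Lib.Lead.CohAff

theorem pushforward_smul {X Y : Scheme.{u}} (f : X ⟶ Y) (F : X.Modules) (V : Y.Opens)
    (r : Γ(Y, V)) (m : Γ((Scheme.Modules.pushforward f).obj F, V)) :
    r • m = (show Γ(F, f ⁻¹ᵁ V) from (f.app V r) • (show Γ(F, f ⁻¹ᵁ V) from m)) := rfl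


theorem result {X Y : Scheme.{u}} (f : X ⟶ Y) [IsFinite f]
    (F : X.Modules) [F.IsQuasicoherent] :
    SheafOfModules.IsFiniteType (R := X.ringCatSheaf) F ↔
      SheafOfModules.IsFiniteType (R := Y.ringCatSheaf) ((Scheme.Modules.pushforward f).obj F) := by
  haveI : ((Scheme.Modules.pushforward f).obj F).IsQuasicoherent :=
    Groth.Agent.Lib.Helper2.KerSec.isQuasicoherent_pushforward_of_qcqs f F
  -- the algebra structure on an affine open
  have key : ∀ (V : Y.Opens), IsAffineOpen V →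
      (Module.Finite Γ(X, f ⁻¹ᵁ V) Γ(F, f ⁻¹ᵁ V) ↔
        Module.Finite Γ(Y, V) Γ((Scheme.Modules.pushforward f).obj F, V)) := by
    intro V hV
    letI : Algebra Γ(Y, V) Γ(X, f ⁻¹ᵁ V) := (f.app V).hom.toAlgebra
    letI inst1 : Module Γ(Y, V) Γ(F, f ⁻¹ᵁ V) :=
      Module.compHom _ (algebraMap Γ(Y, V) Γ(X, f ⁻¹ᵁ V))
    haveI : IsScalarTower Γ(Y, V) Γ(X, f ⁻¹ᵁ V) Γ(F, f ⁻¹ᵁ V) :=
      IsScalarTower.of_algebraMap_smul fun r m => rfl
    haveI : Module.Finite Γ(Y, V) Γ(X, f ⁻¹ᵁ V) := IsFinite.finite_app f V hV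
    have heq : Module.Finite Γ(Y, V) Γ((Scheme.Modules.pushforward f).obj F, V) ↔
        Module.Finite Γ(Y, V) Γ(F, f ⁻¹ᵁ V) := by
      let e : Γ((Scheme.Modules.pushforward f).obj F, V) ≃ₗ[Γ(Y, V)] Γ(F, f ⁻¹ᵁ V) :=
        { toFun := fun m => m
          invFun := fun m => m
          left_inv := fun _ => rfl
          right_inv := fun _ => rfl
          map_add' := fun _ _ => rfl
          map_smul' := fun _ _ => rfl }
      exact ⟨fun h => Module.Finite.equiv e, fun h => Module.Finite.equiv e.symm⟩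
    rw [heq]
    constructor
    · intro h
      exact Module.Finite.trans Γ(X, f ⁻¹ᵁ V) Γ(F, f ⁻¹ᵁ V)
    · intro h
      exact Module.Finite.of_restrictScalars_finite Γ(Y, V) Γ(X, f ⁻¹ᵁ V) Γ(F, f ⁻¹ᵁ V)
  constructor
  · intro hF
    rw [isFiniteType_iff_finite_sections]
    intro V hV
    exact (key V hV).mp (finite_sections_of_isFiniteType F hF (hV.preimage f))
  · intro hF
    apply isFiniteType_of_finite_sections
    intro x
    obtain ⟨_, ⟨V, hV : IsAffineOpen V, rfl⟩, hxV, -⟩ :=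
      (Y.isBasis_affineOpens).exists_subset_of_mem_open (Set.mem_univ (f x)) isOpen_univ
    exact ⟨f ⁻¹ᵁ V, hV.preimage f, hxV,
      (key V hV).mpr (finite_sections_of_isFiniteType _ hF hV)⟩

end Groth.Agent.S9838
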