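import Groth.Statements.S9839
import Mathlib

set_option autoImplicit false
open CategoryTheory CategoryTheory.Limits AlgebraicGeometry Opposite
universe u
open Desc

namespace Groth.Agent.S9839

/-- Let f i : T i ⟶ T be an fpqc covering family of a scheme T (a family in the fpqc precoverage) and W
i ⊆ T i open subsets such that for all i, j the inverse images of W i and W j under the two
projections of T i ×_T T j coincide. Then there is a unique open subset W ⊆ T with (f i)⁻¹(W) = W i
for every i. -/
theorem result {ι : Type u} {T : Scheme.{u}} {Ti : ι → Scheme.{u}}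
    (f : ∀ i, Ti i ⟶ T) (hf : Presieve.ofArrows Ti f ∈ Scheme.fpqcPrecoverage T)
    (W : ∀ i, (Ti i).Opens)
    (hW : ∀ i j, (pullback.fst (f i) (f j)) ⁻¹ᵁ (W i) = (pullback.snd (f i) (f j)) ⁻¹ᵁ (W j)) :
    ∃! V : T.Opens, ∀ i, (f i) ⁻¹ᵁ V = W i := by
  have hsh := isSheaf_fpqcTopology_continuousMapPresheaf.{0, u} Prop
  rw [isSheaf_iff_isSheaf_of_type] at hsh
  have hgen : Sieve.generate (Presieve.ofArrows Ti f) ∈ Scheme.fpqcTopology T :=
    Precoverage.generate_mem_toGrothendieck hf
  have h1 := hsh _ hgen
  rw [← Presieve.isSheafFor_iff_generate, Presieve.isSheafFor_arrows_iff] at h1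
  let x : (i : ι) → (continuousMapPresheaf.{0, u} Prop).obj (op (Ti i)) := fun i =>
    ⟨fun t => t ∈ W i, isOpen_iff_continuous_mem.mp (W i).isOpen⟩
  have hx : Presieve.Arrows.Compatible (continuousMapPresheaf.{0, u} Prop) f x := by
    rw [Presieve.Arrows.pullbackCompatible_iff]
    intro i j
    apply ContinuousMap.ext
    intro z
    have := congrArg (fun U : (pullback (f i) (f j)).Opens => z ∈ U) (hW i j)
    exact this
  obtain ⟨t₀, ht, htu⟩ := h1 x hx
  let t : C(↥T, Prop) := t₀
  have ht : ∀ i, (continuousMapPresheaf.{0, u} Prop).map (f i).op t = x i := ht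
  have htu : ∀ y : (continuousMapPresheaf.{0, u} Prop).obj (op T),
      (∀ i, (continuousMapPresheaf.{0, u} Prop).map (f i).op y = x i) → y = t := htu
  refine ⟨⟨{y | t y}, continuous_Prop.mp t.continuous⟩, ?_, ?_⟩
  · intro i
    ext z
    have := congrArg (fun g : C(↥(Ti i), Prop) => g z) (ht i)
    exact Iff.of_eq this
  · intro V' hV'
    let t' : (continuousMapPresheaf.{0, u} Prop).obj (op T) :=
      ⟨fun y => y ∈ V', isOpen_iff_continuous_mem.mp V'.isOpen⟩
    have ht' : t' = t := by
      apply htu
      intro i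
      apply ContinuousMap.ext
      intro z
      have := congrArg (fun U : (Ti i).Opens => z ∈ U) (hV' i)
      exact this
    ext y
    have := congrArg (fun g : C(↥T, Prop) => g y) ht'
    exact Iff.of_eq this

end Groth.Agent.S9839
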