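import Groth.Statements.S9842
import Mathlib

set_option autoImplicit false
open CategoryTheory CategoryTheory.Limits AlgebraicGeometry Opposite
universe u
open Desc

namespace Groth.Agent.S9842

/-- Let E/k be a field extension, Y a scheme over k and f : X ⟶ Y a morphism. Writing Y_E = Y ×_k Spec
E, the morphism f is dominant if and only if its base change X ×_Y Y_E ⟶ Y_E is dominant. -/
theorem result {k E : Type u} [Field k] [Field E] [Algebra k E]
    {X Y : Scheme.{u}} (f : X ⟶ Y) (q : Y ⟶ Spec (.of k)) :
    IsDominant f ↔
      IsDominant (pullback.snd f (pullback.fst q (Spec.map (CommRingCat.ofHom (algebraMap k E))))) := by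
  set e : Spec (.of E) ⟶ Spec (.of k) := Spec.map (CommRingCat.ofHom (algebraMap k E)) with he
  have hsurj_e : Surjective e := by
    refine ⟨fun x => ?_⟩
    obtain ⟨y⟩ : Nonempty (Spec (.of E)) := inferInstanceAs (Nonempty (PrimeSpectrum E))
    refine ⟨y, ?_⟩
    have : Subsingleton (Spec (.of k)) := inferInstanceAs (Subsingleton (PrimeSpectrum k))
    exact Subsingleton.elim _ _
  have huo_e : UniversallyOpen e := by
    have : Subsingleton (Spec (.of k)) := inferInstanceAs (Subsingleton (PrimeSpectrum k))
    infer_instance
  set p := pullback.fst q e with hp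
  have hopen : IsOpenMap p := p.isOpenMap
  have hsurj : Function.Surjective p := p.surjective
  constructor
  · intro hf
    refine ⟨?_⟩
    rw [DenseRange, Scheme.Pullback.range_snd]
    exact hf.denseRange.preimage hopen
  · intro h
    refine ⟨?_⟩
    intro y
    obtain ⟨z, rfl⟩ := hsurj y
    have h2 : DenseRange (pullback.snd f p) := h.denseRange
    rw [DenseRange, Scheme.Pullback.range_snd] at h2
    have h3 : p z ∈ p '' closure (p ⁻¹' Set.range f) :=
      Set.mem_image_of_mem _ (h2 z)
    have h4 := image_closure_subset_closure_image p.continuous h3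
    exact closure_mono (Set.image_preimage_subset _ _) h4

end Groth.Agent.S9842
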