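import Groth.Statements.S9843
import Mathlib

set_option autoImplicit false
open CategoryTheory CategoryTheory.Limits AlgebraicGeometry Opposite
universe u
open Desc

namespace Groth.Agent.S9843

/-- Being dominant is fppf local on the base: for every fppf covering family Y i ⟶ Y (flat, locally of
finite presentation, jointly surjective), a morphism X ⟶ Y is dominant if and only if all its base
changes X ×_Y Y i ⟶ Y i are. -/
theorem result :
    MorphismProperty.IsLocalAtTarget (@IsDominant : MorphismProperty Scheme.{u}) Scheme.fppfPrecoverage := by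
  have : (Scheme.fppfPrecoverage.{u}).HasPullbacks :=
    inferInstanceAs (Scheme.precoverage (@Flat ⊓ @LocallyOfFinitePresentation)).HasPullbacks
  refine MorphismProperty.IsLocalAtTarget.mk_of_iff_of_zeroHypercover fun {X Y} f 𝒰 => ?_
  have hmem : Presieve.ofArrows 𝒰.X 𝒰.f ∈
      Scheme.precoverage (@Flat ⊓ @LocallyOfFinitePresentation) Y := 𝒰.mem₀
  rw [Scheme.ofArrows_mem_precoverage_iff] at hmem
  obtain ⟨hsurj, hP⟩ := hmem
  constructor
  · intro hf i
    have : Flat (𝒰.f i) := (hP i).1
    have : LocallyOfFinitePresentation (𝒰.f i) := (hP i).2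
    have h1 : IsOpenMap (𝒰.f i) := (𝒰.f i).isOpenMap
    refine ⟨?_⟩
    rw [DenseRange, Scheme.Pullback.range_snd]
    exact hf.denseRange.preimage h1
  · intro h
    refine ⟨?_⟩
    intro y
    obtain ⟨i, z, rfl⟩ := hsurj y
    have h2 : DenseRange (pullback.snd f (𝒰.f i)) := (h i).denseRange
    rw [DenseRange, Scheme.Pullback.range_snd] at h2
    have h3 : 𝒰.f i z ∈ (𝒰.f i) '' closure ((𝒰.f i) ⁻¹' Set.range f) :=
      Set.mem_image_of_mem _ (h2 z)
    have h4 := image_closure_subset_closure_image (𝒰.f i).continuous h3
    exact closure_mono (Set.image_preimage_subset _ _) h4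

end Groth.Agent.S9843
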