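import Groth.Statements.S9847
import Groth.Agent.Lib.Helper30.EtaleSourceLFP

set_option autoImplicit false
open CategoryTheory CategoryTheory.Limits AlgebraicGeometry Opposite
universe u
open Desc

namespace Groth.Agent.S9847

/-- Being etale is etale local on the source: for every etale covering family g i : X i ⟶ X (etale,
jointly surjective), a morphism f : X ⟶ Y is etale if and only if every composite g i ≫ f is. -/
theorem result :
    MorphismProperty.IsLocalAtSource (@Etale : MorphismProperty Scheme.{u}) Scheme.etalePrecoverage := by
  refine MorphismProperty.IsLocalAtSource.mk_of_iff fun {X Y} {f} {R} hR => ⟨fun hf U g hg => ?_, fun H => ?_⟩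
  · have : Etale g := hR.2 hg
    have : Etale f := hf
    infer_instance
  · have hex : ∀ x : X, ∃ (U : Scheme.{u}) (g : U ⟶ X), R g ∧ x ∈ Set.range g := by
      intro x
      have hR1 := hR.1
      rw [Scheme.jointlySurjectivePrecoverage,
        Presieve.mem_comap_jointlySurjectivePrecoverage_iff] at hR1
      obtain ⟨U, g, hg, heq⟩ := hR1 x
      exact ⟨U, g, hg, heq⟩
    choose U g hg hx using hex
    have hget : ∀ x, Etale (g x) := fun x => hR.2 (hg x)
    let e : (∐ U) ⟶ X := Sigma.desc g
    have he : Etale e := IsZariskiLocalAtSource.sigmaDesc (P := @Etale) hget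
    have hes : Surjective e := by
      refine ⟨fun x => ?_⟩
      obtain ⟨u, hu⟩ := hx x
      refine ⟨Sigma.ι U x u, ?_⟩
      rw [← Scheme.Hom.comp_apply, Sigma.ι_desc]
      exact hu
    have hef : Etale (e ≫ f) := by
      have : e ≫ f = Sigma.desc fun x => g x ≫ f := by
        apply Sigma.hom_ext
        intro x
        simp [e]
      rw [this]
      exact IsZariskiLocalAtSource.sigmaDesc (P := @Etale) fun x => H (hg x)
    exact Groth.Agent.Lib.Helper30.EtaleSource.etale_of_etale_surjective_comp e f

end Groth.Agent.S9847
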