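import Groth.Statements.S9855
import Groth.Agent.Lib.Helper64.DescFam
import Groth.Agent.Lib.Helper5.DescZar3

set_option autoImplicit false
open CategoryTheory CategoryTheory.Limits AlgebraicGeometry Opposite
universe u
open Desc

namespace Groth.Agent.S9855

/-- Let u i : U i ⟶ S and v j : V j ⟶ S be two families of morphisms with target S and (α, g) a morphism
of families over the identity of S, i.e. g i : U i ⟶ V (α i) with g i ≫ v (α i) = u i. Assume that
for every index j the family of those g i with α i = j is a Zariski covering of V j (jointly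
surjective open immersions). Then the pullback functor from descent data for schemes relative to (v
j) to descent data relative to (u i) is an equivalence of categories. -/
theorem result {ι κ : Type u} {S : Scheme.{u}} {U : ι → Scheme.{u}} {V : κ → Scheme.{u}}
    (u : ∀ i, U i ⟶ S) (v : ∀ j, V j ⟶ S) (α : ι → κ) (g : ∀ i, U i ⟶ V (α i)) (w : ∀ i, g i ≫ v (α i) = u i)
    (hcov : ∀ j, Presieve.ofArrows (fun i : {i // α i = j} => U i.1)
      (fun i => g i.1 ≫ eqToHom (congrArg V i.2)) ∈ Scheme.zariskiPrecoverage (V j)) :
    (Desc.pullDDFam (f := v) (f' := u) (α := α) (p := 𝟙 S) (p' := g) (fun i => (w i).trans (Category.comp_id (u i)).symm)).IsEquivalence := by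
  have hcov' : ∀ j, Groth.Agent.Lib.Helper64.DescFam.factSieve u (v j) ∈ Scheme.fpqcTopology (V j) := by
    intro j
    have h1 : Sieve.generate (Presieve.ofArrows (fun i : {i // α i = j} => U i.1)
        (fun i => g i.1 ≫ eqToHom (congrArg V i.2))) ∈ Scheme.fpqcTopology (V j) :=
      Precoverage.generate_mem_toGrothendieck
        (Scheme.zariskiPrecoverage_le_fpqcPrecoverage _ (hcov j))
    refine Scheme.fpqcTopology.superset_covering ?_ h1
    rintro T t ⟨Z, a, b, ⟨i⟩, hab⟩
    obtain ⟨i, rfl⟩ := i
    refine ⟨i, a, ?_⟩
    rw [← hab, ← w i]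
    simp
  exact
    { faithful := Groth.Agent.Lib.Helper64.DescFam.pull_faithful_of_cov _ hcov'
      full := Groth.Agent.Lib.Helper64.DescFam.pull_full _ hcov'
      essSurj := Groth.Agent.Lib.Helper5.DescZar.essSurj_of_zariski u v α g w hcov }

end Groth.Agent.S9855
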