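import Groth.Statements.S9858
import Groth.Agent.Lib.Helper5.DescFamReduce

set_option autoImplicit false
open CategoryTheory CategoryTheory.Limits AlgebraicGeometry Opposite
universe u
open Desc

namespace Groth.Agent.S9858

/-- Case τ = fpqc: let P be a property of morphisms of schemes which is stable under base change and
under finite disjoint unions, and such that for every flat surjective morphism of affine schemes p :
X ⟶ S, every descent datum relative to p whose structure morphism to X has P is effective. Then for
every fpqc covering family u i : U i ⟶ S of a scheme S, every descent datum for schemes relative to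
(u i) all of whose structure morphisms have P is effective. -/
theorem result (P : MorphismProperty Scheme.{u}) [P.IsStableUnderBaseChange]
    (h2 : ∀ (m : ℕ) (Y V : Fin m → Scheme.{u}) (q : ∀ j, Y j ⟶ V j), (∀ j, P (q j)) → P (Limits.Sigma.map q))
    (h3 : ∀ (X S : Scheme.{u}) (p : X ⟶ S), IsAffine X → IsAffine S → Flat p → Surjective p →
      ∀ D : Desc.SchDD p, P D.obj.hom → ∃ U : Over S, Nonempty ((Desc.toDD p).obj U ≅ D))
    {ι : Type u} {S : Scheme.{u}} {U : ι → Scheme.{u}} (u : ∀ i, U i ⟶ S)
    (hu : Presieve.ofArrows U u ∈ Scheme.fpqcPrecoverage S) (D : Desc.SchDDFam u) (hD : ∀ i, P (D.obj i).hom) :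
    D.IsEffective := by
  apply Groth.Agent.Lib.Helper5.DescFamReduce.isEffective_of_finite_affine u hu D
  intro S₁ hS₁ n a V hV b comm hflat hsurj
  haveI : IsAffine (S₁ : Scheme.{u}) := hS₁
  haveI : ∀ k, IsAffine (V k : Scheme.{u}) := fun k => hV k
  have hP : ∀ k, P (pullback.snd (D.obj (a k)).hom (V k).ι) := fun k =>
    P.pullback_snd _ _ (hD (a k))
  have hP2 := h2 n (fun k => pullback (D.obj (a k)).hom (V k).ι) (fun k => (V k : Scheme.{u}))
    (fun k => pullback.snd (D.obj (a k)).hom (V k).ι) hP
  exact h3 _ _ (Limits.Sigma.desc b) inferInstance inferInstance hflat hsurj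
    (Groth.Agent.Lib.Helper5.DescSigma.sigDD (Desc.pullDDFamObj (f := u) (f' := b) (α := a)
      (p := S₁.ι) (p' := fun k => (V k).ι) comm D)) hP2

end Groth.Agent.S9858
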