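import Groth.Statements.S9859
import Mathlib

set_option autoImplicit false
open CategoryTheory CategoryTheory.Limits AlgebraicGeometry Opposite
universe u
open Desc

namespace Groth.Agent.S9859

theorem snd_iff {P : MorphismProperty Scheme.{u}} [P.RespectsIso] {X Y Y' Z : Scheme.{u}}
    {f : X ⟶ Y} {g : Y' ⟶ Y} {fst' : Z ⟶ X} {snd' : Z ⟶ Y'}
    (h : IsPullback fst' snd' f g) : P snd' ↔ P (pullback.snd f g) := by
  rw [← P.cancel_left_of_respectsIso h.isoPullback.hom, h.isoPullback_hom_snd]

theorem baseChange {P : MorphismProperty Scheme.{u}}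
    [MorphismProperty.IsLocalAtTarget P Scheme.fppfPrecoverage] {X Y Y' : Scheme.{u}}
    (f : X ⟶ Y) (g : Y' ⟶ Y) [Flat g] [LocallyOfFinitePresentation g] (hf : P f) :
    P (pullback.snd f g) := by
  let R : Presieve Y := fun Z h => Flat h ∧ LocallyOfFinitePresentation h
  have hR : R ∈ Scheme.precoverage (@Flat ⊓ @LocallyOfFinitePresentation) Y := by
    refine ⟨?_, ?_⟩
    · rw [Presieve.mem_comap_jointlySurjectivePrecoverage_iff]
      intro y
      exact ⟨Y, 𝟙 Y, ⟨inferInstance, inferInstance⟩, y, rfl⟩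
    · intro Z h hh
      exact hh
  exact MorphismProperty.IsLocalAtTarget.pullbackSnd (K := Scheme.fppfPrecoverage) hR
    (show R g from ⟨inferInstance, inferInstance⟩) hf

theorem descent {P : MorphismProperty Scheme.{u}}
    [MorphismProperty.IsLocalAtTarget P Scheme.fppfPrecoverage] {X Y Y' : Scheme.{u}}
    (f : X ⟶ Y) (g : Y' ⟶ Y) [Flat g] [LocallyOfFinitePresentation g] [Surjective g]
    (h : P (pullback.snd f g)) : P f := by
  refine MorphismProperty.IsLocalAtTarget.of_forall_pullbackSnd (K := Scheme.fppfPrecoverage)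
    g.singleton_mem_fppfPrecoverage ?_
  rintro U g' _ ⟨⟩
  exact h

theorem restrict_isPullback {X Y Y' : Scheme.{u}} (f : X ⟶ Y) (g : Y' ⟶ Y) (W' : Y'.Opens) :
    IsPullback ((pullback.snd f g ⁻¹ᵁ W').ι ≫ pullback.fst f g) (pullback.snd f g ∣_ W') f
      (W'.ι ≫ g) :=
  (isPullback_morphismRestrict (pullback.snd f g) W').flip.paste_horiz
    (IsPullback.of_hasPullback f g)

/-- Case τ = fppf: let P be a property of morphisms of schemes which is fppf local on the base and f : X
⟶ Y a morphism. There is a largest open W of Y such that the restriction of f over W has P;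
moreover, first, if g : Y' ⟶ Y is flat and locally of finite presentation and the base change of f
to Y' has P, then the image of g lies in W; and second, for such g the largest open of Y' over which
the base change of f has P is exactly g⁻¹(W). -/
theorem result (P : MorphismProperty Scheme.{u})
    [MorphismProperty.IsLocalAtTarget P Scheme.fppfPrecoverage] {X Y : Scheme.{u}} (f : X ⟶ Y) :
    ∃ W : Y.Opens, P (f ∣_ W) ∧ (∀ W₀ : Y.Opens, P (f ∣_ W₀) → W₀ ≤ W) ∧
      (∀ (Y' : Scheme.{u}) (g : Y' ⟶ Y), Flat g → LocallyOfFinitePresentation g →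
        P (pullback.snd f g) → Set.range g.base ⊆ (W : Set Y)) ∧
      (∀ (Y' : Scheme.{u}) (g : Y' ⟶ Y), Flat g → LocallyOfFinitePresentation g →
        ∀ W' : Y'.Opens, P (pullback.snd f g ∣_ W') → (∀ W₀ : Y'.Opens, P (pullback.snd f g ∣_ W₀) → W₀ ≤ W') →
          W' = g ⁻¹ᵁ W) := by
  have hZ : IsZariskiLocalAtTarget P :=
    MorphismProperty.IsLocalAtTarget.of_le Scheme.zariskiPrecoverage_le_fppfPrecoverage
  let W : Y.Opens := sSup {W₀ : Y.Opens | P (f ∣_ W₀)}
  have hmax : ∀ W₀ : Y.Opens, P (f ∣_ W₀) → W₀ ≤ W := fun W₀ h => le_sSup h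
  have hPW : P (f ∣_ W) := by
    let ι := {W₀ : Y.Opens // P (f ∣_ W₀)}
    let U : ι → W.toScheme.Opens := fun i => W.ι ⁻¹ᵁ i.1
    have hU : ∀ i, W.ι ''ᵁ U i = i.1 := by
      intro i
      rw [Scheme.Hom.image_preimage_eq_opensRange_inf, Scheme.Opens.opensRange_ι, inf_eq_right]
      exact hmax _ i.2
    have hsup : iSup U = ⊤ := by
      have h1 : (⨆ i : ι, i.1) = W := (sSup_eq_iSup' _).symm
      have h2 : iSup U = W.ι ⁻¹ᵁ (⨆ i : ι, i.1) := (TopologicalSpace.Opens.map_iSup _ _).symm
      rw [h2, h1]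
      exact W.ι_preimage_self
    rw [IsZariskiLocalAtTarget.iff_of_iSup_eq_top (P := P) U hsup]
    intro i
    rw [P.arrow_mk_iso_iff (morphismRestrictRestrict _ _ _),
      P.arrow_mk_iso_iff (morphismRestrictEq _ (hU i))]
    exact i.2
  have h3 : ∀ (Y' : Scheme.{u}) (g : Y' ⟶ Y), Flat g → LocallyOfFinitePresentation g →
      P (pullback.snd f g) → Set.range g.base ⊆ (W : Set Y) := by
    intro Y' g _ _ hP
    let V : Y.Opens := ⟨Set.range g, g.isOpenMap.isOpen_range⟩
    have hrange : Set.range g ⊆ Set.range V.ι := by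
      rw [Scheme.Opens.range_ι]
      exact subset_rfl
    let g' : Y' ⟶ V.toScheme := IsOpenImmersion.lift V.ι g hrange
    have hg' : g' ≫ V.ι = g := IsOpenImmersion.lift_fac _ _ _
    have : Flat g' := by
      refine MorphismProperty.of_postcomp (W := @Flat) (W' := @IsOpenImmersion) g' V.ι
        inferInstance ?_
      rw [hg']
      infer_instance
    have : LocallyOfFinitePresentation g' := by
      refine MorphismProperty.of_postcomp (W := @LocallyOfFinitePresentation)
        (W' := @IsOpenImmersion) g' V.ι inferInstance ?_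
      rw [hg']
      infer_instance
    have : Surjective g' := by
      refine ⟨fun v => ?_⟩
      obtain ⟨y', hy'⟩ : V.ι v ∈ Set.range g := v.2
      refine ⟨y', ?_⟩
      apply V.ι.injective
      rw [← Scheme.Hom.comp_apply, hg']
      exact hy'
    have hpaste : IsPullback (pullback.fst (f ∣_ V) g' ≫ (f ⁻¹ᵁ V).ι) (pullback.snd (f ∣_ V) g') f
        (g' ≫ V.ι) :=
      (IsPullback.of_hasPullback (f ∣_ V) g').paste_horiz (isPullback_morphismRestrict f V).flip
    rw [hg'] at hpaste
    have hPV : P (f ∣_ V) := descent (f ∣_ V) g' ((snd_iff hpaste).mpr hP)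
    exact hmax V hPV
  refine ⟨W, hPW, hmax, h3, ?_⟩
  intro Y' g _ _ W' hPW' hmax'
  apply le_antisymm
  · intro y' hy'
    have hP1 : P (pullback.snd f (W'.ι ≫ g)) := (snd_iff (restrict_isPullback f g W')).mp hPW'
    have := h3 _ (W'.ι ≫ g) inferInstance inferInstance hP1
    exact this ⟨⟨y', hy'⟩, rfl⟩
  · apply hmax'
    have hP1 : P (pullback.snd (f ∣_ W) (g ∣_ W)) := baseChange _ _ hPW
    have hpaste : IsPullback (pullback.fst (f ∣_ W) (g ∣_ W) ≫ (f ⁻¹ᵁ W).ι)
        (pullback.snd (f ∣_ W) (g ∣_ W)) f ((g ∣_ W) ≫ W.ι) :=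
      (IsPullback.of_hasPullback (f ∣_ W) (g ∣_ W)).paste_horiz
        (isPullback_morphismRestrict f W).flip
    rw [morphismRestrict_ι] at hpaste
    have hP2 : P (pullback.snd f ((g ⁻¹ᵁ W).ι ≫ g)) := (snd_iff hpaste).mp hP1
    exact (snd_iff (restrict_isPullback f g (g ⁻¹ᵁ W))).mpr hP2

end Groth.Agent.S9859
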