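import Groth.Statements.S9861
-- import your own Groth.Agent.* helpers here
import Groth.Agent.Lib.Helper58.GenBound
import Groth.Agent.S9839

set_option autoImplicit false
open CategoryTheory CategoryTheory.Limits AlgebraicGeometry Opposite
universe u
open Desc

namespace Groth.Agent.S9861

open Groth.Agent.Lib.Helper58.GenBound Groth.Agent.Lib.Helper58.PullStalkGerm

/-- descent of openness along an fpqc covering family (from S9839) -/
theorem isOpen_of_fpqc {ι : Type u} {X : Scheme.{u}} {Xi : ι → Scheme.{u}} (f : ∀ i, Xi i ⟶ X)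
    (hf : Presieve.ofArrows Xi f ∈ Scheme.fpqcPrecoverage X)
    (hsurj : ∀ x : X, ∃ i, x ∈ Set.range (f i))
    (W : Set X) (hW : ∀ i, IsOpen ((f i).base ⁻¹' W)) : IsOpen W := by
  let Wi : ∀ i, (Xi i).Opens := fun i => ⟨(f i).base ⁻¹' W, hW i⟩
  have hcompat : ∀ i j, (pullback.fst (f i) (f j)) ⁻¹ᵁ (Wi i) =
      (pullback.snd (f i) (f j)) ⁻¹ᵁ (Wi j) := by
    intro i j
    ext z
    change (f i).base ((pullback.fst (f i) (f j)).base z) ∈ W ↔
      (f j).base ((pullback.snd (f i) (f j)).base z) ∈ W
    have e : (f i).base ((pullback.fst (f i) (f j)).base z) =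
        (f j).base ((pullback.snd (f i) (f j)).base z) := by
      have := congrArg (fun g => g.base z) (pullback.condition (f := f i) (g := f j))
      simpa using this
    rw [e]
  obtain ⟨V, hV, -⟩ := Groth.Agent.S9839.result f hf Wi hcompat
  have : W = (V : Set X) := by
    ext y
    obtain ⟨i, x', rfl⟩ := hsurj y
    have := congrArg (fun U : (Xi i).Opens => x' ∈ U) (hV i)
    exact (Iff.of_eq this).symm
  rw [this]
  exact V.isOpen

/-- Let F be a quasi-coherent O_X-module, r a natural number and f i : X i ⟶ X an fpqc covering family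
such that every pullback (f i)^* F is locally generated by at most r sections. Then F is locally
generated by at most r sections. ('Locally generated by at most r sections' is written as: there are
local generators data for the module, indexed in the universe of the scheme, all of whose generating
families are indexed by finite types of cardinality at most r.) -/
theorem result {ι : Type u} {X : Scheme.{u}} {Xi : ι → Scheme.{u}} (f : ∀ i, Xi i ⟶ X)
    (hf : Presieve.ofArrows Xi f ∈ Scheme.fpqcPrecoverage X) (F : X.Modules) [F.IsQuasicoherent] (r : ℕ)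
    (h : ∀ i, ∃ σ : SheafOfModules.LocalGeneratorsData.{u} (R := (Xi i).ringCatSheaf) ((Scheme.Modules.pullback (f i)).obj F),
      ∀ k, Finite (σ.generators k).I ∧ Nat.card (σ.generators k).I ≤ r) :
    ∃ σ : SheafOfModules.LocalGeneratorsData.{u} (R := X.ringCatSheaf) F,
      ∀ k, Finite (σ.generators k).I ∧ Nat.card (σ.generators k).I ≤ r := by
  have h2 : Presieve.ofArrows Xi f ∈ Scheme.precoverage @Flat X :=
    Scheme.propQCPrecoverage_le_precoverage X hf
  rw [Scheme.ofArrows_mem_precoverage_iff] at h2
  obtain ⟨hsurj, hflat⟩ := h2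
  have hft : ∀ i, SheafOfModules.IsFiniteType (R := (Xi i).ringCatSheaf)
      ((Scheme.Modules.pullback (f i)).obj F) := fun i => by
    obtain ⟨σ, hσ⟩ := h i
    exact isFiniteType_of_data _ σ (fun k => (hσ k).1)
  apply exists_data_of_span_germ F r
  intro y
  obtain ⟨i, x', rfl⟩ := hsurj y
  have : Flat (f i) := hflat i
  obtain ⟨σ, hσ⟩ := h i
  obtain ⟨U, hxU, n, hn, s, hs⟩ := exists_local_generators_le _ r σ hσ x'
  obtain ⟨d, hd, g, hg⟩ := exists_fin_span_stalk_le (f i) F x'
    (fun k => ((Scheme.Modules.pullback (f i)).obj F).presheaf.germ U x' hxU (s k)) (hs x' hxU)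
  obtain ⟨V₀, hyV₀, t, ht⟩ := exists_sections_of_span_stalk F ((f i).base x') g hg
  have hopen : IsOpen (spanLocus F V₀ t) := by
    refine isOpen_of_fpqc f hf hsurj _ (fun j => ?_)
    have : Flat (f j) := hflat j
    exact isOpen_preimage_spanLocus (f j) F (hft j) V₀ t
  let Wo : X.Opens := ⟨spanLocus F V₀ t, hopen⟩
  have hWV : Wo ≤ V₀ := spanLocus_subset F V₀ t
  refine ⟨Wo, ⟨hyV₀, ht⟩, d, hd.trans hn, fun k => F.presheaf.map (homOfLE hWV).op (t k), ?_⟩
  intro z hz
  exact span_germ_res F V₀ Wo hWV t z hz hz.2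

end Groth.Agent.S9861
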