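import Groth.Statements.S9871
-- import your own Groth.Agent.* helpers here

set_option autoImplicit false
universe u
open CategoryTheory CategoryTheory.Limits AlgebraicGeometry
open AlgSp

namespace Groth.Agent.S9871

/-- points form of the restriction square, symmetric in `(s,t)` -/
theorem etale_aux (S : Scheme.{u}) {R U R' U' : Over S} (s t : R ⟶ U) (g : U' ⟶ U)
    (s' t' : R' ⟶ U') (r : R' ⟶ R) (w1 : r ≫ t = t' ≫ g) (w2 : r ≫ s = s' ≫ g)
    (lift : ∀ (T : Over S) (a b : T ⟶ U') (r0 : T ⟶ R), r0 ≫ t = a ≫ g → r0 ≫ s = b ≫ g →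
      ∃ r' : T ⟶ R', r' ≫ t' = a ∧ r' ≫ s' = b ∧ r' ≫ r = r0)
    (uniq : ∀ (T : Over S) (x y : T ⟶ R'), x ≫ t' = y ≫ t' → x ≫ s' = y ≫ s' → x ≫ r = y ≫ r →
      x = y)
    (ht : Etale t.left) [Etale g.left] : Etale t'.left := by
  let k : R' ⟶ pullback s g := pullback.lift r s' w2
  have hk1 : k ≫ pullback.fst s g = r := pullback.lift_fst _ _ _
  have hk2 : k ≫ pullback.snd s g = s' := pullback.lift_snd _ _ _
  have sq : IsPullback t' k g (pullback.fst s g ≫ t) := by
    refine ⟨⟨by rw [← Category.assoc, hk1, w1]⟩, ⟨PullbackCone.IsLimit.mk _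
      (fun c => (lift c.pt c.fst (c.snd ≫ pullback.snd s g) (c.snd ≫ pullback.fst s g)
        (by rw [Category.assoc]; exact c.condition.symm)
        (by rw [Category.assoc, Category.assoc, pullback.condition])).choose) ?_ ?_ ?_⟩⟩
    · intro c
      exact (lift c.pt c.fst (c.snd ≫ pullback.snd s g) (c.snd ≫ pullback.fst s g)
        (by rw [Category.assoc]; exact c.condition.symm)
        (by rw [Category.assoc, Category.assoc, pullback.condition])).choose_spec.1
    · intro c
      have h := (lift c.pt c.fst (c.snd ≫ pullback.snd s g) (c.snd ≫ pullback.fst s g)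
        (by rw [Category.assoc]; exact c.condition.symm)
        (by rw [Category.assoc, Category.assoc, pullback.condition])).choose_spec
      apply pullback.hom_ext
      · rw [Category.assoc, hk1]; exact h.2.2
      · rw [Category.assoc, hk2]; exact h.2.1
    · intro c m hm1 hm2
      have h := (lift c.pt c.fst (c.snd ≫ pullback.snd s g) (c.snd ≫ pullback.fst s g)
        (by rw [Category.assoc]; exact c.condition.symm)
        (by rw [Category.assoc, Category.assoc, pullback.condition])).choose_spec
      apply uniq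
      · rw [hm1, h.1]
      · rw [h.2.1, ← hm2, Category.assoc, hk2]
      · rw [h.2.2, ← hm2, Category.assoc, hk1]
  have sqA : IsPullback (pullback.fst s g) (pullback.snd s g) s g := IsPullback.of_hasPullback _ _
  have sqAS := sqA.map (Over.forget S)
  have sqS := sq.map (Over.forget S)
  have h1 : Etale (pullback.fst s g).left :=
    MorphismProperty.of_isPullback (P := @Etale) sqAS.flip (inferInstance : Etale g.left)
  have h2 : Etale (pullback.fst s g ≫ t).left := by
    rw [Over.comp_left]
    infer_instance
  exact MorphismProperty.of_isPullback (P := @Etale) sqS.flip h2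

/-- Let `s, t : R ⟶ U` be an etale equivalence relation on a scheme `U` over `S` and let `g : U' ⟶ U` be
an etale morphism over `S`. Let `s', t' : R' ⟶ U'` be the restriction to `U'`: `R'`, with `(t', s')`
and `R' ⟶ R`, is the fibre product of `U' ×_S U'` and `R` over `U ×_S U`. Then `s', t'` is again an
etale equivalence relation. -/
theorem result (S : Scheme.{u}) {R U R' U' : Over S} (s t : R ⟶ U)
    (g : U' ⟶ U) (s' t' : R' ⟶ U') (r : R' ⟶ R)
    (hsq : IsPullback (prod.lift t' s') r (prod.map g g) (prod.lift t s))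
    (h : AlgSp.IsEtaleEqvRel s t) [Etale g.left] :
    AlgSp.IsEtaleEqvRel s' t' := by
  have w1 : r ≫ t = t' ≫ g := by
    have := congrArg (fun k => k ≫ prod.fst) hsq.w
    simp only [Category.assoc, prod.map_fst] at this
    rw [prod.lift_fst, ← Category.assoc, prod.lift_fst] at this
    exact this.symm
  have w2 : r ≫ s = s' ≫ g := by
    have := congrArg (fun k => k ≫ prod.snd) hsq.w
    simp only [Category.assoc, prod.map_snd] at this
    rw [prod.lift_snd, ← Category.assoc, prod.lift_snd] at this
    exact this.symm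
  have lift : ∀ (T : Over S) (a b : T ⟶ U') (r0 : T ⟶ R), r0 ≫ t = a ≫ g → r0 ≫ s = b ≫ g →
      ∃ r' : T ⟶ R', r' ≫ t' = a ∧ r' ≫ s' = b ∧ r' ≫ r = r0 := by
    intro T a b r0 h1 h2
    have hc : prod.lift a b ≫ prod.map g g = r0 ≫ prod.lift t s := by
      apply Limits.prod.hom_ext
      · simp only [Category.assoc, prod.map_fst]
        rw [← Category.assoc, prod.lift_fst, prod.lift_fst, h1]
      · simp only [Category.assoc, prod.map_snd]
        rw [← Category.assoc, prod.lift_snd, prod.lift_snd, h2]
    refine ⟨hsq.lift (prod.lift a b) r0 hc, ?_, ?_, hsq.lift_snd _ _ _⟩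
    · have := congrArg (fun k => k ≫ prod.fst) (hsq.lift_fst (prod.lift a b) r0 hc)
      simp only [Category.assoc] at this
      rw [prod.lift_fst, prod.lift_fst] at this
      exact this
    · have := congrArg (fun k => k ≫ prod.snd) (hsq.lift_fst (prod.lift a b) r0 hc)
      simp only [Category.assoc] at this
      rw [prod.lift_snd, prod.lift_snd] at this
      exact this
  have uniq : ∀ (T : Over S) (x y : T ⟶ R'), x ≫ t' = y ≫ t' → x ≫ s' = y ≫ s' →
      x ≫ r = y ≫ r → x = y := by
    intro T x y h1 h2 h3
    apply hsq.hom_ext _ h3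
    apply Limits.prod.hom_ext
    · simp only [Category.assoc]; rw [prod.lift_fst]; exact h1
    · simp only [Category.assoc]; rw [prod.lift_snd]; exact h2
  have key : ∀ (T : Over S) (a b : T ⟶ U'),
      (∃ r' : T ⟶ R', r' ≫ t' = a ∧ r' ≫ s' = b) ↔
        (∃ r0 : T ⟶ R, r0 ≫ t = a ≫ g ∧ r0 ≫ s = b ≫ g) := by
    intro T a b
    constructor
    · rintro ⟨r', rfl, rfl⟩
      exact ⟨r' ≫ r, by rw [Category.assoc, w1, Category.assoc],
        by rw [Category.assoc, w2, Category.assoc]⟩
    · rintro ⟨r0, h1, h2⟩
      obtain ⟨r', h3, h4, -⟩ := lift T a b r0 h1 h2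
      exact ⟨r', h3, h4⟩
  refine ⟨⟨?_, ?_⟩, ?_, ?_⟩
  · intro T x y h1 h2
    apply uniq T x y h1 h2
    apply h.injective
    · rw [Category.assoc, Category.assoc, w1, ← Category.assoc, ← Category.assoc, h1]
    · rw [Category.assoc, Category.assoc, w2, ← Category.assoc, ← Category.assoc, h2]
  · intro T
    have he := h.equivalence T
    constructor
    · intro a
      exact (key T a a).mpr (he.refl (a ≫ g))
    · intro a b hab
      exact (key T b a).mpr (he.symm ((key T a b).mp hab))
    · intro a b c hab hbc
      exact (key T a c).mpr (he.trans ((key T a b).mp hab) ((key T b c).mp hbc))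
  · -- etale s'
    exact etale_aux S t s g t' s' r w2 w1
      (fun T a b r0 h1 h2 => by
        obtain ⟨r', h3, h4, h5⟩ := lift T b a r0 h2 h1
        exact ⟨r', h4, h3, h5⟩)
      (fun T x y h1 h2 h3 => uniq T x y h2 h1 h3) h.etale_left
  · exact etale_aux S s t g s' t' r w1 w2 lift uniq h.etale_right

end Groth.Agent.S9871
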