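import Groth.Statements.S9878
import Groth.Agent.Lib.Helper5.YonCoprod
import Mathlib.CategoryTheory.Sites.PreservesLimits
import Mathlib.CategoryTheory.Sites.LeftExact

set_option autoImplicit false
universe u
open CategoryTheory CategoryTheory.Limits AlgebraicGeometry
open AlgSp

namespace Groth.Agent.S9878

/-- Let `F`, `G` be fppf sheaves of sets over `S` and let `F ⨿ G` be their coproduct in sheaves (any
colimit binary cofan). Then the coprojection `F ⟶ F ⨿ G` is representable by schemes, by morphisms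
that are both open immersions and closed immersions. -/
theorem result (S : Scheme.{u}) (F G : AlgSp.Sp S) (c : BinaryCofan F G)
    (hc : IsColimit c) :
    AlgSp.RepWith (@IsOpenImmersion ⊓ @IsClosedImmersion) c.inl := by
  let T : Over S := Over.mk (𝟙 S)
  let X : WalkingPair → Over S := fun _ => T
  have hT : IsTerminal ((AlgSp.yon S).obj T) :=
    IsTerminal.isTerminalObj (AlgSp.yon S) _ Over.mkIdTerminal
  have hc₀ := Groth.Agent.Lib.Helper5.isColimitYonSigmaOver X
  let il := Groth.Agent.Lib.Helper5.sigmaOverι X .left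
  let ir := Groth.Agent.Lib.Helper5.sigmaOverι X .right
  let c' : BinaryCofan ((AlgSp.yon S).obj T) ((AlgSp.yon S).obj T) :=
    BinaryCofan.mk ((AlgSp.yon S).map il) ((AlgSp.yon S).map ir)
  have hc' : IsColimit c' := by
    refine BinaryCofan.isColimitMk
      (fun s => hc₀.desc (Cofan.mk s.pt (fun j => WalkingPair.casesOn j s.inl s.inr))) ?_ ?_ ?_
    · intro s
      exact hc₀.fac (Cofan.mk s.pt (fun j => WalkingPair.casesOn j s.inl s.inr)) ⟨.left⟩
    · intro s
      exact hc₀.fac (Cofan.mk s.pt (fun j => WalkingPair.casesOn j s.inl s.inr)) ⟨.right⟩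
    · intro s m h1 h2
      refine hc₀.hom_ext ?_
      rintro ⟨j⟩
      rw [hc₀.fac]
      cases j
      · exact h1
      · exact h2
  let f : c.pt ⟶ c'.pt := hc.desc (BinaryCofan.mk (hT.from F ≫ c'.inl) (hT.from G ≫ c'.inr))
  have vk := (BinaryCofan.isVanKampen_iff c').mp (FinitaryExtensive.vanKampen c' hc') c
    (hT.from F) (hT.from G) f
    (hc.fac (BinaryCofan.mk (hT.from F ≫ c'.inl) (hT.from G ≫ c'.inr)) ⟨.left⟩).symm
    (hc.fac (BinaryCofan.mk (hT.from F ≫ c'.inl) (hT.from G ≫ c'.inr)) ⟨.right⟩).symm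
  have hpb := (vk.mp ⟨hc⟩).1
  have h1 : AlgSp.RepWith (@IsOpenImmersion ⊓ @IsClosedImmersion) ((AlgSp.yon S).map il) := by
    rw [AlgSp.repWith_yon_map_iff]
    exact ⟨inferInstanceAs (IsOpenImmersion (Sigma.ι (fun i => (X i).left) .left)),
      Groth.Agent.Lib.Helper5.isClosedImmersion_sigmaι _ _⟩
  exact MorphismProperty.of_isPullback hpb.flip h1

end Groth.Agent.S9878
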