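import Groth.Statements.S9886
-- import your own Groth.Agent.* helpers here

set_option autoImplicit false
universe u
open CategoryTheory CategoryTheory.Limits AlgebraicGeometry
open AlgSp

namespace Groth.Agent.S9886

/-- Let `F` be an fppf sheaf of sets over `S` and `P` a property of morphisms of schemes stable under
base change. Assume that for all schemes `U`, `V` over `S` and all `a : h_U ⟶ F`, `b : h_V ⟶ F` the
fibre product `h_U ×_F h_V` is represented by some scheme `W` over `S` with its projections induced
by morphisms `W ⟶ U`, `W ⟶ V`, and that for every such represented fibre product the morphism `W ⟶ U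
×_S V` has `P`. Then the diagonal `F ⟶ F × F` is representable by schemes and has `P`. (The
published statement is for a presheaf of sets `F` and a property `P` that is also fppf local on the
base; this row takes `F` an fppf sheaf and `P` only stable under base change.) -/
theorem result (S : Scheme.{u}) (F : AlgSp.Sp S) (P : MorphismProperty Scheme.{u})
    [P.IsStableUnderBaseChange]
    (h₁ : ∀ ⦃U V : Over S⦄ (a : (AlgSp.yon S).obj U ⟶ F) (b : (AlgSp.yon S).obj V ⟶ F),
      ∃ (W : Over S) (fst : W ⟶ U) (snd : W ⟶ V), IsPullback ((AlgSp.yon S).map fst) ((AlgSp.yon S).map snd) a b)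
    (h₂ : ∀ ⦃U V W : Over S⦄ (a : (AlgSp.yon S).obj U ⟶ F) (b : (AlgSp.yon S).obj V ⟶ F) (fst : W ⟶ U)
      (snd : W ⟶ V), IsPullback ((AlgSp.yon S).map fst) ((AlgSp.yon S).map snd) a b → P (prod.lift fst snd).left) :
    AlgSp.RepWith P (Limits.diag F) := by
  refine ⟨?_, ?_⟩
  · apply Functor.relativelyRepresentable.diag_of_map_from_obj
    intro U a V b
    obtain ⟨W, fst, snd, hW⟩ := h₁ a b
    exact ⟨W, snd, (AlgSp.yon S).map fst, hW⟩
  · intro U V g fstV snd sq
    set g1 : (AlgSp.yon S).obj U ⟶ F := g ≫ prod.fst with hg1
    set g2 : (AlgSp.yon S).obj U ⟶ F := g ≫ prod.snd with hg2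
    have e1 : fstV = (AlgSp.yon S).map snd ≫ g1 := by
      have := congrArg (· ≫ prod.fst) sq.w
      simp only [Category.assoc, Limits.diag] at this
      rw [Limits.prod.lift_fst] at this
      exact this
    have e2 : fstV = (AlgSp.yon S).map snd ≫ g2 := by
      have := congrArg (· ≫ prod.snd) sq.w
      simp only [Category.assoc, Limits.diag] at this
      rw [Limits.prod.lift_snd] at this
      exact this
    obtain ⟨W, fW, sW, hW⟩ := h₁ g1 g2
    have hP := h₂ g1 g2 fW sW hW
    obtain ⟨k, hk⟩ := (AlgSp.yon S).map_surjective
      (hW.lift ((AlgSp.yon S).map snd) ((AlgSp.yon S).map snd) (by rw [← e1, ← e2]))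
    have hk1 : k ≫ fW = snd := by
      apply (AlgSp.yon S).map_injective
      rw [Functor.map_comp, hk, hW.lift_fst]
    have hk2 : k ≫ sW = snd := by
      apply (AlgSp.yon S).map_injective
      rw [Functor.map_comp, hk, hW.lift_snd]
    have hw : k ≫ prod.lift fW sW = snd ≫ Limits.diag U := by
      apply Limits.prod.hom_ext <;> simp [hk1, hk2]
    have key : ∀ {T : Over S} (x : T ⟶ W) (y : T ⟶ U),
        x ≫ prod.lift fW sW = y ≫ Limits.diag U → x ≫ fW = y ∧ x ≫ sW = y := by
      intro T x y h
      constructor
      · have := congrArg (· ≫ prod.fst) h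
        simp only [Category.assoc, Limits.diag] at this
        rw [Limits.prod.lift_fst, Limits.prod.lift_fst, Category.comp_id] at this
        exact this
      · have := congrArg (· ≫ prod.snd) h
        simp only [Category.assoc, Limits.diag] at this
        rw [Limits.prod.lift_snd, Limits.prod.lift_snd, Category.comp_id] at this
        exact this
    have hcond : ∀ {T : Over S} (x : T ⟶ W) (y : T ⟶ U),
        x ≫ prod.lift fW sW = y ≫ Limits.diag U →
        ((AlgSp.yon S).map y ≫ g1) ≫ Limits.diag F = (AlgSp.yon S).map y ≫ g := by
      intro T x y h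
      obtain ⟨hx1, hx2⟩ := key x y h
      have hw' := hW.w
      have : (AlgSp.yon S).map y ≫ g1 = (AlgSp.yon S).map y ≫ g2 := by
        calc (AlgSp.yon S).map y ≫ g1 = (AlgSp.yon S).map x ≫ (AlgSp.yon S).map fW ≫ g1 := by
              rw [← Functor.map_comp_assoc, hx1]
          _ = (AlgSp.yon S).map x ≫ (AlgSp.yon S).map sW ≫ g2 := by rw [hw']
          _ = (AlgSp.yon S).map y ≫ g2 := by rw [← Functor.map_comp_assoc, hx2]
      apply Limits.prod.hom_ext
      · simp only [Category.assoc, Limits.diag]
        rw [Limits.prod.lift_fst, Category.comp_id]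
      · simp only [Category.assoc, Limits.diag]
        rw [Limits.prod.lift_snd, Category.comp_id]
        exact this
    have hpb : IsPullback k snd (prod.lift fW sW) (Limits.diag U) := by
      refine IsPullback.of_isLimit (PullbackCone.IsLimit.mk hw
        (fun s => (AlgSp.yon S).preimage (sq.lift ((AlgSp.yon S).map s.snd ≫ g1)
          ((AlgSp.yon S).map s.snd) (hcond s.fst s.snd s.condition))) ?_ ?_ ?_)
      · intro s
        obtain ⟨hx1, hx2⟩ := key s.fst s.snd s.condition
        apply (AlgSp.yon S).map_injective
        apply hW.hom_ext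
        · rw [Functor.map_comp, Functor.map_preimage, Category.assoc, ← Functor.map_comp, hk1,
            sq.lift_snd, ← Functor.map_comp, hx1]
        · rw [Functor.map_comp, Functor.map_preimage, Category.assoc, ← Functor.map_comp, hk2,
            sq.lift_snd, ← Functor.map_comp, hx2]
      · intro s
        apply (AlgSp.yon S).map_injective
        rw [Functor.map_comp, Functor.map_preimage, sq.lift_snd]
      · intro s m hm1 hm2
        apply (AlgSp.yon S).map_injective
        rw [Functor.map_preimage]
        apply sq.hom_ext
        · rw [sq.lift_fst, e1, ← Functor.map_comp_assoc, hm2]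
        · rw [sq.lift_snd, ← Functor.map_comp, hm2]
    exact (P.inverseImage (Over.forget S)).of_isPullback hpb hP

end Groth.Agent.S9886
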