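import Groth.Statements.S9888
import Mathlib.CategoryTheory.Limits.Shapes.KernelPair

set_option autoImplicit false
universe u
open CategoryTheory CategoryTheory.Limits AlgebraicGeometry
open AlgSp

namespace Groth.Agent.S9888

open Opposite in
theorem relative_of_comp_mono {C D : Type*} [Category C] [Category D] (F : C ⥤ D)
    (P : MorphismProperty C) {X₁ X₂ Y : D} (f₁ : X₁ ⟶ Y) (f₂ : X₂ ⟶ Y) (g : X₁ ⟶ X₂)
    (w : g ≫ f₂ = f₁) [Mono f₂] (h₁ : P.relative F f₁) : P.relative F g := by
  have hR : IsPullback (𝟙 X₁) g f₁ f₂ := by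
    have h1 : IsPullback (𝟙 X₁) g g (𝟙 X₂) := IsPullback.of_horiz_isIso ⟨by simp⟩
    have h2 : IsPullback (𝟙 X₂) (𝟙 X₂) f₂ f₂ := IsKernelPair.id_of_mono f₂
    have := h1.paste_vert h2
    simpa [w] using this
  refine ⟨?_, ?_⟩
  · intro a t
    obtain ⟨b, snd, fst, hpb⟩ := h₁.rep (t ≫ f₂)
    refine ⟨b, snd, fst, ?_⟩
    have hp : fst ≫ g = F.map snd ≫ t := by
      rw [← cancel_mono f₂, Category.assoc, w, hpb.w, Category.assoc]
    have hs : IsPullback (fst ≫ 𝟙 X₁) (F.map snd) f₁ (t ≫ f₂) := by
      rw [Category.comp_id]; exact hpb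
    exact IsPullback.of_right hs hp hR
  · intro a b t fst snd hpb
    have := hpb.paste_horiz hR
    rw [Category.comp_id] at this
    exact h₁.property (t ≫ f₂) fst snd this

open Opposite in
theorem mono_of_repWith_immersion {S : Scheme.{u}} {F₂ F : AlgSp.Sp S} (f₂ : F₂ ⟶ F)
    (h₂ : AlgSp.RepWith @IsImmersion f₂) : Mono f₂ := by
  have key : ∀ (U : Over S) (ta tb : (AlgSp.yon S).obj U ⟶ F₂), ta ≫ f₂ = tb ≫ f₂ → ta = tb := by
    intro U ta tb hab
    obtain ⟨V, snd, fst, hpb⟩ := h₂.rep (ta ≫ f₂)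
    have himm : IsImmersion snd.left := h₂.property (ta ≫ f₂) fst snd hpb
    have hmono : Mono snd := by
      have : Mono snd.left := inferInstance
      exact (Over.forget S).mono_of_mono_map this
    obtain ⟨σa, hσa1, hσa2⟩ := hpb.exists_lift ta (𝟙 _) (by simp)
    obtain ⟨σb, hσb1, hσb2⟩ := hpb.exists_lift tb (𝟙 _) (by simp [hab])
    obtain ⟨sa, rfl⟩ := (AlgSp.yon S).map_surjective σa
    obtain ⟨sb, rfl⟩ := (AlgSp.yon S).map_surjective σb
    have h1 : sa ≫ snd = 𝟙 U := by
      apply (AlgSp.yon S).map_injective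
      rw [CategoryTheory.Functor.map_comp, hσa2, CategoryTheory.Functor.map_id]
    have h2 : sb ≫ snd = 𝟙 U := by
      apply (AlgSp.yon S).map_injective
      rw [CategoryTheory.Functor.map_comp, hσb2, CategoryTheory.Functor.map_id]
    have h3 : sa = sb := by
      rw [← cancel_mono snd, h1, h2]
    rw [← hσa1, ← hσb1, h3]
  constructor
  intro Z a b hab
  apply Sheaf.hom_ext
  ext X x
  have h1 := key X.unop ((AlgSp.J S).uliftYonedaEquiv.symm (a.hom.app X x))
    ((AlgSp.J S).uliftYonedaEquiv.symm (b.hom.app X x)) (by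
      rw [GrothendieckTopology.uliftYonedaEquiv_symm_naturality_right,
        GrothendieckTopology.uliftYonedaEquiv_symm_naturality_right]
      congr 1
      have := congrArg (fun m => m.hom.app X x) hab
      exact this)
  exact (AlgSp.J S).uliftYonedaEquiv.symm.injective h1

/-- Let `F` be an algebraic space over `S`, `f₂ : F₂ ⟶ F` a map of fppf sheaves which is representable
by immersions, `f₁ : F₁ ⟶ F` a map which is representable with property `P`, and `g : F₁ ⟶ F₂` with
`g ≫ f₂ = f₁` (so `F₁ ⊆ F₂` as subsheaves of `F`). Then `g` is representable and has `P`. (The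
published statement is the three cases `P` = immersion, open immersion, closed immersion, i.e. a
locally closed, open or closed subspace contained in a locally closed subspace is such a subspace of
it; the same argument applies to any `P` stable under base change, and the row is stated for such
`P`.) -/
theorem result (S : Scheme.{u}) (F F₁ F₂ : AlgSp.Sp S) (hF : AlgSp.IsAlgSpace F)
    (f₁ : F₁ ⟶ F) (f₂ : F₂ ⟶ F) (P : MorphismProperty Scheme.{u}) [P.IsStableUnderBaseChange]
    (h₁ : AlgSp.RepWith P f₁) (h₂ : AlgSp.RepWith @IsImmersion f₂) (g : F₁ ⟶ F₂) (w : g ≫ f₂ = f₁) :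
    AlgSp.RepWith P g := by
  have := mono_of_repWith_immersion f₂ h₂
  exact relative_of_comp_mono (AlgSp.yon S) _ f₁ f₂ g w h₁

end Groth.Agent.S9888
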