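import Groth.Statements.S9889
import Mathlib

set_option autoImplicit false
set_option linter.style.haveILetI false
universe u
open CategoryTheory CategoryTheory.Limits AlgebraicGeometry
open AlgSp

namespace Groth.Agent.S9889

open TopologicalSpace Opposite

section Sch

lemma exists_sigmaι_eq {σ : Type u} (g : σ → Scheme.{u}) (x : ↥(∐ g)) :
    ∃ (i : σ) (a : g i), Sigma.ι g i a = x := by
  obtain ⟨⟨i, a⟩, rfl⟩ := (sigmaMk g).surjective x
  exact ⟨i, a, (sigmaMk_mk g i a).symm⟩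

variable {G : Type u} {X : Scheme.{u}} {R : Scheme.{u}} (j : G → (X ⟶ R))
  (hj : IsColimit (Cofan.mk R j))

include hj

lemma isOpenImmersion_inj (g : G) : IsOpenImmersion (j g) := by
  let e : (∐ fun _ : G => X) ≅ R := (colimit.isColimit _).coconePointUniqueUpToIso hj
  have he : Sigma.ι (fun _ : G => X) g ≫ e.hom = j g :=
    (colimit.isColimit _).comp_coconePointUniqueUpToIso_hom hj ⟨g⟩
  rw [← he]
  infer_instance

lemma inj_eq_iff (g h : G) (x y : X) (hxy : j g x = j h y) : g = h := by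
  let e : (∐ fun _ : G => X) ≅ R := (colimit.isColimit _).coconePointUniqueUpToIso hj
  have he : ∀ g, Sigma.ι (fun _ : G => X) g ≫ e.hom = j g := fun g =>
    (colimit.isColimit _).comp_coconePointUniqueUpToIso_hom hj ⟨g⟩
  rw [← he g, ← he h, Scheme.Hom.comp_apply, Scheme.Hom.comp_apply] at hxy
  have hinj : Function.Injective e.hom := e.hom.homeomorph.injective
  have := (sigmaι_eq_iff _ _ _ _ _).mp (hinj hxy)
  exact congrArg Sigma.fst this

lemma exists_inj_eq (z : R) : ∃ (g : G) (x : X), j g x = z := by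
  let e : (∐ fun _ : G => X) ≅ R := (colimit.isColimit _).coconePointUniqueUpToIso hj
  have he : ∀ g, Sigma.ι (fun _ : G => X) g ≫ e.hom = j g := fun g =>
    (colimit.isColimit _).comp_coconePointUniqueUpToIso_hom hj ⟨g⟩
  obtain ⟨g, x, hx⟩ := exists_sigmaι_eq (fun _ : G => X) (e.inv z)
  refine ⟨g, x, ?_⟩
  rw [← he g, Scheme.Hom.comp_apply, hx, ← Scheme.Hom.comp_apply, e.inv_hom_id]
  rfl


lemma iSup_opensRange_inj [∀ g, IsOpenImmersion (j g)] : ⨆ g, (j g).opensRange = ⊤ := by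
  rw [eq_top_iff]
  intro z _
  obtain ⟨g, x, hx⟩ := exists_inj_eq j hj z
  exact Opens.mem_iSup.mpr ⟨g, x, hx⟩

omit hj in
lemma hom_ext_local {T Y : Scheme.{u}} (f f' : T ⟶ Y)
    (h : ∀ x : T, ∃ V : T.Opens, x ∈ V ∧ V.ι ≫ f = V.ι ≫ f') : f = f' := by
  choose V hxV hV using h
  have hcov : ⨆ x, V x = ⊤ := by
    rw [eq_top_iff]
    intro x _
    exact Opens.mem_iSup.mpr ⟨x, hxV x⟩
  refine (T.openCoverOfIsOpenCover V hcov).hom_ext _ _ fun x => ?_
  exact hV x

omit hj in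
/-- Lemma A. -/
lemma factor_of_le {T : Scheme.{u}} (r : T ⟶ R) (σ : R ⟶ X) (hσ : ∀ g, j g ≫ σ = 𝟙 X)
    (g : G) [IsOpenImmersion (j g)] (W : T.Opens) (hW : W ≤ r ⁻¹ᵁ (j g).opensRange) :
    W.ι ≫ r = W.ι ≫ r ≫ σ ≫ j g := by
  have hrange : Set.range (W.ι ≫ r) ⊆ Set.range (j g) := by
    rintro _ ⟨w, rfl⟩
    rw [Scheme.Hom.comp_apply]
    exact hW w.2
  have hl := IsOpenImmersion.lift_fac (j g) (W.ι ≫ r) hrange
  conv_rhs => rw [← Category.assoc, ← hl, Category.assoc, reassoc_of% (hσ g)]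
  exact hl.symm

/-- Injectivity. -/
lemma inj_core (σ τ : R ⟶ X) (a : G → (X ⟶ X)) (hσ : ∀ g, j g ≫ σ = 𝟙 X)
    (hτ : ∀ g, j g ≫ τ = a g)
    (hfree : ∀ (g h : G) (x : X), X.fromSpecResidueField x ≫ a g = X.fromSpecResidueField x ≫ a h →
      g = h)
    {T : Scheme.{u}} (r r' : T ⟶ R) (h1 : r ≫ τ = r' ≫ τ) (h2 : r ≫ σ = r' ≫ σ) : r = r' := by
  haveI := fun g => isOpenImmersion_inj j hj g
  refine hom_ext_local r r' fun x => ?_
  obtain ⟨g, u, hu⟩ := exists_inj_eq j hj (r x)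
  obtain ⟨h, u', hu'⟩ := exists_inj_eq j hj (r' x)
  let W : T.Opens := r ⁻¹ᵁ (j g).opensRange ⊓ r' ⁻¹ᵁ (j h).opensRange
  have hxW : x ∈ W := ⟨⟨u, hu⟩, ⟨u', hu'⟩⟩
  have e1 := factor_of_le j r σ hσ g W inf_le_left
  have e2 := factor_of_le j r' σ hσ h W inf_le_right
  have e3 : W.ι ≫ r ≫ σ ≫ a g = W.ι ≫ r ≫ σ ≫ a h := by
    calc W.ι ≫ r ≫ σ ≫ a g = (W.ι ≫ r ≫ σ ≫ j g) ≫ τ := by
          simp only [Category.assoc, hτ]
      _ = (W.ι ≫ r' ≫ σ ≫ j h) ≫ τ := by
          rw [← e1, ← e2, Category.assoc, Category.assoc, h1]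
      _ = W.ι ≫ r ≫ σ ≫ a h := by
          simp only [Category.assoc, hτ]
          rw [reassoc_of% h2]
  let f : W.toScheme ⟶ X := W.ι ≫ r ≫ σ
  let x' : W.toScheme := ⟨x, hxW⟩
  have e4 : Spec.map (f.residueFieldMap x') ≫ X.fromSpecResidueField (f x') ≫ a g =
      Spec.map (f.residueFieldMap x') ≫ X.fromSpecResidueField (f x') ≫ a h := by
    rw [Scheme.Hom.SpecMap_residueFieldMap_fromSpecResidueField_assoc,
      Scheme.Hom.SpecMap_residueFieldMap_fromSpecResidueField_assoc]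
    simp only [f, Category.assoc]
    rw [e3]
  haveI : Epi (Spec.map (f.residueFieldMap x')) := by
    haveI : Flat (Spec.map (f.residueFieldMap x')) := by
      rw [HasRingHomProperty.Spec_iff (P := @Flat)]
      algebraize [(f.residueFieldMap x').hom]
      exact inferInstanceAs (Module.Flat _ _)
    haveI : Surjective (Spec.map (f.residueFieldMap x')) := ⟨fun y => ⟨default, Subsingleton.elim _ _⟩⟩
    exact Flat.epi_of_flat_of_surjective _
  have e5 := (cancel_epi _).mp e4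
  obtain rfl : g = h := hfree g h _ e5
  refine ⟨W, hxW, ?_⟩
  rw [e1, e2, reassoc_of% h2]

/-- Transitivity. -/
lemma trans_core (σ τ : R ⟶ X) (a : G → (X ⟶ X)) [Mul G] (hσ : ∀ g, j g ≫ σ = 𝟙 X)
    (hτ : ∀ g, j g ≫ τ = a g) (ha : ∀ g h, a (g * h) = a h ≫ a g)
    {T : Scheme.{u}} (r1 r2 : T ⟶ R) (h12 : r1 ≫ σ = r2 ≫ τ) :
    ∃ r3 : T ⟶ R, r3 ≫ τ = r1 ≫ τ ∧ r3 ≫ σ = r2 ≫ σ := by
  haveI := fun g => isOpenImmersion_inj j hj g
  let W : G × G → T.Opens := fun p => r1 ⁻¹ᵁ (j p.1).opensRange ⊓ r2 ⁻¹ᵁ (j p.2).opensRange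
  have hcov : ⨆ p, (W p).ι.opensRange = ⊤ := by
    rw [eq_top_iff]
    intro x _
    obtain ⟨g, u, hu⟩ := exists_inj_eq j hj (r1 x)
    obtain ⟨h, u', hu'⟩ := exists_inj_eq j hj (r2 x)
    simp only [Opens.iSup_mk, Opens.mem_mk, Set.mem_iUnion]
    refine ⟨(g, h), ?_⟩
    rw [Scheme.Opens.opensRange_ι]
    exact ⟨⟨u, hu⟩, ⟨u', hu'⟩⟩
  have hdisj : Pairwise (Function.onFun Disjoint (fun p => (W p).ι.opensRange)) := by
    intro p q hpq
    simp only [Function.onFun, Scheme.Opens.opensRange_ι]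
    rw [disjoint_iff, eq_bot_iff]
    rintro x ⟨⟨⟨u1, hu1⟩, ⟨u2, hu2⟩⟩, ⟨⟨v1, hv1⟩, ⟨v2, hv2⟩⟩⟩
    exfalso
    apply hpq
    have e1 : p.1 = q.1 := inj_eq_iff j hj _ _ u1 v1 (hu1.trans hv1.symm)
    have e2 : p.2 = q.2 := inj_eq_iff j hj _ _ u2 v2 (hu2.trans hv2.symm)
    exact Prod.ext e1 e2
  obtain ⟨hT⟩ := nonempty_isColimit_cofanMk_of (fun p => (W p).ι) hcov hdisj
  let r3 : T ⟶ R := Cofan.IsColimit.desc hT (fun p => (W p).ι ≫ r2 ≫ σ ≫ j (p.1 * p.2))
  have hr3 : ∀ p, (W p).ι ≫ r3 = (W p).ι ≫ r2 ≫ σ ≫ j (p.1 * p.2) := fun p =>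
    Cofan.IsColimit.fac hT _ p
  refine ⟨r3, ?_, ?_⟩
  · refine Cofan.IsColimit.hom_ext hT _ _ fun p => ?_
    change (W p).ι ≫ r3 ≫ τ = (W p).ι ≫ r1 ≫ τ
    have e1 := factor_of_le j r1 σ hσ p.1 (W p) inf_le_left
    have e2 := factor_of_le j r2 σ hσ p.2 (W p) inf_le_right
    calc (W p).ι ≫ r3 ≫ τ = (W p).ι ≫ r2 ≫ σ ≫ a p.2 ≫ a p.1 := by
          rw [reassoc_of% (hr3 p), hτ, ha]
      _ = ((W p).ι ≫ r2 ≫ σ ≫ j p.2) ≫ τ ≫ a p.1 := by
          simp only [Category.assoc, reassoc_of% (hτ p.2)]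
      _ = ((W p).ι ≫ r1 ≫ σ ≫ j p.1) ≫ τ := by
          rw [← e2, Category.assoc, ← reassoc_of% h12]
          simp only [Category.assoc, hτ]
      _ = (W p).ι ≫ r1 ≫ τ := by rw [← e1, Category.assoc]
  · refine Cofan.IsColimit.hom_ext hT _ _ fun p => ?_
    change (W p).ι ≫ r3 ≫ σ = (W p).ι ≫ r2 ≫ σ
    rw [reassoc_of% (hr3 p), hσ, Category.comp_id]

end Sch




/-- Let `U` be a scheme over `S` and `G` a group acting on `U` by automorphisms over `S`, freely: no
non-identity element of `G` fixes a point `x` of `U` while inducing the identity on its residue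
field (equivalently, composing `Spec κ(x) ⟶ U` with the automorphism changes it). Let `R = ∐_{g ∈ G}
U` (coproduct in schemes over `S`) with `s` the identity and `t` the action of `g` on the `g`-th
copy. Then `s, t : R ⟶ U` is an etale equivalence relation on `U` over `S` (so that `U/R` is an
algebraic space). -/
theorem result (S : Scheme.{u}) (U : Over S) (G : Type u) [Group G] (ρ : G →* Aut U)
    (hfree : ∀ (g : G) (x : U.left), g ≠ 1 →
      U.left.fromSpecResidueField x ≫ (ρ g).hom.left ≠ U.left.fromSpecResidueField x)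
    (c : Cofan (fun _ : G => U)) (hc : IsColimit c) (s t : c.pt ⟶ U)
    (hs : ∀ g, c.inj g ≫ s = 𝟙 U) (ht : ∀ g, c.inj g ≫ t = (ρ g).hom) :
    AlgSp.IsEtaleEqvRel s t := by
  -- scheme-level data
  let j : G → (U.left ⟶ c.pt.left) := fun g => (c.inj g).left
  have hc1 : IsColimit (Cofan.mk c.pt c.inj) :=
    IsColimit.ofIsoColimit hc (Cocone.ext (Iso.refl _) (by rintro ⟨g⟩; exact Category.comp_id _))
  have hj : IsColimit (Cofan.mk c.pt.left j) :=
    isColimitMapCoconeCofanMkEquiv (Over.forget S) _ _ (isColimitOfPreserves (Over.forget S) hc1)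
  let a : G → (U.left ⟶ U.left) := fun g => (ρ g).hom.left
  have hσ : ∀ g, j g ≫ s.left = 𝟙 U.left := fun g => by
    have := congrArg CommaMorphism.left (hs g)
    simpa using this
  have hτ : ∀ g, j g ≫ t.left = a g := fun g => by
    have := congrArg CommaMorphism.left (ht g)
    simpa using this
  have hρmul : ∀ g h : G, (ρ (g * h)).hom = (ρ h).hom ≫ (ρ g).hom := fun g h => by
    rw [map_mul]; rfl
  have ha : ∀ g h, a (g * h) = a h ≫ a g := fun g h => by
    simp only [a, hρmul, Over.comp_left]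
  have ha1 : a 1 = 𝟙 _ := by
    simp only [a, map_one]; rfl
  have hfree' : ∀ (g h : G) (x : U.left),
      U.left.fromSpecResidueField x ≫ a g = U.left.fromSpecResidueField x ≫ a h → g = h := by
    intro g h x hx
    by_contra hne
    have hne' : h⁻¹ * g ≠ 1 := fun e => hne (by rw [← mul_right_inj h⁻¹, e, inv_mul_cancel])
    apply hfree (h⁻¹ * g) x hne'
    change U.left.fromSpecResidueField x ≫ a (h⁻¹ * g) = _
    rw [ha, reassoc_of% hx, ← ha, inv_mul_cancel, ha1, Category.comp_id]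
  haveI := fun g => isOpenImmersion_inj j hj g
  haveI : IsZariskiLocalAtSource @Etale.{u} :=
    HasRingHomProperty.instIsZariskiLocalAtSource (Q := RingHom.Etale)
  refine { injective := ?_, equivalence := ?_, etale_left := ?_, etale_right := ?_ }
  · intro T r r' h1 h2
    apply Over.OverMorphism.ext
    refine inj_core j hj s.left t.left a hσ hτ hfree' r.left r'.left ?_ ?_
    · simpa using congrArg CommaMorphism.left h1
    · simpa using congrArg CommaMorphism.left h2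
  · intro T
    refine ⟨?_, ?_, ?_⟩
    · intro x
      refine ⟨x ≫ c.inj 1, ?_, ?_⟩
      · rw [Category.assoc, ht, map_one]; exact Category.comp_id _
      · rw [Category.assoc, hs, Category.comp_id]
    · rintro x y ⟨r, hr1, hr2⟩
      let sw : c.pt ⟶ c.pt := Cofan.IsColimit.desc hc (fun g => (ρ g).hom ≫ c.inj g⁻¹)
      have hsw : ∀ g, c.inj g ≫ sw = (ρ g).hom ≫ c.inj g⁻¹ := fun g =>
        Cofan.IsColimit.fac hc _ g
      have hsw1 : sw ≫ s = t := by
        refine Cofan.IsColimit.hom_ext hc _ _ fun g => ?_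
        rw [reassoc_of% (hsw g), hs, Category.comp_id, ht]
      have hsw2 : sw ≫ t = s := by
        refine Cofan.IsColimit.hom_ext hc _ _ fun g => ?_
        rw [reassoc_of% (hsw g), ht, hs, ← hρmul, inv_mul_cancel, map_one]; rfl
      refine ⟨r ≫ sw, ?_, ?_⟩
      · rw [Category.assoc, hsw2, hr2]
      · rw [Category.assoc, hsw1, hr1]
    · rintro x y z ⟨r1, hr1, hr1'⟩ ⟨r2, hr2, hr2'⟩
      obtain ⟨r3, h3, h3'⟩ := trans_core j hj s.left t.left a hσ hτ ha r1.left r2.left (by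
        have := congrArg CommaMorphism.left (hr1'.trans hr2.symm)
        simpa using this)
      have hw : r3 ≫ c.pt.hom = T.hom := by
        have e1 : c.pt.hom = s.left ≫ U.hom := (Over.w s).symm
        rw [e1, reassoc_of% h3', ← e1, Over.w r2]
      refine ⟨Over.homMk r3 hw, ?_, ?_⟩
      · apply Over.OverMorphism.ext
        rw [← hr1]
        simpa using h3
      · apply Over.OverMorphism.ext
        rw [← hr2']
        simpa using h3'
  · refine IsZariskiLocalAtSource.of_iSup_eq_top (P := @Etale) (fun g => (j g).opensRange)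
      (iSup_opensRange_inj j hj) fun g => ?_
    rw [← Scheme.Hom.isoOpensRange_inv_comp, Category.assoc, hσ]
    infer_instance
  · refine IsZariskiLocalAtSource.of_iSup_eq_top (P := @Etale) (fun g => (j g).opensRange)
      (iSup_opensRange_inj j hj) fun g => ?_
    rw [← Scheme.Hom.isoOpensRange_inv_comp, Category.assoc, hτ]
    haveI : IsIso (a g) := by
      change IsIso ((Over.forget S).map (ρ g).hom)
      haveI : IsIso (ρ g).hom := ⟨(ρ g).inv, (ρ g).hom_inv_id, (ρ g).inv_hom_id⟩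
      exact Functor.map_isIso _ _
    infer_instance

end Groth.Agent.S9889
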