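import Groth.Statements.S9890
import Groth.Agent.S9889
import Groth.Agent.S9868
import Groth.Agent.S9884
import Groth.Agent.S0079
import Groth.Agent.S0083
import Groth.Agent.Lib.Helper5.AtlasDiag
import Groth.Agent.Lib.Helper5.QuotShKernel
import Groth.Agent.Lib.Helper5.FppfLocal
import Groth.Agent.Lib.Helper30.AlgSpAtlas
import Groth.Agent.Lib.Helper79.DiagPullback

set_option autoImplicit false
universe u
open CategoryTheory CategoryTheory.Limits AlgebraicGeometry
open AlgSp

namespace Groth.Agent.S9890

open TopologicalSpace Opposite Groth.Agent.Lib.Helper5 Groth.Agent.Lib.Helper5.AtlasDiag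

section Sch

variable {G : Type u} [Finite G] {X R Y : Scheme.{u}} (j : G → (X ⟶ R))
  (hj : IsColimit (Cofan.mk R j))

include hj

lemma quasiCompact_of_components (f : R ⟶ Y) (h : ∀ g, QuasiCompact (j g ≫ f)) :
    QuasiCompact f := by
  refine ⟨fun V hV hVc => ?_⟩
  have : f ⁻¹' V = ⋃ g, (j g) '' ((j g ≫ f) ⁻¹' V) := by
    ext z
    simp only [Set.mem_preimage, Set.mem_iUnion, Set.mem_image]
    constructor
    · intro hz
      obtain ⟨g, x, rfl⟩ := Groth.Agent.S9889.exists_inj_eq j hj z
      exact ⟨g, x, by simpa using hz, rfl⟩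
    · rintro ⟨g, x, hx, rfl⟩
      simpa using hx
  rw [this]
  exact isCompact_iUnion fun g => ((h g).isCompact_preimage V hV hVc).image (j g).continuous

lemma isClosedImmersion_of_components (f : R ⟶ Y) [Mono f]
    (h : ∀ g, IsClosedImmersion (j g ≫ f)) : IsClosedImmersion f := by
  haveI := fun g => Groth.Agent.S9889.isOpenImmersion_inj j hj g
  have h1 : SurjectiveOnStalks f := by
    refine IsZariskiLocalAtSource.of_iSup_eq_top (P := @SurjectiveOnStalks)
      (fun g => (j g).opensRange) (Groth.Agent.S9889.iSup_opensRange_inj j hj) fun g => ?_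
    rw [← Scheme.Hom.isoOpensRange_inv_comp, Category.assoc]
    infer_instance
  have h2 : Topology.IsClosedEmbedding f := by
    refine Topology.IsClosedEmbedding.of_continuous_injective_isClosedMap f.continuous f.injective ?_
    intro Z hZ
    have : f '' Z = ⋃ g, (j g ≫ f) '' ((j g) ⁻¹' Z) := by
      ext y
      simp only [Set.mem_image, Set.mem_iUnion, Set.mem_preimage]
      constructor
      · rintro ⟨z, hz, rfl⟩
        obtain ⟨g, x, rfl⟩ := Groth.Agent.S9889.exists_inj_eq j hj z
        exact ⟨g, x, hz, by simp⟩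
      · rintro ⟨g, x, hx, rfl⟩
        exact ⟨j g x, hx, by simp⟩
    rw [this]
    exact isClosed_iUnion_of_finite fun g =>
      (j g ≫ f).isClosedEmbedding.isClosedMap _ (hZ.preimage (j g).continuous)
  exact ⟨h2⟩

end Sch

/-- Let a finite group `G` act freely (no non-identity element fixes a point together with its residue
field) by `S`-automorphisms on a scheme `U` over `S`, and let `s, t : R = ∐_{g ∈ G} U ⟶ U` be the
identity and the action. When `U ⟶ S` is quasi-separated, so is the quotient sheaf `U/G = U/R` over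
`S`; when `U ⟶ S` is separated, `U/G` is also separated over `S`. -/
theorem result (S : Scheme.{u}) (U : Over S) (G : Type u) [Group G] [Finite G]
    (ρ : G →* Aut U)
    (hfree : ∀ (g : G) (x : U.left), g ≠ 1 →
      U.left.fromSpecResidueField x ≫ (ρ g).hom.left ≠ U.left.fromSpecResidueField x)
    (c : Cofan (fun _ : G => U)) (hc : IsColimit c) (s t : c.pt ⟶ U)
    (hs : ∀ g, c.inj g ≫ s = 𝟙 U) (ht : ∀ g, c.inj g ≫ t = (ρ g).hom) :
    (QuasiSeparated U.hom → AlgSp.IsQuasiSeparatedSp (QuotSh.quot Scheme.fppfPrecoverage s t)) ∧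
      (IsSeparated U.hom → AlgSp.IsSeparatedSp (QuotSh.quot Scheme.fppfPrecoverage s t)) := by
  have h := Groth.Agent.S9889.result S U G ρ hfree c hc s t hs ht
  have hQ : IsAlgSpace (QuotSh.quot Scheme.fppfPrecoverage s t) := Groth.Agent.S9868.result S s t h
  have hk := isPullback_quotπ' s t h.toIsEqvRel
  -- scheme-level data
  let j : G → (U.left ⟶ c.pt.left) := fun g => (c.inj g).left
  have hc1 : IsColimit (Cofan.mk c.pt c.inj) :=
    IsColimit.ofIsoColimit hc (Cocone.ext (Iso.refl _) (by rintro ⟨g⟩; exact Category.comp_id _))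
  have hj : IsColimit (Cofan.mk c.pt.left j) :=
    isColimitMapCoconeCofanMkEquiv (Over.forget S) _ _ (isColimitOfPreserves (Over.forget S) hc1)
  haveI : Mono (jj s t) := mono_jj (quotπ' s t) s t hk
  haveI hm : Mono (jj s t).left := inferInstance
  -- the components of `jj` are graphs
  have hcomp : ∀ g, j g ≫ (jj s t).left ≫ (prod.snd : U ⨯ U ⟶ U).left = 𝟙 _ := by
    intro g
    rw [← Over.comp_left, ← Over.comp_left, prod.lift_snd, hs]
    rfl
  -- the locally surjective map `q × q`
  haveI e1 : Epi (prod.map (quotπ' s t) (𝟙 ((yon S).obj U))) :=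
    Groth.Agent.Lib.Helper30.AlgSpAtlas.epi_prod_map_id _ _
  haveI e2 : Epi (prod.map (𝟙 (QuotSh.quot Scheme.fppfPrecoverage s t)) (quotπ' s t)) := by
    have : prod.map (𝟙 (QuotSh.quot Scheme.fppfPrecoverage s t)) (quotπ' s t) =
        (prod.braiding _ _).hom ≫ prod.map (quotπ' s t) (𝟙 _) ≫ (prod.braiding _ _).hom := by
      apply Limits.prod.hom_ext
      · simp only [prod.braiding_hom, Category.assoc, prod.lift_fst, prod.lift_snd, prod.map_fst,
          prod.map_snd, prod.lift_fst_assoc, prod.lift_snd_assoc, Category.comp_id,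
          prod.map_fst_assoc, prod.map_snd_assoc]
      · simp only [prod.braiding_hom, Category.assoc, prod.lift_fst, prod.lift_snd, prod.map_fst,
          prod.map_snd, prod.lift_fst_assoc, prod.lift_snd_assoc, Category.comp_id,
          prod.map_fst_assoc, prod.map_snd_assoc]
    rw [this]
    haveI := Groth.Agent.Lib.Helper30.AlgSpAtlas.epi_prod_map_id (quotπ' s t)
      (QuotSh.quot Scheme.fppfPrecoverage s t)
    infer_instance
  haveI e3 : Epi (prod.map (quotπ' s t) (quotπ' s t)) := by
    have : prod.map (quotπ' s t) (quotπ' s t) =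
        prod.map (quotπ' s t) (𝟙 _) ≫ prod.map (𝟙 _) (quotπ' s t) := by
      rw [prod.map_map, Category.id_comp, Category.comp_id]
    rw [this]
    infer_instance
  haveI : Sheaf.IsLocallySurjective (prod.map (quotπ' s t) (quotπ' s t)) :=
    (Sheaf.isLocallySurjective_iff_epi _).mpr inferInstance
  -- the key reduction
  have key : ∀ (P : MorphismProperty Scheme.{u}) [P.IsStableUnderBaseChange]
      [P.IsLocalAtTarget Scheme.fppfPrecoverage], P (jj s t).left →
      RepWith P (Limits.diag (QuotSh.quot Scheme.fppfPrecoverage s t)) := by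
    intro P _ _ hP
    have hPiso : P.RespectsIso := MorphismProperty.IsStableUnderBaseChange.respectsIso
    have sq0 := Groth.Agent.Lib.Helper79.isPullback_pullbackToProd (quotπ' s t)
    have sq : IsPullback ((yon S).map t ≫ quotπ' s t)
        (prod.lift ((yon S).map t) ((yon S).map s))
        (Limits.diag (QuotSh.quot Scheme.fppfPrecoverage s t))
        (prod.map (quotπ' s t) (quotπ' s t)) := by
      refine IsPullback.of_iso sq0 hk.isoPullback.symm (Iso.refl _) (Iso.refl _) (Iso.refl _)
        ?_ ?_ ?_ ?_
      · simp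
      · apply Limits.prod.hom_ext <;> simp
      · simp
      · simp
    refine Groth.Agent.S9884.result S _ _ _ _ hQ.diag _ _ _ _ sq P ?_
    have : prod.lift ((yon S).map t) ((yon S).map s) =
        (yon S).map (jj s t) ≫ prodComparison (yon S) U U := by
      apply Limits.prod.hom_ext
      · rw [prod.lift_fst, Category.assoc, prodComparison_fst, ← Functor.map_comp, prod.lift_fst]
      · rw [prod.lift_snd, Category.assoc, prodComparison_snd, ← Functor.map_comp, prod.lift_snd]
    rw [this]
    exact MorphismProperty.RespectsIso.postcomp _ _ _ ((repWith_yon_map_iff P _).2 hP)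
  constructor
  · intro hqs
    haveI := Groth.Agent.S0079.result.{u}
    haveI : MorphismProperty.IsLocalAtTarget (@QuasiCompact : MorphismProperty Scheme.{u})
        Scheme.fppfPrecoverage.{u} := isLocalAtTarget_fppf _
    refine key @QuasiCompact ?_
    refine quasiCompact_of_components j hj _ fun g => ?_
    haveI : QuasiSeparated (prod.snd : U ⨯ U ⟶ U).left := by
      rw [← Over.prodLeftIsoPullback_hom_snd]
      infer_instance
    haveI : QuasiCompact ((j g ≫ (jj s t).left) ≫ (prod.snd : U ⨯ U ⟶ U).left) := by
      rw [Category.assoc, hcomp g]; infer_instance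
    exact QuasiCompact.of_comp _ (prod.snd : U ⨯ U ⟶ U).left
  · intro hsep
    haveI := Groth.Agent.S0083.result.{u}
    haveI : MorphismProperty.IsLocalAtTarget (@IsClosedImmersion : MorphismProperty Scheme.{u})
        Scheme.fppfPrecoverage.{u} := isLocalAtTarget_fppf _
    refine key @IsClosedImmersion ?_
    refine isClosedImmersion_of_components j hj _ fun g => ?_
    haveI : IsSeparated (prod.snd : U ⨯ U ⟶ U).left := by
      rw [← Over.prodLeftIsoPullback_hom_snd]
      infer_instance
    haveI : IsClosedImmersion ((j g ≫ (jj s t).left) ≫ (prod.snd : U ⨯ U ⟶ U).left) := by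
      rw [Category.assoc, hcomp g]; infer_instance
    exact IsClosedImmersion.of_comp _ (prod.snd : U ⨯ U ⟶ U).left

end Groth.Agent.S9890
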