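import Groth.Statements.S9891
import Mathlib.Tactic
-- import your own Groth.Agent.* helpers here

set_option autoImplicit false
universe u w v₁ u₁
open CategoryTheory CategoryTheory.Limits AlgebraicGeometry
open AlgSp

namespace Groth.Agent.S9891

section general
variable {C : Type u₁} [Category.{v₁} C]

lemma app_comp_apply {P Q R : Cᵒᵖ ⥤ Type w} (α : P ⟶ Q) (β : Q ⟶ R) (U : Cᵒᵖ) (z : P.obj U) :
    (α ≫ β).app U z = β.app U (α.app U z) := by
  simp

/-- elements of a pullback presheaf are determined by their components -/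
lemma pb_ext {F G : Cᵒᵖ ⥤ Type w} (a : F ⟶ G) (U : Cᵒᵖ) (z z' : (pullback a a).obj U)
    (h1 : (pullback.fst a a).app U z = (pullback.fst a a).app U z')
    (h2 : (pullback.snd a a).app U z = (pullback.snd a a).app U z') : z = z' :=
  Types.ext_of_isPullback ((IsPullback.of_hasPullback a a).app U) h1 h2

lemma diag_isPullback {F G X W : Cᵒᵖ ⥤ Type w} (a : F ⟶ G) (g : X ⟶ pullback a a) (p : W ⟶ X)
    (h1 : p ≫ g ≫ pullback.fst a a = p ≫ g ≫ pullback.snd a a)
    (h2 : ∀ U, Function.Injective (p.app U))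
    (h3 : ∀ U (t : X.obj U), (g ≫ pullback.fst a a).app U t = (g ≫ pullback.snd a a).app U t →
      ∃ s, p.app U s = t) :
    IsPullback (p ≫ g ≫ pullback.fst a a) p (pullback.diagonal a) g := by
  have hw : (p ≫ g ≫ pullback.fst a a) ≫ pullback.diagonal a = p ≫ g := by
    apply pullback.hom_ext
    · simp
    · simp only [Category.assoc, pullback.diagonal_snd, Category.comp_id]
      exact h1
  apply IsPullback.of_forall_isPullback_app
  intro U
  rw [Types.isPullback_iff]
  refine ⟨?_, ?_, ?_⟩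
  · rw [← NatTrans.comp_app, hw, NatTrans.comp_app]
  · rintro s s' ⟨-, h⟩
    exact h2 U h
  · intro φ t h
    have e1 : (g ≫ pullback.fst a a).app U t = φ := by
      rw [app_comp_apply, ← h, ← app_comp_apply, pullback.diagonal_fst]
      rfl
    have e2 : (g ≫ pullback.snd a a).app U t = φ := by
      rw [app_comp_apply, ← h, ← app_comp_apply, pullback.diagonal_snd]
      rfl
    obtain ⟨s, hs⟩ := h3 U t (e1.trans e2.symm)
    refine ⟨s, ?_, hs⟩
    rw [app_comp_apply, hs]
    exact e1

end general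


/-- Let `a : F ⟶ G` be a map of presheaves of sets on schemes over `S` which is representable by
schemes. Then the relative diagonal `F ⟶ F ×_G F` is representable by schemes. -/
theorem result (S : Scheme.{u}) (F G : AlgSp.PSp S) (a : F ⟶ G)
    (ha : (AlgSp.pyon S).relativelyRepresentable a) :
    (AlgSp.pyon S).relativelyRepresentable (pullback.diagonal a) := by
  intro T g
  obtain ⟨x, hx⟩ : ∃ x, x = g ≫ pullback.fst a a := ⟨_, rfl⟩
  obtain ⟨y, hy⟩ : ∃ y, y = g ≫ pullback.snd a a := ⟨_, rfl⟩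
  obtain ⟨b, hb⟩ : ∃ b, b = x ≫ a := ⟨_, rfl⟩
  have hb' : b = y ≫ a := by
    rw [hb, hx, hy]; simp [pullback.condition]
  obtain ⟨sx, hsx1, hsx2⟩ : ∃ sx : T ⟶ ha.pullback b,
      (AlgSp.pyon S).map sx ≫ ha.fst b = x ∧ sx ≫ ha.snd b = 𝟙 T :=
    ⟨ha.lift x (𝟙 T) (by simp [hb]), ha.lift_fst _ _ _, ha.lift_snd _ _ _⟩
  obtain ⟨sy, hsy1, hsy2⟩ : ∃ sy : T ⟶ ha.pullback b,
      (AlgSp.pyon S).map sy ≫ ha.fst b = y ∧ sy ≫ ha.snd b = 𝟙 T :=
    ⟨ha.lift y (𝟙 T) (by simp [hb']), ha.lift_fst _ _ _, ha.lift_snd _ _ _⟩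
  have hfs : pullback.fst sx sy = pullback.snd sx sy := by
    calc pullback.fst sx sy = pullback.fst sx sy ≫ sx ≫ ha.snd b := by rw [hsx2, Category.comp_id]
      _ = pullback.snd sx sy ≫ sy ≫ ha.snd b := by
          rw [← Category.assoc, pullback.condition, Category.assoc]
      _ = pullback.snd sx sy := by rw [hsy2, Category.comp_id]
  refine ⟨pullback sx sy, pullback.fst sx sy,
    (AlgSp.pyon S).map (pullback.fst sx sy) ≫ g ≫ pullback.fst a a, ?_⟩
  apply diag_isPullback
  · rw [← hx, ← hy, ← hsx1, ← hsy1, ← Functor.map_comp_assoc, ← Functor.map_comp_assoc,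
      pullback.condition, hfs]
  · intro U s s' h
    obtain ⟨s⟩ := s
    obtain ⟨s'⟩ := s'
    have h' : s ≫ pullback.fst sx sy = s' ≫ pullback.fst sx sy := by
      simpa using congrArg ULift.down h
    congr 1
    apply pullback.hom_ext h'
    rw [← hfs]; exact h'
  · intro U t ht
    obtain ⟨t⟩ := t
    rw [← hx, ← hy] at ht
    have key : t ≫ sx = t ≫ sy := by
      apply ha.hom_ext
      · rw [Functor.map_comp, Functor.map_comp, Category.assoc, Category.assoc, hsx1, hsy1]
        apply uliftYonedaEquiv.injective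
        rw [uliftYonedaEquiv_comp, uliftYonedaEquiv_comp, uliftYonedaEquiv_uliftYoneda_map]
        exact ht
      · rw [Category.assoc, Category.assoc, hsx2, hsy2]
    refine ⟨⟨pullback.lift t t key⟩, ?_⟩
    have e : pullback.lift t t key ≫ pullback.fst sx sy = t := pullback.lift_fst _ _ _
    simp [e]

end Groth.Agent.S9891
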