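import Groth.Statements.S9894
import Groth.Agent.Lib.Helper5.FppfRep
import Groth.Agent.Lib.Helper28.RepBySp

set_option autoImplicit false
universe u
open CategoryTheory CategoryTheory.Limits AlgebraicGeometry
open AlgSp

namespace Groth.Agent.S9894

/-- Let `P` be a property of morphisms of schemes which is stable under base change, fppf local on the
base, and such that morphisms of type `P` satisfy descent: for every surjective, flat, locally
finitely presented `p : X' ⟶ S'` every descent datum relative to `p` whose scheme has structure
morphism in `P` is effective (descent is asked along single fppf covers, the case the argument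
uses). Let `F` be an algebraic space over `S`, `G` an fppf sheaf of sets with a map `f : G ⟶ F`, and
`q : h_U ⟶ F` representable etale and surjective such that the base change of `f` along `q` is
represented by a scheme `V` over `S` with `g : V ⟶ U` having `P`. Then `G` is an algebraic space
over `S` and `f` is representable by schemes with property `P`. -/
theorem result (S : Scheme.{u}) (P : MorphismProperty Scheme.{u})
    [P.IsStableUnderBaseChange] [P.IsLocalAtTarget Scheme.fppfPrecoverage]
    (hdesc : ∀ ⦃X' S' : Scheme.{u}⦄ (p : X' ⟶ S'), Surjective p → Flat p → LocallyOfFinitePresentation p →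
      ∀ D : Desc.SchDD p, P D.obj.hom → (Desc.toDD p).essImage D)
    (F : AlgSp.Space S) (G : AlgSp.Sp S) (f : G ⟶ F.obj) {U V : Over S} (q : (AlgSp.yon S).obj U ⟶ F.obj)
    (hqe : AlgSp.RepWith @Etale q) (hqs : AlgSp.RepWith @Surjective q) (fst : (AlgSp.yon S).obj V ⟶ G)
    (g : V ⟶ U) (sq : IsPullback fst ((AlgSp.yon S).map g) f q) (hP : P g.left) :
    AlgSp.IsAlgSpace G ∧ AlgSp.RepWith P f := by
  have hPiso : P.RespectsIso := MorphismProperty.IsStableUnderBaseChange.respectsIso
  have hrep : AlgSp.RepWith P f := by
    apply MorphismProperty.relative.of_exists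
    intro T τ
    -- the étale cover T' of T
    let T' : Over S := hqe.rep.pullback τ
    let p : T' ⟶ T := hqe.rep.snd τ
    let u' : T' ⟶ U := hqe.rep.fst' τ
    have sqT : IsPullback ((yon S).map u') ((yon S).map p) q τ := hqe.rep.isPullback' τ
    haveI hpe : Etale p.left := hqe.property τ _ p sqT
    haveI hps : Surjective p.left := hqs.property τ _ p sqT
    -- the sheaf over T
    let ξ : pullback f τ ⟶ (yon S).obj T := pullback.snd f τ
    -- the scheme Z = V ×_U T'
    let Z : Over S := pullback g u'
    let z : Z ⟶ T' := pullback.snd g u'
    have hPz : P z.left :=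
      MorphismProperty.pullback_snd (P := P.inverseImage (Over.forget S)) g u' hP
    have sqL : IsPullback ((yon S).map (pullback.fst g u')) ((yon S).map z) ((yon S).map g)
        ((yon S).map u') := (IsPullback.of_hasPullback g u').map (yon S)
    have sqBig : IsPullback ((yon S).map (pullback.fst g u') ≫ fst) ((yon S).map z) f
        ((yon S).map p ≫ τ) := by
      have := sqL.paste_horiz sq
      rwa [sqT.w] at this
    let ζ : (yon S).obj Z ⟶ pullback f τ :=
      pullback.lift ((yon S).map (pullback.fst g u') ≫ fst) ((yon S).map z ≫ (yon S).map p)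
        (by rw [sqBig.w, Category.assoc])
    have sqZ : IsPullback ζ ((yon S).map z) ξ ((yon S).map p) := by
      refine IsPullback.of_right ?_ (pullback.lift_snd _ _ _) (IsPullback.of_hasPullback f τ)
      rw [pullback.lift_fst]
      exact sqBig
    have heff := hdesc p.left hps inferInstance inferInstance (Groth.Agent.Lib.Helper5.FppfRep.descData ξ p ζ z sqZ) hPz
    obtain ⟨W, w, e, k, he, hpb, -⟩ := Groth.Agent.Lib.Helper5.FppfRep.exists_rep_of_effective ξ p ζ z sqZ heff
    refine ⟨W, e.hom ≫ pullback.fst f τ, w, ?_, ?_⟩
    · exact IsPullback.of_iso_pullback ⟨by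
        rw [Category.assoc, pullback.condition, ← Category.assoc, he]⟩ e rfl he
    · change P w.left
      apply MorphismProperty.IsLocalAtTarget.of_forall_pullbackSnd (K := Scheme.fppfPrecoverage)
        (p.left.singleton_mem_fppfPrecoverage)
      rintro U' g' _ ⟨⟩
      rw [← P.cancel_left_of_respectsIso hpb.isoPullback.hom, hpb.isoPullback_hom_snd]
      exact hPz
  exact ⟨Groth.Agent.Lib.Helper28.RepBySp.isAlgSpace_of_repBySp f
    (AlgSp.Representable.repBySp hrep.rep) F.property, hrep⟩

end Groth.Agent.S9894
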