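import Groth.Statements.S9898
import Groth.Agent.Lib.Helper5.AlgSpShriek3

set_option autoImplicit false
universe u
open CategoryTheory CategoryTheory.Limits AlgebraicGeometry
open AlgSp

namespace Groth.Agent.S9898

/-- Let `g : S ⟶ S'` be a morphism of schemes and `j_!` the left adjoint of the restriction functor from
fppf sheaves of sets on schemes over `S'` to those on schemes over `S`. Then there is an equivalence
between the category of algebraic spaces over `S` and the category of pairs (an algebraic space `F'`
over `S'`, a morphism `F' ⟶ h_S` of algebraic spaces over `S'`), i.e. the over category of `h_S` in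
algebraic spaces over `S'`, sending `F` to `j_! F`: the equivalence composed with the forgetful
functor to sheaves over `S'` is isomorphic to `j_!` on underlying sheaves. (Only this compatibility
is pinned; the structure maps `j_! F ⟶ h_S` are not.) -/
theorem result {S S' : Scheme.{u}} (g : S ⟶ S') :
    ∃ E : AlgSp.Space S ≌ Over ((AlgSp.ofScheme S').obj (Over.mk g)),
      Nonempty (E.functor ⋙ Over.forget _ ⋙ ObjectProperty.ι (AlgSp.IsAlgSpace (S := S')) ≅
        ObjectProperty.ι (AlgSp.IsAlgSpace (S := S)) ⋙ ((Over.map g).sheafPullback (Type (u + 1)) (AlgSp.J S) (AlgSp.J S'))) := by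
  let Φ : AlgSp.Space S ⥤ Over ((AlgSp.ofScheme S').obj (Over.mk g)) :=
    { obj := fun F => Over.mk
        (Y := (⟨(Groth.Agent.Lib.Helper5.AlgSpBC.jSh g).obj F.obj,
          Groth.Agent.Lib.Helper5.AlgSpBC.isAlgSpace_jSh g F.obj F.property⟩ : AlgSp.Space S'))
        (ObjectProperty.homMk (Groth.Agent.Lib.Helper5.AlgSpBC.tauF g F.obj))
      map := fun {F G} f => Over.homMk
        (ObjectProperty.homMk ((Groth.Agent.Lib.Helper5.AlgSpBC.jSh g).map f.hom)) (by
          apply ObjectProperty.hom_ext
          exact Groth.Agent.Lib.Helper5.AlgSpBC.map_tauF g f.hom)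
      map_id := by
        intro F
        apply Over.OverMorphism.ext
        apply ObjectProperty.hom_ext
        exact (Groth.Agent.Lib.Helper5.AlgSpBC.jSh g).map_id F.obj
      map_comp := by
        intro F G H f f'
        apply Over.OverMorphism.ext
        apply ObjectProperty.hom_ext
        exact (Groth.Agent.Lib.Helper5.AlgSpBC.jSh g).map_comp f.hom f'.hom }
  haveI : Φ.Faithful := by
    refine ⟨fun {F G} f f' h => ?_⟩
    apply ObjectProperty.hom_ext
    apply Groth.Agent.Lib.Helper5.AlgSpBC.jSh_map_injective g G.property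
    have h1 := congrArg (fun φ : Φ.obj F ⟶ Φ.obj G => φ.left.hom) h
    exact h1
  haveI : Φ.Full := by
    refine ⟨fun {F G} φ => ?_⟩
    have hw : φ.left.hom ≫ Groth.Agent.Lib.Helper5.AlgSpBC.tauF g G.obj =
        Groth.Agent.Lib.Helper5.AlgSpBC.tauF g F.obj := by
      have := congrArg (fun ψ => InducedCategory.Hom.hom ψ) (Over.w φ)
      exact this
    obtain ⟨f, hf⟩ := Groth.Agent.Lib.Helper5.AlgSpBC.exists_map_of_over g F.property G.property
      φ.left.hom hw
    refine ⟨ObjectProperty.homMk f, ?_⟩
    apply Over.OverMorphism.ext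
    apply ObjectProperty.hom_ext
    exact hf
  haveI : Φ.EssSurj := by
    refine ⟨fun X => ?_⟩
    obtain ⟨F, hF, ε, hε⟩ := Groth.Agent.Lib.Helper5.AlgSpBC.exists_of_over g X.left.obj
      X.left.property X.hom.hom
    refine ⟨⟨F, hF⟩, ⟨Over.isoMk (ObjectProperty.isoMk _ ε) ?_⟩⟩
    apply ObjectProperty.hom_ext
    exact hε
  haveI : Φ.IsEquivalence := {}
  refine ⟨Φ.asEquivalence, ⟨NatIso.ofComponents (fun F => Iso.refl _) ?_⟩⟩
  intro F G f
  rw [Iso.refl_hom, Iso.refl_hom]
  exact (Category.comp_id _).trans (Category.id_comp _).symm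

end Groth.Agent.S9898
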