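import Groth.Statements.S9899
import Groth.Agent.Lib.Helper5.AlgSpShriek2

set_option autoImplicit false
universe u
open CategoryTheory CategoryTheory.Limits AlgebraicGeometry
open AlgSp

namespace Groth.Agent.S9899

/-- Let `g : S ⟶ S'` be a morphism of schemes and `j_!` the left adjoint of the restriction functor from
fppf sheaves of sets on schemes over `S'` to those on schemes over `S`. Let `F` be an algebraic
space over `S`, `T` a scheme over `S` and `f : h_T ⟶ F`, and let `P` be a property of morphisms of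
schemes stable under base change and fppf local on the base. Then `j_!(f)`, which is the morphism
`h_{T} ⟶ j_! F` over `S'` obtained from `f` up to the identification `j_! h_T ≅ h_T` (`T` viewed
over `S'`), has `P` in the representable sense if and only if `f` does. -/
theorem result {S S' : Scheme.{u}} (g : S ⟶ S') (F : AlgSp.Space S) (T : Over S)
    (f : (AlgSp.yon S).obj T ⟶ F.obj) (P : MorphismProperty Scheme.{u}) [P.IsStableUnderBaseChange]
    [P.IsLocalAtTarget Scheme.fppfPrecoverage] :
    AlgSp.RepWith (S := S') P (((Over.map g).sheafPullback (Type (u + 1)) (AlgSp.J S) (AlgSp.J S')).map f) ↔ AlgSp.RepWith P f := by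
  have hF := F.property
  have hF' : AlgSp.IsAlgSpace ((Groth.Agent.Lib.Helper5.AlgSpBC.jSh g).obj F.obj) :=
    Groth.Agent.Lib.Helper5.AlgSpBC.isAlgSpace_jSh g F.obj hF
  obtain ⟨U, p, he, hs⟩ := hF.atlas
  obtain ⟨W, pr₂, fst, sqW⟩ := hF.representable_from_yon f p
  obtain ⟨pr₁, rfl⟩ := (AlgSp.yon S).map_surjective fst
  have sqW' := Groth.Agent.Lib.Helper5.AlgSpBC.isPullback_flat g hF pr₁ pr₂ f p sqW
  haveI : Epi p := Groth.Agent.Lib.Helper5.AlgSpBC.epi_of_atlas p he hs
  haveI : Epi (Groth.Agent.Lib.Helper5.AlgSpBC.flat g p) := by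
    haveI : (Groth.Agent.Lib.Helper5.AlgSpBC.jSh g).PreservesEpimorphisms :=
      (Groth.Agent.Lib.Helper5.AlgSpBC.jSh g).preservesEpimorphisms_of_adjunction
        (Groth.Agent.Lib.Helper5.AlgSpBC.jShAdj g)
    unfold Groth.Agent.Lib.Helper5.AlgSpBC.flat
    infer_instance
  have hiso : AlgSp.RepWith (S := S') P ((Groth.Agent.Lib.Helper5.AlgSpBC.jSh g).map f) ↔
      AlgSp.RepWith (S := S') P (Groth.Agent.Lib.Helper5.AlgSpBC.flat g f) := by
    rw [Groth.Agent.Lib.Helper5.AlgSpBC.shriek_map_eq]
    exact (AlgSp.RepWith (S := S') P).cancel_left_of_respectsIso _ _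
  refine hiso.trans ⟨fun h => ?_, fun h => ?_⟩
  · have hP : P pr₂.left :=
      h.property (Groth.Agent.Lib.Helper5.AlgSpBC.flat g p) ((AlgSp.yon S').map ((Over.map g).map pr₁))
        ((Over.map g).map pr₂) sqW'
    apply Groth.Agent.Lib.Helper5.AtlasQuot.repWith_of_fppf_local P f (hF.representable_from_yon f)
    intro T₀ c
    obtain ⟨T₁, π, h1, h2, h3, a', ha'⟩ :=
      Groth.Agent.Lib.Helper5.AtlasQuot.exists_single_fppf_lift p T₀ c
    refine ⟨T₁, π, h1, h2, h3, pullback pr₂ a', pullback.snd pr₂ a',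
      (AlgSp.yon S).map (pullback.fst pr₂ a') ≫ (AlgSp.yon S).map pr₁, ?_, ?_⟩
    · have sqL : IsPullback ((AlgSp.yon S).map (pullback.fst pr₂ a'))
          ((AlgSp.yon S).map (pullback.snd pr₂ a')) ((AlgSp.yon S).map pr₂) ((AlgSp.yon S).map a') :=
        (IsPullback.of_hasPullback pr₂ a').map (AlgSp.yon S)
      have := sqL.paste_horiz sqW
      rwa [ha'] at this
    · exact MorphismProperty.pullback_snd (P := P.inverseImage (Over.forget S)) pr₂ a' hP
  · have hP : P pr₂.left := h.property p ((AlgSp.yon S).map pr₁) pr₂ sqW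
    apply Groth.Agent.Lib.Helper5.AtlasQuot.repWith_of_fppf_local P _ (hF'.representable_from_yon _)
    intro T₀ c
    obtain ⟨T₁, π, h1, h2, h3, a', ha'⟩ :=
      Groth.Agent.Lib.Helper5.AtlasQuot.exists_single_fppf_lift
        (Groth.Agent.Lib.Helper5.AlgSpBC.flat g p) T₀ c
    refine ⟨T₁, π, h1, h2, h3, pullback ((Over.map g).map pr₂) a',
      pullback.snd ((Over.map g).map pr₂) a',
      (AlgSp.yon S').map (pullback.fst ((Over.map g).map pr₂) a') ≫
        (AlgSp.yon S').map ((Over.map g).map pr₁), ?_, ?_⟩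
    · have sqL : IsPullback ((AlgSp.yon S').map (pullback.fst ((Over.map g).map pr₂) a'))
          ((AlgSp.yon S').map (pullback.snd ((Over.map g).map pr₂) a'))
          ((AlgSp.yon S').map ((Over.map g).map pr₂)) ((AlgSp.yon S').map a') :=
        (IsPullback.of_hasPullback ((Over.map g).map pr₂) a').map (AlgSp.yon S')
      have := sqL.paste_horiz sqW'
      rwa [ha'] at this
    · exact MorphismProperty.pullback_snd (P := P.inverseImage (Over.forget S'))
        ((Over.map g).map pr₂) a' hP

end Groth.Agent.S9899
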