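import Groth.Statements.S9928
import Mathlib.Tactic
-- import your own Groth.Agent.* helpers here

set_option autoImplicit false
universe u
open CategoryTheory CategoryTheory.Limits AlgebraicGeometry
open AlgSp

namespace Groth.Agent.S9928

/-- A morphism of algebraic spaces that is representable by immersions is a monomorphism of fppf
sheaves. -/
theorem result {S : Scheme.{u}} {X Y : AlgSp.Space S} (f : X ⟶ Y)
    (hf : AlgSp.RepWith @IsImmersion f.hom) : Mono f.hom := by
  have key : ∀ {U : Over S} {a b : (AlgSp.yon S).obj U ⟶ X.obj}, a ≫ f.hom = b ≫ f.hom → a = b := by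
    intro U a b h
    have hmono : Mono (hf.rep.snd (a ≫ f.hom)) := by
      have : IsImmersion (hf.rep.snd (a ≫ f.hom)).left := hf.property_snd (a ≫ f.hom)
      exact Over.mono_of_mono_left _
    have e : hf.rep.lift (g := a ≫ f.hom) a (𝟙 U) (by simp) =
        hf.rep.lift b (𝟙 U) (by simp [← h]) := by
      simp only [← cancel_mono (hf.rep.snd (a ≫ f.hom)), Functor.relativelyRepresentable.lift_snd]
    simpa using (AlgSp.yon S).congr_map e =≫ (hf.rep.fst (a ≫ f.hom))
  refine ⟨fun {Z} a b h => ?_⟩
  apply Sheaf.hom_ext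
  ext T z
  have := key (a := (AlgSp.J S).uliftYonedaEquiv.symm z ≫ a) (b := (AlgSp.J S).uliftYonedaEquiv.symm z ≫ b)
    (by simp only [Category.assoc, h])
  have h2 := congrArg (AlgSp.J S).uliftYonedaEquiv this
  rw [GrothendieckTopology.uliftYonedaEquiv_comp, GrothendieckTopology.uliftYonedaEquiv_comp,
    Equiv.apply_symm_apply] at h2
  exact h2

end Groth.Agent.S9928
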