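import Groth.Statements.S9931
import Groth.Agent.Lib.Helper5.LocalRep

set_option autoImplicit false
universe u
open CategoryTheory CategoryTheory.Limits AlgebraicGeometry
open AlgSp

namespace Groth.Agent.S9931

/-- (3) ⇒ (1): for P = closed immersion, open immersion or immersion, a morphism of algebraic spaces
whose base change to every affine scheme over the target is representable with P is itself
representable with P. -/
theorem result {S : Scheme.{u}} (P : MorphismProperty Scheme.{u})
    (hP : P = @IsClosedImmersion ∨ P = @IsOpenImmersion ∨ P = @IsImmersion) {X Y : AlgSp.Space S} (f : X ⟶ Y)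
    (h : ∀ (Z : Over S), IsAffine Z.left → ∀ (g : (AlgSp.yon S).obj Z ⟶ Y.obj) (P₀ : AlgSp.Sp S)
      (fst : P₀ ⟶ X.obj) (snd : P₀ ⟶ (AlgSp.yon S).obj Z), IsPullback fst snd f.hom g → AlgSp.RepWith P snd) :
    AlgSp.RepWith P f.hom := by
  have key : ∀ (Q : MorphismProperty Scheme.{u}) [IsZariskiLocalAtTarget Q]
      [Q.IsStableUnderBaseChange],
      (∀ (Z : Over S), IsAffine Z.left → ∀ (g : (AlgSp.yon S).obj Z ⟶ Y.obj) (P₀ : AlgSp.Sp S)
        (fst : P₀ ⟶ X.obj) (snd : P₀ ⟶ (AlgSp.yon S).obj Z), IsPullback fst snd f.hom g →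
          AlgSp.RepWith Q snd) → AlgSp.RepWith Q f.hom := by
    intro Q _ _ hQ
    refine Groth.Agent.Lib.Helper5.LocalRep.repWith_of_affine_test Q f.hom ?_
    intro Z hZ g
    have hsnd := hQ Z hZ g (pullback f.hom g) (pullback.fst f.hom g) (pullback.snd f.hom g)
      (IsPullback.of_hasPullback _ _)
    obtain ⟨V, i, fst', sq'⟩ := hsnd.rep (𝟙 _)
    have hi : Q i.left := hsnd.property (𝟙 _) fst' i sq'
    refine ⟨V, i, fst' ≫ pullback.fst f.hom g, ?_, hi⟩
    have := sq'.paste_horiz (IsPullback.of_hasPullback f.hom g)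
    rwa [Category.id_comp] at this
  rcases hP with rfl | rfl | rfl
  · exact key _ h
  · exact key _ h
  · exact key _ h

end Groth.Agent.S9931
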