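import Groth.Statements.S9942
import Groth.Agent.S10533
import Groth.Agent.Lib.Helper5.QuotFlat
import Groth.Agent.Lib.Helper23.AlgSpMor4
import Groth.Agent.Lib.Helper23.AlgSpMor2

set_option autoImplicit false
universe u
open CategoryTheory CategoryTheory.Limits AlgebraicGeometry
open AlgSp

namespace Groth.Agent.S9942

open Groth.Agent.Lib.Helper23.AlgSpMor

/-- (3) ⇒ (2): if X x_Y V is an affine scheme for every affine scheme V etale over Y, then f : X -> Y is
affine. -/
theorem result {S : Scheme.{u}} {X Y : AlgSp.Space S} (f : X ⟶ Y)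
    (h : ∀ (V : Over S), IsAffine V.left → ∀ (b : (AlgSp.yon S).obj V ⟶ Y.obj), AlgSp.RepWith @Etale b →
      ∀ (P : AlgSp.Sp S) (fst : P ⟶ X.obj) (snd : P ⟶ (AlgSp.yon S).obj V), IsPullback fst snd f.hom b →
      ∃ (W : Over S), IsAffine W.left ∧ Nonempty ((AlgSp.yon S).obj W ≅ P)) :
    AlgSp.IsAffineMor f.hom := by
  obtain ⟨U, a, hae, has⟩ := Y.property.atlas
  let Yi : U.left.affineOpens → Sp S := fun k => (yon S).obj (overOpens U k.1)
  let g : ∀ k, Yi k ⟶ Y.obj := fun k => (yon S).map (overOpensι U k.1) ≫ a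
  have hge : ∀ k, RepWith @Etale (g k) := fun k =>
    (RepWith @Etale).comp_mem _ _ (repWith_etale_overOpensι U k.1) hae
  have hcov : IsFpqcCover Yi g := by
    refine Groth.Agent.Lib.Helper5.FppfCover.isFpqcCover_of_isFppfCover Y.property Yi
      (fun _ => IsAlgSpace.yon_obj _) g ⟨fun k =>
        ⟨Groth.Agent.S9961.locP_of_repWith Groth.Agent.Lib.Helper46.etLocal_flat (P := @Etale)
          (fun _ _ f hf => by haveI : Etale f := hf; infer_instance) Y.property (g k) (hge k),
        Groth.Agent.S9961.locP_of_repWith Groth.Agent.Lib.Helper30.EtLocalInst.etLocal_lfp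
          (P := @Etale) (fun _ _ f hf => by haveI : Etale f := hf; infer_instance)
          Y.property (g k) (hge k)⟩, fun x => ?_⟩
    obtain ⟨u, hu⟩ := Groth.Agent.Lib.Helper37.AlgSpPoints.ofPt_surjective a has x
    obtain ⟨_, ⟨W, hW, rfl⟩, huW, -⟩ :=
      (U.left.isBasis_affineOpens).exists_subset_of_mem_open (Set.mem_univ u) isOpen_univ
    refine ⟨⟨W, hW⟩, Points.ofScheme _ ⟨u, huW⟩, ?_⟩
    rw [← Points.ofPt_eq_map_ofScheme, ofPt_overOpensι_comp]
    exact hu
  refine (Groth.Agent.S10533.result S Yi g Y.property (fun _ => IsAlgSpace.yon_obj _) hcov f.hom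
    X.property (fun k => pullback f.hom (g k)) (fun k => pullback.snd _ _)
    (fun k => pullback.fst _ _)
    (fun k => isAlgSpace_of_isPullback X.property (IsAlgSpace.yon_obj _) Y.property.diag
      (IsPullback.of_hasPullback f.hom (g k)))
    (fun k => IsPullback.of_hasPullback f.hom (g k))).2 ?_
  intro k
  obtain ⟨W, hW, ⟨e⟩⟩ := h (overOpens U k.1) k.2 (g k) (hge k) _ _ _
    (IsPullback.of_hasPullback f.hom (g k))
  intro Z hZ gZ
  obtain ⟨w, hw⟩ := (yon S).map_surjective (e.hom ≫ pullback.snd f.hom (g k))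
  obtain ⟨g₀, hg₀⟩ := (yon S).map_surjective gZ
  have sq0 := IsPullback.of_hasPullback w g₀
  refine ⟨pullback w g₀, pullback.snd w g₀, (yon S).map (pullback.fst w g₀) ≫ e.hom, ?_, ?_⟩
  · have h1 := sq0.map (yon S)
    rw [hw, hg₀] at h1
    exact IsPullback.of_iso h1 (Iso.refl _) e (Iso.refl _) (Iso.refl _) (by simp) (by simp)
      (by simp) (by simp)
  · have h2 := sq0.map (Over.forget S)
    haveI : IsAffine W.left := hW
    haveI : IsAffine Z.left := hZ
    haveI : IsAffine (overOpens U k.1).left := k.2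
    haveI : IsAffine (pullback w.left g₀.left) := inferInstance
    exact IsAffine.of_isIso (Y := pullback w.left g₀.left) h2.isoPullback.hom

end Groth.Agent.S9942
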