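import Groth.Statements.S9944
import Groth.Agent.Lib.Helper79.AlgSpAffine

set_option autoImplicit false
universe u
open CategoryTheory CategoryTheory.Limits AlgebraicGeometry
open AlgSp

namespace Groth.Agent.S9944

/-- Let g : X -> Y be a morphism over a base algebraic space B with X affine over B. Then g is affine as
soon as the diagonal of Y over B is affine, and in particular as soon as Y is B-separated. (The
published lemma also has two versions with the absolute diagonal of Y; this row states the versions
over B.) -/
theorem result {S : Scheme.{u}} {X Y B : AlgSp.Space S} (g : X ⟶ Y) (p : X ⟶ B)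
    (q : Y ⟶ B) (comm : g ≫ q = p) (hp : AlgSp.IsAffineMor p.hom) :
    (AlgSp.IsAffineMor (pullback.diagonal q.hom) → AlgSp.IsAffineMor g.hom) ∧
    (AlgSp.IsSeparatedMor q.hom → AlgSp.IsAffineMor g.hom) := by
  have hcomm : g.hom ≫ q.hom = p.hom := by
    rw [← ObjectProperty.FullSubcategory.comp_hom, comm]
  have key : AlgSp.IsAffineMor (pullback.diagonal q.hom) → AlgSp.IsAffineMor g.hom := by
    intro hd
    have sqΓ := pullback_lift_diagonal_isPullback g.hom q.hom
    have hΓ : AlgSp.IsAffineMor (pullback.lift (𝟙 X.obj) g.hom (by simp) :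
        X.obj ⟶ pullback (g.hom ≫ q.hom) q.hom) :=
      Groth.Agent.Lib.Helper79.AlgSpAffine.isAffineMor_of_isPullback sqΓ hd
    have hp' : AlgSp.IsAffineMor (g.hom ≫ q.hom) := by rw [hcomm]; exact hp
    have hsnd : AlgSp.IsAffineMor (pullback.snd (g.hom ≫ q.hom) q.hom) :=
      Groth.Agent.Lib.Helper79.AlgSpAffine.isAffineMor_of_isPullback
        (IsPullback.of_hasPullback (g.hom ≫ q.hom) q.hom) hp'
    have := Groth.Agent.Lib.Helper79.AlgSpAffine.isAffineMor_comp hΓ hsnd
    rwa [pullback.lift_snd] at this
  exact ⟨key, fun hs =>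
    key (Groth.Agent.Lib.Helper79.AlgSpAffine.isAffineMor_of_repWith_isClosedImmersion hs)⟩

end Groth.Agent.S9944
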