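import Groth.Statements.S9945
import Groth.Agent.S9942
import Groth.Agent.Lib.Helper37.DecentPoint

set_option autoImplicit false
universe u
open CategoryTheory CategoryTheory.Limits AlgebraicGeometry
open AlgSp

namespace Groth.Agent.S9945

/-- A scheme étale over the spectrum of an Artinian ring is discrete. -/
theorem discreteTopology_of_etale_artinian {A : Type u} [CommRing A] [IsArtinianRing A]
    {E : Scheme.{u}} (e : E ⟶ Spec (CommRingCat.of A)) [Etale e] : DiscreteTopology E := by
  have := Groth.Agent.Lib.Helper37.EtaleFibres.locallyQuasiFinite_of_etale e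
  have hdA : DiscreteTopology ↥(Spec (CommRingCat.of A)) :=
    inferInstanceAs (DiscreteTopology (PrimeSpectrum A))
  rw [discreteTopology_iff_isOpen_singleton]
  intro x
  have hd := e.isDiscrete_preimage_singleton (e x)
  have hopen : IsOpen (e ⁻¹' {e x}) := (isOpen_discrete _).preimage e.continuous
  have hds := hd.to_subtype
  have h1 : IsOpen ({⟨x, rfl⟩} : Set ↥(e ⁻¹' {e x})) := isOpen_discrete _
  have h2 := hopen.isOpenMap_subtype_val _ h1
  simpa using h2

/-- Over a base scheme with quasi-separated underlying space, every morphism from the spectrum of an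
Artinian ring to an algebraic space quasi-separated over S is affine. (The published statement
assumes X quasi-separated in the absolute sense over any base; this row assumes the base
quasi-separated and X quasi-separated over it, which on such bases is the same condition.) -/
theorem result {S : Scheme.{u}} [QuasiSeparatedSpace ↥S] (X : AlgSp.Space S)
    (hX : AlgSp.IsQuasiSeparatedSp X.obj) (A : Type u) [CommRing A] [IsArtinianRing A]
    (str : Spec (CommRingCat.of A) ⟶ S) (a : (AlgSp.yon S).obj (Over.mk str) ⟶ X.obj) :
    AlgSp.IsAffineMor a := by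

  let X' : Space S := ⟨(yon S).obj (Over.mk str), IsAlgSpace.yon_obj _⟩
  let f : X' ⟶ X := ObjectProperty.homMk a
  refine Groth.Agent.S9942.result f ?_
  intro V hV b hb P fst snd sq
  have sqE := hb.rep.isPullback' a
  set E := hb.rep.pullback a
  set e₂ := hb.rep.fst' a
  set e₁ := hb.rep.snd a
  have he₁ : Etale e₁.left := hb.property_snd a
  have hdisc : DiscreteTopology ↥E.left :=
    discreteTopology_of_etale_artinian (A := A) e₁.left
  have hqc : QuasiCompact (prod.lift e₂ e₁).left :=
    Groth.Agent.Lib.Helper37.QuotField.prop_prodLift_of_repWith_diag hX b a e₂ e₁ sqE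
  haveI : IsAffine V.left := hV
  haveI : CompactSpace ↥(Spec (CommRingCat.of A)) := inferInstance
  haveI : QuasiCompact str := inferInstance
  haveI : CompactSpace ↥(pullback V.hom (Over.mk str).hom) :=
    inferInstanceAs (CompactSpace ↥(pullback V.hom str))
  haveI : CompactSpace ↥(V ⨯ Over.mk str).left :=
    (Over.prodLeftIsoPullback V (Over.mk str)).hom.homeomorph.symm.compactSpace
  haveI : CompactSpace ↥E.left :=
    QuasiCompact.compactSpace_of_compactSpace (prod.lift e₂ e₁).left
  haveI : Finite ↥E.left := finite_of_compact_of_discrete
  refine ⟨E, inferInstance, ⟨sqE.isoIsPullback _ _ sq.flip⟩⟩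

end Groth.Agent.S9945
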