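import Groth.Statements.S9946
import Groth.Agent.S10537
import Groth.Agent.Lib.Helper5.QuotFlat
import Groth.Agent.Lib.Helper23.AlgSpMor4
import Groth.Agent.Lib.Helper5.LocalRep
import Groth.Agent.Lib.Helper7.QuasiAffine

set_option autoImplicit false
universe u
open CategoryTheory CategoryTheory.Limits AlgebraicGeometry
open AlgSp

namespace Groth.Agent.S9946

/-- (3) ⇒ (1): if the base change of f along a surjective etale map from a scheme is quasi-affine, then
f is representable by schemes and quasi-affine. -/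
theorem result {S : Scheme.{u}} {X Y : AlgSp.Space S} (f : X ⟶ Y)
    (V : Over S) (p : (AlgSp.yon S).obj V ⟶ Y.obj) (hp : AlgSp.RepWith @Etale p) (hps : AlgSp.RepWith @Surjective p)
    {P : AlgSp.Sp S} (fst : P ⟶ X.obj) (snd : P ⟶ (AlgSp.yon S).obj V) (sq : IsPullback fst snd f.hom p)
    (h : AlgSp.IsQuasiAffineMor snd) : AlgSp.Representable f.hom ∧ AlgSp.IsQuasiAffineMor f.hom := by
  have hcov := Groth.Agent.Lib.Helper5.QuotFlat.isFpqcCover_atlas Y.property p hp hps
  have hP : AlgSp.IsAlgSpace P :=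
    Groth.Agent.Lib.Helper23.AlgSpMor.isAlgSpace_of_isPullback X.property (AlgSp.IsAlgSpace.yon_obj V) Y.property.diag sq
  have hq : AlgSp.IsQuasiAffineMor f.hom :=
    ((Groth.Agent.S10537.result S (fun _ : PUnit.{u + 1} => (AlgSp.yon S).obj V) (fun _ => p)
      Y.property (fun _ => AlgSp.IsAlgSpace.yon_obj V) hcov f.hom X.property (fun _ => P)
      (fun _ => snd) (fun _ => fst) (fun _ => hP) (fun _ => sq)).2 (fun _ => h))
  refine ⟨?_, hq⟩
  have := Groth.Agent.Lib.Helper5.LocalRep.repWith_of_affine_test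
    Groth.Agent.Lib.Helper7.QA.QAffHom f.hom (fun Z hZ g => by
      obtain ⟨W, i, fst', sq', hW⟩ := hq hZ g
      haveI := hZ
      exact ⟨W, i, fst', sq',
        (HasAffineProperty.iff_of_isAffine (P := Groth.Agent.Lib.Helper7.QA.QAffHom)).2 hW⟩)
  exact this.1

end Groth.Agent.S9946
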