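import Groth.Statements.S9948
import Groth.Agent.Lib.Helper30.HPEtLocal
import Groth.Agent.Lib.Helper46.LocPChart
import Groth.Agent.Lib.Helper36.AlgSpCharts

set_option autoImplicit false
universe u
open CategoryTheory CategoryTheory.Limits AlgebraicGeometry
open AlgSp

namespace Groth.Agent.S9948

/-- Representable clause, for the listed classes P: for f representable by schemes, P etale locally on
the source-and-target agrees with P in the representable sense. -/
theorem result {S : Scheme.{u}} (P : MorphismProperty Scheme.{u})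
    (hP : P = @LocallyOfFiniteType ∨ P = @LocallyOfFinitePresentation ∨ P = @Flat ∨ P = @Smooth ∨ P = @Etale ∨
      (∀ ⦃A B : Scheme.{u}⦄ (g : A ⟶ B), P g ↔ (LocallyQuasiFinite g ∧ LocallyOfFiniteType g)) ∨
      (∀ ⦃A B : Scheme.{u}⦄ (g : A ⟶ B), P g ↔ (LocallyOfFiniteType g ∧ FormallyUnramified g)))
    {X Y : AlgSp.Space S} (f : X ⟶ Y) (hf : AlgSp.Representable f.hom) :
    AlgSp.LocP P f.hom ↔ AlgSp.RepWith P f.hom := by
  have hQ := Groth.Agent.Lib.Helper30.HPEtLocal.etLocal_of_listed hP
  constructor
  · intro hloc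
    refine (AlgSp.repWith_iff P f.hom).2 ⟨hf, fun U V g fst snd sq => ?_⟩
    have hid : AlgSp.RepWith @Etale (𝟙 ((AlgSp.yon S).obj V)) := AlgSp.repWith_id _ V
    exact Groth.Agent.Lib.Helper46.LocPChart.locP_fibre hQ X.property Y.property f.hom hloc g
      fst ((AlgSp.yon S).map snd) sq (𝟙 _) hid snd (by rw [Category.id_comp])
  · intro hrep U V a b h ha hb comm
    have hr : AlgSp.Representable f.hom := hrep.rep
    have sq : IsPullback (hr.fst b) ((AlgSp.yon S).map (hr.snd b)) f.hom b := hr.isPullback b
    have hsnd : P (hr.snd b).left := hrep.property b _ _ sq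
    obtain ⟨k', hk1, hk2⟩ := sq.exists_lift a ((AlgSp.yon S).map h) comm
    obtain ⟨k, rfl⟩ := (AlgSp.yon S).map_surjective k'
    have hfst : AlgSp.RepWith @Etale (hr.fst b) :=
      MorphismProperty.of_isPullback (P := AlgSp.RepWith @Etale) sq.flip hb
    have hk : Etale k.left :=
      Groth.Agent.Lib.Helper36.AlgSpCharts.etale_of_comp_eq a (hr.fst b) k ha hfst hk1
    have e2 : k ≫ hr.snd b = h := (AlgSp.yon S).map_injective (by simpa using hk2)
    rw [← e2, Over.comp_left]
    exact hQ.precomp _ _ hk hsnd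

end Groth.Agent.S9948
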