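import Groth.Statements.S9949
import Groth.Agent.Lib.Helper79.AlgSpChart

set_option autoImplicit false
universe u
open CategoryTheory CategoryTheory.Limits AlgebraicGeometry
open AlgSp

namespace Groth.Agent.S9949

/-- (5) ⇒ (1): being locally of finite type descends along a surjective etale base change from a scheme. -/
theorem result {S : Scheme.{u}} {X Y : AlgSp.Space S} (f : X ⟶ Y) (V : Over S)
    (p : (AlgSp.yon S).obj V ⟶ Y.obj) (hp : AlgSp.RepWith @Etale p) (hps : AlgSp.RepWith @Surjective p)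
    {P : AlgSp.Sp S} (fst : P ⟶ X.obj) (snd : P ⟶ (AlgSp.yon S).obj V) (sq : IsPullback fst snd f.hom p)
    (h : AlgSp.LocP @LocallyOfFiniteType snd) : AlgSp.LocP @LocallyOfFiniteType f.hom := by
  intro U V₁ a b k ha hb comm
  -- V₂ := V ×_Y V₁
  obtain ⟨V₂, e1, e, sqV, he⟩ :=
    Groth.Agent.Lib.Helper79.AlgSpChart.exists_pullback_chart @Etale hp b
  have hes : Surjective e.left := hps.property b _ e sqV
  have he1 : Etale e1.left :=
    Groth.Agent.Lib.Helper79.AlgSpChart.fst_property_of_isPullback @Etale hb sqV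
  -- U₂ := V₂ ×_{V₁} U
  have sqO : IsPullback (pullback.fst e k) (pullback.snd e k) e k := IsPullback.of_hasPullback e k
  have sqY : IsPullback ((AlgSp.yon S).map (pullback.snd e k)) ((AlgSp.yon S).map (pullback.fst e k))
      ((AlgSp.yon S).map k) ((AlgSp.yon S).map e) := (sqO.map (AlgSp.yon S)).flip
  -- big square : U₂ over U, V
  have big : IsPullback ((AlgSp.yon S).map (pullback.snd e k))
      ((AlgSp.yon S).map (pullback.fst e k) ≫ (AlgSp.yon S).map e1)
      ((AlgSp.yon S).map k ≫ b) p := sqY.paste_vert sqV.flip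
  have hcomm : ((AlgSp.yon S).map (pullback.snd e k) ≫ a) ≫ f.hom =
      ((AlgSp.yon S).map (pullback.fst e k) ≫ (AlgSp.yon S).map e1) ≫ p := by
    rw [Category.assoc, comm, big.w]
  have hl1 : sq.lift _ _ hcomm ≫ fst = (AlgSp.yon S).map (pullback.snd e k) ≫ a := sq.lift_fst _ _ _
  have hl2 : sq.lift _ _ hcomm ≫ snd =
      (AlgSp.yon S).map (pullback.fst e k) ≫ (AlgSp.yon S).map e1 := sq.lift_snd _ _ _
  rw [← comm, ← hl2] at big
  have sqB : IsPullback ((AlgSp.yon S).map (pullback.snd e k)) (sq.lift _ _ hcomm) a fst :=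
    IsPullback.of_bot big hl1.symm sq
  have ha₂ : AlgSp.RepWith @Etale (sq.lift _ _ hcomm) :=
    (AlgSp.RepWith @Etale).of_isPullback sqB ha
  have hchart := h (sq.lift _ _ hcomm) ((AlgSp.yon S).map e1) (pullback.fst e k) ha₂
    ((AlgSp.repWith_yon_map_iff @Etale e1).2 he1) hl2
  exact Groth.Agent.Lib.Helper79.AlgSpChart.descend_of_isPullback @LocallyOfFiniteType sqO he hes hchart

end Groth.Agent.S9949
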