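import Groth.Statements.S9950
import Groth.Agent.Lib.Helper30.EtLocalInst
import Groth.Agent.Lib.Helper46.LocPChart

set_option autoImplicit false
universe u
open CategoryTheory CategoryTheory.Limits AlgebraicGeometry
open AlgSp

namespace Groth.Agent.S9950

/-- (6) ⇒ (1): if f ∘ φ is locally of finite type for one surjective etale chart φ of the source, then f
is locally of finite type. -/
theorem result {S : Scheme.{u}} {X Y : AlgSp.Space S} (f : X ⟶ Y) (U : Over S)
    (φ : (AlgSp.yon S).obj U ⟶ X.obj) (hφ : AlgSp.RepWith @Etale φ) (hφs : AlgSp.RepWith @Surjective φ)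
    (h : AlgSp.LocP @LocallyOfFiniteType (φ ≫ f.hom)) : AlgSp.LocP @LocallyOfFiniteType f.hom := by
  obtain ⟨V, c, hce, hcs⟩ := Y.property.atlas
  obtain ⟨W, p1, p2, sq⟩ :=
    Groth.Agent.Lib.Helper36.AlgSpCharts.exists_isPullback_yon (φ ≫ f.hom) c hce.rep
  have hp1e : Etale p1.left := Groth.Agent.Lib.Helper36.AlgSpCharts.prop_fst_of_isPullback sq hce
  have hp1s : Surjective p1.left :=
    Groth.Agent.Lib.Helper36.AlgSpCharts.prop_fst_of_isPullback sq hcs
  refine Groth.Agent.Lib.Helper46.LocPChart.locP_of_chart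
    Groth.Agent.Lib.Helper30.EtLocalInst.etLocal_lft f.hom ((AlgSp.yon S).map p1 ≫ φ) c p2
    ?_ ?_ hce ?_ ?_
  · exact (AlgSp.RepWith @Etale).comp_mem _ _ ((AlgSp.repWith_yon_map_iff _ _).2 hp1e) hφ
  · exact (AlgSp.RepWith @Surjective).comp_mem _ _ ((AlgSp.repWith_yon_map_iff _ _).2 hp1s) hφs
  · rw [Category.assoc]; exact sq.w
  · exact h ((AlgSp.yon S).map p1) c p2 ((AlgSp.repWith_yon_map_iff _ _).2 hp1e) hce sq.w

end Groth.Agent.S9950
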