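import Groth.Statements.S9954
import Groth.Agent.Lib.Helper79.AlgSpChart
import Groth.Agent.Lib.Helper79.KPoint
import Groth.Agent.Lib.Helper37.AlgSpPoints
import Mathlib.FieldTheory.IsAlgClosed.AlgebraicClosure

set_option autoImplicit false
universe u
open CategoryTheory CategoryTheory.Limits AlgebraicGeometry
open AlgSp

namespace Groth.Agent.S9954

section helpers
open Groth.Agent.Lib.Helper79 Groth.Agent.Lib.Helper79.AlgSpChart Groth.Agent.Lib.Helper37.AlgSpPoints

variable {S : Scheme.{u}}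

/-- A section of a nonempty lft scheme over `Spec k`, as a morphism over `S`. -/
theorem exists_over_section {k : Type u} [Field k] [IsAlgClosed k] (str : Spec (CommRingCat.of k) ⟶ S)
    {R : Over S} (π : R ⟶ Over.mk str) (hπ : LocallyOfFiniteType π.left) (hne : Nonempty ↥R.left) :
    ∃ σ : Over.mk str ⟶ R, σ ≫ π = 𝟙 _ := by
  have hπ' : LocallyOfFiniteType (show R.left ⟶ Spec (CommRingCat.of k) from π.left) := hπ
  obtain ⟨σ, hσ⟩ := exists_section_of_lft (show R.left ⟶ Spec (CommRingCat.of k) from π.left)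
  have hw : σ ≫ R.hom = str := by
    have := Over.w π
    change π.left ≫ str = R.hom at this
    rw [← this, ← Category.assoc, hσ]
    exact Category.id_comp _
  refine ⟨Over.homMk σ hw, ?_⟩
  apply Over.OverMorphism.ext
  exact hσ

end helpers

/-- A morphism locally of finite type is surjective if and only if it is surjective on k-valued points
for every algebraically closed field k over the base. -/
theorem result {S : Scheme.{u}} {X Y : AlgSp.Space S} (f : X ⟶ Y)
    (hf : AlgSp.LocP @LocallyOfFiniteType f.hom) :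
    AlgSp.IsSurjectiveMor f.hom ↔
      ∀ (k : Type u) [Field k] [IsAlgClosed k] (str : Spec (CommRingCat.of k) ⟶ S)
        (y : (AlgSp.yon S).obj (Over.mk str) ⟶ Y.obj),
        ∃ x : (AlgSp.yon S).obj (Over.mk str) ⟶ X.obj, x ≫ f.hom = y := by
  constructor
  · intro hsurj k _ _ str y
    -- Step A : lift `y` through an atlas of `Y`
    obtain ⟨V₀, b₀, hb₀, hb₀s⟩ := Y.property.atlas
    obtain ⟨R, p1', p2', sqR, hp2'⟩ :=
      Groth.Agent.Lib.Helper79.AlgSpChart.exists_pullback_chart @Etale hb₀ y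
    have hp2's : Surjective p2'.left := hb₀s.property y _ p2' sqR
    let pt : ↥(Over.mk str).left := (show ↥(Spec (CommRingCat.of k)) from IsLocalRing.closedPoint k)
    have hRne : Nonempty ↥R.left := by
      obtain ⟨r, -⟩ := hp2's.surj pt
      exact ⟨r⟩
    have hp2'lft : LocallyOfFiniteType p2'.left := by
      haveI := hp2'
      infer_instance
    obtain ⟨σ, hσ⟩ := exists_over_section str p2' hp2'lft hRne
    have hv : (AlgSp.yon S).map (σ ≫ p1') ≫ b₀ = y := by
      rw [Functor.map_comp, Category.assoc, sqR.w, ← Category.assoc, ← Functor.map_comp, hσ,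
        CategoryTheory.Functor.map_id, Category.id_comp]
    -- Step B : a point of `X` above `y`
    obtain ⟨ξ, hξ⟩ := hsurj (AlgSp.Points.ofPt y pt)
    obtain ⟨U₀, a₀, ha₀, ha₀s⟩ := X.property.atlas
    obtain ⟨u₀, hu₀⟩ := Groth.Agent.Lib.Helper37.AlgSpPoints.ofPt_surjective a₀ ha₀s ξ
    obtain ⟨W, p1, p2, sqW, hp2⟩ :=
      Groth.Agent.Lib.Helper79.AlgSpChart.exists_pullback_chart @Etale hb₀ (a₀ ≫ f.hom)
    have hp1 : LocallyOfFiniteType p1.left :=
      hf ((AlgSp.yon S).map p2 ≫ a₀) b₀ p1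
        (Groth.Agent.Lib.Helper79.AlgSpChart.repWith_map_comp @Etale p2 hp2 ha₀) hb₀
        (by rw [Category.assoc]; exact sqW.w.symm)
    have hpts : AlgSp.Points.ofPt b₀ ((σ ≫ p1').left pt) = AlgSp.Points.ofPt (a₀ ≫ f.hom) u₀ := by
      rw [← Groth.Agent.Lib.Helper37.AlgSpPoints.ofPt_map_comp, hv, ← AlgSp.Points.map_ofPt, hu₀, hξ]
    obtain ⟨w, hw1, hw2⟩ :=
      (Groth.Agent.Lib.Helper37.AlgSpPoints.ofPt_eq_ofPt_iff sqW _ _).mp hpts
    -- Step C : the fibre of `W` over the lifted point
    have sqF : IsPullback (pullback.fst p1 (σ ≫ p1')) (pullback.snd p1 (σ ≫ p1')) p1 (σ ≫ p1') :=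
      IsPullback.of_hasPullback _ _
    have sqS : IsPullback (pullback.fst p1 (σ ≫ p1')).left (pullback.snd p1 (σ ≫ p1')).left
        p1.left (σ ≫ p1').left := sqF.map (Over.forget S)
    have hπ : LocallyOfFiniteType (pullback.snd p1 (σ ≫ p1')).left :=
      MorphismProperty.of_isPullback (P := @LocallyOfFiniteType) sqS hp1
    have hne : Nonempty ↥(pullback p1 (σ ≫ p1')).left := by
      obtain ⟨z, -, -⟩ := Scheme.Pullback.exists_preimage_pullback (f := p1.left)
        (g := (σ ≫ p1').left) w pt hw1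
      exact ⟨sqS.isoPullback.inv z⟩
    obtain ⟨s, hs⟩ := exists_over_section str (pullback.snd p1 (σ ≫ p1')) hπ hne
    refine ⟨(AlgSp.yon S).map (s ≫ pullback.fst p1 (σ ≫ p1') ≫ p2) ≫ a₀, ?_⟩
    rw [Category.assoc, Functor.map_comp, Functor.map_comp, Category.assoc, Category.assoc,
      ← sqW.w, ← Category.assoc ((AlgSp.yon S).map (pullback.fst p1 (σ ≫ p1'))), ← Functor.map_comp,
      sqF.w, Functor.map_comp, Category.assoc, hv, ← Category.assoc, ← Functor.map_comp, hs,
      CategoryTheory.Functor.map_id, Category.id_comp]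
  · intro H η
    induction η using AlgSp.Points.ind with
    | h p =>
      let k := AlgebraicClosure p.K
      let ι : Spec (CommRingCat.of k) ⟶ Spec (CommRingCat.of p.K) :=
        Spec.map (CommRingCat.ofHom (algebraMap p.K k))
      let ιO : Over.mk (ι ≫ p.str) ⟶ p.pt := Over.homMk ι rfl
      obtain ⟨x, hx⟩ := H k (ι ≫ p.str) ((AlgSp.yon S).map ιO ≫ p.toHom)
      let ptk : ↥(Over.mk (ι ≫ p.str)).left :=
        (show ↥(Spec (CommRingCat.of k)) from IsLocalRing.closedPoint k)
      refine ⟨AlgSp.Points.ofPt x ptk, ?_⟩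
      rw [AlgSp.Points.map_ofPt, hx, Groth.Agent.Lib.Helper37.AlgSpPoints.ofPt_map_comp,
        AlgSp.Points.ofPt_toHom]

end Groth.Agent.S9954
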