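import Groth.Statements.S9956
import Groth.Agent.Lib.Helper79.AlgSpChart
import Groth.Agent.Lib.Helper79.LqfDescent

set_option autoImplicit false
universe u
open CategoryTheory CategoryTheory.Limits AlgebraicGeometry
open AlgSp

namespace Groth.Agent.S9956

/-- For morphisms X -> Y -> Z of algebraic spaces, local quasi-finiteness of the composite implies that
of the first map (locally quasi-finite includes locally of finite type, etale locally on source and
target). -/
theorem result {S : Scheme.{u}} {X Y Z : AlgSp.Space S} (f : X ⟶ Y) (g : Y ⟶ Z)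
    (h : AlgSp.LocP ((@LocallyQuasiFinite : MorphismProperty Scheme.{u}) ⊓ @LocallyOfFiniteType) (f ≫ g).hom) :
    AlgSp.LocP ((@LocallyQuasiFinite : MorphismProperty Scheme.{u}) ⊓ @LocallyOfFiniteType) f.hom := by
  intro U V a b k ha hb comm
  obtain ⟨W, c, hc, hcs⟩ := Z.property.atlas
  obtain ⟨V', e1, e, sq, he⟩ :=
    Groth.Agent.Lib.Helper79.AlgSpChart.exists_pullback_chart @Etale hc (b ≫ g.hom)
  have hes : Surjective e.left := hcs.property (b ≫ g.hom) _ e sq
  have sqO : IsPullback (pullback.fst e k) (pullback.snd e k) e k := IsPullback.of_hasPullback e k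
  have hq : Etale (pullback.snd e k).left :=
    MorphismProperty.of_isPullback (P := @Etale) (sqO.map (Over.forget S)) he
  have comm' : ((AlgSp.yon S).map (pullback.snd e k) ≫ a) ≫ (f ≫ g).hom =
      (AlgSp.yon S).map (pullback.fst e k ≫ e1) ≫ c := by
    rw [ObjectProperty.FullSubcategory.comp_hom, Category.assoc, ← Category.assoc a, comm,
      Category.assoc, ← Category.assoc, ← Functor.map_comp, ← sqO.w, Functor.map_comp,
      Category.assoc, ← sq.w, Functor.map_comp, Category.assoc]
  have hchart := h ((AlgSp.yon S).map (pullback.snd e k) ≫ a) c (pullback.fst e k ≫ e1)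
    (Groth.Agent.Lib.Helper79.AlgSpChart.repWith_map_comp @Etale _ hq ha) hc comm'
  rw [Over.comp_left] at hchart
  obtain ⟨hqf, hft⟩ := hchart
  have hk'ft : LocallyOfFiniteType (pullback.fst e k).left :=
    locallyOfFiniteType_of_comp (pullback.fst e k).left e1.left
  have hk'qf : LocallyQuasiFinite (pullback.fst e k).left :=
    LocallyQuasiFinite.of_comp (pullback.fst e k).left e1.left
  have hkft : LocallyOfFiniteType k.left :=
    Groth.Agent.Lib.Helper79.AlgSpChart.descend_of_isPullback @LocallyOfFiniteType sqO he hes hk'ft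
  have sqS : IsPullback (pullback.fst e k).left (pullback.snd e k).left e.left k.left :=
    sqO.map (Over.forget S)
  exact ⟨Groth.Agent.Lib.Helper79.lqf_descend sqS, hkft⟩

end Groth.Agent.S9956
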