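import Groth.Statements.S9957
import Groth.Agent.S9951
import Groth.Agent.Lib.Helper79.DiagPullback
import Mathlib.AlgebraicGeometry.Morphisms.QuasiCompact

set_option autoImplicit false
universe u
open CategoryTheory CategoryTheory.Limits AlgebraicGeometry
open AlgSp

namespace Groth.Agent.S9957

/-- The source of a morphism of finite presentation whose target is Noetherian is itself Noetherian,
Noetherian meaning quasi-compact, quasi-separated over S and locally Noetherian. (The published
statement uses quasi-separatedness in the absolute sense; this row uses quasi-separatedness over S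
in hypothesis and conclusion.) -/
theorem result {S : Scheme.{u}} {X Y : AlgSp.Space S} (f : X ⟶ Y)
    (hf : AlgSp.IsFinitePresentationMor f.hom)
    (hY : AlgSp.IsQuasiCompactSp Y.obj ∧ AlgSp.IsQuasiSeparatedSp Y.obj ∧ AlgSp.IsLocNoethSp Y.obj) :
    AlgSp.IsQuasiCompactSp X.obj ∧ AlgSp.IsQuasiSeparatedSp X.obj ∧ AlgSp.IsLocNoethSp X.obj := by
  obtain ⟨hlfp, hqc, hqs⟩ := hf
  obtain ⟨hYqc, hYqs, hYn⟩ := hY
  refine ⟨?_, ?_, ?_⟩
  · exact hqc Y.property hYqc (𝟙 Y.obj) (𝟙 X.obj) f.hom (IsPullback.id_horiz f.hom)
  · change AlgSp.RepWith @QuasiCompact (Limits.diag X.obj)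
    rw [Groth.Agent.Lib.Helper79.diag_eq_diagonal_comp f.hom]
    have h2 : AlgSp.RepWith @QuasiCompact (Groth.Agent.Lib.Helper79.pullbackToProd f.hom) :=
      (AlgSp.RepWith @QuasiCompact).of_isPullback
        (Groth.Agent.Lib.Helper79.isPullback_pullbackToProd f.hom) hYqs
    exact (AlgSp.RepWith @QuasiCompact).comp_mem _ _ hqs h2
  · refine Groth.Agent.S9951.result f ?_ hYn
    intro U V a b k ha hb c
    haveI : LocallyOfFinitePresentation k.left := hlfp a b k ha hb c
    infer_instance

end Groth.Agent.S9957
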