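import Groth.Statements.S9958
import Groth.Agent.Lib.Helper79.AlgSpChart

set_option autoImplicit false
universe u
open CategoryTheory CategoryTheory.Limits AlgebraicGeometry
open AlgSp

namespace Groth.Agent.S9958

/-- Over a locally Noetherian algebraic space, locally of finite type implies locally of finite
presentation. -/
theorem result {S : Scheme.{u}} {X Y : AlgSp.Space S} (f : X ⟶ Y)
    (hY : AlgSp.IsLocNoethSp Y.obj) (hf : AlgSp.LocP @LocallyOfFiniteType f.hom) :
    AlgSp.LocP @LocallyOfFinitePresentation f.hom := by
  intro U V a b k ha hb comm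
  obtain ⟨V₀, p, hp, hps, hV₀⟩ := hY
  obtain ⟨V', e1, e, sqV, he⟩ :=
    Groth.Agent.Lib.Helper79.AlgSpChart.exists_pullback_chart @Etale hp b
  have hes : Surjective e.left := hps.property b _ e sqV
  have he1 : Etale e1.left :=
    Groth.Agent.Lib.Helper79.AlgSpChart.fst_property_of_isPullback @Etale hb sqV
  haveI := hV₀
  haveI : IsLocallyNoetherian V'.left := LocallyOfFiniteType.isLocallyNoetherian e1.left
  have sqO : IsPullback (pullback.fst e k) (pullback.snd e k) e k := IsPullback.of_hasPullback e k
  have hk : LocallyOfFiniteType k.left := hf a b k ha hb comm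
  have hk' : LocallyOfFiniteType (pullback.fst e k).left :=
    MorphismProperty.of_isPullback (P := @LocallyOfFiniteType) (sqO.map (Over.forget S)).flip hk
  have hk'' : LocallyOfFinitePresentation (pullback.fst e k).left := inferInstance
  exact Groth.Agent.Lib.Helper79.AlgSpChart.descend_of_isPullback @LocallyOfFinitePresentation
    sqO he hes hk''

end Groth.Agent.S9958
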