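import Groth.Statements.S9960
-- import your own Groth.Agent.* helpers here
import Groth.Agent.S9961
import Groth.Agent.S9937
import Groth.Agent.Lib.Helper36.DiagChartQ
import Groth.Agent.Lib.Helper79.LfpOfComp
import Groth.Agent.Lib.Helper23.AlgSpMor4

set_option autoImplicit false
universe u
open CategoryTheory CategoryTheory.Limits AlgebraicGeometry
open AlgSp

namespace Groth.Agent.S9960

open Groth.Agent.Lib.Helper36.AlgSpCharts Groth.Agent.Lib.Helper36.DiagChartQ
  Groth.Agent.Lib.Helper23.AlgSpMor

/-- The relative diagonal of a morphism locally of finite type is representable and locally of finite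
presentation. -/
theorem repWith_lfp_diagonal {S : Scheme.{u}} {X Y : AlgSp.Sp S} (hX : IsAlgSpace X)
    (hY : IsAlgSpace Y) (f : X ⟶ Y) (hf : AlgSp.LocP @LocallyOfFiniteType f) :
    RepWith @LocallyOfFinitePresentation (pullback.diagonal f) := by
  refine repWith_diagonal_of_chart' (Q := @LocallyOfFiniteType) ?_ hX hY f
    (fun p hp => repWith_comp_of_locP hY f hf p hp)
  intro R UY U e pr1 hpr1 he _
  have : Etale (e ≫ pr1) := he
  exact Groth.Agent.Lib.Helper79.lfp_of_comp (g := pr1) inferInstance hpr1

/-- The diagonal of a morphism locally of finite type is locally of finite presentation, and of finite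
presentation when the morphism is also quasi-separated. -/
theorem result {S : Scheme.{u}} {X Y : AlgSp.Space S} (f : X ⟶ Y)
    (hf : AlgSp.LocP @LocallyOfFiniteType f.hom) :
    AlgSp.LocP @LocallyOfFinitePresentation (pullback.diagonal f.hom) ∧
    (AlgSp.IsQuasiSeparatedMor f.hom → AlgSp.IsFinitePresentationMor (pullback.diagonal f.hom)) := by
  have hXX : IsAlgSpace (pullback f.hom f.hom) :=
    isAlgSpace_of_isPullback X.property X.property Y.property.diag
      (IsPullback.of_hasPullback f.hom f.hom)
  have h1 : AlgSp.LocP @LocallyOfFinitePresentation (pullback.diagonal f.hom) :=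
    Groth.Agent.S9961.locP_of_repWith Groth.Agent.Lib.Helper30.EtLocalInst.etLocal_lfp le_rfl hXX _
      (repWith_lfp_diagonal X.property Y.property f.hom hf)
  refine ⟨h1, fun hqs => ⟨h1, isQuasiCompactMor_of_repWith_quasiCompact _ hqs, ?_⟩⟩
  show RepWith @QuasiCompact (pullback.diagonal (pullback.diagonal f.hom))
  exact Groth.Agent.S9937.repWith_of_isIso _ _ (fun A => (inferInstance : QuasiCompact (𝟙 A)))

end Groth.Agent.S9960
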