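import Groth.Statements.S9962
-- import your own Groth.Agent.* helpers here
import Groth.Agent.Lib.Helper36.AlgSpCharts
import Groth.Agent.Lib.Helper46.EtLocal
import Groth.Agent.Lib.Helper23.AlgSpMor10

set_option autoImplicit false
universe u
open CategoryTheory CategoryTheory.Limits AlgebraicGeometry
open AlgSp

namespace Groth.Agent.S9962

open Groth.Agent.Lib.Helper36.AlgSpCharts Groth.Agent.Lib.Helper23.AlgSpMor Groth.Agent.Lib.Helper46

/-- A flat morphism locally of finite presentation is universally open (unbundled form). -/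
theorem isUnivOpenMor_of_flat_lfp {S : Scheme.{u}} {X Y : AlgSp.Sp S} (hX : IsAlgSpace X)
    (hY : IsAlgSpace Y) (f : X ⟶ Y)
    (hfl : AlgSp.LocP @Flat f) (hfp : AlgSp.LocP @LocallyOfFinitePresentation f) :
    AlgSp.IsUnivOpenMor f := by
  obtain ⟨U, u, hue, hus⟩ := hX.atlas
  have h1 : RepWith @Flat (u ≫ f) := repWith_comp_of_locP hY f hfl u hue
  have h2 : RepWith @LocallyOfFinitePresentation (u ≫ f) := repWith_comp_of_locP hY f hfp u hue
  have h3 : RepWith @UniversallyOpen (u ≫ f) :=
    MorphismProperty.relative_monotone (fun _ _ g hg => by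
      have : Flat g.left := hg.1
      have : LocallyOfFinitePresentation g.left := hg.2
      exact (inferInstance : UniversallyOpen g.left)) _
      (⟨h1.rep, fun _ _ g fst snd sq => ⟨h1.property g fst snd sq, h2.property g fst snd sq⟩⟩ :
        RepWith (@Flat ⊓ @LocallyOfFinitePresentation) (u ≫ f))
  exact isUnivOpenMor_of_chart u hus f h3

/-- A flat morphism locally of finite presentation between algebraic spaces is universally open. -/
theorem result {S : Scheme.{u}} {X Y : AlgSp.Space S} (f : X ⟶ Y)
    (hfl : AlgSp.LocP @Flat f.hom) (hfp : AlgSp.LocP @LocallyOfFinitePresentation f.hom) :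
    AlgSp.IsUnivOpenMor f.hom := by
  exact isUnivOpenMor_of_flat_lfp X.property Y.property f.hom hfl hfp

end Groth.Agent.S9962
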