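import Groth.Statements.S9963
-- import your own Groth.Agent.* helpers here
import Groth.Agent.Lib.Helper46.FpqcTop
import Groth.Agent.Lib.Helper46.LocPChart
import Groth.Agent.Lib.Helper23.AlgSpMor6

set_option autoImplicit false
universe u
open CategoryTheory CategoryTheory.Limits AlgebraicGeometry
open AlgSp

namespace Groth.Agent.S9963

open Groth.Agent.Lib.Helper23.AlgSpMor Groth.Agent.Lib.Helper46 Groth.Agent.Lib.Helper46.FpqcTop
  Groth.Agent.Lib.Helper46.LocPChart

/-- A flat, quasi-compact, surjective morphism of algebraic spaces is an fpqc covering. -/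
theorem isFpqcCover_of_flat_qc_surjective {S : Scheme.{u}} {X Y : AlgSp.Sp S} (hX : IsAlgSpace X)
    (hY : IsAlgSpace Y) (f : X ⟶ Y) (hfl : AlgSp.LocP @Flat f) (hqc : AlgSp.IsQuasiCompactMor f)
    (hs : AlgSp.IsSurjectiveMor f) :
    IsFpqcCover (ι := PUnit.{u + 1}) (fun _ => X) (fun _ => f) := by
  refine ⟨fun _ => hfl, fun Z hZ h => ?_⟩
  have sq := IsPullback.of_hasPullback f h
  have hP : IsQuasiCompactSp (pullback f h) :=
    hqc (IsAlgSpace.yon_obj Z) (isQuasiCompactSp_yon_of_isAffine Z) h _ _ sq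
  obtain ⟨T, t, hT, hte, hts⟩ := exists_affine_chart_of_isQuasiCompactSp hP
  obtain ⟨c, hc⟩ := (yon S).map_surjective (t ≫ pullback.snd f h)
  have hflat : Flat c.left := locP_fibre etLocal_flat hX hY f hfl h _ _ sq t hte c hc
  have hsurj : IsSurjectiveMor ((yon S).map c) := by
    rw [hc]
    intro z
    obtain ⟨y, rfl⟩ := isSurjectiveMor_of_isPullback sq hs z
    obtain ⟨x, rfl⟩ := isSurjectiveMor_of_repWith_surjective t hts y
    exact ⟨x, Points.map_comp _ _ _⟩
  have hsurj' : Surjective c.left :=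
    (repWith_yon_map_iff @Surjective c).1
      (repWith_surjective_of_isSurjectiveMor _ (representable_yon_map c) hsurj)
  refine ⟨1, fun _ => T, fun _ => c, fun _ => hT, fun _ => hflat,
    fun z => ⟨0, hsurj'.surj z⟩, fun _ => ⟨PUnit.unit, t ≫ pullback.fst f h, ?_⟩⟩
  rw [Category.assoc, pullback.condition, ← Category.assoc, hc]

/-- Every base change of a flat, quasi-compact, surjective morphism is a quotient map on points. -/
theorem isUnivSubmersiveMor_of_flat_qc_surjective {S : Scheme.{u}} {X Y : AlgSp.Sp S}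
    (hX : IsAlgSpace X) (hY : IsAlgSpace Y) (f : X ⟶ Y) (hfl : AlgSp.LocP @Flat f)
    (hqc : AlgSp.IsQuasiCompactMor f) (hs : AlgSp.IsSurjectiveMor f) :
    AlgSp.IsUnivSubmersiveMor f := by
  intro Z Z' hZ gz fst snd sq
  have hcov := isFpqcCover_of_flat_qc_surjective hX hY f hfl hqc hs
  obtain ⟨K, T, t, -, hsub, hlift⟩ := exists_family _ _ hcov hZ gz
  refine isSubmersiveLocal_isQuotientMap snd T t hsub fun k => ?_
  obtain ⟨_, l, hl⟩ := hlift k
  -- a section of the base change
  let s0 : (yon S).obj (T k) ⟶ Z' := sq.lift l (t k) hl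
  have hs0 : s0 ≫ snd = t k := sq.lift_snd _ _ _
  let s : (yon S).obj (T k) ⟶ pullback snd (t k) :=
    pullback.lift s0 (𝟙 _) (by rw [hs0, Category.id_comp])
  have hsec : s ≫ pullback.snd snd (t k) = 𝟙 _ := pullback.lift_snd _ _ _
  have hcomp : Points.map (pullback.snd snd (t k)) ∘ Points.map s = id := by
    funext x
    show Points.map (pullback.snd snd (t k)) (Points.map s x) = x
    rw [← Points.map_comp, hsec, Points.map_id]
  refine Topology.IsQuotientMap.of_comp (Points.continuous_map s)
    (Points.continuous_map _) ?_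
  rw [hcomp]
  exact Topology.IsQuotientMap.id

/-- A morphism of algebraic spaces that is flat, quasi-compact and surjective is submersive, and
universally submersive. -/
theorem result {S : Scheme.{u}} {X Y : AlgSp.Space S} (f : X ⟶ Y)
    (hfl : AlgSp.LocP @Flat f.hom) (hqc : AlgSp.IsQuasiCompactMor f.hom) (hs : AlgSp.IsSurjectiveMor f.hom) :
    AlgSp.IsSubmersiveMor f.hom ∧ AlgSp.IsUnivSubmersiveMor f.hom := by
  have h := isUnivSubmersiveMor_of_flat_qc_surjective X.property Y.property f.hom hfl hqc hs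
  exact ⟨h Y.property (𝟙 _) (𝟙 _) f.hom IsPullback.of_id_fst, h⟩

end Groth.Agent.S9963
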