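import Groth.Statements.S9967
import Groth.Agent.Lib.Helper23.SchImageQc5
import Groth.Agent.Lib.Helper23.AlgSpDiag2
import Groth.Agent.Lib.Helper23.AlgSpQc
import Groth.Agent.Lib.Helper23.AlgSpProper2
import Groth.Agent.Lib.Helper46.LargestOpen
import Groth.Agent.Lib.Helper17.AtlasCover
import Groth.Agent.Lib.Helper5.LargestOpenSp

set_option autoImplicit false
universe u
open CategoryTheory CategoryTheory.Limits AlgebraicGeometry
open AlgSp

namespace Groth.Agent.S9967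

open AlgSp Groth.Agent.Lib.Helper23.AlgSpMor Groth.Agent.Lib.Helper23.ClosedDescent Groth.Agent.Lib.Helper23.SchImageQc

/-- For a separated f : X -> Y and a section s of f over a quasi-compact open V of Y, the scheme
theoretic image of s maps isomorphically to Y over V. -/
theorem result {S : Scheme.{u}} {X Y V Y' : AlgSp.Space S} (f : X ⟶ Y) (j : V ⟶ Y)
    (hj : AlgSp.RepWith @IsOpenImmersion j.hom) (hjq : AlgSp.IsQuasiCompactMor j.hom) (hf : AlgSp.IsSeparatedMor f.hom)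
    (s : V ⟶ X) (hs : s ≫ f = j) (c : Y' ⟶ X) (hc : AlgSp.IsSchImage s.hom c.hom)
    {P : AlgSp.Sp S} (fst : P ⟶ Y'.obj) (snd : P ⟶ V.obj) (sq : IsPullback fst snd (c ≫ f).hom j.hom) :
    IsIso snd := by
  have hX := X.property
  have hY := Y.property
  have hV := V.property
  have hY' := Y'.property
  have hsf : s.hom ≫ f.hom = j.hom := congrArg (fun m => m.hom) hs
  obtain ⟨pr₁, hpr₁⟩ : ∃ pr₁, pr₁ = pullback.fst f.hom j.hom := ⟨_, rfl⟩
  obtain ⟨pr₂, hpr₂⟩ : ∃ pr₂, pr₂ = pullback.snd f.hom j.hom := ⟨_, rfl⟩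
  have sqXV : IsPullback pr₁ pr₂ f.hom j.hom := by
    rw [hpr₁, hpr₂]; exact IsPullback.of_hasPullback _ _
  have hXV : IsAlgSpace (pullback f.hom j.hom) := isAlgSpace_of_isPullback hX hV hY.diag sqXV
  obtain ⟨sV, hsV1, hsV2⟩ : ∃ sV : V.obj ⟶ pullback f.hom j.hom, sV ≫ pr₁ = s.hom ∧ sV ≫ pr₂ = 𝟙 _ :=
    ⟨sqXV.lift s.hom (𝟙 _) (by rw [hsf, Category.id_comp]), sqXV.lift_fst _ _ _, sqXV.lift_snd _ _ _⟩
  have hpr₂sep : IsSeparatedMor pr₂ := isSeparatedMor_of_isPullback sqXV hf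
  have hsVcl : RepWith @IsClosedImmersion sV := repWith_section_of_diagonal _ pr₂ sV hsV2 hpr₂sep
  have hpr₁o : RepWith @IsOpenImmersion pr₁ := (RepWith @IsOpenImmersion).of_isPullback sqXV.flip hj
  have hpr₁et : IsEtaleMor pr₁ := Groth.Agent.Lib.Helper46.LargestOpen.isEtaleMor_of_isOpenImmersion pr₁ hpr₁o
  have hpr₁flat : LocP @Flat pr₁ :=
    Groth.Agent.Lib.Helper17.ACov.locP_of_isEtaleMor (P := @Flat)
      (fun X Y f hf => by have := hf; infer_instance) pr₁ hpr₁et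
  have : Mono pr₁ := Groth.Agent.Lib.Helper62.mono_of_repWith @IsOpenImmersion (fun f hf => by
    have := hf; infer_instance) pr₁ hpr₁o
  have hfqs : IsQuasiSeparatedMor f.hom := repWith_quasiCompact_of_isClosedImmersion _ hf
  have hsq : IsQuasiCompactMor s.hom :=
    isQuasiCompactMor_of_comp_of_isQuasiSeparatedMor hV hY.diag s.hom f.hom (by rw [hsf]; exact hjq) hfqs
  have hcomm : fst ≫ (c ≫ f).hom = snd ≫ j.hom := sq.w
  obtain ⟨iV, hiV1, hiV2⟩ : ∃ iV : P ⟶ pullback f.hom j.hom, iV ≫ pr₁ = fst ≫ c.hom ∧ iV ≫ pr₂ = snd :=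
    ⟨sqXV.lift (fst ≫ c.hom) snd (by rw [Category.assoc]; exact hcomm), sqXV.lift_fst _ _ _,
      sqXV.lift_snd _ _ _⟩
  have t : IsPullback (iV ≫ pr₂) fst j.hom (c.hom ≫ f.hom) := by
    rw [hiV2]; exact sq.flip
  have sqP : IsPullback fst iV c.hom pr₁ := (IsPullback.of_right t hiV1 sqXV.flip).flip
  have sqV : IsPullback (𝟙 V.obj) sV s.hom pr₁ :=
    Groth.Agent.Lib.Helper5.LargestOpenSp.isPullback_of_factor pr₁ s.hom sV hsV1
  have himg : IsSchImage sV iV :=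
    isSchImage_of_flat_baseChange hXV hX hV hY' pr₁ hpr₁flat s.hom hsq c.hom hc (𝟙 _) sV sqV fst iV sqP
  obtain ⟨k, hk⟩ := himg.2.2 sV hV hsVcl ⟨𝟙 _, Category.id_comp _⟩
  obtain ⟨f', hf'⟩ := himg.2.1
  have : Mono iV := mono_of_repWith_isClosedImmersion iV himg.1
  have : Mono sV := mono_of_repWith_isClosedImmersion sV hsVcl
  have hsnd : snd = k := by rw [← hiV2, ← hk, Category.assoc, hsV2, Category.comp_id]
  rw [hsnd]
  refine ⟨f', ?_, ?_⟩
  · rw [← cancel_mono iV, Category.assoc, hf', hk, Category.id_comp]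
  · rw [← cancel_mono sV, Category.assoc, hk, hf', Category.id_comp]

end Groth.Agent.S9967
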