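import Groth.Statements.S9968
-- import your own Groth.Agent.* helpers here
import Groth.Agent.S3843
import Groth.Agent.Lib.Helper32.SDD1
import Groth.Agent.Lib.Helper5.SDD3

set_option autoImplicit false
universe u
open CategoryTheory CategoryTheory.Limits AlgebraicGeometry
open AlgSp

namespace Groth.Agent.S9968


/-- (2) ⇒ (1): if an open subspace is scheme theoretically dense on one surjective etale scheme chart
then its inverse image on every etale scheme chart is scheme theoretically dense. (Density is read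
as schematic density of the inverse image open, on both sides; the test objects are scheme charts.) -/
theorem result {S : Scheme.{u}} {U X : AlgSp.Space S} (j : U ⟶ X)
    (hj : AlgSp.IsSchDense j.hom) (V : Over S) (φ : (AlgSp.yon S).obj V ⟶ X.obj) (hφ : AlgSp.RepWith @Etale φ)
    (W : V.left.Opens) (fst : (AlgSp.yon S).obj (Over.mk (W.ι ≫ V.hom)) ⟶ U.obj)
    (sq : IsPullback fst ((AlgSp.yon S).map (Over.homMk W.ι rfl : Over.mk (W.ι ≫ V.hom) ⟶ V)) j.hom φ) :
    CInt.IsSchematicallyDense W := by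
  obtain ⟨-, V₀, φ₀, W₀, fst₀, hφ₀et, hφ₀surj, sq₀, hW₀⟩ := hj
  obtain ⟨T, p, q', sqT⟩ := hφ₀et.1 φ
  obtain ⟨q, rfl⟩ := (AlgSp.yon S).map_surjective q'
  have hp_et : Etale p.left := hφ₀et.2 φ ((AlgSp.yon S).map q) p sqT
  have hp_surj : Surjective p.left := hφ₀surj.2 φ ((AlgSp.yon S).map q) p sqT
  have hq_et : Etale q.left := hφ.2 φ₀ ((AlgSp.yon S).map p) q sqT.flip
  have h1 : CInt.IsSchematicallyDense (q.left ⁻¹ᵁ W₀) := Groth.Agent.S3843.result q.left W₀ hW₀
  rw [← Groth.Agent.Lib.Helper5.SDD3.D3 j.hom φ W fst sq φ₀ W₀ fst₀ sq₀ p q sqT.w.symm] at h1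
  exact Groth.Agent.Lib.Helper32.SDD1.D1 p.left W h1

end Groth.Agent.S9968
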