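import Groth.Statements.S9970
-- import your own Groth.Agent.* helpers here
import Groth.Agent.S9968
import Groth.Agent.Lib.Helper14.SDD4
import Groth.Agent.Lib.Helper77.SDE1
import Groth.Agent.Lib.Helper56.SDE2

set_option autoImplicit false
universe u
open CategoryTheory CategoryTheory.Limits AlgebraicGeometry
open AlgSp

namespace Groth.Agent.S9970


/-- The intersection of two scheme theoretically dense open subspaces is scheme theoretically dense. -/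
theorem result {S : Scheme.{u}} {U V X P : AlgSp.Space S} (jU : U ⟶ X) (jV : V ⟶ X)
    (hU : AlgSp.IsSchDense jU.hom) (hV : AlgSp.IsSchDense jV.hom) (fst : P ⟶ U) (snd : P ⟶ V)
    (sq : IsPullback fst.hom snd.hom jU.hom jV.hom) : AlgSp.IsSchDense (fst ≫ jU).hom := by
  obtain ⟨hUopen, V₀, φ₀, W_U, fstU, hφ₀et, hφ₀surj, sqU, hW_U⟩ := hU
  have hVopen := hV.1
  have hfst : AlgSp.RepWith @IsOpenImmersion fst.hom :=
    MorphismProperty.of_isPullback sq.flip hVopen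
  have hPopen : AlgSp.RepWith @IsOpenImmersion (fst ≫ jU).hom :=
    MorphismProperty.comp_mem _ _ _ hfst hUopen
  obtain ⟨W_V, fstV, sqV⟩ := Groth.Agent.Lib.Helper77.SDE1.E1 jV.hom hVopen φ₀
  have hW_V : CInt.IsSchematicallyDense W_V := Groth.Agent.S9968.result jV hV V₀ φ₀ hφ₀et W_V fstV sqV
  obtain ⟨W_P, fstP, sqP⟩ := Groth.Agent.Lib.Helper77.SDE1.E1 (fst ≫ jU).hom hPopen φ₀
  have hWP : W_P = W_U ⊓ W_V := by
    apply le_antisymm
    · obtain ⟨u, hu⟩ := (Groth.Agent.Lib.Helper56.SDE2.E2 (fst ≫ jU).hom φ₀ W_P fstP sqP W_P).1 le_rfl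
      refine le_inf ?_ ?_
      · exact (Groth.Agent.Lib.Helper56.SDE2.E2 jU.hom φ₀ W_U fstU sqU W_P).2 ⟨u ≫ fst.hom, by
          rw [Category.assoc]; exact hu⟩
      · exact (Groth.Agent.Lib.Helper56.SDE2.E2 jV.hom φ₀ W_V fstV sqV W_P).2 ⟨u ≫ snd.hom, by
          rw [Category.assoc, ← sq.w]; exact hu⟩
    · obtain ⟨u₁, hu₁⟩ := (Groth.Agent.Lib.Helper56.SDE2.E2 jU.hom φ₀ W_U fstU sqU (W_U ⊓ W_V)).1 inf_le_left
      obtain ⟨u₂, hu₂⟩ := (Groth.Agent.Lib.Helper56.SDE2.E2 jV.hom φ₀ W_V fstV sqV (W_U ⊓ W_V)).1 inf_le_right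
      refine (Groth.Agent.Lib.Helper56.SDE2.E2 (fst ≫ jU).hom φ₀ W_P fstP sqP (W_U ⊓ W_V)).2
        ⟨sq.lift u₁ u₂ (hu₁.trans hu₂.symm), ?_⟩
      change sq.lift u₁ u₂ _ ≫ fst.hom ≫ jU.hom = _
      rw [← Category.assoc, sq.lift_fst]; exact hu₁
  refine ⟨hPopen, V₀, φ₀, W_P, fstP, hφ₀et, hφ₀surj, sqP, ?_⟩
  rw [hWP]
  exact Groth.Agent.Lib.Helper14.SDD4.D4 W_U W_V hW_U hW_V

end Groth.Agent.S9970
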