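import Groth.Statements.S9972
import Groth.Agent.Lib.Helper23.AlgSpMor4

set_option autoImplicit false
universe u
open CategoryTheory CategoryTheory.Limits AlgebraicGeometry
open AlgSp

namespace Groth.Agent.S9972

/-- Two morphisms to an algebraic space separated over B that agree on an open subspace whose scheme
theoretic closure is everything are equal. -/
theorem result {S : Scheme.{u}} {U X Y B : AlgSp.Space S} (q : Y ⟶ B)
    (hq : AlgSp.IsSeparatedMor q.hom) (f g : X ⟶ Y) (hfg : f ≫ q = g ≫ q) (j : U ⟶ X)
    (hj : AlgSp.RepWith @IsOpenImmersion j.hom) (hcl : AlgSp.IsSchImage j.hom (𝟙 X.obj)) (heq : j ≫ f = j ≫ g) :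
    f = g := by
  have hfg' : f.hom ≫ q.hom = g.hom ≫ q.hom := congrArg (fun φ => φ.hom) hfg
  have heq' : j.hom ≫ f.hom = j.hom ≫ g.hom := congrArg (fun φ => φ.hom) heq
  let fg : X.obj ⟶ pullback q.hom q.hom := pullback.lift f.hom g.hom hfg'
  let i' : pullback fg (pullback.diagonal q.hom) ⟶ X.obj := pullback.fst _ _
  have hi' : AlgSp.RepWith @IsClosedImmersion i' :=
    MorphismProperty.pullback_fst (P := AlgSp.RepWith @IsClosedImmersion) _ _ hq
  have hYY : AlgSp.IsAlgSpace (pullback q.hom q.hom) :=
    Groth.Agent.Lib.Helper23.AlgSpMor.isAlgSpace_of_isPullback Y.property Y.property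
      B.property.diag (IsPullback.of_hasPullback q.hom q.hom)
  have hE : AlgSp.IsAlgSpace (pullback fg (pullback.diagonal q.hom)) :=
    Groth.Agent.Lib.Helper23.AlgSpMor.isAlgSpace_of_isPullback X.property Y.property
      hYY.diag (IsPullback.of_hasPullback fg (pullback.diagonal q.hom))
  have hfac : ∃ f'' : U.obj ⟶ pullback fg (pullback.diagonal q.hom), f'' ≫ i' = j.hom := by
    refine ⟨pullback.lift j.hom (j.hom ≫ f.hom) ?_, pullback.lift_fst _ _ _⟩
    apply pullback.hom_ext
    · rw [Category.assoc, Category.assoc, pullback.diagonal_fst, Category.comp_id]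
      change j.hom ≫ pullback.lift f.hom g.hom hfg' ≫ pullback.fst q.hom q.hom = _
      rw [pullback.lift_fst]
    · rw [Category.assoc, Category.assoc, pullback.diagonal_snd, Category.comp_id]
      change j.hom ≫ pullback.lift f.hom g.hom hfg' ≫ pullback.snd q.hom q.hom = _
      rw [pullback.lift_snd, heq']
  obtain ⟨k, hk⟩ := hcl.2.2 i' hE hi' hfac
  have h1 : i' ≫ f.hom = i' ≫ g.hom := by
    have hc : i' ≫ fg = pullback.snd fg (pullback.diagonal q.hom) ≫ pullback.diagonal q.hom :=
      pullback.condition
    have e1 := congrArg (fun φ => φ ≫ pullback.fst q.hom q.hom) hc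
    have e2 := congrArg (fun φ => φ ≫ pullback.snd q.hom q.hom) hc
    simp only [Category.assoc, fg, pullback.lift_fst, pullback.lift_snd,
      pullback.diagonal_fst, pullback.diagonal_snd, Category.comp_id] at e1 e2
    rw [e1, e2]
  have h2 : f.hom = g.hom := by
    rw [← Category.id_comp f.hom, ← Category.id_comp g.hom, ← hk, Category.assoc, Category.assoc, h1]
  exact ObjectProperty.hom_ext _ h2

end Groth.Agent.S9972
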