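import Groth.Statements.S9973
import Groth.Agent.Lib.Helper30.SchDense
import Groth.Agent.Lib.Helper23.AlgSpMor7

set_option autoImplicit false
universe u
open CategoryTheory CategoryTheory.Limits AlgebraicGeometry
open AlgSp

namespace Groth.Agent.S9973

open Groth.Agent.Lib.Helper30.SchDense Groth.Agent.Lib.Helper23.AlgSpMor

set_option backward.isDefEq.respectTransparency false in

/-- The inverse image of a quasi-compact scheme theoretically dense open under a flat morphism of
algebraic spaces is scheme theoretically dense. -/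
theorem result {S : Scheme.{u}} {X Y V V' : AlgSp.Space S} (f : X ⟶ Y)
    (hf : AlgSp.LocP @Flat f.hom) (j : V ⟶ Y) (hj : AlgSp.IsSchDense j.hom) (hjq : AlgSp.IsQuasiCompactMor j.hom)
    (fst : V' ⟶ V) (jX : V' ⟶ X) (sq : IsPullback fst.hom jX.hom j.hom f.hom) : AlgSp.IsSchDense jX.hom := by
  obtain ⟨hjO, V₀, φ, W, fstG, hφE, hφS, sqG, hW⟩ := hj
  have hjX : AlgSp.RepWith @IsOpenImmersion jX.hom :=
    MorphismProperty.of_isPullback (P := AlgSp.RepWith @IsOpenImmersion) sq hjO
  have hjqc : AlgSp.RepWith @QuasiCompact j.hom :=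
    repWith_quasiCompact_of_isQuasiCompactMor j.hom hjO.rep hjq
  have hWqc : QuasiCompact W.ι := hjqc.property _ _ _ sqG
  obtain ⟨A, a, haE, haS⟩ := X.property.atlas
  have hrep := hφE.rep
  have sqW := hrep.isPullback' (a ≫ f.hom)
  set p := hrep.fst' (a ≫ f.hom) with hp
  set q := hrep.snd (a ≫ f.hom) with hq
  have hqE : Etale q.left := hφE.property_snd (a ≫ f.hom)
  have hqS : Surjective q.left := hφS.property _ _ _ (hrep.isPullback (a ≫ f.hom))
  have hψE : AlgSp.RepWith @Etale ((AlgSp.yon S).map q ≫ a) :=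
    MorphismProperty.comp_mem _ _ _ ((AlgSp.repWith_yon_map_iff _ _).2 hqE) haE
  have hψS : AlgSp.RepWith @Surjective ((AlgSp.yon S).map q ≫ a) :=
    MorphismProperty.comp_mem _ _ _ ((AlgSp.repWith_yon_map_iff _ _).2 hqS) haS
  have hw : ((AlgSp.yon S).map q ≫ a) ≫ f.hom = (AlgSp.yon S).map p ≫ φ := by
    rw [Category.assoc]; exact sqW.w.symm
  have hpflat : Flat p.left := hf _ _ p hψE hφE hw
  obtain ⟨fst', sq'⟩ := exists_isPullback_preimage sq W sqG ((AlgSp.yon S).map q ≫ a) p hw
  exact ⟨hjX, _, (AlgSp.yon S).map q ≫ a, p.left ⁻¹ᵁ W, fst', hψE, hψS, sq',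
    dense_preimage_of_flat p.left W hW⟩

end Groth.Agent.S9973
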