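import Groth.Statements.S9976
-- import your own Groth.Agent.* helpers here
import Groth.Agent.S9961
import Groth.Agent.Lib.Helper46.LocPChart
import Groth.Agent.Lib.Helper30.EtLocalInst
import Groth.Agent.Lib.Helper23.AlgSpMor4
import Groth.Agent.Lib.Helper37.AlgSpPoints

set_option autoImplicit false
universe u
open CategoryTheory CategoryTheory.Limits AlgebraicGeometry
open AlgSp

namespace Groth.Agent.S9976

open Groth.Agent.Lib.Helper37.AlgSpPoints Groth.Agent.Lib.Helper46.LocPChart
  Groth.Agent.Lib.Helper30.EtLocalInst Groth.Agent.Lib.Helper46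

/-- `LocP Q` of a `yon`-map follows from the scheme-level property. -/
theorem locP_yon_map_of {S : Scheme.{u}} {Q : MorphismProperty Scheme.{u}} (hQ : EtLocal Q)
    {U V : Over S} (g : U ⟶ V) (hg : Q g.left) : LocP Q ((yon S).map g) :=
  locP_of_chart hQ ((yon S).map g) (𝟙 _) (𝟙 _) g (repWith_id @Etale _) (repWith_id @Surjective _)
    (repWith_id @Etale _) (by rw [Category.id_comp, Category.comp_id]) hg

/-- A closed point `u` of an étale chart `a : h_U ⟶ P` of an algebraic space gives a finite type
point of `P`. -/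
theorem exists_ftPoint_of_isClosed {S : Scheme.{u}} {P : AlgSp.Sp S} (hP : IsAlgSpace P)
    {U : Over S} (a : (yon S).obj U ⟶ P) (hae : RepWith @Etale a) (u : ↥U.left)
    (hu : IsClosed ({u} : Set ↥U.left)) :
    ∃ (k : Type u) (_ : Field k) (str : Spec (CommRingCat.of k) ⟶ S) (ι : Over.mk str ⟶ U),
      LocP @LocallyOfFiniteType ((yon S).map ι ≫ a) ∧ ι.left (IsLocalRing.closedPoint k) = u := by
  have hcl : IsClosedImmersion (U.left.fromSpecResidueField u) :=
    isClosed_singleton_iff_isClosedImmersion.1 hu
  let str' : Spec (CommRingCat.of ↥(U.left.residueField u)) ⟶ S :=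
    U.left.fromSpecResidueField u ≫ U.hom
  let ι : Over.mk str' ⟶ U := Over.homMk (U.left.fromSpecResidueField u) rfl
  refine ⟨↥(U.left.residueField u), inferInstance, str', ι, ?_, ?_⟩
  · have h1 : LocP @LocallyOfFiniteType ((yon S).map ι) := by
      refine locP_yon_map_of etLocal_lft ι ?_
      change LocallyOfFiniteType (U.left.fromSpecResidueField u)
      infer_instance
    have h2 : LocP @LocallyOfFiniteType a := by
      refine Groth.Agent.S9961.locP_of_repWith etLocal_lft ?_ hP a hae
      intro A B g hg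
      have : Etale g := hg
      exact (inferInstance : LocallyOfFiniteType g)
    exact locP_comp etLocal_lft (IsAlgSpace.yon_obj _) (IsAlgSpace.yon_obj _) hP _ _ h1 h2
  · exact Scheme.fromSpecResidueField_apply _ _

/-- Under a surjective morphism locally of finite type, every finite type point of the target is the
image of a finite type point of the source. (The published lemma states that the two sets of finite
type points correspond exactly; the inclusion of the image in the finite type points of the target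
holds for every morphism locally of finite type and is omitted here.) -/
theorem result {S : Scheme.{u}} {X Y : AlgSp.Space S} (f : X ⟶ Y)
    (hf : AlgSp.LocP @LocallyOfFiniteType f.hom) (hs : AlgSp.IsSurjectiveMor f.hom) (y : AlgSp.Points Y.obj)
    (hy : ∃ (k : Type u) (_ : Field k) (str : Spec (CommRingCat.of k) ⟶ S) (ξ : (AlgSp.yon S).obj (Over.mk str) ⟶ Y.obj),
        AlgSp.LocP @LocallyOfFiniteType ξ ∧ AlgSp.Points.ofPt ξ (IsLocalRing.closedPoint k) = y) :
    ∃ x : AlgSp.Points X.obj, AlgSp.Points.map f.hom x = y ∧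
      ∃ (k : Type u) (_ : Field k) (str : Spec (CommRingCat.of k) ⟶ S) (ξ : (AlgSp.yon S).obj (Over.mk str) ⟶ X.obj),
        AlgSp.LocP @LocallyOfFiniteType ξ ∧ AlgSp.Points.ofPt ξ (IsLocalRing.closedPoint k) = x := by
  obtain ⟨k, _, str, ξ, hξ, rfl⟩ := hy
  have sq := IsPullback.of_hasPullback f.hom ξ
  have hP : IsAlgSpace (pullback f.hom ξ) :=
    Groth.Agent.Lib.Helper23.AlgSpMor.isAlgSpace_of_isPullback X.property (IsAlgSpace.yon_obj _)
      Y.property.diag sq
  have hsnd : LocP @LocallyOfFiniteType (pullback.snd f.hom ξ) :=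
    locP_of_isPullback etLocal_lft X.property Y.property hP (IsAlgSpace.yon_obj _) sq hf
  have hfst : LocP @LocallyOfFiniteType (pullback.fst f.hom ξ) :=
    locP_of_isPullback etLocal_lft (IsAlgSpace.yon_obj _) Y.property hP X.property sq.flip hξ
  obtain ⟨x₀, hx₀⟩ := hs (Points.ofPt ξ (IsLocalRing.closedPoint k))
  obtain ⟨p₀, hp1, hp2⟩ := points_exists_of_isPullback sq x₀
    (Points.ofScheme _ (IsLocalRing.closedPoint k))
    (by rw [hx₀, Points.map_ofPt, Category.id_comp])
  obtain ⟨U, a, hae, has⟩ := hP.atlas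
  obtain ⟨u₀, hu₀⟩ := ofPt_surjective a has p₀
  obtain ⟨h, hh⟩ := (yon S).map_surjective (a ≫ pullback.snd f.hom ξ)
  have : LocallyOfFiniteType h.left :=
    hsnd a (𝟙 _) h hae (repWith_id @Etale _) (by rw [hh, Category.comp_id])
  have : JacobsonSpace ↥U.left :=
    LocallyOfFiniteType.jacobsonSpace (Y := Spec (CommRingCat.of k)) h.left
  obtain ⟨u, -, hu⟩ := nonempty_inter_closedPoints (X := ↥U.left) (Z := Set.univ) ⟨u₀, trivial⟩
    isOpen_univ.isLocallyClosed
  obtain ⟨k', _, str', ι, hι, hιu⟩ := exists_ftPoint_of_isClosed hP a hae u hu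
  refine ⟨Points.ofPt (((yon S).map ι ≫ a) ≫ pullback.fst f.hom ξ) (IsLocalRing.closedPoint k'), ?_,
    k', inferInstance, str', _, ?_, rfl⟩
  · rw [Points.map_ofPt]
    have e : (((yon S).map ι ≫ a) ≫ pullback.fst f.hom ξ) ≫ f.hom = (yon S).map (ι ≫ h) ≫ ξ := by
      rw [Category.assoc, Category.assoc, pullback.condition, Functor.map_comp, hh]
      simp only [Category.assoc]
    rw [e, ofPt_map_comp]
    congr 1
    exact Subsingleton.elim (α := ↥(Spec (CommRingCat.of k))) _ _
  · exact locP_comp etLocal_lft (IsAlgSpace.yon_obj _) hP X.property _ _ hι hfst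

end Groth.Agent.S9976
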