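import Groth.Statements.S9975
-- import your own Groth.Agent.* helpers here
import Groth.Agent.S9976
import Groth.Agent.Lib.Helper36.FTPoint
import Groth.Agent.Lib.Helper36.AlgSpCharts
import Groth.Agent.Lib.Helper30.EtaleQuasiFinite
import Groth.Agent.Lib.Helper23.AlgSpMor2

set_option autoImplicit false
universe u
open CategoryTheory CategoryTheory.Limits AlgebraicGeometry
open AlgSp

namespace Groth.Agent.S9975

open Groth.Agent.Lib.Helper37.AlgSpPoints Groth.Agent.Lib.Helper23.AlgSpMor
  Groth.Agent.Lib.Helper36.AlgSpCharts Groth.Agent.Lib.Helper36.FTPoint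

/-- A point of an algebraic space is a finite type point (represented by a locally finite type morphism
from the spectrum of a field) exactly when it is the image of a closed point of some etale scheme
chart. -/
theorem result {S : Scheme.{u}} (X : AlgSp.Space S) (x : AlgSp.Points X.obj) :
    (∃ (k : Type u) (_ : Field k) (str : Spec (CommRingCat.of k) ⟶ S) (ξ : (AlgSp.yon S).obj (Over.mk str) ⟶ X.obj),
        AlgSp.LocP @LocallyOfFiniteType ξ ∧ AlgSp.Points.ofPt ξ (IsLocalRing.closedPoint k) = x) ↔
      ∃ (U : Over S) (φ : (AlgSp.yon S).obj U ⟶ X.obj) (u : ↥U.left), AlgSp.RepWith @Etale φ ∧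
        IsClosed ({u} : Set ↥U.left) ∧ AlgSp.Points.ofPt φ u = x := by
  constructor
  · rintro ⟨k, _, str, ξ, hξ, rfl⟩
    obtain ⟨U, φ, hφe, hφs⟩ := X.property.atlas
    obtain ⟨T, t2, t1, sq⟩ := exists_isPullback_yon ξ φ hφe.rep
    have ht2e : Etale t2.left := prop_fst_of_isPullback sq hφe
    have ht2s : Surjective t2.left := prop_fst_of_isPullback sq hφs
    have ht1 : LocallyOfFiniteType t1.left :=
      hξ ((yon S).map t2) φ t1 ((repWith_yon_map_iff _ _).2 ht2e) hφe sq.w
    obtain ⟨t₀, ht₀⟩ := ht2s.surj (IsLocalRing.closedPoint k)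
    -- `T` is discrete
    have : LocallyQuasiFinite t2.left :=
      Groth.Agent.Lib.Helper30.locallyQuasiFinite_of_etale t2.left
    have hArt : IsLocallyArtinian (Spec (CommRingCat.of k)) := by
      rw [Scheme.isLocallyArtinianScheme_Spec]
      infer_instance
    have : IsLocallyArtinian T.left :=
      IsLocallyArtinian.of_locallyQuasiFinite (Y := Spec (CommRingCat.of k)) t2.left
    have hcl : IsClosed ({t₀} : Set ↥T.left) := isClosed_discrete _
    have : IsClosedImmersion (T.left.fromSpecResidueField t₀) :=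
      isClosed_singleton_iff_isClosedImmersion.1 hcl
    let s : Spec (CommRingCat.of ↥(T.left.residueField t₀)) ⟶ U.left :=
      T.left.fromSpecResidueField t₀ ≫ t1.left
    have hs : LocallyOfFiniteType s := by
      change LocallyOfFiniteType (T.left.fromSpecResidueField t₀ ≫ t1.left)
      infer_instance
    obtain ⟨W, hu, hW⟩ := exists_opens_isClosed_singleton (U := U.left)
      ↥(T.left.residueField t₀) s
    have hsu : s (IsLocalRing.closedPoint ↥(T.left.residueField t₀)) = t1.left t₀ := by
      change (T.left.fromSpecResidueField t₀ ≫ t1.left) _ = _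
      rw [Scheme.Hom.comp_apply, Scheme.fromSpecResidueField_apply]
    refine ⟨overOpens U W, (yon S).map (overOpensι U W) ≫ φ, ⟨_, hu⟩,
      (RepWith @Etale).comp_mem _ _ (repWith_etale_overOpensι U W) hφe, hW, ?_⟩
    rw [ofPt_overOpensι_comp]
    change Points.ofPt φ (s _) = _
    rw [hsu, ← ofPt_map_comp, ← sq.w, ofPt_map_comp, ht₀]
  · rintro ⟨U, φ, u, hφe, hu, rfl⟩
    obtain ⟨k', _, str', ι, hι, hιu⟩ :=
      Groth.Agent.S9976.exists_ftPoint_of_isClosed X.property φ hφe u hu
    refine ⟨k', inferInstance, str', _, hι, ?_⟩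
    rw [ofPt_map_comp, hιu]

end Groth.Agent.S9975
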