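import Groth.Statements.S9977
-- import your own Groth.Agent.* helpers here
import Groth.Agent.S9976
import Groth.Agent.Lib.Helper23.AlgSpMor2

set_option autoImplicit false
universe u
open CategoryTheory CategoryTheory.Limits AlgebraicGeometry
open AlgSp

namespace Groth.Agent.S9977

open Groth.Agent.Lib.Helper37.AlgSpPoints Groth.Agent.Lib.Helper23.AlgSpMor

/-- Every nonempty locally closed subset of `|X|` contains a finite type point. -/
theorem exists_ftPoint_mem {S : Scheme.{u}} (X : AlgSp.Space S) (T : Set (AlgSp.Points X.obj))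
    (hT : IsLocallyClosed T) (hne : T.Nonempty) :
    ∃ x ∈ T, (∃ (k : Type u) (_ : Field k) (str : Spec (CommRingCat.of k) ⟶ S) (ξ : (AlgSp.yon S).obj (Over.mk str) ⟶ X.obj),
        AlgSp.LocP @LocallyOfFiniteType ξ ∧ AlgSp.Points.ofPt ξ (IsLocalRing.closedPoint k) = x) := by
  obtain ⟨x₀, hx₀⟩ := hne
  obtain ⟨U, a, hae, has⟩ := X.property.atlas
  obtain ⟨u₀, rfl⟩ := ofPt_surjective a has x₀
  have hT' : IsLocallyClosed (Points.ofPt a ⁻¹' T) := hT.preimage (Points.continuous_ofPt a)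
  obtain ⟨O, Z, hO, hZ, hOZ⟩ := hT'
  have hu₀ : u₀ ∈ O ∩ Z := by rw [← hOZ]; exact hx₀
  obtain ⟨_, ⟨W, hW, rfl⟩, hu₀W, hWO⟩ :=
    U.left.isBasis_affineOpens.exists_subset_of_mem_open hu₀.1 hO
  have : CompactSpace ↥W := isCompact_iff_compactSpace.1 hW.isCompact
  have hS : IsClosed ((Subtype.val : ↥W → ↥U.left) ⁻¹' Z) := hZ.preimage continuous_subtype_val
  obtain ⟨w, hwZ, hw⟩ := hS.exists_closed_singleton ⟨⟨u₀, hu₀W⟩, hu₀.2⟩
  have hae' : RepWith @Etale ((yon S).map (overOpensι U W) ≫ a) :=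
    (RepWith @Etale).comp_mem _ _ (repWith_etale_overOpensι U W) hae
  obtain ⟨k', _, str', ι, hι, hιu⟩ :=
    Groth.Agent.S9976.exists_ftPoint_of_isClosed (U := overOpens U W) X.property _ hae' w hw
  refine ⟨Points.ofPt ((yon S).map ι ≫ (yon S).map (overOpensι U W) ≫ a) (IsLocalRing.closedPoint k'),
    ?_, k', inferInstance, str', _, hι, rfl⟩
  rw [ofPt_map_comp, hιu, ofPt_overOpensι_comp]
  have : (Scheme.Opens.ι (X := U.left) W) w ∈ Points.ofPt a ⁻¹' T := by
    rw [hOZ]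
    exact ⟨hWO w.2, hwZ⟩
  exact this

/-- Every nonempty locally closed subset of |X| contains a finite type point, and finite type points are
dense in every closed subset. -/
theorem result {S : Scheme.{u}} (X : AlgSp.Space S) :
    (∀ T : Set (AlgSp.Points X.obj), IsLocallyClosed T → T.Nonempty →
      ∃ x ∈ T, (∃ (k : Type u) (_ : Field k) (str : Spec (CommRingCat.of k) ⟶ S) (ξ : (AlgSp.yon S).obj (Over.mk str) ⟶ X.obj),
        AlgSp.LocP @LocallyOfFiniteType ξ ∧ AlgSp.Points.ofPt ξ (IsLocalRing.closedPoint k) = x)) ∧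
    (∀ T : Set (AlgSp.Points X.obj), IsClosed T →
      T ⊆ closure {x | x ∈ T ∧ (∃ (k : Type u) (_ : Field k) (str : Spec (CommRingCat.of k) ⟶ S) (ξ : (AlgSp.yon S).obj (Over.mk str) ⟶ X.obj),
        AlgSp.LocP @LocallyOfFiniteType ξ ∧ AlgSp.Points.ofPt ξ (IsLocalRing.closedPoint k) = x)}) := by
  refine ⟨fun T hT hne => exists_ftPoint_mem X T hT hne, fun T hT x hx => ?_⟩
  rw [mem_closure_iff]
  intro O hO hxO
  obtain ⟨x', hx', hft⟩ := exists_ftPoint_mem X (T ∩ O) (hT.isLocallyClosed.inter hO.isLocallyClosed)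
    ⟨x, hx, hxO⟩
  exact ⟨x', hx'.2, hx'.1, hft⟩

end Groth.Agent.S9977
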