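import Groth.Statements.S9981
-- import your own Groth.Agent.* helpers here
import Groth.Agent.Lib.Helper36.AlgSpChartDiag
import Groth.Agent.Lib.Helper30.LocConstr

set_option autoImplicit false
universe u
open CategoryTheory CategoryTheory.Limits AlgebraicGeometry
open AlgSp

namespace Groth.Agent.S9981

open Groth.Agent.Lib.Helper36.AlgSpChartDiag Groth.Agent.Lib.Helper37.AlgSpPoints
  Groth.Agent.Lib.Helper30

/-- The inverse image of an etale locally constructible subset under a morphism of algebraic spaces is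
etale locally constructible. -/
theorem result {S : Scheme.{u}} {X Y : AlgSp.Space S} (f : X ⟶ Y)
    (E : Set (AlgSp.Points Y.obj))
    (hE : (∀ (U : Over S) (φ : (AlgSp.yon S).obj U ⟶ Y.obj), AlgSp.RepWith @Etale φ →
        Topology.IsLocallyConstructible (AlgSp.Points.ofPt φ ⁻¹' E))) :
    (∀ (U : Over S) (φ : (AlgSp.yon S).obj U ⟶ X.obj), AlgSp.RepWith @Etale φ →
        Topology.IsLocallyConstructible (AlgSp.Points.ofPt φ ⁻¹' (AlgSp.Points.map f.hom ⁻¹' E))) := by
  intro U φ hφ
  obtain ⟨V, b, hbe, hbs⟩ := Y.property.atlas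
  obtain ⟨W, p1, h, h1, h2, sq⟩ := exists_chart_diagram_of_charts f.hom φ b hbe
  have : Etale p1.left := h1
  have hsurj : Surjective p1.left := h2 hbs
  refine isLocallyConstructible_of_preimage p1.left hsurj.surj ?_
  have key : p1.left ⁻¹' (AlgSp.Points.ofPt φ ⁻¹' (AlgSp.Points.map f.hom ⁻¹' E)) =
      h.left ⁻¹' (AlgSp.Points.ofPt b ⁻¹' E) := by
    ext w
    simp only [Set.mem_preimage]
    rw [← ofPt_map_comp h b w, ← sq.w, Points.map_ofPt, ofPt_map_comp]
  rw [key]
  exact isLocallyConstructible_preimage h.left (hE V b hbe)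

end Groth.Agent.S9981
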