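import Groth.Statements.S9982
-- import your own Groth.Agent.* helpers here
import Groth.Agent.Lib.Helper46.LocPChart
import Groth.Agent.Lib.Helper30.EtLocalInst
import Groth.Agent.Lib.Helper23.AlgSpMor6

set_option autoImplicit false
universe u
open CategoryTheory CategoryTheory.Limits AlgebraicGeometry
open AlgSp

namespace Groth.Agent.S9982

open Groth.Agent.Lib.Helper23.AlgSpMor Groth.Agent.Lib.Helper46
  Groth.Agent.Lib.Helper46.LocPChart Groth.Agent.Lib.Helper37.AlgSpPoints

/-- The affine case of Chevalley's theorem for algebraic spaces. -/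
theorem isLocallyConstructible_of_affine {S : Scheme.{u}} {X Y : AlgSp.Sp S} (hX : IsAlgSpace X)
    (hY : IsAlgSpace Y) (f : X ⟶ Y)
    (hq : AlgSp.IsQuasiCompactMor f) (hfp : AlgSp.LocP @LocallyOfFinitePresentation f)
    (E : Set (AlgSp.Points X))
    (hE : (∀ (U : Over S) (φ : (AlgSp.yon S).obj U ⟶ X), AlgSp.RepWith @Etale φ →
        Topology.IsLocallyConstructible (AlgSp.Points.ofPt φ ⁻¹' E)))
    (U : Over S) [IsAffine U.left] (φ : (AlgSp.yon S).obj U ⟶ Y) (hφ : AlgSp.RepWith @Etale φ) :
    Topology.IsLocallyConstructible (AlgSp.Points.ofPt φ ⁻¹' (AlgSp.Points.map f '' E)) := by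
  have sq := IsPullback.of_hasPullback f φ
  have hP : IsQuasiCompactSp (pullback f φ) :=
    hq (IsAlgSpace.yon_obj U) (isQuasiCompactSp_yon_of_isAffine U) φ _ _ sq
  obtain ⟨T, t, hT, hte, hts⟩ := exists_affine_chart_of_isQuasiCompactSp hP
  obtain ⟨c, hc⟩ := (yon S).map_surjective (t ≫ pullback.snd f φ)
  have hlfp : LocallyOfFinitePresentation c.left :=
    locP_fibre Groth.Agent.Lib.Helper30.EtLocalInst.etLocal_lfp hX hY f hfp φ _ _ sq t hte c hc
  have hqc : QuasiCompact c.left := by
    rw [HasAffineProperty.iff_of_isAffine (P := @QuasiCompact)]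
    infer_instance
  have hfe : RepWith @Etale (pullback.fst f φ) := (RepWith @Etale).of_isPullback sq.flip hφ
  have hae : RepWith @Etale (t ≫ pullback.fst f φ) := (RepWith @Etale).comp_mem _ _ hte hfe
  have hET := hE T (t ≫ pullback.fst f φ) hae
  have key : AlgSp.Points.ofPt φ ⁻¹' (AlgSp.Points.map f '' E) =
      c.left '' (AlgSp.Points.ofPt (t ≫ pullback.fst f φ) ⁻¹' E) := by
    ext u
    constructor
    · rintro ⟨x, hxE, hx⟩
      obtain ⟨p, hp1, hp2⟩ := points_exists_of_isPullback sq x (Points.ofScheme U u) (by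
        rw [hx, Points.ofPt_eq_map_ofScheme])
      obtain ⟨w, rfl⟩ := ofPt_surjective t hts p
      refine ⟨w, ?_, ?_⟩
      · show Points.ofPt (t ≫ pullback.fst f φ) w ∈ E
        rw [← Points.map_ofPt, hp1]
        exact hxE
      · have h1 : Points.ofScheme U (c.left w) = Points.ofScheme U u := by
          rw [← ofPt_yon_map, hc, ← Points.map_ofPt, hp2]
        have := congrArg (Points.toScheme U) h1
        simpa using this
    · rintro ⟨w, hw, rfl⟩
      refine ⟨Points.ofPt (t ≫ pullback.fst f φ) w, hw, ?_⟩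
      rw [Points.map_ofPt, Category.assoc, pullback.condition, ← Category.assoc, ← hc,
        ofPt_map_comp]
  rw [key]
  exact c.left.isLocallyConstructible_image hET

/-- A quasi-compact morphism locally of finite presentation between algebraic spaces maps etale locally
constructible sets to etale locally constructible sets. -/
theorem result {S : Scheme.{u}} {X Y : AlgSp.Space S} (f : X ⟶ Y)
    (hq : AlgSp.IsQuasiCompactMor f.hom) (hfp : AlgSp.LocP @LocallyOfFinitePresentation f.hom)
    (E : Set (AlgSp.Points X.obj))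
    (hE : (∀ (U : Over S) (φ : (AlgSp.yon S).obj U ⟶ X.obj), AlgSp.RepWith @Etale φ →
        Topology.IsLocallyConstructible (AlgSp.Points.ofPt φ ⁻¹' E))) :
    (∀ (U : Over S) (φ : (AlgSp.yon S).obj U ⟶ Y.obj), AlgSp.RepWith @Etale φ →
        Topology.IsLocallyConstructible (AlgSp.Points.ofPt φ ⁻¹' (AlgSp.Points.map f.hom '' E))) := by
  intro U φ hφ
  refine .of_isOpenCover (U := fun V₀ : U.left.affineOpens => (V₀ : U.left.Opens))
    (iSup_affineOpens_eq_top U.left) fun V₀ => ?_
  have : IsAffine (overOpens U V₀.1).left := V₀.2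
  have hφ₀ : RepWith @Etale ((yon S).map (overOpensι U V₀.1) ≫ φ) :=
    (RepWith @Etale).comp_mem _ _ (repWith_etale_overOpensι U V₀.1) hφ
  have h := isLocallyConstructible_of_affine X.property Y.property f.hom hq hfp E hE
    (overOpens U V₀.1) ((yon S).map (overOpensι U V₀.1) ≫ φ) hφ₀
  have hEq : AlgSp.Points.ofPt ((yon S).map (overOpensι U V₀.1) ≫ φ) ⁻¹'
        (AlgSp.Points.map f.hom '' E) =
      (fun v : (V₀.1 : U.left.Opens).toScheme =>
        v.1 ∈ AlgSp.Points.ofPt φ ⁻¹' (AlgSp.Points.map f.hom '' E)) := by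
    ext v
    show _ ↔ v.1 ∈ AlgSp.Points.ofPt φ ⁻¹' (AlgSp.Points.map f.hom '' E)
    simp only [Set.mem_preimage]
    rw [ofPt_overOpensι_comp]
    rfl
  rw [hEq] at h
  exact h

end Groth.Agent.S9982
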