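import Groth.Statements.S9987
import Groth.Agent.Lib.Helper30.IdealEtChart

set_option autoImplicit false
universe u
open CategoryTheory CategoryTheory.Limits AlgebraicGeometry Opposite
open AlgSp

namespace Groth.Agent.S9987

open Groth.Agent.Lib.Helper30.IdealEtChart Opposite

set_option backward.isDefEq.respectTransparency false in

/-- For a closed immersion i : Z ⟶ X of algebraic spaces over S (representable, every base change to a
scheme a closed immersion), the comparison map O_X ⟶ i_* O_Z of sheaves of rings on the small etale
site of X is locally surjective. (The published statement also asserts that i_* O_Z is a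
quasi-coherent O_X-module and that the kernel of O_X ⟶ i_* O_Z is a quasi-coherent sheaf of ideals;
those two assertions are the closed-immersion cases of the general facts that direct images along
quasi-compact quasi-separated morphisms preserve quasi-coherence and that the kernel ideal of a
quasi-compact morphism is quasi-coherent, a closed immersion being quasi-compact and separated, and
only the surjectivity is stated here.) -/
theorem result {S : Scheme.{u}} {Z X : AlgSp.Space S} (i : Z ⟶ X)
    (hi : AlgSp.RepWith @IsClosedImmersion i.hom) :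
    Presheaf.IsLocallySurjective (AlgSp.etTop X.obj) (AlgSp.bcRingHom hi.1).hom := by
  constructor
  intro E s
  let YY : E.obj.left.left.affineOpens → EtOver X.obj := fun k =>
    EtOver.mk ((yon S).map (Over.homMk k.1.ι rfl : Over.mk (k.1.ι ≫ E.obj.left.hom) ⟶ E.obj.left) ≫ E.obj.hom)
      (repWith_etale_opens_ι_comp E.obj.hom E.property k.1)
  let g : ∀ k, YY k ⟶ E := fun k => EtOver.homMk (Over.homMk k.1.ι rfl) rfl
  have hcov : Sieve.ofArrows YY g ∈ etTop X.obj E := by
    apply ofArrows_mem_etTop
    intro x
    obtain ⟨U, hU, hxU, -⟩ := exists_isAffineOpen_mem_and_subset (U := (⊤ : E.obj.left.left.Opens)) (x := x) trivial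
    refine ⟨⟨U, hU⟩, ?_⟩
    change x ∈ Set.range U.ι
    rw [Scheme.Opens.range_ι]
    exact hxU
  refine (etTop X.obj).superset_covering ?_ hcov
  rw [Sieve.ofArrows, Sieve.generate_le_iff]
  rintro W f ⟨k⟩
  have hkaff : IsAffine k.1.toScheme := k.2
  have sqZ := hi.rep.isPullback (YY k).obj.hom
  have hcl : IsClosedImmersion (hi.rep.snd (YY k).obj.hom).left := hi.property _ _ _ sqZ
  have hYaff : IsAffine (YY k).obj.left.left := hkaff
  obtain ⟨-, hsurj⟩ := IsClosedImmersion.isAffine_surjective_of_isAffine (hi.rep.snd (YY k).obj.hom).left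
  let sk : ULift.{u + 1} Γ((hi.rep.pullback (YY k).obj.hom).left, ⊤) :=
    (((EtOver.bc hi.1).sheafPushforwardContinuous RingCat (etTop X.obj) (etTop Z.obj)).obj
      (OEtRing Z.obj)).obj.map (g k).op s
  obtain ⟨t₀, ht₀⟩ := hsurj sk.down
  refine ⟨(ULift.up t₀ : ULift.{u + 1} Γ((YY k).obj.left.left, ⊤)), ?_⟩
  change (ULift.up ((hi.rep.snd (YY k).obj.hom).left.appTop.hom t₀) :
    ULift.{u + 1} Γ((hi.rep.pullback (YY k).obj.hom).left, ⊤)) = sk
  rw [ht₀]
  rfl

end Groth.Agent.S9987
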