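import Groth.Statements.S9989
import Groth.Agent.Lib.Helper30.IdealEtFactor

set_option autoImplicit false
universe u
open CategoryTheory CategoryTheory.Limits AlgebraicGeometry Opposite
open AlgSp

namespace Groth.Agent.S9989

open Groth.Agent.Lib.Helper30.IdealEtChart Groth.Agent.Lib.Helper30.AlgSpAtlas

set_option backward.isDefEq.respectTransparency false in

/-- For closed subspaces i : Z ⟶ X and i' : Z' ⟶ X of an algebraic space cut out by sheaves of ideals I
and I', one has I ≤ I' exactly when i' factors through i. -/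
theorem result {S : Scheme.{u}} {X Z Z' : AlgSp.Space S} (i : Z ⟶ X) (i' : Z' ⟶ X)
    (I I' : AlgSp.IdealEt X.obj) (h : AlgSp.IsCutOutBy I i.hom) (h' : AlgSp.IsCutOutBy I' i'.hom) :
    I ≤ I' ↔ ∃ k : Z' ⟶ Z, k ≫ i = i' := by
  obtain ⟨hi, rfl⟩ := h
  obtain ⟨hi', rfl⟩ := h'
  constructor
  · intro hle
    obtain ⟨W, w, hwE, hwS⟩ := Z'.property.atlas
    obtain ⟨V, φ, hφE, hφS⟩ := X.property.atlas
    have hh : AlgSp.Representable (w ≫ i'.hom) := MorphismProperty.comp_mem _ _ _ hwE.rep hi'.rep
    have hle2 : AlgSp.idealOfRep hi'.1 ≤ AlgSp.idealOfRep hh :=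
      idealOfRep_le_of_factors hi'.1 hh w rfl
    have hle3 : AlgSp.idealOfRep hi.1 ≤ AlgSp.idealOfRep hh :=
      fun E hE => (hle E hE).trans (hle2 E hE)
    obtain ⟨kW, hkW⟩ := exists_factor_of_le hi φ hφE hφS (w ≫ i'.hom) hh hle3
    have hmono : Mono i.hom := Groth.Agent.Lib.Helper62.mono_of_repWith @IsClosedImmersion
      (fun f hf => by have : IsClosedImmersion f := hf; infer_instance) i.hom hi
    have hepi : Epi w := epi_of_atlas w hwE hwS
    have hkp := IsPullback.of_hasPullback w w
    obtain ⟨k, hk⟩ := exists_desc_of_epi w hkp kW (by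
      apply (cancel_mono i.hom).mp
      simp only [Category.assoc]
      rw [hkW, ← Category.assoc, ← Category.assoc, pullback.condition])
    refine ⟨ObjectProperty.homMk k, ?_⟩
    apply ObjectProperty.hom_ext
    change k ≫ i.hom = i'.hom
    rw [← cancel_epi w, ← Category.assoc, hk, hkW]
  · rintro ⟨k, hk⟩
    have hk' : k.hom ≫ i.hom = i'.hom := by rw [← hk]; rfl
    exact idealOfRep_le_of_factors hi.1 hi'.1 k.hom hk'

end Groth.Agent.S9989
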