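import Groth.Statements.S9994
import Groth.Agent.Lib.Helper30.LocPPointwise

set_option autoImplicit false
universe u
open CategoryTheory CategoryTheory.Limits AlgebraicGeometry
open AlgSp

namespace Groth.Agent.S9994

/-- A morphism f : X ⟶ Y of algebraic spaces has P etale locally on the source and target if and only if
it has P at every point of |X| in the neighbourhood sense (some chart diagram through the point
whose top arrow has P on an open neighbourhood of the chosen point). -/
theorem result {S : Scheme.{u}} (P : MorphismProperty Scheme.{u})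
    (hP : P = @LocallyOfFiniteType ∨ P = @LocallyOfFinitePresentation ∨ P = @Flat ∨ P = @Smooth ∨ P = @Etale ∨
      (∀ ⦃A B : Scheme.{u}⦄ (g : A ⟶ B), P g ↔ (LocallyQuasiFinite g ∧ LocallyOfFiniteType g)) ∨
      (∀ ⦃A B : Scheme.{u}⦄ (g : A ⟶ B), P g ↔ (LocallyOfFiniteType g ∧ FormallyUnramified g)))
    {X Y : AlgSp.Space S} (f : X ⟶ Y) :
    AlgSp.LocP P f.hom ↔
      ∀ x : AlgSp.Points X.obj, AlgSp.HasAtMor (fun U _ h u => ∃ W : U.Opens, u ∈ W ∧ P (W.ι ≫ h)) f.hom x := by
  have hQ := Groth.Agent.Lib.Helper30.HPEtLocal.etLocal_of_listed hP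
  have := Groth.Agent.Lib.Helper30.HPEtLocal.isZariskiLocalAtSource_of_listed hP
  constructor
  · intro hloc x
    obtain ⟨V, c, hce, hcs⟩ := Y.property.atlas
    obtain ⟨U, a, h, d, -, -, -, -, hae, comm, has⟩ :=
      Groth.Agent.Lib.Helper46.LocPChart.exists_chart X.property Y.property.diag f.hom c hce
    obtain ⟨u, hu⟩ := Groth.Agent.Lib.Helper37.AlgSpPoints.ofPt_surjective a (has hcs) x
    refine ⟨U, V, a, c, h, u, hae, hce, comm, hu, ⊤, trivial, ?_⟩
    exact hQ.precomp _ _ inferInstance (hloc a c h hae hce comm)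
  · intro H
    refine Groth.Agent.Lib.Helper30.LocPPointwise.locP_of_pointwise_charts hQ f.hom fun x => ?_
    obtain ⟨U, V, a, b, h, u, ha, hb, comm, hux, W, huW, hW⟩ := H x
    let ιW : Over.mk (W.ι ≫ U.hom) ⟶ U := Over.homMk W.ι rfl
    have hι : AlgSp.RepWith @Etale ((AlgSp.yon S).map ιW) :=
      (AlgSp.repWith_yon_map_iff _ _).2 (by change Etale W.ι; infer_instance)
    refine ⟨Over.mk (W.ι ≫ U.hom), V, (AlgSp.yon S).map ιW ≫ a, b, ιW ≫ h, ⟨u, huW⟩,
      MorphismProperty.comp_mem _ _ _ hι ha, hb, ?_, ?_, ?_⟩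
    · rw [Category.assoc, comm, Functor.map_comp, Category.assoc]
    · rw [Groth.Agent.Lib.Helper37.AlgSpPoints.ofPt_map_comp]
      exact hux
    · rw [Over.comp_left]
      exact hW

end Groth.Agent.S9994
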