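import Groth.Statements.S9996
import Groth.Agent.Lib.Helper30.ClosedPushoutGlobal
import Groth.Agent.Lib.Helper62.AlgSpMono

set_option autoImplicit false
universe u
open CategoryTheory CategoryTheory.Limits AlgebraicGeometry Opposite
open AlgSp

namespace Groth.Agent.S9996

open Groth.Agent.Lib.Helper30

set_option backward.isDefEq.respectTransparency false in
/-- For closed subspaces Y, Z of an algebraic space X with scheme theoretic union W (cut out by the
intersection of the two ideal sheaves) and scheme theoretic intersection V (cut out by their sum),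
the inclusions Y ⟶ W and Z ⟶ W are closed immersions and the square V ⟶ Y, V ⟶ Z, Y ⟶ W, Z ⟶ W is
cocartesian among algebraic spaces over S (W = Y ⨿_V Z). (The published statement also gives the
short exact sequence 0 → O_W → O_Y × O_Z → O_V → 0; that clause is not stated here.) -/
theorem result {S : Scheme.{u}} {X Y Z W V : AlgSp.Space S} (iY : Y ⟶ X) (iZ : Z ⟶ X)
    (w : W ⟶ X) (v : V ⟶ X) (I J K : AlgSp.IdealEt X.obj) (hI : I.IsQCoh) (hJ : J.IsQCoh)
    (hK : ∀ (E : AlgSp.EtOver X.obj) (hE : IsAffine E.obj.left.left), K.ideal E hE = I.ideal E hE ⊓ J.ideal E hE)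
    (hY : AlgSp.IsCutOutBy I iY.hom) (hZ : AlgSp.IsCutOutBy J iZ.hom) (hW : AlgSp.IsCutOutBy K w.hom)
    (hV : AlgSp.IsCutOutBy (I ⊔ J) v.hom) (a : Y ⟶ W) (b : Z ⟶ W) (c : V ⟶ Y) (d : V ⟶ Z)
    (ha : a ≫ w = iY) (hb : b ≫ w = iZ) (hc : c ≫ iY = v) (hd : d ≫ iZ = v) :
    AlgSp.RepWith @IsClosedImmersion a.hom ∧ AlgSp.RepWith @IsClosedImmersion b.hom ∧ IsPushout c d a b := by
  obtain ⟨hY', eY⟩ := hY
  obtain ⟨hZ', eZ⟩ := hZ
  obtain ⟨hW', eW⟩ := hW
  obtain ⟨hV', eV⟩ := hV
  have ha' : a.hom ≫ w.hom = iY.hom := congrArg (·.hom) ha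
  have hb' : b.hom ≫ w.hom = iZ.hom := congrArg (·.hom) hb
  have hc' : c.hom ≫ iY.hom = v.hom := congrArg (·.hom) hc
  have hd' : d.hom ≫ iZ.hom = v.hom := congrArg (·.hom) hd
  let D : ClosedPushoutSp.UnionData X.obj :=
    { Y := Y.obj, Z := Z.obj, W := W.obj, V := V.obj
      iY := iY.hom, iZ := iZ.hom, w := w.hom, v := v.hom
      hY := hY', hZ := hZ', hW := hW', hV := hV'
      a := a.hom, b := b.hom, c := c.hom, d := d.hom
      ha := ha', hb := hb', hc := hc', hd := hd'
      hinf := fun E hE => by rw [eW, eY, eZ]; exact hK E hE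
      hsup := fun E hE => by rw [eV, eY, eZ]; rfl }
  have hmono : Mono w.hom :=
    Groth.Agent.Lib.Helper62.mono_of_repWith @IsClosedImmersion
      (fun f hf => by have : IsClosedImmersion f := hf; infer_instance) w.hom hW'
  -- `a` and `b` are base changes of `iY` and `iZ` along the monomorphism `w`
  have hpbA : IsPullback a.hom (𝟙 Y.obj) w.hom iY.hom := by
    refine ⟨⟨by rw [Category.id_comp, ha']⟩, ⟨PullbackCone.IsLimit.mk _ (fun s => s.snd) ?_ ?_ ?_⟩⟩
    · intro s
      rw [← cancel_mono w.hom, Category.assoc, ha', s.condition]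
    · intro s
      exact Category.comp_id _
    · intro s m _ h2
      rw [← h2, Category.comp_id]
  have hpbB : IsPullback b.hom (𝟙 Z.obj) w.hom iZ.hom := by
    refine ⟨⟨by rw [Category.id_comp, hb']⟩, ⟨PullbackCone.IsLimit.mk _ (fun s => s.snd) ?_ ?_ ?_⟩⟩
    · intro s
      rw [← cancel_mono w.hom, Category.assoc, hb', s.condition]
    · intro s
      exact Category.comp_id _
    · intro s m _ h2
      rw [← h2, Category.comp_id]
  refine ⟨MorphismProperty.of_isPullback hpbA.flip hY', MorphismProperty.of_isPullback hpbB.flip hZ', ?_⟩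
  have hsq : c ≫ a = d ≫ b := by
    apply ObjectProperty.hom_ext
    have : Mono w.hom := hmono
    rw [← cancel_mono w.hom]
    change (c.hom ≫ a.hom) ≫ w.hom = (d.hom ≫ b.hom) ≫ w.hom
    rw [Category.assoc, Category.assoc, ha', hb', hc', hd']
  refine ⟨⟨hsq⟩, ⟨PushoutCocone.IsColimit.mk _ (fun s => ObjectProperty.homMk
    (D.exists_desc X.property s.pt.property s.inl.hom s.inr.hom
      (congrArg (·.hom) s.condition)).choose) ?_ ?_ ?_⟩⟩
  · intro s
    apply ObjectProperty.hom_ext
    exact (D.exists_desc X.property s.pt.property s.inl.hom s.inr.hom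
      (congrArg (·.hom) s.condition)).choose_spec.1
  · intro s
    apply ObjectProperty.hom_ext
    exact (D.exists_desc X.property s.pt.property s.inl.hom s.inr.hom
      (congrArg (·.hom) s.condition)).choose_spec.2
  · intro s m h1 h2
    apply ObjectProperty.hom_ext
    refine D.hom_ext X.property s.pt.property.diag _ _ ?_ ?_
    · exact (congrArg (·.hom) h1).trans (D.exists_desc X.property s.pt.property s.inl.hom s.inr.hom
        (congrArg (·.hom) s.condition)).choose_spec.1.symm
    · exact (congrArg (·.hom) h2).trans (D.exists_desc X.property s.pt.property s.inl.hom s.inr.hom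
        (congrArg (·.hom) s.condition)).choose_spec.2.symm

end Groth.Agent.S9996
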