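import Groth.Statements.S9997
import Groth.Agent.Lib.Helper30.IdealEtFP

set_option autoImplicit false
universe u
open CategoryTheory CategoryTheory.Limits AlgebraicGeometry Opposite
open AlgSp

namespace Groth.Agent.S9997

open Groth.Agent.Lib.Helper30.IdealEtChart

set_option backward.isDefEq.respectTransparency false in

/-- A closed immersion i : Z ⟶ X of algebraic spaces is (locally) of finite presentation if and only if
its sheaf of ideals is of finite type; finite type is rendered chart by chart, as finite generation
of the kernel ideal Ker(Γ(U, O_U) → Γ(Z ×_X U, O)) for every affine etale chart U of X (for a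
quasi-coherent sheaf of ideals the two readings agree by descent of finite generation along etale
coverings). -/
theorem result {S : Scheme.{u}} {Z X : AlgSp.Space S} (i : Z ⟶ X)
    (hi : AlgSp.RepWith @IsClosedImmersion i.hom) :
    AlgSp.LocP @LocallyOfFinitePresentation i.hom ↔
      ∀ (E : AlgSp.EtOver X.obj) (hE : IsAffine E.obj.left.left), ((AlgSp.idealOfRep hi.1).ideal E hE).FG := by
  constructor
  · intro hL E hE
    have sqZ := hi.rep.isPullback E.obj.hom
    have hfstE : AlgSp.RepWith @Etale (hi.rep.fst E.obj.hom) :=
      MorphismProperty.of_isPullback (P := AlgSp.RepWith @Etale) sqZ.flip E.property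
    have hLFP : LocallyOfFinitePresentation (hi.rep.snd E.obj.hom).left :=
      hL (hi.rep.fst E.obj.hom) E.obj.hom (hi.rep.snd E.obj.hom) hfstE E.property sqZ.w
    have hcl : IsClosedImmersion (hi.rep.snd E.obj.hom).left := hi.property _ _ _ sqZ
    exact ker_appTop_fg_of_locallyOfFinitePresentation (hi.rep.snd E.obj.hom).left
  · intro hFG
    obtain ⟨V, φ, hφE, hφS⟩ := X.property.atlas
    have sqZ := hi.rep.isPullback φ
    have hcl : IsClosedImmersion (hi.rep.snd φ).left := hi.property _ _ _ sqZ
    have hfstE : AlgSp.RepWith @Etale (hi.rep.fst φ) :=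
      MorphismProperty.of_isPullback (P := AlgSp.RepWith @Etale) sqZ.flip hφE
    have hfstS : AlgSp.RepWith @Surjective (hi.rep.fst φ) :=
      MorphismProperty.of_isPullback (P := AlgSp.RepWith @Surjective) sqZ.flip hφS
    refine Groth.Agent.Lib.Helper46.LocPChart.locP_of_chart
      Groth.Agent.Lib.Helper30.EtLocalInst.etLocal_lfp i.hom (hi.rep.fst φ) φ (hi.rep.snd φ)
      hfstE hfstS hφE sqZ.w ?_
    apply locallyOfFinitePresentation_of_forall_ker_fg
    intro V₀
    rw [← idealOfRep_ideal_eq_ker_morphismRestrict hi.1 φ hφE (hi.rep.snd φ) sqZ V₀]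
    exact hFG _ _

end Groth.Agent.S9997
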